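import Mathlib

set_option autoImplicit false

namespace Cfsg.Agent.Lib.helper45

/-- A `p`-group acting linearly on a finite non-trivial module over a ring of characteristic `p` fixes a
non-zero vector. -/
theorem exists_ne_zero_fixed_of_isPGroup {F M G : Type*} [Ring F] (p : ℕ) [Fact p.Prime] [CharP F p]
    [AddCommGroup M] [Module F M] [Finite M] [Nontrivial M] [Group G] (hG : IsPGroup p G)
    (φ : G →* Module.End F M) : ∃ b : M, b ≠ 0 ∧ ∀ g : G, φ g b = b := by
  have hp : p.Prime := Fact.out
  let _ : MulAction G M := MulAction.compHom M φ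
  have hsmul : ∀ (g : G) (x : M), g • x = φ g x := fun g x => rfl
  have h0 : (0 : M) ∈ MulAction.fixedPoints G M := by
    intro g
    rw [hsmul, map_zero]
  have hcard : p ∣ Nat.card M := by
    obtain ⟨x, hx⟩ := exists_ne (0 : M)
    have h1 : p • x = 0 := by
      rw [← Nat.cast_smul_eq_nsmul F p x, CharP.cast_eq_zero F p, zero_smul]
    have h2 : addOrderOf x = p := addOrderOf_eq_prime h1 hx
    rw [← h2]
    exact addOrderOf_dvd_natCard x
  obtain ⟨b, hb, hne⟩ := hG.exists_fixed_point_of_prime_dvd_card_of_fixed_point M hcard h0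
  exact ⟨b, fun h => hne h.symm, fun g => by rw [← hsmul]; exact hb g⟩

end Cfsg.Agent.Lib.helper45
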