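import Mathlib
import Cfsg.Prelude.Def_LinearParabolics

set_option autoImplicit false
open scoped MatrixGroups

/-! Definitions for the split of S2425 (Steinberg character values of `GL_n(q)` at semisimple
elements, through the Moebius number of the lattice of invariant subspaces). -/

namespace Cfsg.Agent.Lib.helper45.SV

/-- Partial sums of a composition: `μ 0 + ⋯ + μ j`. -/
def csum {n : ℕ} (μ : Fin n → ℕ) (j : Fin n) : ℕ :=
  ∑ k ∈ Finset.univ.filter (fun k : Fin n => k ≤ j), μ k

/-- The standard flag of a composition: the vectors supported on the first `csum μ j` coordinates. -/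
def stdFlag {n : ℕ} (F : Type*) [Field F] (μ : Fin n → ℕ) (j : Fin n) : Submodule F (Fin n → F) where
  carrier := {v | ∀ i : Fin n, csum μ j ≤ i.val → v i = 0}
  add_mem' := fun {a} {b} ha hb i hi => by
    change a i + b i = 0
    rw [ha i hi, hb i hi, add_zero]
  zero_mem' := fun _ _ => rfl
  smul_mem' := fun c {a} ha i hi => by
    change c * a i = 0
    rw [ha i hi, mul_zero]

/-- The largest `d + 1` with `d ∈ D`, `d < i` (`0` if there is none). -/
def topOf {n : ℕ} (D : Finset (Fin n)) (i : Fin n) : ℕ :=
  ((D.filter (fun d => d < i)).image (fun d : Fin n => d.val + 1)).sup id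

/-- The composition whose blocks end exactly at the positions in `D`. -/
def compOf {n : ℕ} (D : Finset (Fin n)) (i : Fin n) : ℕ :=
  if i ∈ D then i.val + 1 - topOf D i else 0

/-- The sets of block ends: subsets of `Fin n` containing the last position. -/
def endSets (n : ℕ) : Finset (Finset (Fin n)) :=
  Finset.univ.filter (fun D => ∀ i : Fin n, i.val + 1 = n → i ∈ D)

/-- The `x`-invariant flags of type `μ`. -/
def flagSet {F : Type*} [Field F] {n : ℕ} (x : GL (Fin n) F) (μ : Fin n → ℕ) :
    Set (Fin n → Submodule F (Fin n → F)) :=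
  {W | Monotone W ∧ (∀ j, Module.finrank F (W j) = csum μ j) ∧
    ∀ j, (W j).map (Matrix.toLin' (x : Matrix (Fin n) (Fin n) F)) ≤ W j}

/-- Chains in the open interval `(⊥, ⊤)` of a bounded order, as finite sets. -/
def chainsOO (α : Type*) [PartialOrder α] [BoundedOrder α] : Set (Finset α) :=
  {c | IsChain (· ≤ ·) (c : Set α) ∧ ∀ a ∈ c, a ≠ ⊥ ∧ a ≠ ⊤}

/-- The chains of `chainsOO` in the lattice of `x`-invariant subspaces whose set of dimensions is
`{d + 1 : d ∈ D, d + 1 ≠ n}`. -/
def dimChains {F : Type*} [Field F] {n : ℕ} (x : GL (Fin n) F) (D : Finset (Fin n)) :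
    Set (Finset (Module.End.invtSubmodule (Matrix.toLin' (x : Matrix (Fin n) (Fin n) F)))) :=
  {c | c ∈ chainsOO _ ∧
    c.image (fun U : Module.End.invtSubmodule (Matrix.toLin' (x : Matrix (Fin n) (Fin n) F)) =>
      Module.finrank F (U : Submodule F (Fin n → F))) =
        (D.filter (fun d => d.val + 1 ≠ n)).image (fun d : Fin n => d.val + 1)}

open Classical in
/-- The Moebius number `μ(⊥, ⊤)` of the lattice of invariant subspaces of an endomorphism of a finite module. -/
noncomputable def mobInv {F : Type*} [Field F] {V : Type*} [AddCommGroup V] [Module F V] [Finite V]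
    (T : Module.End F V) : ℤ :=
  haveI : Fintype (T.invtSubmodule) := Fintype.ofFinite _
  haveI : LocallyFiniteOrder (T.invtSubmodule) := Fintype.toLocallyFiniteOrder
  IncidenceAlgebra.mu ℤ (⊥ : T.invtSubmodule) ⊤

/-- The value `∏_f (-1)^(m_f) q^(deg f · m_f (m_f - 1) / 2)` attached to a polynomial. -/
noncomputable def gval {F : Type*} [Field F] [DecidableEq F] (q : ℕ) (P : Polynomial F) : ℤ :=
  ∏ f ∈ (UniqueFactorizationMonoid.normalizedFactors P).toFinset,
    (-1 : ℤ) ^ ((UniqueFactorizationMonoid.normalizedFactors P).count f) *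
      (q : ℤ) ^ (f.natDegree * (UniqueFactorizationMonoid.normalizedFactors P).count f *
        ((UniqueFactorizationMonoid.normalizedFactors P).count f - 1) / 2)

end Cfsg.Agent.Lib.helper45.SV
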