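import Mathlib

/-!
S0996 (Brauer) split project, piece SETUP: the group-theoretic context.
-/

set_option autoImplicit false

namespace Cfsg.Agent.Lib.helper45.Br

/-- a homomorphism from a perfect group to a commutative group is trivial -/
theorem hom_trivial_of_perfect {G A : Type*} [Group G] [Group A] (hperf : commutator G = ⊤)
    (f : G →* A) (hcomm : ∀ a b : A, a * b = b * a) (g : G) : f g = 1 := by
  have h : commutator G ≤ f.ker := by
    rw [commutator_eq_closure, Subgroup.closure_le]
    rintro x ⟨a, b, rfl⟩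
    rw [SetLike.mem_coe, MonoidHom.mem_ker, commutatorElement_def, map_mul, map_mul, map_mul,
      map_inv, map_inv, hcomm (f a) (f b)]
    group
  have hg : g ∈ commutator G := by rw [hperf]; trivial
  exact MonoidHom.mem_ker.mp (h hg)

/-- BR-SETUP. -/
theorem brauer_setup {G : Type*} [Group G] [Finite G] (hperf : commutator G = ⊤) (p : ℕ)
    [Fact p.Prime] (z : G) (hz : orderOf z = p)
    (hC : Subgroup.centralizer ({z} : Set G) = Subgroup.zpowers z)
    (hn : 2 * Nat.card (Sylow p G) < (p + 1) * (p + 2)) :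
    ∃ (P : Sylow p G) (e n : ℕ), Nat.card P = p ∧
      Subgroup.centralizer ((P : Subgroup G) : Set G) = (P : Subgroup G) ∧
      Nat.card (Subgroup.normalizer ((P : Subgroup G) : Set G)) = e * p ∧ 2 ≤ e ∧ e ∣ p - 1 ∧
      Nat.card (Sylow p G) = 1 + n * p ∧ 1 ≤ n ∧ 2 * n ≤ p + 1 ∧ p ≠ 2 := by
  classical
  have hp : p.Prime := Fact.out
  have hz1 : z ≠ 1 := by
    intro h
    rw [h, orderOf_one] at hz
    exact hp.one_lt.ne hz
  have hpg : IsPGroup p (Subgroup.zpowers z) :=
    IsPGroup.of_card (n := 1) (by rw [Nat.card_zpowers, hz, pow_one])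
  obtain ⟨P, hzP⟩ := hpg.exists_le_sylow
  have hzP' : z ∈ (P : Subgroup G) := hzP (Subgroup.mem_zpowers z)
  have hPz : (P : Subgroup G) = Subgroup.zpowers z := by
    refine le_antisymm ?_ hzP
    have : Nontrivial ↥(P : Subgroup G) :=
      ⟨⟨⟨z, hzP'⟩, 1, fun h => hz1 (congrArg Subtype.val h)⟩⟩
    have : Nontrivial (Subgroup.center ↥(P : Subgroup G)) := P.2.center_nontrivial
    obtain ⟨c, hc⟩ := exists_ne (1 : Subgroup.center ↥(P : Subgroup G))
    obtain ⟨c0, hc0⟩ : ∃ c0 : G, c0 = ((c : ↥(P : Subgroup G)) : G) := ⟨_, rfl⟩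
    have hcen : ∀ x ∈ (P : Subgroup G), x * c0 = c0 * x := by
      intro x hx
      have := Subgroup.mem_center_iff.mp c.2 ⟨x, hx⟩
      rw [hc0]
      exact congrArg Subtype.val this
    have hc1 : c0 ≠ 1 := by
      intro h
      apply hc
      apply Subtype.ext
      apply Subtype.ext
      rw [← hc0, h]
      rfl
    have hcz : c0 ∈ Subgroup.zpowers z := by
      rw [← hC, Subgroup.mem_centralizer_iff]
      intro y hy
      rw [Set.mem_singleton_iff.mp hy]
      exact hcen z hzP'
    have hord : orderOf c0 = p := by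
      have h1 := orderOf_dvd_of_mem_zpowers hcz
      rw [hz] at h1
      rcases (Nat.dvd_prime hp).mp h1 with h | h
      · exact absurd (orderOf_eq_one_iff.mp h) hc1
      · exact h
    have heq : Subgroup.zpowers c0 = Subgroup.zpowers z :=
      Subgroup.eq_of_le_of_card_ge (Subgroup.zpowers_le.mpr hcz)
        (by rw [Nat.card_zpowers, Nat.card_zpowers, hz, hord])
    have hzc : z ∈ Subgroup.zpowers c0 := by rw [heq]; exact Subgroup.mem_zpowers z
    obtain ⟨k, hk⟩ := Subgroup.mem_zpowers_iff.mp hzc
    intro x hx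
    rw [← hC, Subgroup.mem_centralizer_iff]
    intro y hy
    rw [Set.mem_singleton_iff.mp hy, ← hk]
    exact ((Commute.zpow_left (show Commute c0 x from (hcen x hx).symm) k)).eq
  have hcard : Nat.card ↥(P : Subgroup G) = p := by rw [hPz, Nat.card_zpowers, hz]
  have hCP : Subgroup.centralizer ((P : Subgroup G) : Set G) = (P : Subgroup G) := by
    rw [hPz]
    apply le_antisymm
    · refine le_trans (Subgroup.centralizer_le ?_) hC.le
      intro y hy
      rw [Set.mem_singleton_iff.mp hy]
      exact Subgroup.mem_zpowers z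
    · intro x hx
      rw [← hC, Subgroup.mem_centralizer_iff] at hx
      have hx' := hx z (Set.mem_singleton z)
      rw [Subgroup.mem_centralizer_iff]
      intro y hy
      obtain ⟨k, rfl⟩ := Subgroup.mem_zpowers_iff.mp hy
      exact ((Commute.zpow_left (show Commute z x from hx') k)).eq
  have hcyc : IsCyclic ↥(P : Subgroup G) := isCyclic_of_prime_card hcard
  have hcommP : ∀ a b : ↥(P : Subgroup G), a * b = b * a := by
    obtain ⟨g, hg⟩ := IsCyclic.exists_generator (α := ↥(P : Subgroup G))
    intro a b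
    obtain ⟨i, rfl⟩ := Subgroup.mem_zpowers_iff.mp (hg a)
    obtain ⟨j, rfl⟩ := Subgroup.mem_zpowers_iff.mp (hg b)
    exact zpow_mul_comm g i j
  have hcommA : ∀ a b : MulAut ↥(P : Subgroup G), a * b = b * a := by
    intro a b
    apply (IsCyclic.mulAutMulEquiv ↥(P : Subgroup G)).injective
    rw [map_mul, map_mul, mul_comm]
  obtain ⟨N, hN⟩ : ∃ N : Subgroup G, N = Subgroup.normalizer ((P : Subgroup G) : Set G) :=
    ⟨_, rfl⟩
  have hPN : (P : Subgroup G) ≤ N := by rw [hN]; exact Subgroup.le_normalizer
  have key : (P : Subgroup G).relIndex N ∣ p - 1 := by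
    have key := Subgroup.card_dvd_of_injective _
      (QuotientGroup.kerLift_injective (P : Subgroup G).normalizerMonoidHom)
    rw [Subgroup.normalizerMonoidHom_ker, ← Subgroup.index, ← Subgroup.relIndex, hCP,
      IsCyclic.card_mulAut, hcard, Nat.totient_prime hp] at key
    rw [hN]
    exact key
  have hrel : (P : Subgroup G).relIndex N * p = Nat.card N := by
    have h1 := Subgroup.index_mul_card ((P : Subgroup G).subgroupOf N)
    rw [Nat.card_congr (Subgroup.subgroupOfEquivOfLe hPN).toEquiv, hcard] at h1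
    exact h1
  obtain ⟨e, he⟩ : ∃ e, e = (P : Subgroup G).relIndex N := ⟨_, rfl⟩
  rw [← he] at key hrel
  have he2 : 2 ≤ e := by
    by_contra hlt
    have he0 : e ≠ 0 := by
      intro h0
      rw [h0, zero_mul] at hrel
      exact (Nat.card_pos (α := N)).ne hrel
    have he1 : e = 1 := by omega
    rw [he1, one_mul] at hrel
    have hNP : (P : Subgroup G) = N :=
      Subgroup.eq_of_le_of_card_ge hPN (by rw [hcard, hrel])
    have hNC : Subgroup.normalizer ((P : Subgroup G) : Set G) ≤
        Subgroup.centralizer ((P : Subgroup G) : Set G) := by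
      rw [hCP, ← hN, hNP]
    have hcomp := MonoidHom.ker_transferSylow_isComplement' P hNC
    have hker : (MonoidHom.transferSylow P hNC).ker = ⊤ := by
      ext g
      simp only [MonoidHom.mem_ker, Subgroup.mem_top, iff_true]
      exact hom_trivial_of_perfect hperf _ hcommP g
    rw [hker] at hcomp
    have h2 := hcomp.card_mul_card
    rw [Subgroup.card_top, hcard] at h2
    have hG0 : 0 < Nat.card G := Nat.card_pos
    have h3 : p = 1 := by
      have h4 : Nat.card G * p = Nat.card G * 1 := by rw [h2, mul_one]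
      exact Nat.eq_of_mul_eq_mul_left hG0 h4
    exact hp.one_lt.ne' h3
  have hmod := card_sylow_modEq_one p G
  have hS1 : 1 ≤ Nat.card (Sylow p G) := Nat.card_pos
  have hdvd : p ∣ Nat.card (Sylow p G) - 1 := (Nat.modEq_iff_dvd' hS1).mp hmod.symm
  obtain ⟨n, hn'⟩ := hdvd
  have hS : Nat.card (Sylow p G) = 1 + n * p := by rw [mul_comm]; omega
  have hn1 : 1 ≤ n := by
    by_contra h0
    have hn0 : n = 0 := by omega
    rw [hn0, zero_mul, add_zero] at hS
    have hidx : N.index = 1 := by
      have h5 := Sylow.card_eq_index_normalizer P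
      rw [hS] at h5
      rw [hN]
      exact h5.symm
    have hNtop : N = ⊤ := Subgroup.index_eq_one.mp hidx
    have hmemN : ∀ g : G, g ∈ Subgroup.normalizer ((P : Subgroup G) : Set G) := by
      intro g
      rw [← hN, hNtop]
      trivial
    have hall : ∀ g : G, g ∈ (P : Subgroup G) := by
      intro g
      have h1 := hom_trivial_of_perfect hperf
        ((P : Subgroup G).normalizerMonoidHom.comp ((MonoidHom.id G).codRestrict _ hmemN))
        hcommA g
      have h2 : (⟨g, hmemN g⟩ : ↥(Subgroup.normalizer ((P : Subgroup G) : Set G))) ∈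
          (P : Subgroup G).normalizerMonoidHom.ker := h1
      rw [Subgroup.normalizerMonoidHom_ker, Subgroup.mem_subgroupOf, hCP] at h2
      exact h2
    have h3 := hom_trivial_of_perfect hperf
      ((MonoidHom.id G).codRestrict (P : Subgroup G) hall) hcommP z
    exact hz1 (congrArg Subtype.val h3)
  have hp2 : p ≠ 2 := by
    intro h2
    rw [h2] at key
    have := Nat.le_of_dvd (by norm_num) key
    omega
  have h2n : 2 * n ≤ p + 1 := by
    rw [hS] at hn
    have hodd : p % 2 = 1 := by
      rcases hp.eq_two_or_odd with h | h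
      · exact absurd h hp2
      · exact h
    by_contra hlt
    have h3 : p + 3 ≤ 2 * n := by omega
    have h4 : (p + 3) * p ≤ 2 * n * p := Nat.mul_le_mul_right p h3
    nlinarith
  exact ⟨P, e, n, hcard, hCP, by rw [← hN, ← hrel], he2, key, hS, hn1, h2n, hp2⟩

end Cfsg.Agent.Lib.helper45.Br
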