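import Mathlib
import Cfsg.Agent.Lib.helper45.SemisimpleExist

/-! The number of conjugacy classes of elements of order prime to `p` in `GL_n(q)` and `SL_n(q)`. -/

set_option autoImplicit false

namespace Cfsg.Agent.Lib.helper45

open Polynomial

section

variable {F : Type*} [Field F]

theorem gl_charpoly_eq_of_isConj {n : ℕ} (g h : GL (Fin n) F) (hc : IsConj g h) :
    (g : Matrix (Fin n) (Fin n) F).charpoly = (h : Matrix (Fin n) (Fin n) F).charpoly := by
  obtain ⟨c, hc⟩ := isConj_iff.mp hc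
  rw [← hc, Units.val_mul, Units.val_mul, Matrix.coe_units_inv]
  exact (Matrix.charpoly_units_conj c g.val).symm

theorem sl_charpoly_eq_of_isConj {n : ℕ} (g h : Matrix.SpecialLinearGroup (Fin n) F) (hc : IsConj g h) :
    (g : Matrix (Fin n) (Fin n) F).charpoly = (h : Matrix (Fin n) (Fin n) F).charpoly := by
  obtain ⟨c, hc⟩ := isConj_iff.mp hc
  have h1 : (c : Matrix (Fin n) (Fin n) F) * (c⁻¹ : Matrix.SpecialLinearGroup (Fin n) F) = 1 := by
    rw [← Matrix.SpecialLinearGroup.coe_mul, mul_inv_cancel, Matrix.SpecialLinearGroup.coe_one]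
  have h2 : ((c⁻¹ : Matrix.SpecialLinearGroup (Fin n) F) : Matrix (Fin n) (Fin n) F) * c = 1 := by
    rw [← Matrix.SpecialLinearGroup.coe_mul, inv_mul_cancel, Matrix.SpecialLinearGroup.coe_one]
  rw [← hc, Matrix.SpecialLinearGroup.coe_mul, Matrix.SpecialLinearGroup.coe_mul]
  have h3 := Matrix.charpoly_units_conj (⟨_, _, h1, h2⟩ : (Matrix (Fin n) (Fin n) F)ˣ) g.val
  rw [← Matrix.coe_units_inv] at h3
  exact h3.symm

theorem charpoly_coeff_zero_eq {n : ℕ} (A : Matrix (Fin n) (Fin n) F) :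
    A.charpoly.coeff 0 = (-1) ^ n * A.det := by
  have h := Matrix.det_eq_sign_charpoly_coeff A
  rw [Fintype.card_fin] at h
  rw [h, ← mul_assoc, ← mul_pow]
  simp

variable [Fintype F]

/-- **S2387**: the number of classes of `p'`-elements of `GL_n(q)` is `(q - 1) q^(n-1)`. -/
theorem card_gl_classes_coprime (p : ℕ) [Fact p.Prime] [CharP F p] (n : ℕ) (hn : 1 ≤ n) :
    Nat.card {c : ConjClasses (GL (Fin n) F) //
      ∃ g : GL (Fin n) F, ConjClasses.mk g = c ∧ (orderOf g).Coprime p} =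
      (Fintype.card F - 1) * Fintype.card F ^ (n - 1) := by
  have hp : p.Prime := Fact.out
  rw [← card_monic_coeff_zero_ne_zero n hn]
  apply Nat.card_congr
  let Ψ : {c : ConjClasses (GL (Fin n) F) //
      ∃ g : GL (Fin n) F, ConjClasses.mk g = c ∧ (orderOf g).Coprime p} →
      {f : F[X] // f.Monic ∧ f.natDegree = n ∧ f.coeff 0 ≠ 0} := fun c =>
    ⟨(c.2.choose : Matrix (Fin n) (Fin n) F).charpoly, Matrix.charpoly_monic _, by simp, by
      rw [charpoly_coeff_zero_eq]
      apply mul_ne_zero (pow_ne_zero _ (neg_ne_zero.mpr one_ne_zero))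
      exact ((Matrix.isUnit_iff_isUnit_det _).mp c.2.choose.isUnit).ne_zero⟩
  refine Equiv.ofBijective Ψ ⟨?_, ?_⟩
  · intro c c' h
    have h1 : (c.2.choose : Matrix (Fin n) (Fin n) F).charpoly =
        (c'.2.choose : Matrix (Fin n) (Fin n) F).charpoly := congrArg Subtype.val h
    have h2 := gl_isConj_of_charpoly_eq p n _ _ c.2.choose_spec.2 c'.2.choose_spec.2 h1
    apply Subtype.ext
    rw [← c.2.choose_spec.1, ← c'.2.choose_spec.1]
    exact ConjClasses.mk_eq_mk_iff_isConj.mpr h2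
  · rintro ⟨f, hmon, hdeg, h0⟩
    obtain ⟨A, m, hm, hA, hchar⟩ := exists_matrix_charpoly_eq p n f hdeg hmon h0
    have hm0 : m ≠ 0 := by
      rintro rfl
      rw [Nat.coprime_zero_left] at hm
      exact hp.one_lt.ne' hm
    have hA1 : A * A ^ (m - 1) = 1 := by
      rw [← pow_succ', Nat.sub_add_cancel (Nat.pos_of_ne_zero hm0), hA]
    have hA2 : A ^ (m - 1) * A = 1 := by
      rw [← pow_succ, Nat.sub_add_cancel (Nat.pos_of_ne_zero hm0), hA]
    set g : GL (Fin n) F := ⟨A, A ^ (m - 1), hA1, hA2⟩ with hg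
    have hgm : g ^ m = 1 := by
      apply Units.ext
      rw [Units.val_pow_eq_pow_val, Units.val_one]
      exact hA
    have hcop : (orderOf g).Coprime p := Nat.Coprime.of_dvd_left (orderOf_dvd_of_pow_eq_one hgm) hm
    refine ⟨⟨ConjClasses.mk g, g, rfl, hcop⟩, ?_⟩
    apply Subtype.ext
    show (Exists.choose _ : GL (Fin n) F).val.charpoly = f
    have hex : ∃ g' : GL (Fin n) F, ConjClasses.mk g' = ConjClasses.mk g ∧ (orderOf g').Coprime p :=
      ⟨g, rfl, hcop⟩
    have h3 := gl_charpoly_eq_of_isConj _ _ (ConjClasses.mk_eq_mk_iff_isConj.mp hex.choose_spec.1)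
    rw [← hchar]
    exact h3

/-- **S2384**: the number of classes of `p'`-elements of `SL_n(q)` is `q^(n-1)`. -/
theorem card_sl_classes_coprime (p : ℕ) [Fact p.Prime] [CharP F p] (n : ℕ) (hn : 1 ≤ n) :
    Nat.card {c : ConjClasses (Matrix.SpecialLinearGroup (Fin n) F) //
      ∃ g : Matrix.SpecialLinearGroup (Fin n) F, ConjClasses.mk g = c ∧ (orderOf g).Coprime p} =
      Fintype.card F ^ (n - 1) := by
  have hp : p.Prime := Fact.out
  rw [← card_monic_coeff_zero_eq n hn ((-1) ^ n : F)]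
  apply Nat.card_congr
  let Ψ : {c : ConjClasses (Matrix.SpecialLinearGroup (Fin n) F) //
      ∃ g : Matrix.SpecialLinearGroup (Fin n) F, ConjClasses.mk g = c ∧ (orderOf g).Coprime p} →
      {f : F[X] // f.Monic ∧ f.natDegree = n ∧ f.coeff 0 = (-1) ^ n} := fun c =>
    ⟨(c.2.choose : Matrix (Fin n) (Fin n) F).charpoly, Matrix.charpoly_monic _, by simp, by
      rw [charpoly_coeff_zero_eq, c.2.choose.2, mul_one]⟩
  refine Equiv.ofBijective Ψ ⟨?_, ?_⟩
  · intro c c' h
    have h1 : (c.2.choose : Matrix (Fin n) (Fin n) F).charpoly =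
        (c'.2.choose : Matrix (Fin n) (Fin n) F).charpoly := congrArg Subtype.val h
    have h2 := sl_isConj_of_charpoly_eq p n _ _ c.2.choose_spec.2 c'.2.choose_spec.2 h1
    apply Subtype.ext
    rw [← c.2.choose_spec.1, ← c'.2.choose_spec.1]
    exact ConjClasses.mk_eq_mk_iff_isConj.mpr h2
  · rintro ⟨f, hmon, hdeg, h0⟩
    have h0' : f.coeff 0 ≠ 0 := by
      rw [h0]
      exact pow_ne_zero _ (neg_ne_zero.mpr one_ne_zero)
    obtain ⟨A, m, hm, hA, hchar⟩ := exists_matrix_charpoly_eq p n f hdeg hmon h0'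
    have hdet : A.det = 1 := by
      have h1 := charpoly_coeff_zero_eq A
      rw [hchar, h0] at h1
      have h2 : ((-1 : F) ^ n) * ((-1) ^ n) = 1 := by
        rw [← mul_pow]
        simp
      calc A.det = ((-1 : F) ^ n) * ((-1) ^ n) * A.det := by rw [h2, one_mul]
        _ = ((-1 : F) ^ n) * ((-1) ^ n * A.det) := by ring
        _ = 1 := by rw [← h1, h2]
    obtain ⟨g, hgval⟩ : ∃ g : Matrix.SpecialLinearGroup (Fin n) F, (g : Matrix (Fin n) (Fin n) F) = A :=
      ⟨⟨A, hdet⟩, rfl⟩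
    have hgm : g ^ m = 1 := by
      apply Subtype.ext
      rw [Matrix.SpecialLinearGroup.coe_pow, hgval, hA, Matrix.SpecialLinearGroup.coe_one]
    have hcop : (orderOf g).Coprime p := Nat.Coprime.of_dvd_left (orderOf_dvd_of_pow_eq_one hgm) hm
    refine ⟨⟨ConjClasses.mk g, g, rfl, hcop⟩, ?_⟩
    apply Subtype.ext
    show (Exists.choose _ : Matrix.SpecialLinearGroup (Fin n) F).val.charpoly = f
    have hex : ∃ g' : Matrix.SpecialLinearGroup (Fin n) F,
        ConjClasses.mk g' = ConjClasses.mk g ∧ (orderOf g').Coprime p := ⟨g, rfl, hcop⟩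
    have h3 := sl_charpoly_eq_of_isConj _ _ (ConjClasses.mk_eq_mk_iff_isConj.mp hex.choose_spec.1)
    rw [← hchar, ← hgval]
    exact h3

end

end Cfsg.Agent.Lib.helper45
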