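import Mathlib

/-! Bruhat decomposition (existence) for `GL_n` over a field: column-by-column elimination with upper
triangular row and column operations. -/

set_option autoImplicit false

namespace Cfsg.Agent.Lib.helper45

open Matrix

section bruhat

variable {F : Type*} [Field F] {n : ℕ}

/-- The permutation matrix sending `e_j` to `e_{σ j}`. -/
def permMat (σ : Equiv.Perm (Fin n)) : Matrix (Fin n) (Fin n) F :=
  Matrix.of fun i j => if i = σ j then 1 else 0

theorem permMat_apply (σ : Equiv.Perm (Fin n)) (i j : Fin n) :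
    (permMat σ : Matrix (Fin n) (Fin n) F) i j = if i = σ j then 1 else 0 := rfl

theorem permMat_one : (permMat (1 : Equiv.Perm (Fin n)) : Matrix (Fin n) (Fin n) F) = 1 := by
  ext i j
  rw [permMat_apply, Matrix.one_apply]
  rfl

theorem permMat_mul (σ τ : Equiv.Perm (Fin n)) :
    (permMat (σ * τ) : Matrix (Fin n) (Fin n) F) = permMat σ * permMat τ := by
  ext i j
  rw [Matrix.mul_apply, Finset.sum_eq_single (τ j)]
  · rw [permMat_apply, permMat_apply, permMat_apply, if_pos rfl, mul_one]
    rfl
  · intro k _ hk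
    rw [permMat_apply, permMat_apply, if_neg hk, mul_zero]
  · intro h; exact absurd (Finset.mem_univ _) h

/-- The permutation matrices as a homomorphism into `GL`. -/
def permGL : Equiv.Perm (Fin n) →* GL (Fin n) F where
  toFun σ := ⟨permMat σ, permMat σ⁻¹, by rw [← permMat_mul, mul_inv_cancel, permMat_one],
    by rw [← permMat_mul, inv_mul_cancel, permMat_one]⟩
  map_one' := Units.ext permMat_one
  map_mul' σ τ := Units.ext (permMat_mul σ τ)

theorem permGL_val (σ : Equiv.Perm (Fin n)) :
    ((permGL σ : GL (Fin n) F) : Matrix (Fin n) (Fin n) F) = permMat σ := rfl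

/-- Invertible upper triangular matrices. -/
def IsUT (A : Matrix (Fin n) (Fin n) F) : Prop := A.BlockTriangular id ∧ ∀ i, A i i ≠ 0

theorem IsUT.one : IsUT (1 : Matrix (Fin n) (Fin n) F) :=
  ⟨Matrix.blockTriangular_one, fun i => by rw [Matrix.one_apply_eq]; exact one_ne_zero⟩

theorem IsUT.mul {A B : Matrix (Fin n) (Fin n) F} (hA : IsUT A) (hB : IsUT B) : IsUT (A * B) := by
  refine ⟨hA.1.mul hB.1, fun i => ?_⟩
  rw [Matrix.mul_apply, Finset.sum_eq_single i]
  · exact mul_ne_zero (hA.2 i) (hB.2 i)
  · intro k _ hk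
    rcases lt_or_gt_of_ne hk with h | h
    · rw [hA.1 (show id k < id i from h), zero_mul]
    · rw [hB.1 (show id i < id k from h), mul_zero]
  · intro h; exact absurd (Finset.mem_univ _) h

theorem IsUT.det_ne_zero {A : Matrix (Fin n) (Fin n) F} (hA : IsUT A) : A.det ≠ 0 := by
  rw [Matrix.det_of_isUpperTriangular hA.1]
  exact Finset.prod_ne_zero_iff.mpr fun i _ => hA.2 i

/-- Columns `< k` have been reduced: a single nonzero entry, alone in its row. -/
def Pivoted (M : Matrix (Fin n) (Fin n) F) (π : Fin n → Fin n) (k : ℕ) : Prop :=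
  ∀ c : Fin n, c.val < k → M (π c) c ≠ 0 ∧ (∀ i, i ≠ π c → M i c = 0) ∧ (∀ j, j ≠ c → M (π c) j = 0)

theorem pivot_step (M : Matrix (Fin n) (Fin n) F) (hM : M.det ≠ 0) (π : Fin n → Fin n) (k : ℕ) (hk : k < n)
    (hP : Pivoted M π k) :
    ∃ L U : Matrix (Fin n) (Fin n) F, IsUT L ∧ IsUT U ∧ ∃ π', Pivoted (L * M * U) π' (k + 1) := by
  classical
  set c : Fin n := ⟨k, hk⟩ with hc
  -- the lowest nonzero entry of column c
  have hne : (Finset.univ.filter fun i : Fin n => M i c ≠ 0).Nonempty := by
    by_contra h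
    rw [Finset.not_nonempty_iff_eq_empty, Finset.filter_eq_empty_iff] at h
    apply hM
    apply Matrix.det_eq_zero_of_column_eq_zero c
    intro i
    have := h (Finset.mem_univ i)
    simpa using this
  set r := (Finset.univ.filter fun i : Fin n => M i c ≠ 0).max' hne with hr
  have hrc : M r c ≠ 0 := (Finset.mem_filter.mp (Finset.max'_mem _ hne)).2
  have hbelow : ∀ i, r < i → M i c = 0 := by
    intro i hi
    by_contra h
    have : i ≤ r := Finset.le_max' _ i (Finset.mem_filter.mpr ⟨Finset.mem_univ _, h⟩)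
    exact absurd hi (not_lt.mpr this)
  -- processed columns
  have hpc : ∀ c' : Fin n, c'.val < k → M (π c') c = 0 := by
    intro c' hc'
    apply (hP c' hc').2.2
    intro h
    rw [← h] at hc'
    exact lt_irrefl k hc'
  have hrπ : ∀ c' : Fin n, c'.val < k → r ≠ π c' := by
    intro c' hc' h
    rw [h] at hrc
    exact hrc (hpc c' hc')
  have hrc' : ∀ c' : Fin n, c'.val < k → M r c' = 0 := fun c' hc' => (hP c' hc').2.1 r (hrπ c' hc')
  set L : Matrix (Fin n) (Fin n) F :=
    1 + Matrix.of fun i j => if j = r ∧ i < r then -(M i c / M r c) else 0 with hL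
  have hLM : ∀ i j, (L * M) i j = M i j + (if i < r then -(M i c / M r c) * M r j else 0) := by
    intro i j
    rw [hL, Matrix.add_mul, Matrix.one_mul, Matrix.add_apply, Matrix.mul_apply, Finset.sum_eq_single r]
    · simp only [Matrix.of_apply, true_and]
      split_ifs <;> simp
    · intro b _ hb
      simp [Matrix.of_apply, hb]
    · intro h; exact absurd (Finset.mem_univ _) h
  have hLUT : IsUT L := by
    constructor
    · intro i j hij
      have hij' : j < i := hij
      rw [hL, Matrix.add_apply, Matrix.one_apply_ne (ne_of_gt hij'), zero_add, Matrix.of_apply, if_neg]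
      rintro ⟨rfl, h⟩
      exact lt_asymm h hij'
    · intro i
      rw [hL, Matrix.add_apply, Matrix.one_apply_eq, Matrix.of_apply, if_neg, add_zero]
      · exact one_ne_zero
      · rintro ⟨rfl, h⟩
        exact lt_irrefl _ h
  set M' := L * M with hM'
  have hM'rc : M' r c = M r c := by rw [hLM, if_neg (lt_irrefl r), add_zero]
  set U : Matrix (Fin n) (Fin n) F :=
    1 + Matrix.of fun i j => if i = c ∧ c < j then -(M' r j / M' r c) else 0 with hU
  have hMU : ∀ i j, (M' * U) i j = M' i j + (if c < j then M' i c * -(M' r j / M' r c) else 0) := by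
    intro i j
    rw [hU, Matrix.mul_add, Matrix.mul_one, Matrix.add_apply, Matrix.mul_apply, Finset.sum_eq_single c]
    · simp only [Matrix.of_apply, true_and]
      split_ifs <;> simp
    · intro b _ hb
      simp [Matrix.of_apply, hb]
    · intro h; exact absurd (Finset.mem_univ _) h
  have hUUT : IsUT U := by
    constructor
    · intro i j hij
      have hij' : j < i := hij
      rw [hU, Matrix.add_apply, Matrix.one_apply_ne (ne_of_gt hij'), zero_add, Matrix.of_apply, if_neg]
      rintro ⟨rfl, h⟩
      exact lt_asymm h hij'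
    · intro i
      rw [hU, Matrix.add_apply, Matrix.one_apply_eq, Matrix.of_apply, if_neg, add_zero]
      · exact one_ne_zero
      · rintro ⟨rfl, h⟩
        exact lt_irrefl _ h
  -- column c of M'
  have hM'c : ∀ i, i ≠ r → M' i c = 0 := by
    intro i hi
    rw [hLM]
    rcases lt_or_gt_of_ne hi with h | h
    · rw [if_pos h]
      field_simp
      ring
    · rw [if_neg (not_lt.mpr h.le), add_zero, hbelow i h]
  refine ⟨L, U, hLUT, hUUT, Function.update π c r, ?_⟩
  intro c₁ hc₁
  by_cases hcc : c₁ = c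
  · subst hcc
    rw [Function.update_self]
    refine ⟨?_, ?_, ?_⟩
    · rw [hMU, if_neg (lt_irrefl _), add_zero, hM'rc]
      exact hrc
    · intro i hi
      rw [hMU, if_neg (lt_irrefl _), add_zero, hM'c i hi]
    · intro j hj
      rw [hMU]
      rcases lt_or_gt_of_ne hj with h | h
      · rw [if_neg (not_lt.mpr h.le), add_zero, hLM, if_neg (lt_irrefl r), add_zero]
        exact hrc' j h
      · rw [if_pos h]
        have : M' r c ≠ 0 := by rw [hM'rc]; exact hrc
        field_simp
        ring
  · have hc₁k : c₁.val < k := by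
      have : c₁.val ≠ k := fun h => hcc (Fin.ext h)
      omega
    have hlt : c₁ < c := hc₁k
    rw [Function.update_of_ne hcc]
    obtain ⟨h1, h2, h3⟩ := hP c₁ hc₁k
    have hp0 : M (π c₁) c = 0 := hpc c₁ hc₁k
    have hM'p : ∀ j, M' (π c₁) j = M (π c₁) j := by
      intro j
      rw [hLM, hp0]
      simp
    refine ⟨?_, ?_, ?_⟩
    · rw [hMU, if_neg (not_lt.mpr hlt.le), add_zero, hM'p]
      exact h1
    · intro i hi
      rw [hMU, if_neg (not_lt.mpr hlt.le), add_zero, hLM, h2 i hi, hrc' c₁ hc₁k]
      simp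
    · intro j hj
      rw [hMU, hM'p, hM'p, hp0, h3 j hj]
      simp

theorem exists_pivoted (g : Matrix (Fin n) (Fin n) F) (hg : g.det ≠ 0) (k : ℕ) (hk : k ≤ n) :
    ∃ L U : Matrix (Fin n) (Fin n) F, IsUT L ∧ IsUT U ∧ ∃ π, Pivoted (L * g * U) π k := by
  induction k with
  | zero =>
    refine ⟨1, 1, IsUT.one, IsUT.one, id, ?_⟩
    intro c hc
    exact absurd hc (Nat.not_lt_zero _)
  | succ k ih =>
    obtain ⟨L, U, hL, hU, π, hP⟩ := ih (by omega)
    have hdet : (L * g * U).det ≠ 0 := by
      rw [Matrix.det_mul, Matrix.det_mul]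
      exact mul_ne_zero (mul_ne_zero hL.det_ne_zero hg) hU.det_ne_zero
    obtain ⟨L', U', hL', hU', π', hP'⟩ := pivot_step (L * g * U) hdet π k (by omega) hP
    refine ⟨L' * L, U * U', hL'.mul hL, hU.mul hU', π', ?_⟩
    have : L' * L * g * (U * U') = L' * (L * g * U) * U' := by
      simp only [Matrix.mul_assoc]
    rw [this]
    exact hP'

/-- **Bruhat decomposition** (existence) for `GL_n`: every invertible matrix is `b · w · b'` with `b`, `b'`
upper triangular and `w` a permutation matrix. -/
theorem exists_bruhat (g : GL (Fin n) F) :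
    ∃ (b b' : GL (Fin n) F) (σ : Equiv.Perm (Fin n)),
      (b : Matrix (Fin n) (Fin n) F).BlockTriangular id ∧ (b' : Matrix (Fin n) (Fin n) F).BlockTriangular id ∧
      g = b * permGL σ * b' := by
  classical
  have hg : (g : Matrix (Fin n) (Fin n) F).det ≠ 0 :=
    ((Matrix.isUnit_iff_isUnit_det _).mp g.isUnit).ne_zero
  obtain ⟨L, U, hL, hU, π, hP⟩ := exists_pivoted (g : Matrix (Fin n) (Fin n) F) hg n le_rfl
  set M := L * (g : Matrix (Fin n) (Fin n) F) * U with hM
  have hP' : ∀ c : Fin n, M (π c) c ≠ 0 ∧ (∀ i, i ≠ π c → M i c = 0) ∧ (∀ j, j ≠ c → M (π c) j = 0) :=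
    fun c => hP c c.isLt
  have hinj : Function.Injective π := by
    intro c c' h
    by_contra hne
    have h1 := (hP' c).1
    have h2 := (hP' c').2.2 c hne
    rw [← h] at h2
    exact h1 h2
  set σ : Equiv.Perm (Fin n) := Equiv.ofBijective π (Finite.injective_iff_bijective.mp hinj) with hσ
  have hσ' : ∀ c, σ c = π c := fun c => rfl
  set D : Matrix (Fin n) (Fin n) F := Matrix.diagonal fun c => M (π c) c with hD
  have hDUT : IsUT D := by
    constructor
    · intro i j hij
      have hij' : j < i := hij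
      rw [hD, Matrix.diagonal_apply_ne _ (ne_of_gt hij')]
    · intro i
      rw [hD, Matrix.diagonal_apply_eq]
      exact (hP' i).1
  have hMeq : M = permMat σ * D := by
    ext i j
    rw [hD, Matrix.mul_diagonal, permMat_apply, hσ']
    by_cases h : i = π j
    · rw [if_pos h, one_mul, h]
    · rw [if_neg h, zero_mul]
      exact (hP' j).2.1 i h
  -- units
  set bL : GL (Fin n) F := Matrix.GeneralLinearGroup.mkOfDetNeZero L hL.det_ne_zero with hbL
  set bU : GL (Fin n) F := Matrix.GeneralLinearGroup.mkOfDetNeZero U hU.det_ne_zero with hbU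
  set bD : GL (Fin n) F := Matrix.GeneralLinearGroup.mkOfDetNeZero D hDUT.det_ne_zero with hbD
  have hBL : (bL : Matrix (Fin n) (Fin n) F) = L := rfl
  have hBU : (bU : Matrix (Fin n) (Fin n) F) = U := rfl
  have hBD : (bD : Matrix (Fin n) (Fin n) F) = D := rfl
  have hinvBT : ∀ (x : GL (Fin n) F), (x : Matrix (Fin n) (Fin n) F).BlockTriangular id →
      ((x⁻¹ : GL (Fin n) F) : Matrix (Fin n) (Fin n) F).BlockTriangular id := by
    intro x hx
    have : Invertible (x : Matrix (Fin n) (Fin n) F) := x.invertible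
    rw [Matrix.coe_units_inv]
    exact Matrix.blockTriangular_inv_of_blockTriangular hx
  have hkey : bL * g * bU = permGL σ * bD := by
    apply Units.ext
    rw [Units.val_mul, Units.val_mul, Units.val_mul, hBL, hBU, hBD, permGL_val, ← hMeq]
  refine ⟨bL⁻¹, bD * bU⁻¹, σ, hinvBT bL hL.1, ?_, ?_⟩
  · rw [Units.val_mul]
    exact Matrix.BlockTriangular.mul hDUT.1 (hinvBT bU hU.1)
  · have : g = bL⁻¹ * (bL * g * bU) * bU⁻¹ := by group
    rw [this, hkey]
    group

end bruhat

end Cfsg.Agent.Lib.helper45
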