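import Mathlib
import Cfsg.Prelude.Def_LinearParabolics
import Cfsg.Agent.Lib.helper45.BlockTriCard

set_option autoImplicit false
set_option linter.unusedSectionVars false

namespace Cfsg.Agent.Lib.helper45

open Matrix
open scoped MatrixGroups

section complabel

variable {n : ℕ}

/-- Partial sums of a composition. -/
def psum (μ : Fin n → ℕ) (t : ℕ) : ℕ := ∑ k ∈ Finset.range t, if h : k < n then μ ⟨k, h⟩ else 0

theorem psum_zero (μ : Fin n → ℕ) : psum μ 0 = 0 := by simp [psum]

theorem psum_succ (μ : Fin n → ℕ) (t : ℕ) (ht : t < n) : psum μ (t + 1) = psum μ t + μ ⟨t, ht⟩ := by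
  unfold psum
  rw [Finset.sum_range_succ, dif_pos ht]

theorem psum_mono (μ : Fin n → ℕ) : Monotone (psum μ) := by
  intro s t hst
  unfold psum
  exact Finset.sum_le_sum_of_subset (Finset.range_subset_range.mpr hst)

theorem psum_n (μ : Fin n → ℕ) : psum μ n = ∑ i, μ i := by
  unfold psum
  rw [Finset.sum_fin_eq_sum_range]

theorem sum_le_eq_psum (μ : Fin n → ℕ) (j : Fin n) :
    (∑ k ∈ Finset.univ.filter (fun k : Fin n => k ≤ j), μ k) = psum μ (j.val + 1) := by
  unfold psum
  rw [Finset.sum_filter, Finset.sum_fin_eq_sum_range]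
  have hsub : Finset.range (j.val + 1) ⊆ Finset.range n := Finset.range_subset_range.mpr (by omega)
  rw [← Finset.sum_subset hsub]
  · apply Finset.sum_congr rfl
    intro k hk
    rw [Finset.mem_range] at hk
    have hkn : k < n := by omega
    rw [dif_pos hkn, dif_pos hkn, if_pos]
    rw [Fin.le_def]
    simp only
    omega
  · intro k hk hk'
    rw [Finset.mem_range] at hk hk'
    rw [dif_pos hk, if_neg]
    rw [Fin.le_def]
    simp only
    omega

theorem compLabel_eq_of (μ : Fin n → ℕ) (i : Fin n) (t : ℕ) (ht : t < n)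
    (h1 : psum μ t ≤ i.val) (h2 : i.val < psum μ (t + 1)) : Cfsg.compLabel μ i = t := by
  unfold Cfsg.compLabel
  have hfilter : (Finset.univ.filter fun j : Fin n =>
      (∑ k ∈ Finset.univ.filter (fun k : Fin n => k ≤ j), μ k) ≤ i.val) =
      Finset.univ.filter fun j : Fin n => j.val < t := by
    apply Finset.filter_congr
    intro j _
    rw [sum_le_eq_psum]
    constructor
    · intro h
      by_contra hjt
      have : psum μ (t + 1) ≤ psum μ (j.val + 1) := psum_mono μ (by omega)
      omega
    · intro h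
      have : psum μ (j.val + 1) ≤ psum μ t := psum_mono μ (by omega)
      omega
  rw [hfilter, Fin.card_filter_val_lt]
  omega

theorem exists_label (μ : Fin n → ℕ) (hμ : ∑ i, μ i = n) (i : Fin n) :
    ∃ t, t < n ∧ psum μ t ≤ i.val ∧ i.val < psum μ (t + 1) := by
  have h0 : psum μ 0 ≤ i.val := by rw [psum_zero]; exact Nat.zero_le _
  have hspec : psum μ (Nat.findGreatest (fun t => psum μ t ≤ i.val) n) ≤ i.val :=
    Nat.findGreatest_spec (P := fun t => psum μ t ≤ i.val) (Nat.zero_le n) h0
  have hle : Nat.findGreatest (fun t => psum μ t ≤ i.val) n ≤ n := Nat.findGreatest_le n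
  have hn : psum μ n = n := by rw [psum_n, hμ]
  have hlt : Nat.findGreatest (fun t => psum μ t ≤ i.val) n < n := by
    rcases Nat.lt_or_ge (Nat.findGreatest (fun t => psum μ t ≤ i.val) n) n with h | h
    · exact h
    · have e : Nat.findGreatest (fun t => psum μ t ≤ i.val) n = n := le_antisymm hle h
      rw [e, hn] at hspec
      have := i.isLt
      omega
  refine ⟨_, hlt, hspec, ?_⟩
  have := Nat.findGreatest_is_greatest (P := fun t => psum μ t ≤ i.val)
    (Nat.lt_succ_self (Nat.findGreatest (fun t => psum μ t ≤ i.val) n)) hlt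
  simp only [not_le] at this
  exact this

theorem compLabel_lt (μ : Fin n → ℕ) (hμ : ∑ i, μ i = n) (i : Fin n) : Cfsg.compLabel μ i < n := by
  obtain ⟨t, ht, h1, h2⟩ := exists_label μ hμ i
  rw [compLabel_eq_of μ i t ht h1 h2]
  exact ht

theorem card_fiber (μ : Fin n → ℕ) (hμ : ∑ i, μ i = n) (t : ℕ) (ht : t < n) :
    Fintype.card {i : Fin n // Cfsg.compLabel μ i = t} = μ ⟨t, ht⟩ := by
  classical
  rw [Fintype.card_subtype]
  have hfilter : (Finset.univ.filter fun i : Fin n => Cfsg.compLabel μ i = t) =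
      Finset.univ.filter fun i : Fin n => psum μ t ≤ i.val ∧ i.val < psum μ (t + 1) := by
    apply Finset.filter_congr
    intro i _
    constructor
    · intro h
      obtain ⟨t', ht', h1, h2⟩ := exists_label μ hμ i
      have := compLabel_eq_of μ i t' ht' h1 h2
      rw [h] at this
      subst this
      exact ⟨h1, h2⟩
    · rintro ⟨h1, h2⟩
      exact compLabel_eq_of μ i t ht h1 h2
  rw [hfilter]
  have hn : psum μ n = n := by rw [psum_n, hμ]
  have hle : psum μ (t + 1) ≤ n := by
    have := psum_mono μ (show t + 1 ≤ n by omega)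
    omega
  have himage : (Finset.univ.filter fun i : Fin n => psum μ t ≤ i.val ∧ i.val < psum μ (t + 1)).map
      Fin.valEmbedding = Finset.Ico (psum μ t) (psum μ (t + 1)) := by
    ext x
    simp only [Finset.mem_map, Finset.mem_filter, Finset.mem_univ, true_and, Fin.valEmbedding_apply,
      Finset.mem_Ico]
    constructor
    · rintro ⟨i, ⟨h1, h2⟩, rfl⟩
      exact ⟨h1, h2⟩
    · rintro ⟨h1, h2⟩
      exact ⟨⟨x, by omega⟩, ⟨h1, h2⟩, rfl⟩
  rw [← Finset.card_map Fin.valEmbedding, himage, Nat.card_Ico, psum_succ μ t ht]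
  omega

end complabel

section index

variable {F : Type*} [Field F] [Fintype F] {n : ℕ}

/-- The order of the standard parabolic subgroup of a composition. -/
theorem card_parabolicGL (μ : Fin n → ℕ) (hμ : ∑ i, μ i = n) :
    ∃ s : ℕ, s + ∑ t : Fin n, tri (μ t) = tri n ∧
      Nat.card ↥(Cfsg.parabolicGL n F μ) =
        (∏ t : Fin n, glOrd (Fintype.card F) (μ t)) * Fintype.card F ^ s := by
  classical
  let b' : Fin n → Fin (n + 1) := fun i => ⟨Cfsg.compLabel μ i, by
    have := compLabel_lt μ hμ i
    omega⟩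
  have hBT : ∀ M : Matrix (Fin n) (Fin n) F, M.BlockTriangular (Cfsg.compLabel μ) ↔ M.BlockTriangular b' :=
    fun M => Iff.rfl
  let eP : ↥(Cfsg.parabolicGL n F μ) ≃
      {M : Matrix (Fin n) (Fin n) F // M.BlockTriangular b' ∧ M.det ≠ 0} :=
    { toFun := fun g => ⟨g.1.val, (hBT _).mp g.2, Matrix.GeneralLinearGroup.det_ne_zero g.1⟩
      invFun := fun M => ⟨Matrix.GeneralLinearGroup.mkOfDetNeZero M.1 M.2.2, (hBT _).mpr M.2.1⟩
      left_inv := fun g => Subtype.ext (Units.ext rfl)
      right_inv := fun M => rfl }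
  have hfib : ∀ t : Fin n, Fintype.card {i // b' i = Fin.castSucc t} = μ t := by
    intro t
    rw [← card_fiber μ hμ t.val t.isLt]
    apply Fintype.card_congr
    apply Equiv.subtypeEquivRight
    intro i
    simp only [b', Fin.ext_iff, Fin.val_castSucc]
  have hlast : Fintype.card {i // b' i = Fin.last n} = 0 := by
    rw [Fintype.card_eq_zero_iff]
    constructor
    rintro ⟨i, hi⟩
    have h1 := compLabel_lt μ hμ i
    have h2 : Cfsg.compLabel μ i = n := by
      have := congrArg Fin.val hi
      simpa [b'] using this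
    omega
  have hpairs := card_lt_pairs b'
  rw [Fin.sum_univ_castSucc, hlast, Fintype.card_fin] at hpairs
  simp only [hfib] at hpairs
  refine ⟨Fintype.card {p : Fin n × Fin n // b' p.1 < b' p.2}, ?_, ?_⟩
  · have h1 : ∑ t : Fin n, (tri (μ t) * 2 + μ t) = ∑ t : Fin n, μ t ^ 2 := by
      apply Finset.sum_congr rfl
      intro t _
      rw [tri_mul_two_add, sq]
    rw [Finset.sum_add_distrib, ← Finset.sum_mul, hμ] at h1
    have h2 := tri_mul_two_add n
    have h3 : n ^ 2 = n * n := sq n
    omega
  · rw [Nat.card_congr eP, card_blockTriangular, Fin.prod_univ_castSucc, hlast]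
    simp only [hfib]
    have : glOrd (Fintype.card F) 0 = 1 := by simp [glOrd]
    rw [this, mul_one]

/-- The index of a standard parabolic subgroup of `GL_n(q)` is a `q`-multinomial coefficient. -/
theorem index_parabolicGL (μ : Fin n → ℕ) (hμ : ∑ i, μ i = n) :
    Nat.card (GL (Fin n) F ⧸ Cfsg.parabolicGL n F μ) * ∏ i : Fin n, qfac (Fintype.card F) (μ i) =
      qfac (Fintype.card F) n := by
  obtain ⟨s, hs, hP⟩ := card_parabolicGL (F := F) μ hμ
  have hq : 2 ≤ Fintype.card F := Fintype.one_lt_card
  have hL := Subgroup.card_eq_card_quotient_mul_card_subgroup (Cfsg.parabolicGL n F μ)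
  rw [Matrix.card_GL_field, hP] at hL
  change glOrd (Fintype.card F) n = _ at hL
  rw [glOrd_eq _ _ (by omega)] at hL
  have hprod : ∏ t : Fin n, glOrd (Fintype.card F) (μ t) =
      Fintype.card F ^ (∑ t : Fin n, tri (μ t)) * (Fintype.card F - 1) ^ n *
        ∏ t : Fin n, qfac (Fintype.card F) (μ t) := by
    have : ∀ t ∈ (Finset.univ : Finset (Fin n)), glOrd (Fintype.card F) (μ t) =
        Fintype.card F ^ tri (μ t) * (Fintype.card F - 1) ^ (μ t) * qfac (Fintype.card F) (μ t) :=
      fun t _ => glOrd_eq _ _ (by omega)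
    rw [Finset.prod_congr rfl this, Finset.prod_mul_distrib, Finset.prod_mul_distrib,
      Finset.prod_pow_eq_pow_sum, Finset.prod_pow_eq_pow_sum, hμ]
  rw [hprod, ← hs] at hL
  have hpos : 0 < Fintype.card F ^ (s + ∑ t : Fin n, tri (μ t)) * (Fintype.card F - 1) ^ n := by
    apply Nat.mul_pos
    · exact pow_pos (by omega) _
    · exact pow_pos (by omega) _
  apply Nat.eq_of_mul_eq_mul_left hpos
  rw [hL, pow_add]
  ring

end index

end Cfsg.Agent.Lib.helper45
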