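import Mathlib
import Cfsg.Prelude.Def_LinearParabolics
import Cfsg.Agent.Lib.helper45.BruhatGL
import Cfsg.Agent.Lib.helper45.Parabolic

/-! Double cosets of standard parabolic subgroups of `GL_n` and of Young subgroups of `S_n`: both are
classified by the contingency tables of permutations, so the inner products of the corresponding permutation
characters agree. -/

set_option autoImplicit false

namespace Cfsg.Agent.Lib.helper45

open Matrix

section general

/-- Two maps on finite types with fibres of equal size differ by a bijection of the sources. -/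
theorem exists_equiv_of_fiber_card_eq {X X' T : Type*} [Fintype X] [Fintype X'] [DecidableEq T]
    (f : X → T) (f' : X' → T)
    (h : ∀ t, Fintype.card {x // f x = t} = Fintype.card {x // f' x = t}) :
    ∃ e : X ≃ X', ∀ x, f' (e x) = f x := by
  have e : ∀ t, {x // f x = t} ≃ {x // f' x = t} := fun t => Fintype.equivOfCardEq (h t)
  refine ⟨(Equiv.sigmaFiberEquiv f).symm.trans ((Equiv.sigmaCongrRight e).trans (Equiv.sigmaFiberEquiv f')), ?_⟩
  intro x
  have : ((Equiv.sigmaFiberEquiv f).symm.trans ((Equiv.sigmaCongrRight e).trans (Equiv.sigmaFiberEquiv f'))) x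
      = ((e (f x)) ⟨x, rfl⟩).1 := rfl
  rw [this]
  exact ((e (f x)) ⟨x, rfl⟩).2

/-- Two maps with the same kernel have ranges of the same size. -/
theorem card_range_eq_of_ker_eq {X A B : Type*} (f : X → A) (f' : X → B)
    (h : ∀ x x', f x = f x' ↔ f' x = f' x') : Nat.card (Set.range f) = Nat.card (Set.range f') := by
  have hker : Setoid.ker f = Setoid.ker f' := by
    ext x x'
    exact h x x'
  rw [← Nat.card_congr (Setoid.quotientKerEquivRange f), ← Nat.card_congr (Setoid.quotientKerEquivRange f'),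
    hker]

end general

section orbits

variable {G : Type*} [Group G]

theorem card_fixedBy_prod' {X Y : Type*} [MulAction G X] [MulAction G Y] (g : G) :
    Nat.card (MulAction.fixedBy (X × Y) g) =
      Nat.card (MulAction.fixedBy X g) * Nat.card (MulAction.fixedBy Y g) := by
  rw [← Nat.card_prod]
  apply Nat.card_congr
  exact
    { toFun := fun p => (⟨p.1.1, congrArg Prod.fst p.2⟩, ⟨p.1.2, congrArg Prod.snd p.2⟩)
      invFun := fun q => ⟨(q.1.1, q.2.1), Prod.ext q.1.2 q.2.2⟩
      left_inv := fun p => rfl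
      right_inv := fun q => rfl }

/-- Burnside: the inner product of two permutation characters is the number of orbits on pairs of cosets. -/
theorem inner_fixedPointCharacter [Fintype G] (H K : Subgroup G) :
    (Nat.card G : ℂ)⁻¹ * ∑ g : G, Cfsg.fixedPointCharacter H g * Cfsg.fixedPointCharacter K g =
      (Nat.card (MulAction.orbitRel.Quotient G ((G ⧸ H) × (G ⧸ K))) : ℂ) := by
  classical
  have : Fintype (G ⧸ H) := Fintype.ofFinite _
  have : Fintype (G ⧸ K) := Fintype.ofFinite _
  have : Fintype (MulAction.orbitRel.Quotient G ((G ⧸ H) × (G ⧸ K))) := Fintype.ofFinite _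
  have hB := MulAction.sum_card_fixedBy_eq_card_orbits_mul_card_group G ((G ⧸ H) × (G ⧸ K))
  have h1 : ∀ g : G, Cfsg.fixedPointCharacter H g * Cfsg.fixedPointCharacter K g =
      ((Fintype.card (MulAction.fixedBy ((G ⧸ H) × (G ⧸ K)) g) : ℕ) : ℂ) := by
    intro g
    unfold Cfsg.fixedPointCharacter
    rw [← Nat.card_eq_fintype_card, card_fixedBy_prod', Nat.cast_mul]
  simp_rw [h1]
  rw [← Nat.cast_sum, hB, Nat.card_eq_fintype_card, Nat.card_eq_fintype_card, Nat.cast_mul]
  have hG : (Fintype.card G : ℂ) ≠ 0 := by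
    exact_mod_cast Fintype.card_ne_zero
  field_simp

/-- Orbits on pairs of cosets are counted by any complete double coset invariant. -/
theorem card_orbits_eq_card_range {T : Type*} (H K : Subgroup G) (d : G → T)
    (hinv : ∀ h ∈ H, ∀ k ∈ K, ∀ g, d (h * g * k) = d g)
    (hcompl : ∀ g g', d g = d g' → ∃ h ∈ H, ∃ k ∈ K, g' = h * g * k) :
    Nat.card (MulAction.orbitRel.Quotient G ((G ⧸ H) × (G ⧸ K))) = Nat.card (Set.range d) := by
  set Φ : (G ⧸ H) × (G ⧸ K) → T := fun p => d (p.1.out⁻¹ * p.2.out) with hΦ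
  have hΦmk : ∀ x y : G, Φ ((x : G ⧸ H), (y : G ⧸ K)) = d (x⁻¹ * y) := by
    intro x y
    obtain ⟨h, hh⟩ := QuotientGroup.mk_out_eq_mul H x
    obtain ⟨k, hk⟩ := QuotientGroup.mk_out_eq_mul K y
    show d ((x : G ⧸ H).out⁻¹ * (y : G ⧸ K).out) = d (x⁻¹ * y)
    rw [hh, hk]
    have : (x * (h : G))⁻¹ * (y * (k : G)) = (h : G)⁻¹ * (x⁻¹ * y) * (k : G) := by group
    rw [this]
    exact hinv _ (H.inv_mem h.2) _ k.2 _
  have hrange : Set.range Φ = Set.range d := by
    ext t
    constructor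
    · rintro ⟨p, rfl⟩
      exact ⟨_, rfl⟩
    · rintro ⟨g, rfl⟩
      exact ⟨((1 : G), (g : G ⧸ K)), by rw [hΦmk]; simp⟩
  rw [← hrange]
  have hker : (MulAction.orbitRel G ((G ⧸ H) × (G ⧸ K))) = Setoid.ker Φ := by
    ext p p'
    rw [MulAction.orbitRel_apply, Setoid.ker_def]
    obtain ⟨u, v⟩ := p
    obtain ⟨u', v'⟩ := p'
    induction u using QuotientGroup.induction_on with
    | _ x =>
    induction v using QuotientGroup.induction_on with
    | _ y =>
    induction u' using QuotientGroup.induction_on with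
    | _ x' =>
    induction v' using QuotientGroup.induction_on with
    | _ y' =>
    rw [hΦmk, hΦmk]
    constructor
    · rintro ⟨γ, hγ⟩
      have h1 : ((γ * x' : G) : G ⧸ H) = (x : G ⧸ H) := congrArg Prod.fst hγ
      have h2 : ((γ * y' : G) : G ⧸ K) = (y : G ⧸ K) := congrArg Prod.snd hγ
      rw [QuotientGroup.eq] at h1 h2
      have : x⁻¹ * y = ((γ * x')⁻¹ * x)⁻¹ * (x'⁻¹ * y') * ((γ * y')⁻¹ * y) := by group
      rw [this]
      exact hinv _ (H.inv_mem h1) _ h2 _
    · intro h
      obtain ⟨a, ha, b, hb, hab⟩ := hcompl _ _ h.symm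
      -- x⁻¹ y = a (x'⁻¹ y') b
      refine ⟨x * a * x'⁻¹, ?_⟩
      apply Prod.ext
      · show ((x * a * x'⁻¹ * x' : G) : G ⧸ H) = (x : G ⧸ H)
        rw [QuotientGroup.eq]
        have : (x * a * x'⁻¹ * x')⁻¹ * x = a⁻¹ := by group
        rw [this]
        exact H.inv_mem ha
      · show ((x * a * x'⁻¹ * y' : G) : G ⧸ K) = (y : G ⧸ K)
        rw [QuotientGroup.eq]
        have : (x * a * x'⁻¹ * y')⁻¹ * y = (a * (x'⁻¹ * y'))⁻¹ * (x⁻¹ * y) := by group
        rw [this, hab]
        have : (a * (x'⁻¹ * y'))⁻¹ * (a * (x'⁻¹ * y') * b) = b := by group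
        rw [this]
        exact hb
  have e : MulAction.orbitRel.Quotient G ((G ⧸ H) × (G ⧸ K)) ≃ Set.range Φ :=
    (Quotient.congrRight (fun p p' => by rw [hker])).trans (Setoid.quotientKerEquivRange Φ)
  exact Nat.card_congr e

end orbits

section labels

variable {F : Type*} [Field F] {n : ℕ}

theorem compLabel_mono (μ : Fin n → ℕ) : Monotone (Cfsg.compLabel μ) := by
  intro i j hij
  unfold Cfsg.compLabel
  apply Finset.card_le_card
  intro k hk
  rw [Finset.mem_filter] at hk ⊢
  exact ⟨hk.1, hk.2.trans (Fin.le_def.mp hij)⟩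

theorem blockTriangular_compLabel_of_upper (μ : Fin n → ℕ) {A : Matrix (Fin n) (Fin n) F}
    (hA : A.BlockTriangular id) : A.BlockTriangular (Cfsg.compLabel μ) := by
  intro i j hij
  apply hA
  show j < i
  by_contra h
  exact absurd (compLabel_mono μ (not_lt.mp h)) (not_le.mpr hij)

theorem mem_parabolicGL_iff (μ : Fin n → ℕ) (g : GL (Fin n) F) :
    g ∈ Cfsg.parabolicGL n F μ ↔ (g : Matrix (Fin n) (Fin n) F).BlockTriangular (Cfsg.compLabel μ) :=
  Iff.rfl

theorem upper_mem_parabolicGL (μ : Fin n → ℕ) (g : GL (Fin n) F)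
    (hg : (g : Matrix (Fin n) (Fin n) F).BlockTriangular id) : g ∈ Cfsg.parabolicGL n F μ :=
  blockTriangular_compLabel_of_upper μ hg

theorem mem_youngSubgroup_iff (μ : Fin n → ℕ) (ρ : Equiv.Perm (Fin n)) :
    ρ ∈ Cfsg.youngSubgroup μ ↔ ∀ i, Cfsg.compLabel μ (ρ i) = Cfsg.compLabel μ i := Iff.rfl

theorem permGL_mem_parabolicGL (μ : Fin n → ℕ) (ρ : Equiv.Perm (Fin n)) (hρ : ρ ∈ Cfsg.youngSubgroup μ) :
    (permGL ρ : GL (Fin n) F) ∈ Cfsg.parabolicGL n F μ := by
  rw [mem_parabolicGL_iff]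
  intro i j hij
  rw [permGL_val, permMat_apply, if_neg]
  rintro rfl
  rw [(mem_youngSubgroup_iff μ ρ).mp hρ j] at hij
  exact lt_irrefl _ hij

end labels

section rank

variable {F : Type*} [Field F] {n : ℕ}

/-- The rank invariant of a matrix with respect to two labellings: ranks of the lower-left corner
submatrices. -/
noncomputable def rkInv (a b : Fin n → ℕ) (g : Matrix (Fin n) (Fin n) F) (x y : ℕ) : ℕ :=
  (g.submatrix (Subtype.val : {i // x ≤ a i} → Fin n) (Subtype.val : {j // b j ≤ y} → Fin n)).rank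

theorem submatrix_mul_left (a : Fin n → ℕ) (x : ℕ) {p : Matrix (Fin n) (Fin n) F}
    (hp : p.BlockTriangular a) (g : Matrix (Fin n) (Fin n) F) {κ : Type*} (c : κ → Fin n) :
    (p * g).submatrix (Subtype.val : {i // x ≤ a i} → Fin n) c =
      p.submatrix (Subtype.val : {i // x ≤ a i} → Fin n) (Subtype.val : {i // x ≤ a i} → Fin n) *
        g.submatrix (Subtype.val : {i // x ≤ a i} → Fin n) c := by
  ext i j
  rw [Matrix.submatrix_apply, Matrix.mul_apply, Matrix.mul_apply]
  show ∑ k, p i.val k * g k (c j) = ∑ k : {k // x ≤ a k}, p i.val k.val * g k.val (c j)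
  rw [← Finset.sum_subtype (Finset.univ.filter fun k : Fin n => x ≤ a k) (by simp)
    (fun k => p i.val k * g k (c j))]
  rw [Finset.sum_filter_of_ne]
  intro k _ hk
  by_contra hx
  apply hk
  have : p i.val k = 0 := hp (lt_of_lt_of_le (not_le.mp hx) i.2)
  rw [this, zero_mul]

theorem submatrix_mul_right (b : Fin n → ℕ) (y : ℕ) {q : Matrix (Fin n) (Fin n) F}
    (hq : q.BlockTriangular b) (g : Matrix (Fin n) (Fin n) F) {κ : Type*} (r : κ → Fin n) :
    (g * q).submatrix r (Subtype.val : {j // b j ≤ y} → Fin n) =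
      g.submatrix r (Subtype.val : {j // b j ≤ y} → Fin n) *
        q.submatrix (Subtype.val : {j // b j ≤ y} → Fin n) (Subtype.val : {j // b j ≤ y} → Fin n) := by
  ext i j
  rw [Matrix.submatrix_apply, Matrix.mul_apply, Matrix.mul_apply]
  show ∑ l, g (r i) l * q l j.val = ∑ l : {l // b l ≤ y}, g (r i) l.val * q l.val j.val
  rw [← Finset.sum_subtype (Finset.univ.filter fun l : Fin n => b l ≤ y) (by simp)
    (fun l => g (r i) l * q l j.val)]
  rw [Finset.sum_filter_of_ne]
  intro l _ hl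
  by_contra hy
  apply hl
  have : q l j.val = 0 := hq (lt_of_le_of_lt j.2 (not_le.mp hy))
  rw [this, mul_zero]

theorem rkInv_mul (a b : Fin n → ℕ) (p g q : GL (Fin n) F)
    (hp : (p : Matrix (Fin n) (Fin n) F).BlockTriangular a)
    (hq : (q : Matrix (Fin n) (Fin n) F).BlockTriangular b) (x y : ℕ) :
    rkInv a b ((p * g * q : GL (Fin n) F) : Matrix (Fin n) (Fin n) F) x y =
      rkInv a b (g : Matrix (Fin n) (Fin n) F) x y := by
  unfold rkInv
  rw [Units.val_mul, Units.val_mul, Matrix.mul_assoc, submatrix_mul_left a x hp, submatrix_mul_right b y hq]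
  have hP : IsUnit ((p : Matrix (Fin n) (Fin n) F).submatrix (Subtype.val : {i // x ≤ a i} → Fin n)
      (Subtype.val : {i // x ≤ a i} → Fin n)).det := by
    apply Matrix.isUnit_det_of_right_inverse (B := ((p⁻¹ : GL (Fin n) F) : Matrix (Fin n) (Fin n) F).submatrix
      (Subtype.val : {i // x ≤ a i} → Fin n) (Subtype.val : {i // x ≤ a i} → Fin n))
    rw [← submatrix_mul_left a x hp, ← Units.val_mul, mul_inv_cancel, Units.val_one]
    exact Matrix.submatrix_one _ Subtype.val_injective
  have hQ : IsUnit ((q : Matrix (Fin n) (Fin n) F).submatrix (Subtype.val : {j // b j ≤ y} → Fin n)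
      (Subtype.val : {j // b j ≤ y} → Fin n)).det := by
    apply Matrix.isUnit_det_of_left_inverse (B := ((q⁻¹ : GL (Fin n) F) : Matrix (Fin n) (Fin n) F).submatrix
      (Subtype.val : {j // b j ≤ y} → Fin n) (Subtype.val : {j // b j ≤ y} → Fin n))
    rw [← submatrix_mul_right b y hq, ← Units.val_mul, inv_mul_cancel, Units.val_one]
    exact Matrix.submatrix_one _ Subtype.val_injective
  rw [Matrix.rank_mul_eq_right_of_isUnit_det _ _ hP, Matrix.rank_mul_eq_left_of_isUnit_det _ _ hQ]

/-- The rank invariant of a permutation matrix. -/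
theorem rkInv_permMat (a b : Fin n → ℕ) (σ : Equiv.Perm (Fin n)) (x y : ℕ) :
    rkInv a b (permMat σ : Matrix (Fin n) (Fin n) F) x y =
      Fintype.card {j : Fin n // b j ≤ y ∧ x ≤ a (σ j)} := by
  classical
  unfold rkInv
  rw [Matrix.rank_eq_finrank_span_cols]
  set A := (permMat σ : Matrix (Fin n) (Fin n) F).submatrix (Subtype.val : {i // x ≤ a i} → Fin n)
    (Subtype.val : {j // b j ≤ y} → Fin n) with hA
  set v : {j : {j // b j ≤ y} // x ≤ a (σ j.val)} → ({i // x ≤ a i} → F) :=
    fun s => Pi.single ⟨σ s.1.1, s.2⟩ 1 with hv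
  have hli : LinearIndependent F v := by
    have h1 := (Pi.basisFun F {i // x ≤ a i}).linearIndependent
    have h2 : Function.Injective (fun s : {j : {j // b j ≤ y} // x ≤ a (σ j.val)} =>
        (⟨σ s.1.1, s.2⟩ : {i // x ≤ a i})) := by
      intro s s' h
      have : σ s.1.1 = σ s'.1.1 := congrArg Subtype.val h
      exact Subtype.ext (Subtype.ext (σ.injective this))
    have h3 := h1.comp _ h2
    convert h3 using 1
    funext s
    simp [hv, Pi.basisFun_apply]
  have hcol : ∀ j : {j // b j ≤ y}, A.col j =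
      if h : x ≤ a (σ j.val) then v ⟨j, h⟩ else 0 := by
    intro j
    funext i
    show (permMat σ : Matrix (Fin n) (Fin n) F) i.val j.val = _
    rw [permMat_apply]
    split_ifs with h1 h2 h2
    · simp only [hv]
      rw [Pi.single_apply, if_pos (Subtype.ext h1)]
    · exact absurd (h1 ▸ i.2) h2
    · simp only [hv]
      rw [Pi.single_apply, if_neg]
      intro h
      exact h1 (congrArg Subtype.val h)
    · rfl
  have hspan : Submodule.span F (Set.range A.col) = Submodule.span F (Set.range v) := by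
    apply le_antisymm
    · rw [Submodule.span_le]
      rintro _ ⟨j, rfl⟩
      rw [hcol j]
      split_ifs with h
      · exact Submodule.subset_span ⟨_, rfl⟩
      · exact Submodule.zero_mem _
    · rw [Submodule.span_le]
      rintro _ ⟨s, rfl⟩
      apply Submodule.subset_span
      refine ⟨s.1, ?_⟩
      rw [hcol s.1, dif_pos s.2]
  rw [hspan, finrank_span_eq_card hli]
  exact Fintype.card_congr (Equiv.subtypeSubtypeEquivSubtypeInter (fun j : Fin n => b j ≤ y)
    (fun j => x ≤ a (σ j)))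

end rank

section young

variable {n : ℕ}

/-- The contingency table of a permutation with respect to two labellings. -/
def cInv (a b : Fin n → ℕ) (σ : Equiv.Perm (Fin n)) (x y : ℕ) : ℕ :=
  (Finset.univ.filter fun j : Fin n => a (σ j) = x ∧ b j = y).card

/-- Cumulative version of the contingency table. -/
def sInv (a b : Fin n → ℕ) (σ : Equiv.Perm (Fin n)) (x y : ℕ) : ℕ :=
  (Finset.univ.filter fun j : Fin n => b j ≤ y ∧ x ≤ a (σ j)).card

def tInv (a b : Fin n → ℕ) (σ : Equiv.Perm (Fin n)) (x y : ℕ) : ℕ :=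
  (Finset.univ.filter fun j : Fin n => b j ≤ y ∧ a (σ j) = x).card

theorem sInv_eq (a b : Fin n → ℕ) (σ : Equiv.Perm (Fin n)) (x y : ℕ) :
    sInv a b σ x y = tInv a b σ x y + sInv a b σ (x + 1) y := by
  unfold sInv tInv
  simp only [Finset.card_filter]
  rw [← Finset.sum_add_distrib]
  apply Finset.sum_congr rfl
  intro j _
  split_ifs <;> omega

theorem tInv_succ (a b : Fin n → ℕ) (σ : Equiv.Perm (Fin n)) (x y : ℕ) :
    tInv a b σ x (y + 1) = cInv a b σ x (y + 1) + tInv a b σ x y := by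
  unfold cInv tInv
  simp only [Finset.card_filter]
  rw [← Finset.sum_add_distrib]
  apply Finset.sum_congr rfl
  intro j _
  split_ifs <;> omega

theorem tInv_zero (a b : Fin n → ℕ) (σ : Equiv.Perm (Fin n)) (x : ℕ) :
    tInv a b σ x 0 = cInv a b σ x 0 := by
  unfold cInv tInv
  apply congrArg
  apply Finset.filter_congr
  intro j _
  constructor
  · rintro ⟨h1, h2⟩; exact ⟨h2, by omega⟩
  · rintro ⟨h1, h2⟩; exact ⟨by omega, h1⟩

theorem cInv_eq_of_sInv_eq (a b : Fin n → ℕ) (σ σ' : Equiv.Perm (Fin n))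
    (h : ∀ x y, sInv a b σ x y = sInv a b σ' x y) (x y : ℕ) : cInv a b σ x y = cInv a b σ' x y := by
  have hT : ∀ x y, tInv a b σ x y = tInv a b σ' x y := by
    intro x y
    have h1 := sInv_eq a b σ x y
    have h2 := sInv_eq a b σ' x y
    have h3 := h x y
    have h4 := h (x + 1) y
    omega
  cases y with
  | zero => rw [← tInv_zero, ← tInv_zero, hT]
  | succ y =>
    have h1 := tInv_succ a b σ x y
    have h2 := tInv_succ a b σ' x y
    have h3 := hT x (y + 1)
    have h4 := hT x y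
    omega

theorem cInv_mul (α β : Fin n → ℕ) (ρ σ τ : Equiv.Perm (Fin n)) (hρ : ρ ∈ Cfsg.youngSubgroup α)
    (hτ : τ ∈ Cfsg.youngSubgroup β) (x y : ℕ) :
    cInv (Cfsg.compLabel α) (Cfsg.compLabel β) (ρ * σ * τ) x y =
      cInv (Cfsg.compLabel α) (Cfsg.compLabel β) σ x y := by
  unfold cInv
  apply Finset.card_bij (fun j _ => τ j)
  · intro j hj
    rw [Finset.mem_filter] at hj ⊢
    refine ⟨Finset.mem_univ _, ?_, ?_⟩
    · have := hj.2.1
      rw [Equiv.Perm.mul_apply, Equiv.Perm.mul_apply, hρ (σ (τ j))] at this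
      exact this
    · rw [hτ j]; exact hj.2.2
  · intro j _ j' _ h
    exact τ.injective h
  · intro j hj
    rw [Finset.mem_filter] at hj
    refine ⟨τ⁻¹ j, ?_, by simp⟩
    rw [Finset.mem_filter]
    refine ⟨Finset.mem_univ _, ?_, ?_⟩
    · rw [Equiv.Perm.mul_apply, Equiv.Perm.mul_apply, hρ]
      simpa using hj.2.1
    · have := hτ (τ⁻¹ j)
      rw [← this]
      simpa using hj.2.2

theorem exists_young_of_cInv_eq (α β : Fin n → ℕ) (σ σ' : Equiv.Perm (Fin n))
    (h : ∀ x y, cInv (Cfsg.compLabel α) (Cfsg.compLabel β) σ x y =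
      cInv (Cfsg.compLabel α) (Cfsg.compLabel β) σ' x y) :
    ∃ ρ ∈ Cfsg.youngSubgroup α, ∃ τ ∈ Cfsg.youngSubgroup β, σ' = ρ * σ * τ := by
  classical
  set a := Cfsg.compLabel α
  set b := Cfsg.compLabel β
  obtain ⟨e, he⟩ := exists_equiv_of_fiber_card_eq (fun j : Fin n => (a (σ j), b j))
    (fun j : Fin n => (a (σ' j), b j)) (by
      rintro ⟨x, y⟩
      rw [Fintype.card_subtype, Fintype.card_subtype]
      have := h x y
      unfold cInv at this
      simpa only [Prod.mk.injEq] using this)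
  have he1 : ∀ j, a (σ' (e j)) = a (σ j) := fun j => congrArg Prod.fst (he j)
  have he2 : ∀ j, b (e j) = b j := fun j => congrArg Prod.snd (he j)
  have heβ : e ∈ Cfsg.youngSubgroup β := he2
  refine ⟨σ' * e * σ⁻¹, ?_, e⁻¹, (Cfsg.youngSubgroup β).inv_mem heβ, by group⟩
  intro i
  show a (σ' (e (σ⁻¹ i))) = a i
  rw [he1]
  simp

end young

section assembly

variable {F : Type*} [Field F] {n : ℕ}

theorem rkInv_permMat' (a b : Fin n → ℕ) (σ : Equiv.Perm (Fin n)) (x y : ℕ) :
    rkInv a b (permMat σ : Matrix (Fin n) (Fin n) F) x y = sInv a b σ x y := by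
  rw [rkInv_permMat, Fintype.card_subtype]
  rfl

theorem gl_rkInv_inv (α β : Fin n → ℕ) (p g q : GL (Fin n) F) (hp : p ∈ Cfsg.parabolicGL n F α)
    (hq : q ∈ Cfsg.parabolicGL n F β) :
    rkInv (Cfsg.compLabel α) (Cfsg.compLabel β) ((p * g * q : GL (Fin n) F) : Matrix (Fin n) (Fin n) F) =
      rkInv (Cfsg.compLabel α) (Cfsg.compLabel β) (g : Matrix (Fin n) (Fin n) F) := by
  funext x y
  exact rkInv_mul _ _ p g q hp hq x y

theorem exists_perm_parabolic (α β : Fin n → ℕ) (g : GL (Fin n) F) :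
    ∃ (σ : Equiv.Perm (Fin n)) (p q : GL (Fin n) F), p ∈ Cfsg.parabolicGL n F α ∧
      q ∈ Cfsg.parabolicGL n F β ∧ g = p * permGL σ * q := by
  obtain ⟨b, b', σ, hb, hb', h⟩ := exists_bruhat g
  exact ⟨σ, b, b', upper_mem_parabolicGL α b hb, upper_mem_parabolicGL β b' hb', h⟩

theorem gl_rkInv_complete (α β : Fin n → ℕ) (g g' : GL (Fin n) F)
    (h : rkInv (Cfsg.compLabel α) (Cfsg.compLabel β) (g : Matrix (Fin n) (Fin n) F) =
      rkInv (Cfsg.compLabel α) (Cfsg.compLabel β) (g' : Matrix (Fin n) (Fin n) F)) :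
    ∃ p ∈ Cfsg.parabolicGL n F α, ∃ q ∈ Cfsg.parabolicGL n F β, g' = p * g * q := by
  obtain ⟨σ, p₁, q₁, hp₁, hq₁, rfl⟩ := exists_perm_parabolic α β g
  obtain ⟨σ', p₂, q₂, hp₂, hq₂, rfl⟩ := exists_perm_parabolic α β g'
  rw [gl_rkInv_inv α β p₁ _ q₁ hp₁ hq₁, gl_rkInv_inv α β p₂ _ q₂ hp₂ hq₂] at h
  have hc : ∀ x y, cInv (Cfsg.compLabel α) (Cfsg.compLabel β) σ x y =
      cInv (Cfsg.compLabel α) (Cfsg.compLabel β) σ' x y := by
    apply cInv_eq_of_sInv_eq
    intro x y
    have := congrFun (congrFun h x) y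
    rwa [permGL_val, permGL_val, rkInv_permMat', rkInv_permMat'] at this
  obtain ⟨ρ, hρ, τ, hτ, rfl⟩ := exists_young_of_cInv_eq α β σ σ' hc
  refine ⟨p₂ * permGL ρ * p₁⁻¹, ?_, q₁⁻¹ * permGL τ * q₂, ?_, ?_⟩
  · exact mul_mem (mul_mem hp₂ (permGL_mem_parabolicGL α ρ hρ)) (inv_mem hp₁)
  · exact mul_mem (mul_mem (inv_mem hq₁) (permGL_mem_parabolicGL β τ hτ)) hq₂
  · rw [map_mul, map_mul]
    group

theorem card_range_rkInv_eq (α β : Fin n → ℕ) :
    Nat.card (Set.range fun g : GL (Fin n) F =>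
        rkInv (Cfsg.compLabel α) (Cfsg.compLabel β) (g : Matrix (Fin n) (Fin n) F)) =
      Nat.card (Set.range fun σ : Equiv.Perm (Fin n) => cInv (Cfsg.compLabel α) (Cfsg.compLabel β) σ) := by
  have h1 : (Set.range fun g : GL (Fin n) F =>
        rkInv (Cfsg.compLabel α) (Cfsg.compLabel β) (g : Matrix (Fin n) (Fin n) F)) =
      Set.range fun σ : Equiv.Perm (Fin n) =>
        rkInv (Cfsg.compLabel α) (Cfsg.compLabel β) (permMat σ : Matrix (Fin n) (Fin n) F) := by
    ext t
    constructor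
    · rintro ⟨g, rfl⟩
      obtain ⟨σ, p, q, hp, hq, rfl⟩ := exists_perm_parabolic α β g
      refine ⟨σ, ?_⟩
      show _ = rkInv _ _ ((p * permGL σ * q : GL (Fin n) F) : Matrix (Fin n) (Fin n) F)
      rw [gl_rkInv_inv α β p _ q hp hq]
      rfl
    · rintro ⟨σ, rfl⟩
      exact ⟨permGL σ, rfl⟩
  rw [h1]
  apply card_range_eq_of_ker_eq
  intro σ σ'
  constructor
  · intro h
    funext x y
    apply cInv_eq_of_sInv_eq
    intro x y
    have := congrFun (congrFun h x) y
    rwa [rkInv_permMat', rkInv_permMat'] at this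
  · intro h
    obtain ⟨ρ, hρ, τ, hτ, rfl⟩ := exists_young_of_cInv_eq α β σ σ' (fun x y => congrFun (congrFun h x) y)
    have := gl_rkInv_inv α β (permGL ρ) (permGL σ) (permGL τ) (permGL_mem_parabolicGL α ρ hρ)
      (permGL_mem_parabolicGL (F := F) β τ hτ)
    rw [← map_mul, ← map_mul] at this
    exact this.symm

/-- The inner product of two flag permutation characters of `GL_n(q)` is the number of contingency tables
of permutations. -/
theorem inner_parabolicGL [Fintype (GL (Fin n) F)] (α β : Fin n → ℕ) :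
    (Nat.card (GL (Fin n) F) : ℂ)⁻¹ * ∑ g : GL (Fin n) F,
        Cfsg.fixedPointCharacter (Cfsg.parabolicGL n F α) g *
          Cfsg.fixedPointCharacter (Cfsg.parabolicGL n F β) g =
      (Nat.card (Set.range fun σ : Equiv.Perm (Fin n) =>
        cInv (Cfsg.compLabel α) (Cfsg.compLabel β) σ) : ℂ) := by
  rw [inner_fixedPointCharacter, card_orbits_eq_card_range _ _
    (fun g : GL (Fin n) F => rkInv (Cfsg.compLabel α) (Cfsg.compLabel β) (g : Matrix (Fin n) (Fin n) F))
    (fun p hp q hq g => gl_rkInv_inv α β p g q hp hq) (gl_rkInv_complete α β), card_range_rkInv_eq]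

/-- The same for the symmetric group and Young subgroups. -/
theorem inner_young (α β : Fin n → ℕ) :
    (Nat.card (Equiv.Perm (Fin n)) : ℂ)⁻¹ * ∑ σ : Equiv.Perm (Fin n),
        Cfsg.fixedPointCharacter (Cfsg.youngSubgroup α) σ *
          Cfsg.fixedPointCharacter (Cfsg.youngSubgroup β) σ =
      (Nat.card (Set.range fun σ : Equiv.Perm (Fin n) =>
        cInv (Cfsg.compLabel α) (Cfsg.compLabel β) σ) : ℂ) := by
  rw [inner_fixedPointCharacter, card_orbits_eq_card_range _ _
    (fun σ : Equiv.Perm (Fin n) => cInv (Cfsg.compLabel α) (Cfsg.compLabel β) σ)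
    (fun ρ hρ τ hτ σ => by funext x y; exact cInv_mul α β ρ σ τ hρ hτ x y)
    (fun σ σ' h => exists_young_of_cInv_eq α β σ σ' (fun x y => congrFun (congrFun h x) y))]

end assembly

end Cfsg.Agent.Lib.helper45
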