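import Mathlib
import Cfsg.Agent.Lib.helper45.ParabolicDC

/-!
# Contingency tables (helper45)

The double cosets of two Young subgroups of `S_n` (equivalently of two parabolics of `GL_n`) are
counted by the matrices of natural numbers with prescribed row and column sums.
-/

set_option autoImplicit false

namespace Cfsg.Agent.Lib.helper45

section contingency

variable {n : ℕ}

/-- Number of elements of a sigma type over `Fin`s whose index satisfies a predicate. -/
theorem card_sigma_fin_subtype {P : Type*} [Fintype P] (m : P → ℕ) (Q : P → Prop) [DecidablePred Q] :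
    Fintype.card {z : (Σ p : P, Fin (m p)) // Q z.1} = ∑ p, if Q p then m p else 0 := by
  classical
  rw [Fintype.card_subtype, Finset.card_filter, Fintype.sum_sigma]
  apply Finset.sum_congr rfl
  intro p _
  by_cases h : Q p <;> simp [h]

theorem cInv_row_sum (α β : Fin n → ℕ) (hα : ∑ i, α i = n) (hβ : ∑ i, β i = n)
    (σ : Equiv.Perm (Fin n)) (x : Fin n) :
    ∑ y : Fin n, cInv (Cfsg.compLabel α) (Cfsg.compLabel β) σ x.val y.val = α x := by
  classical
  rw [← card_fiber α hα x.val x.isLt, Fintype.card_subtype]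
  have h1 : (Finset.univ.filter fun i : Fin n => Cfsg.compLabel α i = x.val).card =
      (Finset.univ.filter fun j : Fin n => Cfsg.compLabel α (σ j) = x.val).card := by
    symm
    apply Finset.card_bijective σ σ.bijective
    intro j
    simp
  rw [h1, Finset.card_eq_sum_card_fiberwise
    (f := fun j => (⟨Cfsg.compLabel β j, compLabel_lt β hβ j⟩ : Fin n)) (t := Finset.univ)
    (fun _ _ => Finset.mem_univ _)]
  apply Finset.sum_congr rfl
  intro y _
  unfold cInv
  rw [Finset.filter_filter]
  congr 1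
  ext j
  simp [Fin.ext_iff]

theorem cInv_col_sum (α β : Fin n → ℕ) (hα : ∑ i, α i = n) (hβ : ∑ i, β i = n)
    (σ : Equiv.Perm (Fin n)) (y : Fin n) :
    ∑ x : Fin n, cInv (Cfsg.compLabel α) (Cfsg.compLabel β) σ x.val y.val = β y := by
  classical
  rw [← card_fiber β hβ y.val y.isLt, Fintype.card_subtype, Finset.card_eq_sum_card_fiberwise
    (f := fun j => (⟨Cfsg.compLabel α (σ j), compLabel_lt α hα (σ j)⟩ : Fin n)) (t := Finset.univ)
    (fun _ _ => Finset.mem_univ _)]
  apply Finset.sum_congr rfl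
  intro x _
  unfold cInv
  rw [Finset.filter_filter]
  congr 1
  ext j
  simp [Fin.ext_iff, and_comm]

theorem cInv_eq_zero (α β : Fin n → ℕ) (hα : ∑ i, α i = n) (hβ : ∑ i, β i = n)
    (σ : Equiv.Perm (Fin n)) (x y : ℕ) (h : ¬ (x < n ∧ y < n)) :
    cInv (Cfsg.compLabel α) (Cfsg.compLabel β) σ x y = 0 := by
  classical
  unfold cInv
  rw [Finset.card_eq_zero, Finset.filter_eq_empty_iff]
  rintro j - ⟨h1, h2⟩
  apply h
  rw [← h1, ← h2]
  exact ⟨compLabel_lt α hα _, compLabel_lt β hβ _⟩

/-- The contingency tables of permutations are exactly the matrices with the given margins. -/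
theorem card_range_cInv (α β : Fin n → ℕ) (hα : ∑ i, α i = n) (hβ : ∑ i, β i = n) :
    Nat.card (Set.range fun σ : Equiv.Perm (Fin n) =>
        cInv (Cfsg.compLabel α) (Cfsg.compLabel β) σ) =
      Nat.card {M : Fin n → Fin n → ℕ // (∀ x, ∑ y, M x y = α x) ∧ (∀ y, ∑ x, M x y = β y)} := by
  classical
  have hrow : ∀ c : Set.range fun σ : Equiv.Perm (Fin n) =>
      cInv (Cfsg.compLabel α) (Cfsg.compLabel β) σ,
      (∀ x : Fin n, ∑ y : Fin n, c.1 x.val y.val = α x) ∧
        (∀ y : Fin n, ∑ x : Fin n, c.1 x.val y.val = β y) := by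
    rintro ⟨c, σ, rfl⟩
    exact ⟨fun x => cInv_row_sum α β hα hβ σ x, fun y => cInv_col_sum α β hα hβ σ y⟩
  apply Nat.card_congr
  refine Equiv.ofBijective (fun c => ⟨fun x y => c.1 x.val y.val, hrow c⟩) ⟨?_, ?_⟩
  · rintro ⟨c, σ, rfl⟩ ⟨c', σ', rfl⟩ h
    apply Subtype.ext
    funext x y
    have h' := congrArg Subtype.val h
    by_cases hxy : x < n ∧ y < n
    · exact congrFun (congrFun h' ⟨x, hxy.1⟩) ⟨y, hxy.2⟩
    · show cInv _ _ σ x y = cInv _ _ σ' x y
      rw [cInv_eq_zero α β hα hβ σ x y hxy, cInv_eq_zero α β hα hβ σ' x y hxy]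
  · rintro ⟨M, hM1, hM2⟩
    have hf1 : ∀ t : ℕ, Fintype.card {i : Fin n // Cfsg.compLabel α i = t} =
        Fintype.card {z : (Σ p : Fin n × Fin n, Fin (M p.1 p.2)) // z.1.1.val = t} := by
      intro t
      rw [card_sigma_fin_subtype (fun p : Fin n × Fin n => M p.1 p.2) (fun p => p.1.val = t),
        Fintype.sum_prod_type]
      by_cases ht : t < n
      · rw [card_fiber α hα t ht, ← hM1 ⟨t, ht⟩]
        symm
        rw [Finset.sum_eq_single (⟨t, ht⟩ : Fin n)]
        · simp
        · intro x _ hx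
          have : x.val ≠ t := fun h => hx (Fin.ext h)
          simp [this]
        · simp
      · rw [Fintype.card_eq_zero_iff.mpr ⟨fun i : {i : Fin n // Cfsg.compLabel α i = t} =>
          ht (i.2 ▸ compLabel_lt α hα i.1)⟩]
        symm
        apply Finset.sum_eq_zero
        intro x _
        apply Finset.sum_eq_zero
        intro y _
        have : x.val ≠ t := fun h => ht (h ▸ x.isLt)
        simp [this]
    have hf2 : ∀ t : ℕ, Fintype.card {i : Fin n // Cfsg.compLabel β i = t} =
        Fintype.card {z : (Σ p : Fin n × Fin n, Fin (M p.1 p.2)) // z.1.2.val = t} := by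
      intro t
      rw [card_sigma_fin_subtype (fun p : Fin n × Fin n => M p.1 p.2) (fun p => p.2.val = t),
        Fintype.sum_prod_type_right]
      by_cases ht : t < n
      · rw [card_fiber β hβ t ht, ← hM2 ⟨t, ht⟩]
        symm
        rw [Finset.sum_eq_single (⟨t, ht⟩ : Fin n)]
        · simp
        · intro x _ hx
          have : x.val ≠ t := fun h => hx (Fin.ext h)
          simp [this]
        · simp
      · rw [Fintype.card_eq_zero_iff.mpr ⟨fun i : {i : Fin n // Cfsg.compLabel β i = t} =>
          ht (i.2 ▸ compLabel_lt β hβ i.1)⟩]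
        symm
        apply Finset.sum_eq_zero
        intro x _
        apply Finset.sum_eq_zero
        intro y _
        have : x.val ≠ t := fun h => ht (h ▸ x.isLt)
        simp [this]
    obtain ⟨e₁, he₁⟩ := exists_equiv_of_fiber_card_eq (fun i : Fin n => Cfsg.compLabel α i)
      (fun z : (Σ p : Fin n × Fin n, Fin (M p.1 p.2)) => z.1.1.val) hf1
    obtain ⟨e₂, he₂⟩ := exists_equiv_of_fiber_card_eq (fun i : Fin n => Cfsg.compLabel β i)
      (fun z : (Σ p : Fin n × Fin n, Fin (M p.1 p.2)) => z.1.2.val) hf2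
    refine ⟨⟨cInv _ _ (e₂.trans e₁.symm), ⟨e₂.trans e₁.symm, rfl⟩⟩, ?_⟩
    apply Subtype.ext
    funext x y
    show cInv (Cfsg.compLabel α) (Cfsg.compLabel β) (e₂.trans e₁.symm) x.val y.val = M x y
    unfold cInv
    have hiff : ∀ j : Fin n, (Cfsg.compLabel α ((e₂.trans e₁.symm) j) = x.val ∧
        Cfsg.compLabel β j = y.val) ↔ (e₂ j).1 = (x, y) := by
      intro j
      have h1 := he₁ ((e₂.trans e₁.symm) j)
      have h2 := he₂ j
      simp only [Equiv.trans_apply, Equiv.apply_symm_apply] at h1
      rw [Equiv.trans_apply, ← h1, ← h2]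
      simp [Prod.ext_iff, Fin.ext_iff]
    rw [Finset.filter_congr (fun j _ => hiff j), ← Fintype.card_subtype]
    have hc : Fintype.card {j : Fin n // (e₂ j).1 = (x, y)} =
        Fintype.card {z : (Σ p : Fin n × Fin n, Fin (M p.1 p.2)) // z.1 = (x, y)} :=
      Fintype.card_congr (e₂.subtypeEquiv (fun j => Iff.rfl))
    rw [hc, card_sigma_fin_subtype (fun p : Fin n × Fin n => M p.1 p.2) (fun p => p = (x, y))]
    simp

end contingency

end Cfsg.Agent.Lib.helper45
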