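import Mathlib

/-!
# A Jacobi–Trudi identity (helper45)

In `ℤ[X_0, …, X_{n-1}]`: with `h_d` the complete homogeneous symmetric polynomials,
`det (X_i ^ μ_j) = det (X_i ^ j) * det (h_{μ_j - k})`.  As a consequence the alternating sums of
numbers of contingency tables are orthonormal (`jt_sum`).
-/

set_option autoImplicit false

namespace Cfsg.Agent.Lib.helper45

section jt

variable {n : ℕ}

/-- The geometric series `1/(1 - a t)`. -/
noncomputable def geomPS {R : Type*} [CommRing R] (a : R) : PowerSeries R :=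
  PowerSeries.mk fun j => a ^ j

theorem geomPS_mul {R : Type*} [CommRing R] (a : R) :
    geomPS a * (1 - PowerSeries.C a * PowerSeries.X) = 1 := by
  ext m
  rw [mul_sub, mul_one, map_sub, ← mul_assoc, mul_comm (geomPS a) (PowerSeries.C a), mul_assoc]
  cases m with
  | zero => simp [geomPS]
  | succ m => simp [geomPS, pow_succ, mul_comm]

/-- The complete homogeneous symmetric polynomial of degree `d` in `n` variables. -/
noncomputable def hPoly (n : ℕ) (d : ℕ) : MvPolynomial (Fin n) ℤ :=
  PowerSeries.coeff d (∏ l : Fin n, geomPS (MvPolynomial.X l))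

/-- `∏_{l ≠ i} (1 - X_l t)`. -/
noncomputable def ePoly (i : Fin n) : Polynomial (MvPolynomial (Fin n) ℤ) :=
  ∏ l ∈ Finset.univ.erase i, (1 - Polynomial.C (MvPolynomial.X l) * Polynomial.X)

theorem ePoly_coe (i : Fin n) :
    ((ePoly i : Polynomial (MvPolynomial (Fin n) ℤ)) : PowerSeries (MvPolynomial (Fin n) ℤ)) =
      ∏ l ∈ Finset.univ.erase i, (1 - PowerSeries.C (MvPolynomial.X l) * PowerSeries.X) := by
  unfold ePoly
  rw [← Polynomial.coeToPowerSeries.ringHom_apply, map_prod]
  apply Finset.prod_congr rfl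
  intro l _
  simp

theorem hs_mul_ePoly (i : Fin n) :
    (∏ l : Fin n, geomPS (MvPolynomial.X l : MvPolynomial (Fin n) ℤ)) *
      ((ePoly i : Polynomial (MvPolynomial (Fin n) ℤ)) : PowerSeries (MvPolynomial (Fin n) ℤ)) =
      geomPS (MvPolynomial.X i) := by
  rw [ePoly_coe, ← Finset.mul_prod_erase Finset.univ _ (Finset.mem_univ i), mul_assoc,
    ← Finset.prod_mul_distrib, Finset.prod_eq_one (fun l _ => geomPS_mul _), mul_one]

theorem ePoly_coeff_eq_zero (i : Fin n) (k : ℕ) (hk : n ≤ k) : (ePoly i).coeff k = 0 := by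
  apply Polynomial.coeff_eq_zero_of_natDegree_lt
  have h1 : (ePoly i).natDegree ≤ ∑ l ∈ (Finset.univ : Finset (Fin n)).erase i, 1 := by
    refine (Polynomial.natDegree_prod_le _ _).trans (Finset.sum_le_sum fun l _ => ?_)
    compute_degree
  have h2 : ∑ l ∈ (Finset.univ : Finset (Fin n)).erase i, 1 = n - 1 := by
    simp
  have := i.pos
  omega

theorem pow_eq_sum (i : Fin n) (m : ℕ) :
    (MvPolynomial.X i : MvPolynomial (Fin n) ℤ) ^ m =
      ∑ k : Fin n, (ePoly i).coeff k.val * (if k.val ≤ m then hPoly n (m - k.val) else 0) := by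
  have h := congrArg (PowerSeries.coeff m) (hs_mul_ePoly i)
  rw [mul_comm, PowerSeries.coeff_mul, Finset.Nat.sum_antidiagonal_eq_sum_range_succ_mk] at h
  simp only [Polynomial.coeff_coe] at h
  have h' : PowerSeries.coeff m (geomPS (MvPolynomial.X i : MvPolynomial (Fin n) ℤ)) =
      MvPolynomial.X i ^ m := by simp [geomPS]
  rw [h'] at h
  rw [← h, ← Finset.sum_range (fun k => (ePoly i).coeff k * (if k ≤ m then hPoly n (m - k) else 0))]
  apply Finset.sum_congr_of_eq_on_inter
  · intro k _ hk
    rw [ePoly_coeff_eq_zero i k (by simpa using hk), zero_mul]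
  · intro k _ hk
    have : ¬ k ≤ m := by
      intro h
      exact hk (Finset.mem_range.mpr (by omega))
    rw [if_neg this, mul_zero]
  · intro k hk _
    have : k ≤ m := by
      have := Finset.mem_range.mp hk
      omega
    rw [if_pos this]
    rfl

/-- The alternant matrix `(X_i ^ μ_j)`. -/
noncomputable def altMat (μ : Fin n → ℕ) : Matrix (Fin n) (Fin n) (MvPolynomial (Fin n) ℤ) :=
  Matrix.of fun i j => MvPolynomial.X i ^ μ j

/-- The Jacobi–Trudi matrix `(h_{μ_j - k})`. -/
noncomputable def hMat (μ : Fin n → ℕ) : Matrix (Fin n) (Fin n) (MvPolynomial (Fin n) ℤ) :=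
  Matrix.of fun k j => if k.val ≤ μ j then hPoly n (μ j - k.val) else 0

noncomputable def eMat (n : ℕ) : Matrix (Fin n) (Fin n) (MvPolynomial (Fin n) ℤ) :=
  Matrix.of fun i k => (ePoly i).coeff k.val

theorem altMat_eq (μ : Fin n → ℕ) : altMat μ = eMat n * hMat μ := by
  apply Matrix.ext
  intro i j
  simp only [altMat, eMat, hMat, Matrix.mul_apply, Matrix.of_apply]
  exact pow_eq_sum i (μ j)

theorem hPoly_eq (d : ℕ) :
    hPoly n d = ∑ e ∈ Finset.finsuppAntidiag Finset.univ d, MvPolynomial.monomial e 1 := by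
  classical
  unfold hPoly
  rw [PowerSeries.coeff_prod]
  apply Finset.sum_congr rfl
  intro e _
  rw [MvPolynomial.monomial_eq, Finsupp.prod_fintype _ _ (fun _ => pow_zero _)]
  simp [geomPS]

theorem hPoly_zero : hPoly n 0 = 1 := by
  unfold hPoly
  rw [PowerSeries.coeff_zero_eq_constantCoeff_apply, map_prod]
  simp [geomPS]

theorem det_hMat_delta : (hMat (fun j : Fin n => j.val)).det = 1 := by
  rw [Matrix.det_of_isUpperTriangular]
  · simp [hMat, hPoly_zero]
  · intro i j hij
    simp only [hMat, Matrix.of_apply]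
    rw [if_neg]
    intro h
    exact absurd hij (not_lt.mpr h)

/-- Jacobi–Trudi. -/
theorem det_altMat (μ : Fin n → ℕ) :
    (altMat μ).det = (altMat (fun j : Fin n => j.val)).det * (hMat μ).det := by
  rw [altMat_eq μ, altMat_eq (fun j => j.val), Matrix.det_mul, Matrix.det_mul, det_hMat_delta,
    mul_one]

/-- The coefficients of a product of complete homogeneous polynomials count contingency tables. -/
theorem coeff_prod_hPoly (α β : Fin n → ℕ) :
    MvPolynomial.coeff (Finsupp.equivFunOnFinite.symm α) (∏ j : Fin n, hPoly n (β j)) =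
      (Nat.card {M : Fin n → Fin n → ℕ // (∀ x, ∑ y, M x y = α x) ∧ (∀ y, ∑ x, M x y = β y)} : ℤ) := by
  classical
  simp only [hPoly_eq]
  rw [Finset.prod_univ_sum]
  have h1 : ∀ p : Fin n → (Fin n →₀ ℕ), ∏ j, MvPolynomial.monomial (p j) (1 : ℤ) =
      MvPolynomial.monomial (∑ j, p j) 1 := by
    intro p
    rw [MvPolynomial.monomial_sum_index]
    simp
  simp only [h1, MvPolynomial.coeff_sum, MvPolynomial.coeff_monomial]
  rw [Finset.sum_boole]
  congr 1
  rw [← Fintype.card_coe, ← Nat.card_eq_fintype_card]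
  apply Nat.card_congr
  refine
    { toFun := fun p => ⟨fun x y => p.1 y x, ?_, ?_⟩
      invFun := fun M => ⟨fun y => Finsupp.equivFunOnFinite.symm (fun x => M.1 x y), ?_⟩
      left_inv := ?_
      right_inv := ?_ }
  · intro x
    have h := (Finset.mem_filter.mp p.2).2
    have h2 := DFunLike.congr_fun h x
    rw [Finsupp.finsetSum_apply] at h2
    simpa using h2
  · intro y
    have h := Fintype.mem_piFinset.mp (Finset.mem_filter.mp p.2).1 y
    exact (Finset.mem_finsuppAntidiag.mp h).1
  · rw [Finset.mem_filter, Fintype.mem_piFinset]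
    constructor
    · intro y
      rw [Finset.mem_finsuppAntidiag]
      refine ⟨?_, Finset.subset_univ _⟩
      simpa using M.2.2 y
    · ext x
      rw [Finsupp.finsetSum_apply]
      simpa using M.2.1 x
  · intro p
    apply Subtype.ext
    funext y
    ext x
    rfl
  · intro M
    apply Subtype.ext
    funext x y
    rfl

theorem prod_X_pow (f : Fin n → ℕ) :
    ∏ i, (MvPolynomial.X i : MvPolynomial (Fin n) ℤ) ^ f i =
      MvPolynomial.monomial (Finsupp.equivFunOnFinite.symm f) 1 := by
  rw [MvPolynomial.monomial_eq, Finsupp.prod_fintype _ _ (fun _ => pow_zero _)]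
  simp

theorem det_altMat_eq (μ : Fin n → ℕ) :
    (altMat μ).det = ∑ σ : Equiv.Perm (Fin n),
      MvPolynomial.monomial (Finsupp.equivFunOnFinite.symm fun i => μ (σ i))
        ((Equiv.Perm.sign σ : ℤ) : ℤ) := by
  rw [← Matrix.det_transpose, Matrix.det_apply']
  apply Finset.sum_congr rfl
  intro σ _
  have h : ∏ i, (altMat μ).transpose (σ i) i =
      MvPolynomial.monomial (Finsupp.equivFunOnFinite.symm fun i => μ (σ i)) 1 := by
    rw [← prod_X_pow]
    rfl
  rw [h, ← eq_intCast (MvPolynomial.C (σ := Fin n) (R := ℤ)), MvPolynomial.C_mul_monomial, mul_one]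

theorem det_hMat (μ : Fin n → ℕ) :
    (hMat μ).det = ∑ σ : Equiv.Perm (Fin n), if ∀ j, (σ j).val ≤ μ j then
      MvPolynomial.C ((Equiv.Perm.sign σ : ℤ) : ℤ) * ∏ j, hPoly n (μ j - (σ j).val) else 0 := by
  classical
  rw [Matrix.det_apply']
  apply Finset.sum_congr rfl
  intro σ _
  simp only [hMat, Matrix.of_apply]
  rw [Finset.prod_ite_zero, eq_intCast (MvPolynomial.C (σ := Fin n) (R := ℤ))]
  by_cases h : ∀ j, (σ j).val ≤ μ j
  · rw [if_pos h, if_pos (fun j _ => h j)]
  · rw [if_neg h, if_neg (fun h' => h (fun j => h' j (Finset.mem_univ j))), mul_zero]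

/-- A strictly monotone permutation of `Fin n` is the identity. -/
theorem perm_eq_one_of_strictMono (σ : Equiv.Perm (Fin n)) (h : StrictMono σ) : σ = 1 := by
  have h' : StrictMono σ.symm := by
    intro i j hij
    by_contra hc
    have := h.monotone (not_lt.mp hc)
    simp only [Equiv.apply_symm_apply] at this
    exact absurd hij (not_lt.mpr this)
  ext i
  have h1 : i ≤ σ i := h.le_apply
  have h2 : σ i ≤ σ.symm (σ i) := h'.le_apply
  rw [Equiv.symm_apply_apply] at h2
  exact congrArg Fin.val (le_antisymm h2 h1)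

/-- Orthonormality of the alternating sums of numbers of contingency tables. -/
theorem jt_sum (lam lam' : Fin n → ℕ) (hlam : StrictMono lam) (hlam' : StrictMono lam') :
    ∑ κ : Equiv.Perm (Fin n), ∑ κ' : Equiv.Perm (Fin n),
      (if (∀ i, (κ i).val ≤ lam i) then (if (∀ i, (κ' i).val ≤ lam' i) then
        ((Equiv.Perm.sign κ : ℤ) * (Equiv.Perm.sign κ' : ℤ) *
          (Nat.card {M : Fin n → Fin n → ℕ // (∀ x, ∑ y, M x y = lam x - (κ x).val) ∧
            (∀ y, ∑ x, M x y = lam' y - (κ' y).val)} : ℤ)) else 0) else 0) =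
      if lam = lam' then 1 else 0 := by
  classical
  have hA : MvPolynomial.coeff (Finsupp.equivFunOnFinite.symm lam) (altMat lam').det =
      if lam = lam' then 1 else 0 := by
    rw [det_altMat_eq, MvPolynomial.coeff_sum]
    simp only [MvPolynomial.coeff_monomial]
    have hiff : ∀ σ : Equiv.Perm (Fin n),
        (Finsupp.equivFunOnFinite.symm (fun i => lam' (σ i)) = Finsupp.equivFunOnFinite.symm lam) ↔
          (σ = 1 ∧ lam = lam') := by
      intro σ
      constructor
      · intro h
        have h1 : (fun i => lam' (σ i)) = lam := Finsupp.equivFunOnFinite.symm.injective h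
        have h2 : StrictMono σ := by
          intro i j hij
          have := hlam hij
          rw [← h1] at this
          exact hlam'.lt_iff_lt.mp this
        have h3 := perm_eq_one_of_strictMono σ h2
        subst h3
        exact ⟨rfl, h1.symm⟩
      · rintro ⟨rfl, rfl⟩
        rfl
    simp only [hiff]
    by_cases h : lam = lam'
    · simp [h]
    · simp [h]
  have hB : MvPolynomial.coeff (Finsupp.equivFunOnFinite.symm lam)
      ((altMat (fun j : Fin n => j.val)).det * (hMat lam').det) =
      ∑ κ : Equiv.Perm (Fin n), ∑ κ' : Equiv.Perm (Fin n),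
      (if (∀ i, (κ i).val ≤ lam i) then (if (∀ i, (κ' i).val ≤ lam' i) then
        ((Equiv.Perm.sign κ : ℤ) * (Equiv.Perm.sign κ' : ℤ) *
          (Nat.card {M : Fin n → Fin n → ℕ // (∀ x, ∑ y, M x y = lam x - (κ x).val) ∧
            (∀ y, ∑ x, M x y = lam' y - (κ' y).val)} : ℤ)) else 0) else 0) := by
    rw [det_altMat_eq, Finset.sum_mul, MvPolynomial.coeff_sum]
    apply Finset.sum_congr rfl
    intro κ _
    rw [MvPolynomial.coeff_monomial_mul']
    have hle : (Finsupp.equivFunOnFinite.symm (fun i : Fin n => (κ i).val) ≤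
        Finsupp.equivFunOnFinite.symm lam) ↔ ∀ i, (κ i).val ≤ lam i := by
      rw [Finsupp.le_def]
      rfl
    have hsub : Finsupp.equivFunOnFinite.symm lam -
        Finsupp.equivFunOnFinite.symm (fun i : Fin n => (κ i).val) =
        Finsupp.equivFunOnFinite.symm (fun i : Fin n => lam i - (κ i).val) := by
      ext i
      simp [Finsupp.tsub_apply]
    by_cases hκ : ∀ i, (κ i).val ≤ lam i
    · rw [if_pos (hle.mpr hκ), hsub, det_hMat, MvPolynomial.coeff_sum, Finset.mul_sum]
      apply Finset.sum_congr rfl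
      intro κ' _
      rw [if_pos hκ]
      by_cases hκ' : ∀ i, (κ' i).val ≤ lam' i
      · rw [if_pos hκ', if_pos hκ', MvPolynomial.coeff_C_mul, coeff_prod_hPoly]
        ring
      · rw [if_neg hκ', if_neg hκ', MvPolynomial.coeff_zero, mul_zero]
    · rw [if_neg (fun h => hκ (hle.mp h))]
      symm
      apply Finset.sum_eq_zero
      intro κ' _
      rw [if_neg hκ]
  rw [← hB, ← det_altMat, hA]

end jt

end Cfsg.Agent.Lib.helper45
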