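import Mathlib
import Cfsg.Prelude.Def_LinearParabolics
import Cfsg.Agent.Lib.helper45.Parabolic

set_option autoImplicit false
set_option linter.unusedSectionVars false

namespace Cfsg.Agent.Lib.helper45

open Matrix Polynomial
open scoped MatrixGroups

/-- The `q`-integer `[k] = 1 + q + ⋯ + q^(k-1)`. -/
def gs (q k : ℕ) : ℕ := ∑ l ∈ Finset.range k, q ^ l

/-- The falling `q`-factorial `[λ][λ-1]⋯[λ-c+1]`. -/
def ff (q lam c : ℕ) : ℕ := ∏ t ∈ Finset.range c, gs q (lam - t)

theorem qfac_eq (q k : ℕ) : qfac q k = ∏ j ∈ Finset.range k, gs q (j + 1) := rfl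

theorem qfac_eq_mul_ff (q lam c : ℕ) (h : c ≤ lam) : qfac q lam = qfac q (lam - c) * ff q lam c := by
  induction c with
  | zero => simp [ff]
  | succ c ih =>
    have h1 := ih (by omega)
    have e : lam - c = (lam - (c + 1)) + 1 := by omega
    have hff : ff q lam (c + 1) = ff q lam c * gs q (lam - c) := by
      unfold ff
      rw [Finset.prod_range_succ]
    have h2 : qfac q (lam - c) = qfac q (lam - (c + 1)) * gs q (lam - c) := by
      conv_lhs => rw [e, qfac_eq, Finset.prod_range_succ, ← qfac_eq]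
      rw [← e]
    rw [h1, hff, h2]
    ring

theorem ff_eq_zero (q lam c : ℕ) (h : lam < c) : ff q lam c = 0 := by
  unfold ff
  apply Finset.prod_eq_zero (Finset.mem_range.mpr h)
  simp [gs]

theorem gs_split (q lam t : ℕ) (h : t ≤ lam) : gs q lam = gs q t + q ^ t * gs q (lam - t) := by
  unfold gs
  have e : lam = t + (lam - t) := by omega
  conv_lhs => rw [e, Finset.sum_range_add]
  congr 1
  rw [Finset.mul_sum]
  apply Finset.sum_congr rfl
  intro x _
  rw [pow_add]

theorem pow_tri_mul_ff (q lam c : ℕ) :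
    (q : ℂ) ^ tri c * (ff q lam c : ℂ) = ∏ t ∈ Finset.range c, ((gs q lam : ℂ) - (gs q t : ℂ)) := by
  rcases Nat.lt_or_ge lam c with h | h
  · rw [ff_eq_zero q lam c h, Nat.cast_zero, mul_zero]
    symm
    apply Finset.prod_eq_zero (Finset.mem_range.mpr h)
    rw [sub_self]
  · have h1 : ∀ t ∈ Finset.range c, ((gs q lam : ℂ) - (gs q t : ℂ)) = (q : ℂ) ^ t * (gs q (lam - t) : ℂ) := by
      intro t ht
      rw [Finset.mem_range] at ht
      rw [gs_split q lam t (by omega)]
      push_cast
      ring
    rw [Finset.prod_congr rfl h1, Finset.prod_mul_distrib, Finset.prod_pow_eq_pow_sum]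
    unfold ff tri
    push_cast
    rfl

theorem sum_tri (n : ℕ) : ∑ c ∈ Finset.range n, tri c = n * (n - 1) * (n - 2) / 6 := by
  have key : ∀ m : ℕ, (∑ c ∈ Finset.range (m + 2), tri c) * 6 = (m + 2) * (m + 1) * m := by
    intro m
    induction m with
    | zero => simp [Finset.sum_range_succ, tri]
    | succ m ih =>
      rw [Finset.sum_range_succ, add_mul, ih]
      have h := tri_mul_two_add (m + 2)
      nlinarith [h]
  rcases n with _ | _ | m
  · simp
  · simp [tri]
  · symm
    apply Nat.div_eq_of_eq_mul_left (by norm_num)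
    rw [key m]
    simp only [Nat.add_sub_cancel]
    have : m + 1 + 1 - 2 = m := by omega
    rw [this]

section degree

variable {F : Type*} [Field F] [Fintype F] {n : ℕ}

theorem fixedPointCharacter_one {G : Type*} [Group G] (H : Subgroup G) :
    Cfsg.fixedPointCharacter H 1 = (Nat.card (G ⧸ H) : ℂ) := by
  unfold Cfsg.fixedPointCharacter
  rw [MulAction.fixedBy_one_eq_univ]
  congr 1
  exact Nat.card_congr (Equiv.Set.univ _)

/-- The degree of the unipotent character of a partition, times the product of the `q`-factorials of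
the `λ_i`. -/
theorem unipotent_degree_mul (ν : Fin n → ℕ) (hsum : ∑ i, ν i = n) :
    Cfsg.unipotentCharacterGL n F ν 1 *
        ∏ i : Fin n, (qfac (Fintype.card F) (ν i + i.val) : ℂ) =
      (qfac (Fintype.card F) n : ℂ) * ∑ κ : Equiv.Perm (Fin n), ((Equiv.Perm.sign κ : ℤ) : ℂ) *
        ∏ i : Fin n, (ff (Fintype.card F) (ν i + i.val) (κ i).val : ℂ) := by
  unfold Cfsg.unipotentCharacterGL
  rw [Finset.sum_mul, Finset.mul_sum]
  apply Finset.sum_congr rfl
  intro κ _
  split_ifs with h
  · -- the composition has sum `n`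
    have hμ : ∑ i : Fin n, (ν i + i.val - (κ i).val) = n := by
      have h1 : ∑ i : Fin n, (ν i + i.val - (κ i).val) + ∑ i : Fin n, (κ i).val =
          ∑ i : Fin n, ν i + ∑ i : Fin n, i.val := by
        rw [← Finset.sum_add_distrib, ← Finset.sum_add_distrib]
        apply Finset.sum_congr rfl
        intro i _
        have := h i
        omega
      have h2 : ∑ i : Fin n, (κ i).val = ∑ i : Fin n, i.val := Equiv.sum_comp κ (fun i => i.val)
      omega
    have hidx := index_parabolicGL (F := F) (fun i => ν i + i.val - (κ i).val) hμ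
    rw [fixedPointCharacter_one]
    have hfac : ∏ i : Fin n, (qfac (Fintype.card F) (ν i + i.val) : ℂ) =
        (∏ i : Fin n, (qfac (Fintype.card F) (ν i + i.val - (κ i).val) : ℂ)) *
          ∏ i : Fin n, (ff (Fintype.card F) (ν i + i.val) (κ i).val : ℂ) := by
      rw [← Finset.prod_mul_distrib]
      apply Finset.prod_congr rfl
      intro i _
      rw [qfac_eq_mul_ff _ _ _ (h i)]
      push_cast
      rfl
    rw [hfac, ← hidx]
    push_cast
    ring
  · rw [zero_mul]
    rw [not_forall] at h
    obtain ⟨i, hi⟩ := h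
    rw [not_le] at hi
    have : (∏ i : Fin n, (ff (Fintype.card F) (ν i + i.val) (κ i).val : ℂ)) = 0 := by
      apply Finset.prod_eq_zero (Finset.mem_univ i)
      rw [ff_eq_zero _ _ _ hi, Nat.cast_zero]
    rw [this, mul_zero, mul_zero]

/-- The alternating sum of falling `q`-factorials is a Vandermonde determinant. -/
theorem sum_sign_ff (q : ℕ) (lam : Fin n → ℕ) :
    (q : ℂ) ^ (n * (n - 1) * (n - 2) / 6) * ∑ κ : Equiv.Perm (Fin n), ((Equiv.Perm.sign κ : ℤ) : ℂ) *
        ∏ i : Fin n, (ff q (lam i) (κ i).val : ℂ) =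
      ∏ i : Fin n, ∏ j ∈ Finset.univ.filter (fun j : Fin n => i < j),
        ((gs q (lam j) : ℂ) - (gs q (lam i) : ℂ)) := by
  let p : Fin n → ℂ[X] := fun c => ∏ t ∈ Finset.range c.val, (X - C (gs q t : ℂ))
  have hdeg : ∀ c, (p c).natDegree = c := by
    intro c
    simp only [p]
    rw [natDegree_prod_of_monic _ _ (fun t _ => monic_X_sub_C _)]
    simp only [natDegree_X_sub_C]
    simp
  have hmonic : ∀ c, Monic (p c) := fun c => monic_prod_of_monic _ _ (fun t _ => monic_X_sub_C _)
  have hV := Matrix.det_eval_matrixOfPolynomials_eq_det_vandermonde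
    (fun i => (gs q (lam i) : ℂ)) p hdeg hmonic
  rw [Matrix.det_vandermonde] at hV
  have hfilter : ∀ i : Fin n, Finset.univ.filter (fun j : Fin n => i < j) = Finset.Ioi i :=
    fun i => Finset.filter_lt_eq_Ioi
  simp only [hfilter]
  rw [hV, ← Matrix.det_transpose, Matrix.det_apply', Finset.mul_sum]
  apply Finset.sum_congr rfl
  intro κ _
  have hterm : ∀ i : Fin n, (Matrix.of fun i j => (p j).eval ((gs q (lam i) : ℂ)))ᵀ (κ i) i =
      (q : ℂ) ^ tri (κ i).val * (ff q (lam i) (κ i).val : ℂ) := by
    intro i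
    rw [Matrix.transpose_apply, Matrix.of_apply, pow_tri_mul_ff]
    simp only [p, eval_prod, eval_sub, eval_X, eval_C]
  rw [Finset.prod_congr rfl (fun i _ => hterm i), Finset.prod_mul_distrib, Finset.prod_pow_eq_pow_sum,
    Equiv.sum_comp κ (fun c : Fin n => tri c.val), Fin.sum_univ_eq_sum_range (fun c => tri c) n, sum_tri]
  ring

end degree

end Cfsg.Agent.Lib.helper45
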