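import Mathlib
import Cfsg.Prelude.Def_LinearParabolics
import Cfsg.Agent.Lib.helper45.Contingency
import Cfsg.Agent.Lib.helper45.JacobiTrudi
import Cfsg.Agent.Lib.helper45.QDegree
import Cfsg.Agent.Lib.helper84.Frobenius
import Cfsg.Agent.Lib.helper19.PermChar
import Cfsg.Agent.Lib.helper4.Induction

/-!
# The unipotent characters of `GL_n(q)` indexed by partitions (helper45)

The alternating sums of flag permutation characters are orthonormal, hence irreducible characters,
pairwise distinct.
-/

set_option autoImplicit false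

namespace Cfsg.Agent.Lib.helper45

open scoped MatrixGroups ComplexConjugate

universe u

section permchar

variable {G : Type u} [Group G] [Fintype G]

/-- A permutation character on cosets is a character. -/
theorem isCharacter_fixedPointCharacter (H : Subgroup G) :
    Cfsg.IsCharacter G (Cfsg.fixedPointCharacter H) := by
  have h : Cfsg.fixedPointCharacter H = Cfsg.indFun H (fun _ => 1) := by
    funext g
    rw [Cfsg.Agent.Lib.helper19.indFun_one_eq]
    rfl
  rw [h]
  exact Cfsg.Agent.Lib.helper4.isCharacter_indFun H Cfsg.Agent.Lib.helper4.isCharacter_one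

omit [Fintype G] in
theorem conj_fixedPointCharacter (H : Subgroup G) (g : G) :
    conj (Cfsg.fixedPointCharacter H g) = Cfsg.fixedPointCharacter H g := by
  unfold Cfsg.fixedPointCharacter
  simp

theorem classInner_sum_sum {ι ι' : Type*} [Fintype ι] [Fintype ι'] (c : ι → ℂ) (P : ι → G → ℂ)
    (c' : ι' → ℂ) (P' : ι' → G → ℂ) (hP' : ∀ j g, conj (P' j g) = P' j g)
    (hc' : ∀ j, conj (c' j) = c' j) :
    Cfsg.classInner (fun g => ∑ i, c i * P i g) (fun g => ∑ j, c' j * P' j g) =
      ∑ i, ∑ j, c i * c' j * ((Nat.card G : ℂ)⁻¹ * ∑ g, P i g * P' j g) := by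
  unfold Cfsg.classInner
  simp only [map_sum, map_mul, hP', hc']
  simp only [Finset.sum_mul_sum]
  simp only [Finset.mul_sum]
  rw [Finset.sum_comm]
  apply Finset.sum_congr rfl
  intro i _
  rw [Finset.sum_comm]
  apply Finset.sum_congr rfl
  intro j _
  apply Finset.sum_congr rfl
  intro g _
  ring

theorem classInner_sum_left {ι : Type*} [Fintype ι] (c : ι → ℂ) (P : ι → G → ℂ) (ψ : G → ℂ) :
    Cfsg.classInner (fun g => ∑ i, c i * P i g) ψ = ∑ i, c i * Cfsg.classInner (P i) ψ := by
  unfold Cfsg.classInner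
  simp only [Finset.sum_mul, Finset.mul_sum]
  rw [Finset.sum_comm]
  apply Finset.sum_congr rfl
  intro i _
  apply Finset.sum_congr rfl
  intro g _
  ring

end permchar

section glue

variable {F : Type u} [Field F] {n : ℕ}

/-- The coefficient of a permutation in the alternating sum. -/
noncomputable def uCoeff (ν : Fin n → ℕ) (κ : Equiv.Perm (Fin n)) : ℂ :=
  if ∀ i : Fin n, (κ i).val ≤ ν i + i.val then ((Equiv.Perm.sign κ : ℤ) : ℂ) else 0

theorem unipotentCharacterGL_eq (ν : Fin n → ℕ) :
    Cfsg.unipotentCharacterGL n F ν = fun g => ∑ κ : Equiv.Perm (Fin n), uCoeff ν κ *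
      Cfsg.fixedPointCharacter (Cfsg.parabolicGL n F fun i => ν i + i.val - (κ i).val) g := by
  funext g
  unfold Cfsg.unipotentCharacterGL uCoeff
  apply Finset.sum_congr rfl
  intro κ _
  rw [ite_mul, zero_mul]

theorem conj_uCoeff (ν : Fin n → ℕ) (κ : Equiv.Perm (Fin n)) : conj (uCoeff ν κ) = uCoeff ν κ := by
  unfold uCoeff
  split_ifs <;> simp

theorem sum_comp_eq (ν : Fin n → ℕ) (hsum : ∑ i, ν i = n) (κ : Equiv.Perm (Fin n))
    (hκ : ∀ i, (κ i).val ≤ ν i + i.val) : ∑ i, (ν i + i.val - (κ i).val) = n := by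
  have h1 : ∑ i, (ν i + i.val - (κ i).val) + ∑ i, (κ i).val = ∑ i, ν i + ∑ i : Fin n, i.val := by
    rw [← Finset.sum_add_distrib, ← Finset.sum_add_distrib]
    apply Finset.sum_congr rfl
    intro i _
    exact Nat.sub_add_cancel (hκ i)
  have h2 : ∑ i, (κ i).val = ∑ i : Fin n, i.val := Equiv.sum_comp κ (fun i => i.val)
  omega

theorem strictMono_shift (ν : Fin n → ℕ) (hν : Monotone ν) : StrictMono fun i : Fin n => ν i + i.val := by
  intro i j hij
  have := hν hij.le
  have : i.val < j.val := hij
  show ν i + i.val < ν j + j.val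
  omega

/-- Orthonormality of the alternating sums. -/
theorem classInner_unipotent [Fintype (GL (Fin n) F)] (ν ν' : Fin n → ℕ) (hν : Monotone ν)
    (hsum : ∑ i, ν i = n) (hν' : Monotone ν') (hsum' : ∑ i, ν' i = n) :
    Cfsg.classInner (Cfsg.unipotentCharacterGL n F ν) (Cfsg.unipotentCharacterGL n F ν') =
      if ν = ν' then 1 else 0 := by
  classical
  rw [unipotentCharacterGL_eq ν, unipotentCharacterGL_eq ν',
    classInner_sum_sum _ _ _ _ (fun κ g => conj_fixedPointCharacter _ g) (conj_uCoeff ν')]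
  have hterm : ∀ κ κ' : Equiv.Perm (Fin n), uCoeff ν κ * uCoeff ν' κ' *
      ((Nat.card (GL (Fin n) F) : ℂ)⁻¹ * ∑ g : GL (Fin n) F,
        Cfsg.fixedPointCharacter (Cfsg.parabolicGL n F fun i => ν i + i.val - (κ i).val) g *
        Cfsg.fixedPointCharacter (Cfsg.parabolicGL n F fun i => ν' i + i.val - (κ' i).val) g) =
      (((if (∀ i, (κ i).val ≤ ν i + i.val) then (if (∀ i, (κ' i).val ≤ ν' i + i.val) then
        ((Equiv.Perm.sign κ : ℤ) * (Equiv.Perm.sign κ' : ℤ) *
          (Nat.card {M : Fin n → Fin n → ℕ // (∀ x, ∑ y, M x y = ν x + x.val - (κ x).val) ∧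
            (∀ y, ∑ x, M x y = ν' y + y.val - (κ' y).val)} : ℤ)) else 0) else 0 : ℤ)) : ℂ) := by
    intro κ κ'
    unfold uCoeff
    by_cases hκ : ∀ i, (κ i).val ≤ ν i + i.val
    · by_cases hκ' : ∀ i, (κ' i).val ≤ ν' i + i.val
      · rw [if_pos hκ, if_pos hκ', if_pos hκ, if_pos hκ', inner_parabolicGL,
          card_range_cInv _ _ (sum_comp_eq ν hsum κ hκ) (sum_comp_eq ν' hsum' κ' hκ')]
        push_cast
        ring
      · rw [if_neg hκ', if_pos hκ, if_neg hκ']
        simp
    · rw [if_neg hκ, if_neg hκ]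
      simp
  simp only [hterm]
  have hjt := jt_sum (fun i : Fin n => ν i + i.val) (fun i : Fin n => ν' i + i.val)
    (strictMono_shift ν hν) (strictMono_shift ν' hν')
  have hiff : ((fun i : Fin n => ν i + i.val) = fun i : Fin n => ν' i + i.val) ↔ ν = ν' := by
    constructor
    · intro h
      funext i
      have := congrFun h i
      simpa using this
    · rintro rfl
      rfl
  simp only [hiff] at hjt
  have hcast := congrArg (fun z : ℤ => (z : ℂ)) hjt
  simp only [Int.cast_sum] at hcast
  rw [hcast]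
  split_ifs <;> simp

theorem isClassFunction_unipotent [Fintype (GL (Fin n) F)] (ν : Fin n → ℕ) :
    Cfsg.IsClassFunction (GL (Fin n) F) (Cfsg.unipotentCharacterGL n F ν) := by
  intro g h
  rw [unipotentCharacterGL_eq ν]
  apply Finset.sum_congr rfl
  intro κ _
  rw [Cfsg.Agent.Lib.helper4.isClassFunction_of_isCharacter (isCharacter_fixedPointCharacter _) g h]

theorem classInner_unipotent_int [Fintype (GL (Fin n) F)] (ν : Fin n → ℕ)
    (χ : Cfsg.IrrCharacter (GL (Fin n) F)) :
    ∃ m : ℤ, Cfsg.classInner (Cfsg.unipotentCharacterGL n F ν) (χ : GL (Fin n) F → ℂ) = m := by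
  classical
  rw [unipotentCharacterGL_eq ν, classInner_sum_left]
  have h : ∀ κ : Equiv.Perm (Fin n), ∃ m : ℕ, Cfsg.classInner
      (Cfsg.fixedPointCharacter (Cfsg.parabolicGL n F fun i => ν i + i.val - (κ i).val))
      (χ : GL (Fin n) F → ℂ) = m := fun κ =>
    Cfsg.Agent.Lib.helper84.classInner_isCharacter_nat (isCharacter_fixedPointCharacter _)
      (Cfsg.Agent.Lib.helper4.isCharacter_of_isIrrCharacter χ.2)
  choose m hm using h
  refine ⟨∑ κ : Equiv.Perm (Fin n),
    (if ∀ i : Fin n, (κ i).val ≤ ν i + i.val then (Equiv.Perm.sign κ : ℤ) else 0) * (m κ : ℤ), ?_⟩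
  rw [Int.cast_sum]
  apply Finset.sum_congr rfl
  intro κ _
  rw [hm κ]
  unfold uCoeff
  split_ifs <;> simp

theorem gs_pos (q k : ℕ) (hq : 0 < q) : 0 < gs q (k + 1) := by
  unfold gs
  apply Finset.sum_pos
  · intro l _
    exact pow_pos hq l
  · exact ⟨0, by simp⟩

theorem gs_strictMono (q : ℕ) (hq : 0 < q) : StrictMono (gs q) := by
  intro k k' hk
  unfold gs
  apply Finset.sum_lt_sum_of_subset (i := k)
  · intro x hx
    have := Finset.mem_range.mp hx
    exact Finset.mem_range.mpr (by omega)
  · exact Finset.mem_range.mpr hk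
  · simp
  · exact pow_pos hq k
  · intro j _ _
    exact Nat.zero_le _

theorem qfac_pos (q k : ℕ) (hq : 0 < q) : 0 < qfac q k := by
  rw [qfac_eq]
  apply Finset.prod_pos
  intro j _
  exact gs_pos q j hq

/-- The degree of the alternating sum is positive. -/
theorem unipotent_degree_pos [Fintype F] (ν : Fin n → ℕ) (hmono : Monotone ν) (hsum : ∑ i, ν i = n) :
    0 < (Cfsg.unipotentCharacterGL n F ν 1).re := by
  have hq : 0 < Fintype.card F := Fintype.card_pos
  have h1 := unipotent_degree_mul (F := F) ν hsum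
  have h2 := sum_sign_ff (n := n) (Fintype.card F) (fun i => ν i + i.val)
  set A : ℝ := (∏ i : Fin n, (qfac (Fintype.card F) (ν i + i.val) : ℝ)) *
    (Fintype.card F : ℝ) ^ (n * (n - 1) * (n - 2) / 6) with hA
  set B : ℝ := (qfac (Fintype.card F) n : ℝ) * ∏ i : Fin n, ∏ j ∈ Finset.univ.filter (fun j : Fin n => i < j),
    ((gs (Fintype.card F) (ν j + j.val) : ℝ) - (gs (Fintype.card F) (ν i + i.val) : ℝ)) with hB
  have hApos : 0 < A := by
    apply mul_pos
    · apply Finset.prod_pos
      intro i _
      exact_mod_cast qfac_pos _ _ hq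
    · apply pow_pos
      exact_mod_cast hq
  have hBpos : 0 < B := by
    apply mul_pos
    · exact_mod_cast qfac_pos _ _ hq
    · apply Finset.prod_pos
      intro i _
      apply Finset.prod_pos
      intro j hj
      have hij : i < j := (Finset.mem_filter.mp hj).2
      have := gs_strictMono _ hq (strictMono_shift ν hmono hij)
      rw [sub_pos]
      exact_mod_cast this
  have hAB : Cfsg.unipotentCharacterGL n F ν 1 * (A : ℂ) = (B : ℂ) := by
    rw [hA, hB]
    push_cast
    rw [← h2, ← mul_assoc, h1]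
    ring
  have hA0 : (A : ℂ) ≠ 0 := by
    exact_mod_cast hApos.ne'
  have hval : Cfsg.unipotentCharacterGL n F ν 1 = ((B / A : ℝ) : ℂ) := by
    push_cast
    rw [eq_div_iff hA0]
    exact hAB
  rw [hval, Complex.ofReal_re]
  exact div_pos hBpos hApos

/-- The alternating sum of flag characters attached to a partition is an irreducible character. -/
theorem isIrrCharacter_unipotent [Fintype F] (ν : Fin n → ℕ) (hmono : Monotone ν)
    (hsum : ∑ i, ν i = n) :
    Cfsg.IsIrrCharacter (GL (Fin n) F) (Cfsg.unipotentCharacterGL n F ν) := by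
  classical
  have : Fintype (GL (Fin n) F) := Fintype.ofFinite _
  apply Cfsg.Agent.Lib.helper84.isIrrCharacter_of_norm_one _ (isClassFunction_unipotent (F := F) ν)
    (classInner_unipotent_int (F := F) ν)
  · rw [classInner_unipotent ν ν hmono hsum hmono hsum, if_pos rfl]
  · exact unipotent_degree_pos ν hmono hsum

/-- Different partitions give different characters. -/
theorem unipotent_injective [Fintype F] (ν ν' : Fin n → ℕ) (hmono : Monotone ν)
    (hsum : ∑ i, ν i = n) (hmono' : Monotone ν') (hsum' : ∑ i, ν' i = n)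
    (h : Cfsg.unipotentCharacterGL n F ν = Cfsg.unipotentCharacterGL n F ν') : ν = ν' := by
  classical
  have : Fintype (GL (Fin n) F) := Fintype.ofFinite _
  have h1 := classInner_unipotent (F := F) ν ν hmono hsum hmono hsum
  have h2 := classInner_unipotent (F := F) ν ν' hmono hsum hmono' hsum'
  rw [← h, h1, if_pos rfl] at h2
  by_contra hne
  rw [if_neg hne] at h2
  exact one_ne_zero h2

end glue

end Cfsg.Agent.Lib.helper45
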