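import Mathlib
import Cfsg.Agent.Lib.helper48.UnitaryConj
import Cfsg.Agent.Lib.helper17.UEichler
import Cfsg.Agent.Lib.helper45.SemisimpleDet

/-! Conjugacy of semisimple elements of `SU_n(q)` with equal characteristic polynomials: conjugacy in `GU`
(helper48 `unitary_conj_core`) and surjectivity of the determinant on the unitary centraliser of a
semisimple unitary matrix. -/

set_option autoImplicit false

namespace Cfsg.Agent.Lib.helper45

open Cfsg Cfsg.Agent.Lib.helper48

section

variable {K : Type*} [Field K] {ι : Type*} [Fintype ι] [DecidableEq ι]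

/-- An invertible sesquilinear form `P` admits an invertible Hermitian form invariant under every
isometry of `P` (after helper48 `unitary_form_core`). -/
theorem unitary_form_core' [Finite K] (σ : K →+* K) (hσ2 : ∀ a, σ (σ a) = a) (θ₀ : K)
    (hθ₀ : σ θ₀ ≠ θ₀) (P : Matrix ι ι K) (hP : IsUnit P) :
    ∃ X : Matrix ι ι K, IsUnit X ∧ cstar σ X = X ∧
      ∀ a : Matrix ι ι K, IsUnit a → cstar σ a * P * a = P → cstar σ a * X * a = X := by
  classical
  obtain ⟨Pi, hPi⟩ := hP.exists_right_inv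
  have hPi' : Pi * P = 1 := mul_eq_one_comm.mp hPi
  obtain ⟨Y, hY⟩ : ∃ Y, Y = Pi * cstar σ P := ⟨_, rfl⟩
  obtain ⟨Yi, hYi⟩ : ∃ Yi, Yi = cstar σ Pi * P := ⟨_, rfl⟩
  have hPP : cstar σ P * cstar σ Pi = 1 := cstar_mul_eq_one σ hPi'
  have hYYi : Y * Yi = 1 := by
    calc Y * Yi = Pi * (cstar σ P * cstar σ Pi) * P := by
          rw [hY, hYi]; simp only [Matrix.mul_assoc]
      _ = 1 := by rw [hPP, Matrix.mul_one, hPi']
  have hYiY : Yi * Y = 1 := mul_eq_one_comm.mp hYYi
  let T : Matrix ι ι K → Matrix ι ι K := fun Z => Pi * cstar σ Z * P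
  have hTdef : ∀ Z, T Z = Pi * cstar σ Z * P := fun Z => rfl
  have hTadd : ∀ x y, T (x + y) = T x + T y := by
    intro x y
    simp only [hTdef, cstar_add, Matrix.mul_add, Matrix.add_mul]
  have hTmul : ∀ x y, T (x * y) = T y * T x := by
    intro x y
    calc T (x * y) = Pi * cstar σ y * 1 * cstar σ x * P := by
          rw [hTdef, cstar_mul, Matrix.mul_one]; simp only [Matrix.mul_assoc]
      _ = T y * T x := by rw [← hPi, hTdef, hTdef]; simp only [Matrix.mul_assoc]
  have hTalg : ∀ c : K, T (algebraMap K (Matrix ι ι K) c) = algebraMap K (Matrix ι ι K) (σ c) := by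
    intro c
    rw [hTdef, cstar_algebraMap, Matrix.mul_assoc, Algebra.commutes, ← Matrix.mul_assoc, hPi',
      Matrix.one_mul]
  have hTY : T Y = Yi := by
    calc T Y = Pi * (P * cstar σ Pi) * P := by
          rw [hTdef, hY, cstar_mul, cstar_cstar σ hσ2]
      _ = (Pi * P) * cstar σ Pi * P := by simp only [Matrix.mul_assoc]
      _ = Yi := by rw [hPi', Matrix.one_mul, hYi]
  have hTYi : T Yi = Y := by
    calc T Yi = Pi * (cstar σ P * Pi) * P := by
          rw [hTdef, hYi, cstar_mul, cstar_cstar σ hσ2]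
      _ = Pi * cstar σ P * (Pi * P) := by simp only [Matrix.mul_assoc]
      _ = Y := by rw [hPi', Matrix.mul_one, hY]
  let S : Subalgebra K (Matrix ι ι K) := Algebra.adjoin K {Y, Yi}
  have hYS : Y ∈ S := Algebra.subset_adjoin (by simp)
  have hYiS : Yi ∈ S := Algebra.subset_adjoin (by simp)
  have hcS : ∀ x ∈ S, ∀ y ∈ S, x * y = y * x := by
    have hc := Algebra.isMulCommutative_adjoin K (s := ({Y, Yi} : Set (Matrix ι ι K))) (by
      intro x hx y hy
      rw [Set.mem_insert_iff, Set.mem_singleton_iff] at hx hy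
      rcases hx with rfl | rfl <;> rcases hy with rfl | rfl <;> simp [hYYi, hYiY])
    intro x hx y hy
    have := (isMulCommutative_iff.mp hc) ⟨x, hx⟩ ⟨y, hy⟩
    exact congrArg Subtype.val this
  have hST : ∀ x ∈ S, T x ∈ S := by
    intro x hx
    induction hx using Algebra.adjoin_induction with
    | mem x hx =>
      rw [Set.mem_insert_iff, Set.mem_singleton_iff] at hx
      rcases hx with rfl | rfl
      · rw [hTY]; exact hYiS
      · rw [hTYi]; exact hYS
    | algebraMap r => rw [hTalg]; exact Subalgebra.algebraMap_mem _ _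
    | add x y _ _ hx hy => rw [hTadd]; exact add_mem hx hy
    | mul x y _ _ hx hy => rw [hTmul]; exact mul_mem hy hx
  have hTT : ∀ x ∈ S, T (T x) = x := by
    intro x hx
    calc T (T x) = Pi * (cstar σ P * (x * cstar σ Pi)) * P := by
          rw [hTdef, hTdef, cstar_mul, cstar_mul, cstar_cstar σ hσ2]
      _ = Y * x * Yi := by rw [hY, hYi]; simp only [Matrix.mul_assoc]
      _ = x * (Y * Yi) := by rw [hcS Y hYS x hx, Matrix.mul_assoc]
      _ = x := by rw [hYYi, Matrix.mul_one]
  obtain ⟨z, hzS, hzu, hz⟩ := (subalg_norm_hilbert (K := K) (M := Matrix ι ι K) T σ hTadd hTmul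
    hTalg θ₀ hθ₀ S hcS hST hTT).2 Y hYS (by rw [hTY, hYYi])
  have hz2 : z = Pi * cstar σ z * cstar σ P := by
    calc z = T z * Y := by rw [hcS (T z) (hST z hzS) Y hYS]; exact hz
      _ = Pi * cstar σ z * (P * Pi) * cstar σ P := by
          rw [hTdef, hY]; simp only [Matrix.mul_assoc]
      _ = Pi * cstar σ z * cstar σ P := by rw [hPi, Matrix.mul_one]
  refine ⟨P * z, hP.mul hzu, ?_, ?_⟩
  · rw [cstar_mul]
    calc cstar σ z * cstar σ P = (P * Pi) * cstar σ z * cstar σ P := by rw [hPi, Matrix.one_mul]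
      _ = P * (Pi * cstar σ z * cstar σ P) := by simp only [Matrix.mul_assoc]
      _ = P * z := by rw [← hz2]
  · intro a ha hPa
    obtain ⟨ai, hai⟩ := ha.exists_right_inv
    have hai' : ai * a = 1 := mul_eq_one_comm.mp hai
    have h1 : cstar σ ai * cstar σ a = 1 := cstar_mul_eq_one σ hai
    have hPa2 : P * a = cstar σ ai * P := by
      calc P * a = (cstar σ ai * cstar σ a) * P * a := by rw [h1, Matrix.one_mul]
        _ = cstar σ ai * (cstar σ a * P * a) := by simp only [Matrix.mul_assoc]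
        _ = cstar σ ai * P := by rw [hPa]
    have hPa' : cstar σ a * cstar σ P * a = cstar σ P := by
      have := congrArg (cstar σ) hPa
      rw [cstar_mul, cstar_mul, cstar_cstar σ hσ2] at this
      rw [Matrix.mul_assoc]; exact this
    have hPa2' : cstar σ P * a = cstar σ ai * cstar σ P := by
      calc cstar σ P * a = (cstar σ ai * cstar σ a) * cstar σ P * a := by rw [h1, Matrix.one_mul]
        _ = cstar σ ai * (cstar σ a * cstar σ P * a) := by simp only [Matrix.mul_assoc]
        _ = cstar σ ai * cstar σ P := by rw [hPa']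
    have haPi : a * Pi = Pi * cstar σ ai := by
      calc a * Pi = (Pi * P) * a * Pi := by rw [hPi', Matrix.one_mul]
        _ = Pi * (P * a) * Pi := by simp only [Matrix.mul_assoc]
        _ = Pi * cstar σ ai * (P * Pi) := by rw [hPa2]; simp only [Matrix.mul_assoc]
        _ = Pi * cstar σ ai := by rw [hPi, Matrix.mul_one]
    have hYa : Y * a = a * Y := by
      calc Y * a = Pi * (cstar σ P * a) := by rw [hY, Matrix.mul_assoc]
        _ = (Pi * cstar σ ai) * cstar σ P := by rw [hPa2', Matrix.mul_assoc]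
        _ = a * Y := by rw [← haPi, hY, Matrix.mul_assoc]
    have hYia : Yi * a = a * Yi := by
      calc Yi * a = Yi * a * (Y * Yi) := by rw [hYYi, Matrix.mul_one]
        _ = Yi * (a * Y) * Yi := by simp only [Matrix.mul_assoc]
        _ = Yi * (Y * a) * Yi := by rw [hYa]
        _ = (Yi * Y) * a * Yi := by simp only [Matrix.mul_assoc]
        _ = a * Yi := by rw [hYiY, Matrix.one_mul]
    have hSa : ∀ x ∈ S, x * a = a * x := by
      intro x hx
      induction hx using Algebra.adjoin_induction with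
      | mem x hx =>
        rw [Set.mem_insert_iff, Set.mem_singleton_iff] at hx
        rcases hx with rfl | rfl
        · exact hYa
        · exact hYia
      | algebraMap r => exact Algebra.commutes r a
      | add x y _ _ hx hy => rw [add_mul, mul_add, hx, hy]
      | mul x y _ _ hx hy => rw [mul_assoc, hy, ← mul_assoc, hx, mul_assoc]
    calc cstar σ a * (P * z) * a = cstar σ a * P * (z * a) := by simp only [Matrix.mul_assoc]
      _ = (cstar σ a * P * a) * z := by rw [hSa z hzS]; simp only [Matrix.mul_assoc]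
      _ = P * z := by rw [hPa]

theorem det_cstar (σ : K →+* K) (X : Matrix ι ι K) : (cstar σ X).det = σ X.det := by
  unfold cstar
  rw [Matrix.det_transpose]
  exact (RingHom.map_det σ X).symm

/-- The determinant maps the unitary centraliser of a semisimple unitary matrix onto the elements
`μ / σ μ`. -/
theorem exists_unitary_commute_det [Finite K] [Nonempty ι] (σ : K →+* K) (hσ : σ ≠ RingHom.id K)
    (hσ2 : ∀ a, σ (σ a) = a) (θ₀ : K) (hθ₀ : σ θ₀ ≠ θ₀) (b : Matrix ι ι K)
    (hb : cstar σ b * b = 1) (hss : Module.End.IsSemisimple (Matrix.toLin' b)) (μ : K) (hμ : μ ≠ 0) :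
    ∃ z : Matrix ι ι K, cstar σ z * z = 1 ∧ z * b = b * z ∧ z.det = μ * (σ μ)⁻¹ := by
  classical
  obtain ⟨x, hxb, hxdet⟩ := exists_matrix_commute_det_eq b hss μ
  have hxu : IsUnit x := by
    rw [Matrix.isUnit_iff_isUnit_det, hxdet]; exact isUnit_iff_ne_zero.mpr hμ
  obtain ⟨xi, hxi⟩ := hxu.exists_right_inv
  have hxi' : xi * x = 1 := mul_eq_one_comm.mp hxi
  -- P is the inverse of the adjoint of x
  obtain ⟨P, hPdef⟩ : ∃ P, P = cstar σ xi := ⟨_, rfl⟩
  have hPx : P * cstar σ x = 1 := by rw [hPdef]; exact cstar_mul_eq_one σ hxi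
  have hxP : cstar σ x * P = 1 := mul_eq_one_comm.mp hPx
  have hPu : IsUnit P := IsUnit.of_mul_eq_one _ hPx
  have hcP : cstar σ P = xi := by rw [hPdef, cstar_cstar σ hσ2]
  have hb' : b * cstar σ b = 1 := mul_eq_one_comm.mp hb
  have hbu : IsUnit b := IsUnit.of_mul_eq_one _ hb'
  have hxsb : cstar σ x * b = b * cstar σ x := by
    have h1 : cstar σ b * cstar σ x = cstar σ x * cstar σ b := by
      rw [← cstar_mul, ← cstar_mul, hxb]
    calc cstar σ x * b = (b * cstar σ b) * cstar σ x * b := by rw [hb', Matrix.one_mul]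
      _ = b * (cstar σ b * cstar σ x) * b := by simp only [Matrix.mul_assoc]
      _ = b * cstar σ x * (cstar σ b * b) := by rw [h1]; simp only [Matrix.mul_assoc]
      _ = b * cstar σ x := by rw [hb, Matrix.mul_one]
  have hPb : P * b = b * P := by
    calc P * b = P * b * (cstar σ x * P) := by rw [hxP, Matrix.mul_one]
      _ = P * (b * cstar σ x) * P := by simp only [Matrix.mul_assoc]
      _ = (P * cstar σ x) * b * P := by rw [← hxsb]; simp only [Matrix.mul_assoc]
      _ = b * P := by rw [hPx, Matrix.one_mul]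
  have hbP : cstar σ b * P * b = P := by
    rw [Matrix.mul_assoc, hPb, ← Matrix.mul_assoc, hb, Matrix.one_mul]
  obtain ⟨y, hydef⟩ : ∃ y, y = x * P := ⟨_, rfl⟩
  have hyu : IsUnit y := by rw [hydef]; exact hxu.mul hPu
  have hyP : cstar σ y * P * y = P := by
    rw [hydef, cstar_mul, hcP]
    calc xi * cstar σ x * P * (x * P) = xi * (cstar σ x * P) * x * P := by
          simp only [Matrix.mul_assoc]
      _ = P := by rw [hxP, Matrix.mul_one, hxi', Matrix.one_mul]
  have hyb : y * b = b * y := by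
    rw [hydef, Matrix.mul_assoc, hPb, ← Matrix.mul_assoc, hxb, Matrix.mul_assoc]
  obtain ⟨X, hXu, hXs, hXinv⟩ := unitary_form_core' σ hσ2 θ₀ hθ₀ P hPu
  have hXb := hXinv b hbu hbP
  have hXy := hXinv y hyu hyP
  obtain ⟨S, hSu, hS⟩ := exists_cstar_mul_self σ hσ hσ2 X hXs hXu
  obtain ⟨Si, hSi⟩ := hSu.exists_right_inv
  have hSi' : Si * S = 1 := mul_eq_one_comm.mp hSi
  have hconj : ∀ a : Matrix ι ι K, cstar σ a * X * a = X →
      cstar σ (S * a * Si) * (S * a * Si) = 1 := by
    intro a ha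
    calc cstar σ (S * a * Si) * (S * a * Si)
        = cstar σ Si * (cstar σ a * (cstar σ S * S) * a) * Si := by
          rw [cstar_mul, cstar_mul]; simp only [Matrix.mul_assoc]
      _ = cstar σ Si * (cstar σ S * S) * Si := by rw [hS, ha]
      _ = cstar σ (S * Si) * (S * Si) := by rw [cstar_mul]; simp only [Matrix.mul_assoc]
      _ = 1 := by rw [hSi, cstar_one, Matrix.one_mul]
  have hb₁ := hconj b hXb
  have hy₁ := hconj y hXy
  have hSb : S * b = (S * b * Si) * S := by
    rw [Matrix.mul_assoc (S * b), hSi', Matrix.mul_one]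
  obtain ⟨U, V, hUV, hVU, hUU, hUb⟩ :=
    unitary_conj_core σ hσ2 θ₀ hθ₀ b (S * b * Si) S hb hb₁ hSu hSb
  have hVeq : V = cstar σ U := by
    calc V = (cstar σ U * U) * V := by rw [hUU, Matrix.one_mul]
      _ = cstar σ U := by rw [Matrix.mul_assoc, hUV, Matrix.mul_one]
  have hUU' : U * cstar σ U = 1 := by rw [← hVeq]; exact hUV
  have hbV : b * V = V * (S * b * Si) := by
    calc b * V = (V * U) * b * V := by rw [hVU, Matrix.one_mul]
      _ = V * (U * b) * V := by simp only [Matrix.mul_assoc]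
      _ = V * (S * b * Si) * (U * V) := by rw [hUb]; simp only [Matrix.mul_assoc]
      _ = V * (S * b * Si) := by rw [hUV, Matrix.mul_one]
  have hy₁b₁ : (S * y * Si) * (S * b * Si) = (S * b * Si) * (S * y * Si) := by
    calc (S * y * Si) * (S * b * Si) = S * y * (Si * S) * b * Si := by
          simp only [Matrix.mul_assoc]
      _ = S * (y * b) * Si := by rw [hSi', Matrix.mul_one]; simp only [Matrix.mul_assoc]
      _ = S * b * (Si * S) * y * Si := by
          rw [hyb, hSi', Matrix.mul_one]; simp only [Matrix.mul_assoc]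
      _ = (S * b * Si) * (S * y * Si) := by simp only [Matrix.mul_assoc]
  refine ⟨V * (S * y * Si) * U, ?_, ?_, ?_⟩
  · rw [hVeq, cstar_mul, cstar_mul, cstar_cstar σ hσ2]
    calc cstar σ U * (cstar σ (S * y * Si) * U) * (cstar σ U * (S * y * Si) * U)
        = cstar σ U * cstar σ (S * y * Si) * (U * cstar σ U) * (S * y * Si) * U := by
          simp only [Matrix.mul_assoc]
      _ = cstar σ U * (cstar σ (S * y * Si) * (S * y * Si)) * U := by
          rw [hUU', Matrix.mul_one]; simp only [Matrix.mul_assoc]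
      _ = 1 := by rw [hy₁, Matrix.mul_one, hUU]
  · calc V * (S * y * Si) * U * b = V * (S * y * Si) * (U * b) := by rw [Matrix.mul_assoc]
      _ = V * ((S * y * Si) * (S * b * Si)) * U := by rw [hUb]; simp only [Matrix.mul_assoc]
      _ = (V * (S * b * Si)) * (S * y * Si) * U := by rw [hy₁b₁]; simp only [Matrix.mul_assoc]
      _ = b * (V * (S * y * Si) * U) := by rw [← hbV]; simp only [Matrix.mul_assoc]
  · have h1 : V.det * U.det = 1 := by rw [← Matrix.det_mul, hVU, Matrix.det_one]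
    have h2 : S.det * Si.det = 1 := by rw [← Matrix.det_mul, hSi, Matrix.det_one]
    have h3 : (cstar σ x).det * P.det = 1 := by rw [← Matrix.det_mul, hxP, Matrix.det_one]
    have h4 : P.det = (σ μ)⁻¹ := by
      rw [det_cstar, hxdet] at h3
      exact eq_inv_of_mul_eq_one_right h3
    rw [Matrix.det_mul, Matrix.det_mul, Matrix.det_mul, Matrix.det_mul, hydef, Matrix.det_mul,
      hxdet, h4]
    calc V.det * (S.det * (μ * (σ μ)⁻¹) * Si.det) * U.det
        = (V.det * U.det) * (S.det * Si.det) * (μ * (σ μ)⁻¹) := by ring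
      _ = μ * (σ μ)⁻¹ := by rw [h1, h2, one_mul, one_mul]

end

theorem mem_SU_iff_cstar {F : Type*} [Field F] {n q : ℕ} (σ : F →+* F) (hσ : ∀ x, σ x = x ^ q)
    (A : Matrix.SpecialLinearGroup (Fin n) F) :
    A ∈ Cfsg.SU n F q ↔
      cstar σ (A : Matrix (Fin n) (Fin n) F) * (A : Matrix (Fin n) (Fin n) F) = 1 :=
  mem_GU_iff_cstar σ hσ (Matrix.SpecialLinearGroup.toGL A)

/-- In `SU_n(q)`, two elements of order prime to `p` with the same characteristic polynomial are
conjugate. -/
theorem su_isConj_of_charpoly_eq {F : Type*} [Field F] [Fintype F] {q : ℕ}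
    (hF : Fintype.card F = q ^ 2) (p : ℕ) [Fact p.Prime] [CharP F p] (n : ℕ)
    (g h : ↥(Cfsg.SU n F q)) (hg : (orderOf g).Coprime p) (hh : (orderOf h).Coprime p)
    (hc : ((g : Matrix.SpecialLinearGroup (Fin n) F) : Matrix (Fin n) (Fin n) F).charpoly =
      ((h : Matrix.SpecialLinearGroup (Fin n) F) : Matrix (Fin n) (Fin n) F).charpoly) :
    IsConj g h := by
  classical
  have hp : p.Prime := Fact.out
  rcases Nat.eq_zero_or_pos n with rfl | hn
  · have : g = h := Subtype.ext (Subtype.ext (Subsingleton.elim _ _))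
    rw [this]
  have : Nonempty (Fin n) := ⟨⟨0, hn⟩⟩
  obtain ⟨σ, hσ, hne, hσ2⟩ := Cfsg.Agent.Lib.helper17.exists_frob' hF
  obtain ⟨θ₀, hθ₀⟩ : ∃ θ₀ : F, σ θ₀ ≠ θ₀ := by
    by_contra hcon
    push Not at hcon
    exact hne (RingHom.ext hcon)
  obtain ⟨a, ha⟩ : ∃ a : Matrix (Fin n) (Fin n) F,
      a = ((g : Matrix.SpecialLinearGroup (Fin n) F) : Matrix (Fin n) (Fin n) F) := ⟨_, rfl⟩
  obtain ⟨b, hb⟩ : ∃ b : Matrix (Fin n) (Fin n) F,
      b = ((h : Matrix.SpecialLinearGroup (Fin n) F) : Matrix (Fin n) (Fin n) F) := ⟨_, rfl⟩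
  have hau : cstar σ a * a = 1 := by rw [ha]; exact (mem_SU_iff_cstar σ hσ g.1).mp g.2
  have hbu : cstar σ b * b = 1 := by rw [hb]; exact (mem_SU_iff_cstar σ hσ h.1).mp h.2
  obtain ⟨k, hk⟩ : ∃ k, k = orderOf g * orderOf h := ⟨_, rfl⟩
  have hkp : ¬ p ∣ k := by
    rw [hk]
    intro hd
    rcases (Nat.Prime.dvd_mul hp).mp hd with h1 | h1
    · exact (Nat.Prime.coprime_iff_not_dvd hp).mp hg.symm h1
    · exact (Nat.Prime.coprime_iff_not_dvd hp).mp hh.symm h1
  have hak : a ^ k = 1 := by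
    have h3 : g ^ k = 1 := by rw [hk, pow_mul, pow_orderOf_eq_one, one_pow]
    have h4 := congrArg (fun x : ↥(Cfsg.SU n F q) =>
      ((x : Matrix.SpecialLinearGroup (Fin n) F) : Matrix (Fin n) (Fin n) F)) h3
    rw [ha]
    simpa using h4
  have hbk : b ^ k = 1 := by
    have h3 : h ^ k = 1 := by rw [hk, pow_mul', pow_orderOf_eq_one, one_pow]
    have h4 := congrArg (fun x : ↥(Cfsg.SU n F q) =>
      ((x : Matrix.SpecialLinearGroup (Fin n) F) : Matrix (Fin n) (Fin n) F)) h3
    rw [hb]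
    simpa using h4
  have hsa := isSemisimple_toLin'_of_pow_eq_one p a k hkp hak
  have hsb := isSemisimple_toLin'_of_pow_eq_one p b k hkp hbk
  obtain ⟨P, hPa⟩ := exists_GL_conj_of_charpoly_eq a b hsa hsb (by rw [ha, hb]; exact hc)
  obtain ⟨U, V, hUV, hVU, hUU, hUa⟩ :=
    unitary_conj_core σ hσ2 θ₀ hθ₀ a b P hau hbu P.isUnit hPa
  have hδ : σ U.det * U.det = 1 := by rw [← det_cstar, ← Matrix.det_mul, hUU, Matrix.det_one]
  have hδ0 : U.det ≠ 0 := by
    intro h0
    rw [h0, mul_zero] at hδ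
    exact zero_ne_one hδ
  obtain ⟨μ, hμu, hμ⟩ := hilbert90_of_normSurj (normSurj_of_finite F) σ hσ2 θ₀
    (isUnit_iff_ne_zero.mpr (sub_ne_zero.mpr (Ne.symm hθ₀))) (U.det)⁻¹
    (by rw [map_inv₀, ← mul_inv, mul_comm, hδ, inv_one])
  have hμ0 : μ ≠ 0 := hμu.ne_zero
  obtain ⟨z, hzz, hzb, hzdet⟩ := exists_unitary_commute_det σ hne hσ2 θ₀ hθ₀ b hbu hsb μ hμ0
  have hzdet' : z.det * U.det = 1 := by
    rw [hzdet]
    have hσμ : σ μ ≠ 0 := (map_ne_zero σ).mpr hμ0
    calc μ * (σ μ)⁻¹ * U.det = ((U.det)⁻¹ * σ μ) * (σ μ)⁻¹ * U.det := by rw [← hμ]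
      _ = 1 := by field_simp
  have hWdet : (z * U).det = 1 := by rw [Matrix.det_mul, hzdet']
  have hWW : cstar σ (z * U) * (z * U) = 1 := by
    rw [cstar_mul]
    calc cstar σ U * cstar σ z * (z * U) = cstar σ U * (cstar σ z * z) * U := by
          simp only [Matrix.mul_assoc]
      _ = 1 := by rw [hzz, Matrix.mul_one, hUU]
  have hWa : (z * U) * a = b * (z * U) := by
    rw [Matrix.mul_assoc, hUa, ← Matrix.mul_assoc, hzb, Matrix.mul_assoc]
  have hWmem : (⟨z * U, hWdet⟩ : Matrix.SpecialLinearGroup (Fin n) F) ∈ Cfsg.SU n F q :=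
    (mem_SU_iff_cstar σ hσ ⟨z * U, hWdet⟩).mpr hWW
  rw [isConj_iff]
  refine ⟨⟨⟨z * U, hWdet⟩, hWmem⟩, ?_⟩
  rw [mul_inv_eq_iff_eq_mul]
  apply Subtype.ext
  apply Subtype.ext
  show (z * U) * ((g : Matrix.SpecialLinearGroup (Fin n) F) : Matrix (Fin n) (Fin n) F)
    = ((h : Matrix.SpecialLinearGroup (Fin n) F) : Matrix (Fin n) (Fin n) F) * (z * U)
  rw [← ha, ← hb]
  exact hWa

end Cfsg.Agent.Lib.helper45
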