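import Mathlib
import Cfsg.Agent.Lib.helper44.JordanGen

/-!
# Two conjugate regular unipotent elements: definitions and basic facts

`rowv F n k` is the row `e_0ᵀ J^k` (binomial coefficients), `tau l k y = 1 + y e_l ⊗ rowv k`,
`Om S l k` the set of parameters `y` with `tau l k y ∈ S`, and `vmat c z o l' l` the matrix
`J + c (E_{l,o} - E_{l',z})`, which is `g J g⁻¹` for `g = 1 + c E_{l,z}`.
-/

set_option autoImplicit false

namespace Cfsg.Agent.Lib.helper45.RU

open Matrix Cfsg.Agent.Lib.helper44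

variable {n : ℕ} {F : Type*} [Field F]

/-- The row `e_0ᵀ J^k`: binomial coefficients. -/
def rowv (F : Type*) [Field F] (n k : ℕ) : Fin n → F := fun j => (k.choose j.val : F)

theorem rowv_apply (k : ℕ) (j : Fin n) : rowv F n k j = (k.choose j.val : F) := rfl

theorem rowv_succ (k : ℕ) : rowv F n (k + 1) = rowv F n k ᵥ* jm F n := by
  ext j
  rw [vecMul_jm, rowv_apply, rowv_apply]
  split_ifs with h
  · rw [rowv_apply]
    obtain ⟨m, hm⟩ : ∃ m, j.val = m + 1 := ⟨j.val - 1, by omega⟩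
    simp only [hm, Nat.add_sub_cancel, Nat.choose_succ_succ, Nat.cast_add]
    ring
  · have h0 : j.val = 0 := by omega
    rw [h0, Nat.choose_zero_right, Nat.choose_zero_right, add_zero]

theorem rowv_zero (z : Fin n) (hz : z.val = 0) : rowv F n 0 = Pi.single z 1 := by
  ext j
  rw [rowv_apply, Pi.single_apply]
  by_cases h : j = z
  · subst h
    rw [if_pos rfl, hz, Nat.choose_zero_right, Nat.cast_one]
  · rw [if_neg h]
    have : j.val ≠ 0 := fun e => h (Fin.ext (by omega))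
    obtain ⟨m, hm⟩ : ∃ m, j.val = m + 1 := ⟨j.val - 1, by omega⟩
    rw [hm, Nat.choose_zero_succ, Nat.cast_zero]

theorem rowv_apply_eq_zero (k : ℕ) (j : Fin n) (h : k < j.val) : rowv F n k j = 0 := by
  rw [rowv_apply, Nat.choose_eq_zero_of_lt h, Nat.cast_zero]

theorem rowv_apply_self (j : Fin n) : rowv F n j.val j = 1 := by
  rw [rowv_apply, Nat.choose_self, Nat.cast_one]

theorem rowv_add (k s : ℕ) : rowv F n (k + s) = rowv F n k ᵥ* (jm F n) ^ s := by
  induction s with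
  | zero => rw [pow_zero, Matrix.vecMul_one, add_zero]
  | succ s ih => rw [← add_assoc, rowv_succ, ih, pow_succ, Matrix.vecMul_vecMul]

/-- `ψ_k (e_l) = 0` for `k ≤ n - 2`. -/
theorem rowv_dot_last (k : ℕ) (l : Fin n) (hl : l.val + 1 = n) (hk : k + 2 ≤ n) :
    rowv F n k ⬝ᵥ Pi.single l 1 = 0 := by
  rw [dotProduct_single, mul_one]
  exact rowv_apply_eq_zero k l (by omega)

/-- `ψ_{n-1} (e_l) = 1`. -/
theorem rowv_dot_last_top (k : ℕ) (l : Fin n) (hl : l.val + 1 = n) (hk : k + 1 = n) :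
    rowv F n k ⬝ᵥ Pi.single l 1 = 1 := by
  rw [dotProduct_single, mul_one]
  have : k = l.val := by omega
  rw [this]
  exact rowv_apply_self l

/-- The transvection `T(e_l, y ψ_k) = 1 + y e_l ⊗ ψ_k`. -/
def tau (l : Fin n) (k : ℕ) (y : F) : Matrix (Fin n) (Fin n) F :=
  1 + vecMulVec (Pi.single l 1) (y • rowv F n k)

/-- The parameters `y` with `tau l k y ∈ S`. -/
def Om (S : Set (Matrix (Fin n) (Fin n) F)) (l : Fin n) (k : ℕ) : Set F :=
  {y | tau l k y ∈ S}

theorem mem_Om (S : Set (Matrix (Fin n) (Fin n) F)) (l : Fin n) (k : ℕ) (y : F) :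
    y ∈ Om S l k ↔ 1 + vecMulVec (Pi.single l 1) (y • rowv F n k) ∈ S := Iff.rfl

theorem tau_mul (l : Fin n) (hl : l.val + 1 = n) (k : ℕ) (hk : k + 2 ≤ n) (x y : F) :
    tau l k x * tau l k y = tau l k (x + y) := by
  unfold tau
  rw [rankOne_mul_right, add_smul]
  rw [smul_dotProduct, rowv_dot_last k l hl hk, smul_zero]

theorem tau_zero (l : Fin n) (k : ℕ) : tau l k (0 : F) = 1 := by
  unfold tau
  rw [zero_smul, Matrix.vecMulVec_zero, add_zero]

variable {S : Set (Matrix (Fin n) (Fin n) F)}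

theorem MatGrp_one_mem (hS : MatGrp S) {a : Matrix (Fin n) (Fin n) F} (ha : a ∈ S) :
    (1 : Matrix (Fin n) (Fin n) F) ∈ S := by
  obtain ⟨b, hb, e⟩ := hS.inv ha
  rw [← e]; exact hS.mul ha hb

/-- If `X * Y = C * (Y * X)` with `X, Y ∈ S` then `C ∈ S`. -/
theorem MatGrp_comm_mem (hS : MatGrp S) {X Y C : Matrix (Fin n) (Fin n) F} (hX : X ∈ S)
    (hY : Y ∈ S) (h : X * Y = C * (Y * X)) : C ∈ S := by
  obtain ⟨b, hb, e⟩ := hS.inv (hS.mul hY hX)
  have : C = X * Y * b := by rw [h, mul_assoc, e, mul_one]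
  rw [this]; exact hS.mul (hS.mul hX hY) hb

theorem Om_zero_mem (hS : MatGrp S) {a : Matrix (Fin n) (Fin n) F} (ha : a ∈ S) (l : Fin n)
    (k : ℕ) : (0 : F) ∈ Om S l k := by
  show tau l k 0 ∈ S
  rw [tau_zero]; exact MatGrp_one_mem hS ha

theorem Om_add (hS : MatGrp S) (l : Fin n) (hl : l.val + 1 = n) (k : ℕ) (hk : k + 2 ≤ n)
    {x y : F} (hx : x ∈ Om S l k) (hy : y ∈ Om S l k) : x + y ∈ Om S l k := by
  show tau l k (x + y) ∈ S
  rw [← tau_mul l hl k hk]; exact hS.mul hx hy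

theorem Om_neg (hS : MatGrp S) (l : Fin n) (hl : l.val + 1 = n) (k : ℕ) (hk : k + 2 ≤ n)
    {x : F} (hx : x ∈ Om S l k) : -x ∈ Om S l k := by
  show tau l k (-x) ∈ S
  apply hS.of_mul_eq_one hx
  rw [tau_mul l hl k hk, add_neg_cancel, tau_zero]

theorem Om_neg_iff (hS : MatGrp S) (l : Fin n) (hl : l.val + 1 = n) (k : ℕ) (hk : k + 2 ≤ n)
    {x : F} : -x ∈ Om S l k ↔ x ∈ Om S l k := by
  constructor
  · intro h
    have := Om_neg hS l hl k hk h
    rwa [neg_neg] at this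
  · exact Om_neg hS l hl k hk

theorem Om_nsmul (hS : MatGrp S) {a : Matrix (Fin n) (Fin n) F} (ha : a ∈ S) (l : Fin n)
    (hl : l.val + 1 = n) (k : ℕ) (hk : k + 2 ≤ n) {x : F} (hx : x ∈ Om S l k) (m : ℕ) :
    (m : F) * x ∈ Om S l k := by
  induction m with
  | zero => rw [Nat.cast_zero, zero_mul]; exact Om_zero_mem hS ha l k
  | succ m ih =>
    rw [Nat.cast_succ, add_mul, one_mul]
    exact Om_add hS l hl k hk ih hx

/-- `g J g⁻¹` for `g = 1 + c E_{l,z}`: the matrix `J + c (E_{l,o} - E_{l',z})`. -/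
def vmat (c : F) (z o l' l : Fin n) : Matrix (Fin n) (Fin n) F :=
  jm F n + Matrix.single l o c - Matrix.single l' z c

end Cfsg.Agent.Lib.helper45.RU
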