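import Cfsg.Agent.Lib.helper95.APDefs

/-!
# S2276, piece INTV (interval model), racing copy of helper45

Cycles on intervals are transported copies of `finRotate l` (forward) or its inverse (reversed);
the odd permutation commuting with `b` comes from `Equiv.Perm.centralizer_le_alternating_iff`.
The final theorem `h45_intv_of_gpc` takes the statement of piece GPC as a hypothesis.
-/

set_option autoImplicit false

namespace Cfsg.Agent.Lib.helper95.AP

open Equiv

/-- the embedding `i ↦ s + i` of `Fin l` into `Fin M` -/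
def h45_iota {M s l : ℕ} (h : s + l ≤ M) : Fin l ↪ Fin M :=
  ⟨fun i => ⟨s + i.val, by have := i.isLt; omega⟩, fun i j hij => by
    simp only [Fin.mk.injEq] at hij; exact Fin.ext (by omega)⟩

theorem h45_iota_val {M s l : ℕ} (h : s + l ≤ M) (i : Fin l) :
    (h45_iota h i).val = s + i.val := rfl

/-- a permutation of `Fin l` transported to the interval `[s, s+l)` of `Fin M` -/
noncomputable def h45_E (M s l : ℕ) (g : Perm (Fin l)) : Perm (Fin M) :=
  if h : s + l ≤ M then g.viaFintypeEmbedding (h45_iota h) else 1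

theorem h45_E_out {M s l : ℕ} (g : Perm (Fin l)) (x : Fin M)
    (hx : x.val < s ∨ s + l ≤ x.val) : h45_E M s l g x = x := by
  unfold h45_E
  split_ifs with h
  · apply Equiv.Perm.viaFintypeEmbedding_apply_notMem_range
    rintro ⟨i, rfl⟩
    have := i.isLt
    rw [h45_iota_val] at hx
    omega
  · rfl

theorem h45_E_in {M s l : ℕ} (h : s + l ≤ M) (g : Perm (Fin l)) (x : Fin M) (h1 : s ≤ x.val)
    (h2 : x.val < s + l) :
    (h45_E M s l g x).val = s + (g ⟨x.val - s, by omega⟩).val := by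
  have hx : x = h45_iota h ⟨x.val - s, by omega⟩ := by
    apply Fin.ext
    rw [h45_iota_val]
    show x.val = s + (x.val - s)
    omega
  unfold h45_E
  rw [dif_pos h]
  conv_lhs => rw [hx]
  rw [Equiv.Perm.viaFintypeEmbedding_apply_image, h45_iota_val]

theorem h45_E_cycleType {M s l : ℕ} (h : s + l ≤ M) (g : Perm (Fin l)) :
    (h45_E M s l g).cycleType = g.cycleType := by
  unfold h45_E
  rw [dif_pos h]
  unfold Equiv.Perm.viaFintypeEmbedding
  exact Equiv.Perm.cycleType_extendDomain _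

theorem h45_fw_val {l : ℕ} (i : Fin l) :
    (finRotate l i).val = if i.val + 1 = l then 0 else i.val + 1 := by
  cases l with
  | zero => exact i.elim0
  | succ n =>
    rw [coe_finRotate]
    by_cases h : i = Fin.last n
    · subst h; simp
    · rw [if_neg h, if_neg]
      intro h'
      exact h (Fin.ext (by simp only [Fin.val_last]; omega))

theorem h45_rv_val {l : ℕ} (i : Fin l) :
    ((finRotate l)⁻¹ i).val = if i.val = 0 then l - 1 else i.val - 1 := by
  have hl : 0 < l := i.pos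
  have key : finRotate l ⟨if i.val = 0 then l - 1 else i.val - 1,
      by have := i.isLt; split_ifs <;> omega⟩ = i := by
    apply Fin.ext
    rw [h45_fw_val]
    have := i.isLt
    dsimp only
    split_ifs <;> omega
  rw [Equiv.Perm.inv_eq_iff_eq.mpr key.symm]

theorem h45_pre_lt {M s l : ℕ} (g : Perm (Fin l)) (B : Perm (Fin M))
    (hB : ∀ x : Fin M, x.val < s + l → B x = x) (x : Fin M) (hx : x.val < s + l) :
    (h45_E M s l g * B) x = h45_E M s l g x := by
  rw [Equiv.Perm.mul_apply, hB x hx]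

theorem h45_B_ge {M n : ℕ} (B : Perm (Fin M)) (hB : ∀ x : Fin M, x.val < n → B x = x)
    (x : Fin M) (hx : n ≤ x.val) : n ≤ (B x).val := by
  by_contra h'
  have h := Nat.lt_of_not_le h'
  have h1 := hB (B x) h
  have h2 : B x = x := B.injective h1
  rw [h2] at h
  omega

theorem h45_pre_ge {M s l : ℕ} (g : Perm (Fin l)) (B : Perm (Fin M))
    (hB : ∀ x : Fin M, x.val < s + l → B x = x) (x : Fin M) (hx : s + l ≤ x.val) :
    (h45_E M s l g * B) x = B x := by
  rw [Equiv.Perm.mul_apply]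
  exact h45_E_out g _ (Or.inr (h45_B_ge B hB x hx))

theorem h45_pre_cycleType {M s l : ℕ} (h : s + l ≤ M) (g : Perm (Fin l)) (B : Perm (Fin M))
    (hB : ∀ x : Fin M, x.val < s + l → B x = x) :
    (h45_E M s l g * B).cycleType = g.cycleType + B.cycleType := by
  rw [Equiv.Perm.Disjoint.cycleType_mul, h45_E_cycleType h]
  intro x
  by_cases hx : x.val < s + l
  · exact Or.inr (hB x hx)
  · exact Or.inl (h45_E_out g x (Or.inr (by omega)))

/-- reversed cycles on consecutive intervals of lengths `L` starting at `s` -/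
noncomputable def h45_R (M : ℕ) : List ℕ → ℕ → Perm (Fin M)
  | [], _ => 1
  | l :: L, s => h45_E M s l (finRotate l)⁻¹ * h45_R M L (s + l)

theorem h45_R_fix {M : ℕ} (L : List ℕ) :
    ∀ (s : ℕ) (x : Fin M), x.val < s → h45_R M L s x = x := by
  induction L with
  | nil => intro s x _; rfl
  | cons l L ih =>
    intro s x hx
    show (h45_E M s l (finRotate l)⁻¹ * h45_R M L (s + l)) x = x
    rw [Equiv.Perm.mul_apply, ih (s + l) x (by omega)]
    exact h45_E_out _ x (Or.inl hx)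

theorem h45_R_cycleType {M : ℕ} (L : List ℕ) :
    ∀ (s : ℕ), s + L.sum ≤ M → (∀ l ∈ L, 2 ≤ l) →
      (h45_R M L s).cycleType = (L : Multiset ℕ) := by
  induction L with
  | nil => intro s _ _; show (1 : Perm (Fin M)).cycleType = _; simp
  | cons l L ih =>
    intro s hs h2
    show (h45_E M s l (finRotate l)⁻¹ * h45_R M L (s + l)).cycleType = _
    rw [List.sum_cons] at hs
    rw [h45_pre_cycleType (by omega) _ _ (fun x hx => h45_R_fix L (s + l) x hx),
      ih (s + l) (by omega) (fun l' hl' => h2 l' (List.mem_cons_of_mem _ hl')),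
      Equiv.Perm.cycleType_inv, cycleType_finRotate_of_le (h2 l List.mem_cons_self)]
    rfl

theorem h45_R_cong {M : ℕ} (p : ℕ) (L : List ℕ) :
    ∀ (s : ℕ), s + L.sum ≤ M → (∀ l ∈ L, p ∣ l ∧ 1 ≤ l) → ∀ x : Fin M,
      (h45_R M L s x).val % p = x.val % p ∨ ((h45_R M L s x).val + 1) % p = x.val % p := by
  induction L with
  | nil => intro s _ _ x; left; rfl
  | cons l L ih =>
    intro s hs hl x
    rw [List.sum_cons] at hs
    have hfix : ∀ x : Fin M, x.val < s + l → h45_R M L (s + l) x = x :=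
      fun x hx => h45_R_fix L (s + l) x hx
    show ((h45_E M s l (finRotate l)⁻¹ * h45_R M L (s + l)) x).val % p = _ ∨
      (((h45_E M s l (finRotate l)⁻¹ * h45_R M L (s + l)) x).val + 1) % p = _
    by_cases hx : x.val < s + l
    · rw [h45_pre_lt _ _ hfix x hx]
      by_cases hx' : x.val < s
      · left; rw [h45_E_out _ x (Or.inl hx')]
      · right
        rw [h45_E_in (by omega) _ x (by omega) hx, h45_rv_val]
        dsimp only
        obtain ⟨c, hc⟩ := (hl l List.mem_cons_self).1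
        have h1 := (hl l List.mem_cons_self).2
        split_ifs with h0
        · have h3 : s + (l - 1) + 1 = x.val + p * c := by omega
          rw [h3, Nat.add_mul_mod_self_left]
        · congr 1; omega
    · rw [h45_pre_ge _ _ hfix x (by omega)]
      exact ih (s + l) (by omega) (fun l' hl' => hl l' (List.mem_cons_of_mem _ hl')) x

/-- number of points `x` with `b x = x - 1` (no wrap-around) -/
def h45_cnt {M : ℕ} (b : Perm (Fin M)) : ℕ :=
  (Finset.univ.filter (fun x : Fin M => (b x).val + 1 = x.val)).card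

theorem h45_card_Ioo (M s l : ℕ) (h : s + l ≤ M) :
    (Finset.univ.filter (fun x : Fin M => s < x.val ∧ x.val < s + l)).card = l - 1 := by
  have h1 : (Finset.univ.filter (fun x : Fin M => s < x.val ∧ x.val < s + l)).map
      Fin.valEmbedding = Finset.Ioo s (s + l) := by
    ext i
    simp only [Finset.mem_map, Finset.mem_filter, Finset.mem_univ, true_and,
      Fin.valEmbedding_apply, Finset.mem_Ioo]
    constructor
    · rintro ⟨x, hx, rfl⟩; exact hx
    · intro hi; exact ⟨⟨i, by omega⟩, hi, rfl⟩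
  rw [← Finset.card_map, h1, Nat.card_Ioo]
  omega

theorem h45_cnt_rv {M s l : ℕ} (h : s + l ≤ M) (hl : 1 ≤ l) (B : Perm (Fin M))
    (hB : ∀ x : Fin M, x.val < s + l → B x = x) :
    h45_cnt (h45_E M s l (finRotate l)⁻¹ * B) = (l - 1) + h45_cnt B := by
  have hd : Disjoint (Finset.univ.filter (fun x : Fin M => s < x.val ∧ x.val < s + l))
      (Finset.univ.filter (fun x : Fin M => (B x).val + 1 = x.val)) := by
    rw [Finset.disjoint_left]
    intro x hx1 hx2
    simp only [Finset.mem_filter, Finset.mem_univ, true_and] at hx1 hx2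
    rw [hB x hx1.2] at hx2
    omega
  unfold h45_cnt
  rw [← h45_card_Ioo M s l h, ← Finset.card_union_of_disjoint hd]
  congr 1
  ext x
  simp only [Finset.mem_filter, Finset.mem_univ, true_and, Finset.mem_union]
  by_cases hx : x.val < s + l
  · rw [h45_pre_lt _ _ hB x hx, hB x hx]
    by_cases hx' : x.val < s
    · rw [h45_E_out _ x (Or.inl hx')]; omega
    · rw [h45_E_in h _ x (by omega) hx, h45_rv_val]
      dsimp only
      split_ifs <;> omega
  · rw [h45_pre_ge _ _ hB x (by omega)]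
    omega

theorem h45_cnt_fw {M s l : ℕ} (h : s + l ≤ M) (hl : 3 ≤ l) (B : Perm (Fin M))
    (hB : ∀ x : Fin M, x.val < s + l → B x = x) :
    h45_cnt (h45_E M s l (finRotate l) * B) = h45_cnt B := by
  unfold h45_cnt
  congr 1
  ext x
  simp only [Finset.mem_filter, Finset.mem_univ, true_and]
  by_cases hx : x.val < s + l
  · rw [h45_pre_lt _ _ hB x hx, hB x hx]
    by_cases hx' : x.val < s
    · rw [h45_E_out _ x (Or.inl hx')]
    · rw [h45_E_in h _ x (by omega) hx, h45_fw_val]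
      dsimp only
      split_ifs <;> omega
  · rw [h45_pre_ge _ _ hB x (by omega)]

theorem h45_R_cnt {M : ℕ} (L : List ℕ) :
    ∀ (s : ℕ), s + L.sum ≤ M → (∀ l ∈ L, 1 ≤ l) →
      h45_cnt (h45_R M L s) = (L.map (fun l => l - 1)).sum := by
  induction L with
  | nil => intro s _ _; simp [h45_cnt, h45_R]
  | cons l L ih =>
    intro s hs h1
    rw [List.sum_cons] at hs
    show h45_cnt (h45_E M s l (finRotate l)⁻¹ * h45_R M L (s + l)) = _
    rw [h45_cnt_rv (by omega) (h1 l List.mem_cons_self) _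
        (fun x hx => h45_R_fix L (s + l) x hx),
      ih (s + l) (by omega) (fun l' hl' => h1 l' (List.mem_cons_of_mem _ hl'))]
    simp

theorem h45_fix_cnt {M : ℕ} (b : Perm (Fin M))
    (h0 : ∀ z : Fin M, z.val = 0 → (b z).val + 1 < M) :
    (Finset.univ.filter (fun z : Fin M => (finRotate M * b) z = z)).card = h45_cnt b := by
  unfold h45_cnt
  refine congrArg Finset.card (Finset.filter_congr ?_)
  intro z _
  rw [Equiv.Perm.mul_apply, Fin.ext_iff, h45_fw_val]
  have h1 := h0 z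
  have h2 := (b z).isLt
  have h3 := z.isLt
  split_ifs <;> omega

theorem h45_part (p : ℕ) (hp3 : 3 ≤ p) (e l : ℕ)
    (h : ∃ j : ℕ, 1 ≤ j ∧ l = p ^ j ∧ l < p ^ e) :
    p ∣ l ∧ 3 ≤ l ∧ l ≤ p ^ (e - 1) ∧ 2 ≤ e := by
  obtain ⟨j, hj1, rfl, hlt⟩ := h
  have hje : j < e := (Nat.pow_lt_pow_iff_right (by omega)).mp hlt
  refine ⟨dvd_pow_self p (by omega), ?_, Nat.pow_le_pow_right (by omega) (by omega), by omega⟩
  calc 3 ≤ p ^ 1 := by simpa using hp3
    _ ≤ p ^ j := Nat.pow_le_pow_right (by omega) hj1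

theorem h45_sum_add (L : List ℕ) (h1 : ∀ l ∈ L, 1 ≤ l) :
    (L.map (fun l => l - 1)).sum + L.length = L.sum := by
  induction L with
  | nil => simp
  | cons l L ih =>
    have := ih (fun l' hl' => h1 l' (List.mem_cons_of_mem _ hl'))
    have := h1 l List.mem_cons_self
    simp only [List.map_cons, List.sum_cons, List.length_cons]
    omega

theorem h45_ndvd (p : ℕ) (L : List ℕ) (hL : ∀ l ∈ L, p ∣ l ∧ 1 ≤ l) (h : ¬ p ∣ L.length) :
    ¬ p ∣ (L.map (fun l => l - 1)).sum := by
  intro hd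
  have h1 := h45_sum_add L (fun l hl => (hL l hl).2)
  have h2 : p ∣ L.sum := List.dvd_sum (fun l hl => (hL l hl).1)
  rw [← h1] at h2
  exact h ((Nat.dvd_add_right hd).mp h2)

theorem h45_ge (L : List ℕ) (h3 : ∀ l ∈ L, 3 ≤ l) :
    2 * L.length ≤ (L.map (fun l => l - 1)).sum := by
  induction L with
  | nil => simp
  | cons l L ih =>
    have := ih (fun l' hl' => h3 l' (List.mem_cons_of_mem _ hl'))
    have := h3 l List.mem_cons_self
    simp only [List.map_cons, List.sum_cons, List.length_cons]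
    omega

theorem h45_tau {M : ℕ} (b : Perm (Fin M))
    (h : ¬ (M ≤ b.cycleType.sum + 1 ∧ ∀ i, b.cycleType.count i ≤ 1)) :
    ∃ τ : Perm (Fin M), Perm.sign τ = -1 ∧ τ * b * τ⁻¹ = b := by
  have h' : ¬ (Subgroup.centralizer {b} ≤ alternatingGroup (Fin M)) := by
    rw [Equiv.Perm.centralizer_le_alternating_iff]
    rintro ⟨-, h2, h3⟩
    rw [Fintype.card_fin] at h2
    exact h ⟨h2, h3⟩
  rw [SetLike.not_le_iff_exists] at h'
  obtain ⟨τ, hτ, hτ'⟩ := h'
  refine ⟨τ, ?_, ?_⟩
  · rcases Int.units_eq_one_or (Perm.sign τ) with h1 | h1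
    · exact absurd (Equiv.Perm.mem_alternatingGroup.mpr h1) hτ'
    · exact h1
  · rw [Subgroup.mem_centralizer_iff] at hτ
    have h4 := hτ b (Set.mem_singleton b)
    rw [← h4, mul_inv_cancel_right]

theorem h45_not_nodup (p : ℕ) (hp3 : 3 ≤ p) (e : ℕ) (L : List ℕ) (he : 1 ≤ e)
    (hpow : ∀ l ∈ L, ∃ j : ℕ, 1 ≤ j ∧ l = p ^ j ∧ l < p ^ e) (hnd : L.Nodup) :
    L.sum + 1 < p ^ e := by
  have hp2 : 2 ≤ p := by omega
  have h1 : L.sum = ∑ x ∈ L.toFinset, x := by
    rw [List.sum_toFinset _ hnd]; simp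
  have h2 : L.toFinset ⊆ (Finset.Ico 1 e).image (fun j => p ^ j) := by
    intro x hx
    rw [List.mem_toFinset] at hx
    obtain ⟨j, hj1, rfl, hlt⟩ := hpow x hx
    rw [Finset.mem_image]
    exact ⟨j, Finset.mem_Ico.mpr ⟨hj1, (Nat.pow_lt_pow_iff_right (by omega)).mp hlt⟩, rfl⟩
  have h3 : ∑ x ∈ L.toFinset, x ≤ ∑ x ∈ (Finset.Ico 1 e).image (fun j => p ^ j), x :=
    Finset.sum_le_sum_of_subset h2
  have h4 : ∑ x ∈ (Finset.Ico 1 e).image (fun j => p ^ j), x = ∑ j ∈ Finset.Ico 1 e, p ^ j :=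
    Finset.sum_image (fun a _ b _ hab => Nat.pow_right_injective hp2 hab)
  have h5 : ∑ k ∈ insert 0 (Finset.Ico 1 e), p ^ k < p ^ e :=
    Nat.geomSum_lt hp2 (by
      intro k hk
      rw [Finset.mem_insert, Finset.mem_Ico] at hk
      omega)
  rw [Finset.sum_insert (by simp)] at h5
  simp only [pow_zero] at h5
  omega

/-- the statement of piece GPC (taken as a hypothesis by `h45_intv_of_gpc`) -/
def h45_GPC : Prop :=
  ∀ (p : ℕ) (_ : p.Prime) (_ : 3 ≤ p) (e : ℕ) (_ : 1 ≤ e) (b : Perm (Fin (p ^ e)))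
    (x y : Fin (p ^ e)) (_ : ((p ^ (e - 1) : ℕ) : ℤ) ∣ ((x : ℕ) : ℤ) - ((y : ℕ) : ℤ))
    (_ : ¬ (p : ℤ) ∣ (((b x : Fin (p ^ e)) : ℕ) : ℤ) - (((b y : Fin (p ^ e)) : ℕ) : ℤ))
    (f : ℕ)
    (_ : (Finset.univ.filter (fun z : Fin (p ^ e) => (finRotate (p ^ e) * b) z = z)).card = f)
    (_ : 2 ≤ f) (_ : ¬ p ∣ f), Good p (finRotate (p ^ e)) b

theorem h45_finish (gpc : h45_GPC) (p : ℕ) (hp : p.Prime) (hp3 : 3 ≤ p) (e : ℕ) (L : List ℕ)
    (he : 2 ≤ e) (hpow : ∀ l ∈ L, ∃ j : ℕ, 1 ≤ j ∧ l = p ^ j ∧ l < p ^ e)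
    (b : Perm (Fin (p ^ e))) (hct : b.cycleType = (L : Multiset ℕ))
    (h0 : ∀ z : Fin (p ^ e), z.val = 0 → (b z).val + 1 < p ^ e)
    (hf2 : 2 ≤ h45_cnt b) (hfp : ¬ p ∣ h45_cnt b)
    (x y : Fin (p ^ e)) (hx : x.val = 0) (hy : y.val = 2 * p ^ (e - 1))
    (hxy : (b x).val % p ≠ (b y).val % p) :
    GoodBoth p (finRotate (p ^ e)) b := by
  have hgood : Good p (finRotate (p ^ e)) b := by
    apply gpc p hp hp3 e (by omega) b x y ?_ ?_ (h45_cnt b) (h45_fix_cnt b h0) hf2 hfp
    · rw [hx, hy]; exact ⟨-2, by push_cast; ring⟩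
    · intro hd
      apply hxy
      have h1 := Nat.modEq_iff_dvd.mpr hd
      exact h1.symm
  refine ⟨hgood, ?_⟩
  obtain ⟨τ, hτ1, hτ2⟩ := h45_tau b (by
    rintro ⟨h2, h3⟩
    rw [hct] at h2 h3
    have hnd : L.Nodup := by
      rw [← Multiset.coe_nodup, Multiset.nodup_iff_count_le_one]; exact h3
    have h4 := h45_not_nodup p hp3 e L (by omega) hpow hnd
    rw [Multiset.sum_coe] at h2
    omega)
  exact ⟨τ, hτ1, by rw [hτ2]; exact hgood⟩

/-- [INTV] with the statement of GPC as a hypothesis -/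
theorem h45_intv_of_gpc (gpc : h45_GPC) (p : ℕ) (hp : p.Prime) (hp3 : 3 ≤ p) (e : ℕ)
    (L : List ℕ) (hL0 : L ≠ [])
    (hpow : ∀ l ∈ L, ∃ j : ℕ, 1 ≤ j ∧ l = p ^ j ∧ l < p ^ e) (hsum : L.sum ≤ p ^ e) :
    ∃ b : Perm (Fin (p ^ e)), b.cycleType = (L : Multiset ℕ) ∧
      GoodBoth p (finRotate (p ^ e)) b := by
  have hparts : ∀ l ∈ L, p ∣ l ∧ 3 ≤ l ∧ l ≤ p ^ (e - 1) ∧ 2 ≤ e :=
    fun l hl => h45_part p hp3 e l (hpow l hl)
  have he : 2 ≤ e := by
    rcases L with _ | ⟨l₁, L'⟩
    · exact absurd rfl hL0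
    · exact (hparts l₁ List.mem_cons_self).2.2.2
  have hq : p ^ e = p * p ^ (e - 1) := by
    rw [← pow_succ']; congr 1; omega
  have hq1 : 1 ≤ p ^ (e - 1) := Nat.one_le_pow _ _ (by omega)
  have hM3 : 3 * p ^ (e - 1) ≤ p ^ e := by
    rw [hq]; exact Nat.mul_le_mul_right _ hp3
  have hpq : p ∣ p ^ (e - 1) := dvd_pow_self p (by omega)
  have hy0 : (2 * p ^ (e - 1)) % p = 0 := Nat.mod_eq_zero_of_dvd (Dvd.dvd.mul_left hpq 2)
  have h1p : 1 % p = 1 := Nat.mod_eq_of_lt (by omega)
  have h2p : (1 + 1) % p = 2 := Nat.mod_eq_of_lt (by omega)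
  have hL1 : ∀ l ∈ L, p ∣ l ∧ 1 ≤ l := fun l hl => ⟨(hparts l hl).1, by
    have := (hparts l hl).2.1; omega⟩
  obtain ⟨y0, hy0v⟩ : ∃ y : Fin (p ^ e), y.val = 2 * p ^ (e - 1) :=
    ⟨⟨2 * p ^ (e - 1), by omega⟩, rfl⟩
  obtain ⟨x0, hx0v⟩ : ∃ x : Fin (p ^ e), x.val = 0 := ⟨⟨0, by omega⟩, rfl⟩
  rcases L with _ | ⟨l₁, _ | ⟨l₂, L''⟩⟩
  · exact absurd rfl hL0
  · -- a single reversed cycle
    obtain ⟨hd1, h31, hle1, -⟩ := hparts l₁ List.mem_cons_self
    have hfix : ∀ x : Fin (p ^ e), x.val < 0 + l₁ → h45_R (p ^ e) [] (0 + l₁) x = x :=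
      fun x hx => h45_R_fix [] (0 + l₁) x hx
    have hb0 : ∀ z : Fin (p ^ e), z.val = 0 → (h45_R (p ^ e) [l₁] 0 z).val = l₁ - 1 := by
      intro z hz
      show ((h45_E (p ^ e) 0 l₁ (finRotate l₁)⁻¹ * h45_R (p ^ e) [] (0 + l₁)) z).val = _
      rw [h45_pre_lt _ _ hfix z (by omega), h45_E_in (by omega) _ z (by omega) (by omega),
        h45_rv_val]
      dsimp only
      split_ifs <;> omega
    have hcnt : h45_cnt (h45_R (p ^ e) [l₁] 0) = l₁ - 1 := by
      rw [h45_R_cnt [l₁] 0 (by simp; omega) (fun l hl => (hL1 l hl).2)]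
      simp
    have hct : (h45_R (p ^ e) [l₁] 0).cycleType = (([l₁] : List ℕ) : Multiset ℕ) :=
      h45_R_cycleType [l₁] 0 (by simp; omega) (fun l hl => by
        have := (hparts l hl).2.1; omega)
    refine ⟨h45_R (p ^ e) [l₁] 0, hct, ?_⟩
    refine h45_finish gpc p hp hp3 e [l₁] he hpow _ hct ?_ ?_ ?_ x0 y0 hx0v hy0v ?_
    · intro z hz
      rw [hb0 z hz]; omega
    · rw [hcnt]; omega
    · rw [hcnt]
      intro hd
      have h5 : p ∣ 1 := by
        have h6 : p ∣ (l₁ - 1) + 1 := by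
          rw [Nat.sub_add_cancel (by omega)]; exact hd1
        exact (Nat.dvd_add_right hd).mp h6
      have := Nat.le_of_dvd (by omega) h5
      omega
    · have hy : h45_R (p ^ e) [l₁] 0 y0 = y0 := by
        show (h45_E (p ^ e) 0 l₁ (finRotate l₁)⁻¹ * h45_R (p ^ e) [] (0 + l₁)) y0 = y0
        rw [h45_pre_ge _ _ hfix y0 (by omega)]
        rfl
      rw [hb0 x0 hx0v, hy, hy0v, hy0]
      intro h7
      have h8 : (l₁ - 1 + 1) % p = 1 := by
        rw [Nat.add_mod, h7, h1p, Nat.zero_add]; exact h1p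
      rw [Nat.sub_add_cancel (by omega), Nat.mod_eq_zero_of_dvd hd1] at h8
      omega
  · obtain ⟨hd1, h31, hle1, -⟩ := hparts l₁ List.mem_cons_self
    obtain ⟨hd2, h32, hle2, -⟩ := hparts l₂ (List.mem_cons_of_mem _ List.mem_cons_self)
    simp only [List.sum_cons] at hsum
    by_cases hk : p ∣ L''.length + 1
    · -- two forward cycles
      have hR : ∀ x : Fin (p ^ e), x.val < l₁ + l₂ → h45_R (p ^ e) L'' (l₁ + l₂) x = x :=
        fun x hx => h45_R_fix L'' (l₁ + l₂) x hx
      have hB : ∀ x : Fin (p ^ e), x.val < 0 + l₁ →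
          (h45_E (p ^ e) l₁ l₂ (finRotate l₂) * h45_R (p ^ e) L'' (l₁ + l₂)) x = x := by
        intro x hx
        rw [h45_pre_lt _ _ hR x (by omega)]
        exact h45_E_out _ x (Or.inl (by omega))
      have hL'' : ∀ l ∈ L'', l ∈ l₁ :: l₂ :: L'' := fun l hl =>
        List.mem_cons_of_mem _ (List.mem_cons_of_mem _ hl)
      have hct : (h45_E (p ^ e) 0 l₁ (finRotate l₁) *
          (h45_E (p ^ e) l₁ l₂ (finRotate l₂) * h45_R (p ^ e) L'' (l₁ + l₂))).cycleType =
          ((l₁ :: l₂ :: L'' : List ℕ) : Multiset ℕ) := by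
        rw [h45_pre_cycleType (by omega) _ _ hB, h45_pre_cycleType (by omega) _ _ hR,
          h45_R_cycleType L'' (l₁ + l₂) (by omega) (fun l hl => by
            have := (hparts l (hL'' l hl)).2.1; omega),
          cycleType_finRotate_of_le (by omega), cycleType_finRotate_of_le (by omega)]
        rfl
      have hcnt : h45_cnt (h45_E (p ^ e) 0 l₁ (finRotate l₁) *
          (h45_E (p ^ e) l₁ l₂ (finRotate l₂) * h45_R (p ^ e) L'' (l₁ + l₂))) =
          (L''.map (fun l => l - 1)).sum := by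
        rw [h45_cnt_fw (by omega) h31 _ hB, h45_cnt_fw (by omega) h32 _ hR,
          h45_R_cnt L'' (l₁ + l₂) (by omega) (fun l hl => (hL1 l (hL'' l hl)).2)]
      have hb0 : ∀ z : Fin (p ^ e), z.val = 0 → ((h45_E (p ^ e) 0 l₁ (finRotate l₁) *
          (h45_E (p ^ e) l₁ l₂ (finRotate l₂) * h45_R (p ^ e) L'' (l₁ + l₂))) z).val = 1 := by
        intro z hz
        rw [h45_pre_lt _ _ hB z (by omega), h45_E_in (by omega) _ z (by omega) (by omega),
          h45_fw_val]
        dsimp only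
        split_ifs <;> omega
      have hlen : 2 ≤ L''.length := by
        have := Nat.le_of_dvd (by omega) hk
        omega
      refine ⟨_, hct, ?_⟩
      refine h45_finish gpc p hp hp3 e _ he hpow _ hct ?_ ?_ ?_ x0 y0 hx0v hy0v ?_
      · intro z hz
        rw [hb0 z hz]; omega
      · rw [hcnt]
        have := h45_ge L'' (fun l hl => (hparts l (hL'' l hl)).2.1)
        omega
      · rw [hcnt]
        apply h45_ndvd p L'' (fun l hl => hL1 l (hL'' l hl))
        intro hd
        have h5 : p ∣ 1 := (Nat.dvd_add_right hd).mp hk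
        have := Nat.le_of_dvd (by omega) h5
        omega
      · rw [hb0 x0 hx0v, h1p, h45_pre_ge _ _ hB y0 (by omega),
          h45_pre_ge _ _ hR y0 (by omega)]
        rcases h45_R_cong p L'' (l₁ + l₂) (by omega) (fun l hl => hL1 l (hL'' l hl))
          y0 with h9 | h9
        · rw [hy0v, hy0] at h9
          rw [h9]; omega
        · rw [hy0v, hy0] at h9
          intro h10
          rw [Nat.add_mod, ← h10, h1p, h2p] at h9
          omega
    · -- one forward cycle
      have hR : ∀ x : Fin (p ^ e), x.val < 0 + l₁ → h45_R (p ^ e) (l₂ :: L'') l₁ x = x :=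
        fun x hx => h45_R_fix (l₂ :: L'') l₁ x (by omega)
      have hL' : ∀ l ∈ l₂ :: L'', l ∈ l₁ :: l₂ :: L'' := fun l hl =>
        List.mem_cons_of_mem _ hl
      have hct : (h45_E (p ^ e) 0 l₁ (finRotate l₁) *
          h45_R (p ^ e) (l₂ :: L'') l₁).cycleType =
          ((l₁ :: l₂ :: L'' : List ℕ) : Multiset ℕ) := by
        rw [h45_pre_cycleType (by omega) _ _ hR,
          h45_R_cycleType (l₂ :: L'') l₁ (by simp only [List.sum_cons]; omega) (fun l hl => by
            have := (hparts l (hL' l hl)).2.1; omega),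
          cycleType_finRotate_of_le (by omega)]
        rfl
      have hcnt : h45_cnt (h45_E (p ^ e) 0 l₁ (finRotate l₁) *
          h45_R (p ^ e) (l₂ :: L'') l₁) = ((l₂ :: L'').map (fun l => l - 1)).sum := by
        rw [h45_cnt_fw (by omega) h31 _ hR,
          h45_R_cnt (l₂ :: L'') l₁ (by simp only [List.sum_cons]; omega)
            (fun l hl => (hL1 l (hL' l hl)).2)]
      have hb0 : ∀ z : Fin (p ^ e), z.val = 0 → ((h45_E (p ^ e) 0 l₁ (finRotate l₁) *
          h45_R (p ^ e) (l₂ :: L'') l₁) z).val = 1 := by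
        intro z hz
        rw [h45_pre_lt _ _ hR z (by omega), h45_E_in (by omega) _ z (by omega) (by omega),
          h45_fw_val]
        dsimp only
        split_ifs <;> omega
      refine ⟨_, hct, ?_⟩
      refine h45_finish gpc p hp hp3 e _ he hpow _ hct ?_ ?_ ?_ x0 y0 hx0v hy0v ?_
      · intro z hz
        rw [hb0 z hz]; omega
      · rw [hcnt]
        have := h45_ge (l₂ :: L'') (fun l hl => (hparts l (hL' l hl)).2.1)
        simp only [List.length_cons] at this
        omega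
      · rw [hcnt]
        exact h45_ndvd p (l₂ :: L'') (fun l hl => hL1 l (hL' l hl)) (by
          simpa only [List.length_cons] using hk)
      · rw [hb0 x0 hx0v, h1p, h45_pre_ge _ _ hR y0 (by omega)]
        rcases h45_R_cong p (l₂ :: L'') l₁ (by simp only [List.sum_cons]; omega)
          (fun l hl => hL1 l (hL' l hl)) y0 with h9 | h9
        · rw [hy0v, hy0] at h9
          rw [h9]; omega
        · rw [hy0v, hy0] at h9
          intro h10
          rw [Nat.add_mod, ← h10, h1p, h2p] at h9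
          omega

end Cfsg.Agent.Lib.helper95.AP
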