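import Mathlib
import Cfsg.Prelude.Def_Classical
import Cfsg.Prelude.Def_GeometricClasses
import Cfsg.Agent.Lib.helper17.CartanDieudonne
import Cfsg.Agent.Lib.helper95.OmegaTools
import Cfsg.Agent.Lib.helper69.FeNDP
import Cfsg.Agent.Lib.helper69.FeNDM

/-!
# S5977 / S5978, interface hypothesis HSQ of block [A]

In odd characteristic the square of every isometry of a nondegenerate quadratic form lies in
`Ω` (the commutator subgroup of the isometry group): by Cartan–Dieudonné the isometry group is
generated by reflections, which are involutions, so its abelianization has exponent 2.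
-/

set_option autoImplicit false

namespace Cfsg.Agent.Lib.helper20.BG

open Cfsg Cfsg.Geo Matrix

/-- in a group generated by involutions every square lies in the commutator subgroup -/
theorem h45_sq_mem_commutator {G : Type*} [Group G] (S : Set G) (hS : ∀ s ∈ S, s * s = 1)
    (htop : Subgroup.closure S = ⊤) (x : G) : x * x ∈ commutator G := by
  rw [← Abelianization.ker_of, MonoidHom.mem_ker]
  have hx : x ∈ Subgroup.closure S := by rw [htop]; trivial
  have key : Subgroup.closure S ≤
      ((powMonoidHom 2 : Abelianization G →* Abelianization G).comp Abelianization.of).ker := by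
    rw [Subgroup.closure_le]
    intro s hs
    rw [SetLike.mem_coe, MonoidHom.mem_ker, MonoidHom.comp_apply, powMonoidHom_apply, ← map_pow,
      pow_two, hS s hs, map_one]
  have h1 := key hx
  rw [MonoidHom.mem_ker, MonoidHom.comp_apply, powMonoidHom_apply, pow_two, ← map_mul] at h1
  exact h1

/-- HSQ for an arbitrary nondegenerate quadratic form in characteristic `≠ 2` -/
theorem h45_hsq {F : Type*} [Field F] {ι : Type} [Fintype ι] [DecidableEq ι] (h2 : (2 : F) ≠ 0)
    (Q : (ι → F) → F) (hQ : IsNondegenerateQuadraticForm Q) :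
    ∀ x ∈ Cfsg.isometryGroup F Q, x * x ∈ Cfsg.Geo.omegaGL Q := by
  intro x hx
  have hnd : (QuadraticMap.polarBilin
      (Cfsg.Agent.Lib.helper95.qfOfNondeg Q hQ)).Nondegenerate := by
    constructor
    · intro v hv
      by_contra hv0
      obtain ⟨y, hy⟩ := (hQ.nondegenerate v hv0).2
      exact hy (hv y)
    · intro v hv
      by_contra hv0
      obtain ⟨y, hy⟩ := (hQ.nondegenerate v hv0).1
      exact hy (hv y)
  have htop := Cfsg.Agent.Lib.helper17.reflSubgroup_eq_top h2
    (Cfsg.Agent.Lib.helper95.qfOfNondeg Q hQ) hnd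
  have hsq : (⟨x, hx⟩ : isometryGroup F Q) * ⟨x, hx⟩ ∈ commutator (isometryGroup F Q) :=
    h45_sq_mem_commutator (G := isometryGroup F Q)
      {g | ∃ v, ∃ hv : (Cfsg.Agent.Lib.helper95.qfOfNondeg Q hQ) v ≠ 0,
        g = Cfsg.Agent.Lib.helper17.reflectionIsom (Cfsg.Agent.Lib.helper95.qfOfNondeg Q hQ) v hv}
      (by
        rintro s ⟨v, hv, rfl⟩
        exact Cfsg.Agent.Lib.helper17.reflectionIsom_mul_self _ v hv) htop ⟨x, hx⟩
  exact Subgroup.mem_map_of_mem _ hsq

/-- `2 ≠ 0` in a finite field of odd order -/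
theorem h45_two_ne_zero {F : Type*} [Field F] [Fintype F] (hodd : Odd (Fintype.card F)) :
    (2 : F) ≠ 0 := by
  intro h0
  have : CharP F 2 := CharTwo.of_one_ne_zero_of_two_eq_zero one_ne_zero h0
  have h1 := FiniteField.even_card_of_char_two (ringChar.eq F 2)
  rw [Nat.odd_iff] at hodd
  omega

/-- HSQ, plus type, in the shape of `h20_s5977_core` -/
theorem h45_hsq_plus {F : Type*} [Field F] [Fintype F] (hodd : Odd (Fintype.card F)) (d : ℕ) :
    ∀ x ∈ Cfsg.isometryGroup F (Cfsg.quadFormPlus d F),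
      x * x ∈ Cfsg.Geo.omegaGL (Cfsg.quadFormPlus d F) :=
  h45_hsq (h45_two_ne_zero hodd) _ (Cfsg.Agent.Lib.helper96.FE.fe_nd_plus d)

/-- HSQ, minus type, in the shape of `h20_s5978_core` (with `m = d - 1`) -/
theorem h45_hsq_minus {F : Type*} [Field F] [Fintype F] (hodd : Odd (Fintype.card F)) (m : ℕ)
    (a b : F) (hab : ∀ x y : F, x ^ 2 + a * x * y + b * y ^ 2 = 0 → x = 0 ∧ y = 0) :
    ∀ x ∈ Cfsg.isometryGroup F (Cfsg.quadFormMinus m F a b),
      x * x ∈ Cfsg.Geo.omegaGL (Cfsg.quadFormMinus m F a b) :=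
  h45_hsq (h45_two_ne_zero hodd) _
    (Cfsg.Agent.Lib.helper96.FE.fe_nd_minus (h45_two_ne_zero hodd) m a b hab)

end Cfsg.Agent.Lib.helper20.BG
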