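import Mathlib
import Cfsg.Prelude.Def_ChevAutomorphisms
import Cfsg.Prelude.Def_LieTypes
import Cfsg.Prelude.Def_ChevB2
import Cfsg.Agent.Lib.helper22.ChevN

set_option autoImplicit false

namespace Cfsg.Agent.Lib.helper45

open Cfsg.Lie Cfsg.Agent.Lib.helper22

/-- Walk along a word of fundamental reflections (applied from the right end of the list first), checking
that all indices stay in range. -/
def walkRoot (D : ChevalleyDatum) : List ℕ → ℕ → Option ℕ
  | [], s => if s < D.nroots then some s else none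
  | k :: w, s => (walkRoot D w s).bind fun s' =>
      if k < D.rank ∧ D.reflectRoot k s' < D.nroots then some (D.reflectRoot k s') else none

section

variable {K : Type*} [Field K] (D : ChevalleyDatum)

/-- All root elements `x_r(t)` lie in the subgroup `T`. -/
def RootGood (T : Subgroup (GL D.Idx K)) (r : ℕ) : Prop :=
  ∀ (t : K) (g : GL D.Idx K), (g : Matrix D.Idx D.Idx K) = D.x K r t → g ∈ T

theorem rootGood_reflect (T : Subgroup (GL D.Idx K)) (hN : D.monomialSubgroup K ≤ T)
    (hrefl : ∀ k s, k < D.rank → s < D.nroots → ∃ η : ℤ, (η = 1 ∨ η = -1) ∧ ∀ t : K,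
      D.nMat K (D.simple k) 1 * D.x K s t = D.x K (D.reflectRoot k s) ((η : K) * t) * D.nMat K (D.simple k) 1)
    (hn : ∀ k < D.rank, ∃ g : GL D.Idx K, (g : Matrix D.Idx D.Idx K) = D.nMat K (D.simple k) 1 ∧
      g ∈ D.monomialSubgroup K)
    (k s : ℕ) (hk : k < D.rank) (hs : s < D.nroots) (h : RootGood D T s) :
    RootGood D T (D.reflectRoot k s) := by
  intro t g' hg'
  obtain ⟨η, hη, hr⟩ := hrefl k s hk hs
  obtain ⟨n, hn1, hn2⟩ := hn k hk
  have h1 := hr ((η : K) * t)
  have hηη : (η : K) * ((η : K) * t) = t := by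
    rcases hη with rfl | rfl <;> simp
  rw [hηη, ← hg', ← hn1] at h1
  have h2 : ((n⁻¹ * g' * n : GL D.Idx K) : Matrix D.Idx D.Idx K) = D.x K s ((η : K) * t) := by
    have h3 : ((n⁻¹ : GL D.Idx K) : Matrix D.Idx D.Idx K) * ((n : GL D.Idx K) : Matrix D.Idx D.Idx K) = 1 := by
      rw [← Units.val_mul, inv_mul_cancel, Units.val_one]
    rw [Units.val_mul, Units.val_mul, Matrix.mul_assoc, ← h1, ← Matrix.mul_assoc, h3, Matrix.one_mul]
  have h4 := h _ _ h2
  have h5 : g' = n * (n⁻¹ * g' * n) * n⁻¹ := by group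
  rw [h5]
  exact T.mul_mem (T.mul_mem (hN hn2) h4) (T.inv_mem (hN hn2))

theorem rootGood_walk (T : Subgroup (GL D.Idx K)) (hN : D.monomialSubgroup K ≤ T)
    (hrefl : ∀ k s, k < D.rank → s < D.nroots → ∃ η : ℤ, (η = 1 ∨ η = -1) ∧ ∀ t : K,
      D.nMat K (D.simple k) 1 * D.x K s t = D.x K (D.reflectRoot k s) ((η : K) * t) * D.nMat K (D.simple k) 1)
    (hn : ∀ k < D.rank, ∃ g : GL D.Idx K, (g : Matrix D.Idx D.Idx K) = D.nMat K (D.simple k) 1 ∧
      g ∈ D.monomialSubgroup K)
    (w : List ℕ) (s r : ℕ) (hw : walkRoot D w s = some r) (h : RootGood D T s) :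
    RootGood D T r ∧ r < D.nroots := by
  induction w generalizing r with
  | nil =>
    unfold walkRoot at hw
    split_ifs at hw with h1
    have : s = r := Option.some.inj hw
    subst this
    exact ⟨h, h1⟩
  | cons k w ih =>
    unfold walkRoot at hw
    rw [Option.bind_eq_some_iff] at hw
    obtain ⟨s', hs', hw2⟩ := hw
    split_ifs at hw2 with h1
    have : D.reflectRoot k s' = r := Option.some.inj hw2
    subst this
    obtain ⟨h3, h4⟩ := ih s' hs'
    exact ⟨rootGood_reflect D T hN hrefl hn k s' h1.1 h4 h3, h1.2⟩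

/-- The Chevalley group lies in `N ⊔ X_a ⊔ X_b` as soon as every root is reached from `a` or `b` by a walk
of fundamental reflections. -/
theorem group_le_of_walks (i j : ℕ)
    (hrefl : ∀ k s, k < D.rank → s < D.nroots → ∃ η : ℤ, (η = 1 ∨ η = -1) ∧ ∀ t : K,
      D.nMat K (D.simple k) 1 * D.x K s t = D.x K (D.reflectRoot k s) ((η : K) * t) * D.nMat K (D.simple k) 1)
    (hn : ∀ k < D.rank, ∃ g : GL D.Idx K, (g : Matrix D.Idx D.Idx K) = D.nMat K (D.simple k) 1 ∧
      g ∈ D.monomialSubgroup K)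
    (cert : List (ℕ × List ℕ))
    (hcert : ∀ r < D.nroots, ((cert.getD r (0, [])).1 = i ∨ (cert.getD r (0, [])).1 = j) ∧
      walkRoot D (cert.getD r (0, [])).2 (D.simple (cert.getD r (0, [])).1) = some r) :
    D.group K ≤ D.monomialSubgroup K ⊔ D.rootSubgroup K (D.simple i) ⊔ D.rootSubgroup K (D.simple j) := by
  have hN : D.monomialSubgroup K ≤
      D.monomialSubgroup K ⊔ D.rootSubgroup K (D.simple i) ⊔ D.rootSubgroup K (D.simple j) :=
    le_sup_of_le_left le_sup_left
  have hi : RootGood D (D.monomialSubgroup K ⊔ D.rootSubgroup K (D.simple i) ⊔ D.rootSubgroup K (D.simple j))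
      (D.simple i) := by
    intro t g hg
    apply Subgroup.mem_sup_left
    apply Subgroup.mem_sup_right
    exact Subgroup.subset_closure ⟨t, hg⟩
  have hj : RootGood D (D.monomialSubgroup K ⊔ D.rootSubgroup K (D.simple i) ⊔ D.rootSubgroup K (D.simple j))
      (D.simple j) := by
    intro t g hg
    apply Subgroup.mem_sup_right
    exact Subgroup.subset_closure ⟨t, hg⟩
  unfold ChevalleyDatum.group
  rw [Subgroup.closure_le]
  rintro g ⟨r, t, hg⟩
  obtain ⟨h1, h2⟩ := hcert r.val r.isLt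
  have h3 : RootGood D (D.monomialSubgroup K ⊔ D.rootSubgroup K (D.simple i) ⊔ D.rootSubgroup K (D.simple j))
      r.val := by
    rcases h1 with h1 | h1
    · rw [h1] at h2
      exact (rootGood_walk D _ hN hrefl hn _ _ _ h2 hi).1
    · rw [h1] at h2
      exact (rootGood_walk D _ hN hrefl hn _ _ _ h2 hj).1
  exact h3 t g (by rw [hg, x_eq])

/-- The elements `n_p(1)` for fundamental roots are invertible matrices in the monomial subgroup, given string
data for the fundamental roots. -/
theorem exists_nMat_unit (k : ℕ) (hk : D.simple k < D.nroots)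
    (S : StringData D ⟨D.simple k, hk⟩) :
    ∃ g : GL D.Idx K, (g : Matrix D.Idx D.Idx K) = D.nMat K (D.simple k) 1 ∧ g ∈ D.monomialSubgroup K := by
  refine ⟨sl2Hom S (sl2n 1 one_ne_zero), sl2Hom_sl2n S 1 one_ne_zero, ?_⟩
  unfold ChevalleyDatum.monomialSubgroup
  apply Subgroup.mem_sup_right
  exact Subgroup.subset_closure ⟨D.simple k, hk, sl2Hom_sl2n S 1 one_ne_zero⟩

end

end Cfsg.Agent.Lib.helper45
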