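import Mathlib
import Cfsg.Agent.Lib.helper45.ChevOrbit
import Cfsg.Agent.Lib.helper22.ChevU

/-!
# Chevalley groups are generated by `N` and one short fundamental root subgroup (helper45)

Generic certificate-driven argument: walks of fundamental reflections transport root subgroups, and one
commutator of two short root elements gives a long root subgroup when the structure constant is
invertible.
-/

set_option autoImplicit false

namespace Cfsg.Agent.Lib.helper45

open Cfsg.Lie Cfsg.Agent.Lib.helper22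

section

variable {K : Type*} [Field K] (D : ChevalleyDatum)

theorem exists_gl_x (hSD : ∀ r : Fin D.nroots, Nonempty (StringData D r)) (r : ℕ) (hr : r < D.nroots)
    (t : K) : ∃ g : GL D.Idx K, (g : Matrix D.Idx D.Idx K) = D.x K r t := by
  obtain ⟨S⟩ := hSD ⟨r, hr⟩
  exact ⟨sl2Hom S (sl2u t), sl2Hom_upper S _ t rfl⟩

theorem group_le_of_good (T : Subgroup (GL D.Idx K)) (h : ∀ r < D.nroots, RootGood D T r) :
    D.group K ≤ T := by
  unfold ChevalleyDatum.group
  rw [Subgroup.closure_le]
  rintro g ⟨r, t, hg⟩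
  exact h r.val r.isLt t g (by rw [hg, x_eq])

/-- A commutator of two good root subgroups with a single term with invertible constant gives a good
root. -/
theorem rootGood_comm (T : Subgroup (GL D.Idx K)) (hcomm : CommFormula D K)
    (hSD : ∀ r : Fin D.nroots, Nonempty (StringData D r)) (s1 s2 l : ℕ) (c : ℤ)
    (hs1 : s1 < D.nroots) (hs2 : s2 < D.nroots) (hne : s2 ≠ s1) (hneg : s2 ≠ D.neg s1)
    (hterms : D.commTerms s1 s2 = [(l, c, 1, 1)]) (hc : (c : K) ≠ 0)
    (h1 : RootGood D T s1) (h2 : RootGood D T s2) : RootGood D T l := by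
  intro a g hg
  obtain ⟨g1, hg1⟩ := exists_gl_x D hSD s1 hs1 (-(a / (c : K)))
  obtain ⟨g2, hg2⟩ := exists_gl_x D hSD s2 hs2 (1 : K)
  have hf := hcomm s1 s2 hs1 hs2 hne hneg (-(a / (c : K))) 1
  have hw : D.wordMat K (D.commWord K s1 s2 (-(a / (c : K))) 1) = D.x K l a := by
    unfold ChevalleyDatum.commWord ChevalleyDatum.wordMat
    rw [hterms]
    simp only [List.map_cons, List.map_nil, List.prod_cons, List.prod_nil, mul_one, pow_one, neg_neg]
    congr 1
    field_simp
  rw [hw, ← hg, ← hg1, ← hg2, ← Units.val_mul, ← Units.val_mul, ← Units.val_mul] at hf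
  have hf' : g2 * g1 = g1 * g2 * g := Units.ext hf
  have hgeq : g = (g1 * g2)⁻¹ * (g2 * g1) := by
    rw [hf']
    group
  rw [hgeq]
  exact T.mul_mem (T.inv_mem (T.mul_mem (h1 _ _ hg1) (h2 _ _ hg2))) (T.mul_mem (h2 _ _ hg2) (h1 _ _ hg1))

/-- Certificate-driven generation by `N` and a single fundamental root subgroup. -/
theorem group_le_of_short_cert (i : ℕ)
    (hrefl : ∀ k s, k < D.rank → s < D.nroots → ∃ η : ℤ, (η = 1 ∨ η = -1) ∧ ∀ t : K,
      D.nMat K (D.simple k) 1 * D.x K s t = D.x K (D.reflectRoot k s) ((η : K) * t) * D.nMat K (D.simple k) 1)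
    (hn : ∀ k < D.rank, ∃ g : GL D.Idx K, (g : Matrix D.Idx D.Idx K) = D.nMat K (D.simple k) 1 ∧
      g ∈ D.monomialSubgroup K)
    (b0 l0 : ℕ) (wU : List ℕ) (hU : walkRoot D wU (D.simple i) = some b0)
    (hlong : RootGood D (D.monomialSubgroup K ⊔ D.rootSubgroup K (D.simple i)) b0 →
      RootGood D (D.monomialSubgroup K ⊔ D.rootSubgroup K (D.simple i)) l0)
    (cert : List (Bool × List ℕ))
    (hcert : ∀ r < D.nroots, walkRoot D (cert.getD r (false, [])).2
      (if (cert.getD r (false, [])).1 then l0 else b0) = some r) :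
    D.group K ≤ D.monomialSubgroup K ⊔ D.rootSubgroup K (D.simple i) := by
  have hN : D.monomialSubgroup K ≤ D.monomialSubgroup K ⊔ D.rootSubgroup K (D.simple i) := le_sup_left
  have hi : RootGood D (D.monomialSubgroup K ⊔ D.rootSubgroup K (D.simple i)) (D.simple i) := by
    intro t g hg
    apply Subgroup.mem_sup_right
    exact Subgroup.subset_closure ⟨t, hg⟩
  have hb : RootGood D (D.monomialSubgroup K ⊔ D.rootSubgroup K (D.simple i)) b0 :=
    (rootGood_walk D _ hN hrefl hn _ _ _ hU hi).1
  have hl := hlong hb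
  apply group_le_of_good
  intro r hr
  have h := hcert r hr
  by_cases hflag : (cert.getD r (false, [])).1 = true
  · rw [if_pos hflag] at h
    exact (rootGood_walk D _ hN hrefl hn _ _ _ h hl).1
  · rw [if_neg hflag] at h
    exact (rootGood_walk D _ hN hrefl hn _ _ _ h hb).1

end

end Cfsg.Agent.Lib.helper45
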