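import Mathlib
import Cfsg.Agent.Lib.helper45.ChevShort
import Cfsg.Agent.Lib.helper23.ChevConjAll
import Cfsg.Agent.Lib.helper22.ChevCFAll
import Cfsg.Agent.Lib.helper23.ChevStringAll

/-!
# Certificates: every root is reached from a short fundamental root (helper45)

Walk certificates for the seven types, and the resulting generation of the Chevalley group by the
monomial subgroup and one short fundamental root subgroup.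
-/

set_option autoImplicit false

namespace Cfsg.Agent.Lib.helper45

open Cfsg.Lie Cfsg.Agent.Lib.helper22

section

variable {K : Type*} [Field K]

theorem short_gen (D : ChevalleyDatum)
    (hD : D ∈ [chevG2, chevB2, chevD4, chevF4, chevE6, chevE7, chevE8])
    (b0 l0 : ℕ) (cU : List (List ℕ)) (cV : List (Bool × List ℕ))
    (hsimp : ∀ k < D.rank, D.simple k < D.nroots)
    (hU : ∀ i < D.rank, D.isLong (D.simple i) = false →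
      walkRoot D (cU.getD i []) (D.simple i) = some b0)
    (hV : ∀ r < D.nroots, walkRoot D (cV.getD r (false, [])).2
      (if (cV.getD r (false, [])).1 then l0 else b0) = some r)
    (hlong : ∀ T : Subgroup (GL D.Idx K), D.monomialSubgroup K ≤ T → RootGood D T b0 → RootGood D T l0)
    (i : ℕ) (hi : i < D.rank) (hshort : D.isLong (D.simple i) = false) :
    D.group K ≤ D.monomialSubgroup K ⊔ D.rootSubgroup K (D.simple i) := by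
  refine group_le_of_short_cert D i (fun k s hk hs => Cfsg.Agent.Lib.helper23.chev_conj_all D hD k hk s hs)
    ?_ b0 l0 (cU.getD i []) (hU i hi hshort) (hlong _ le_sup_left) cV hV
  intro k hk
  obtain ⟨S, -⟩ := Cfsg.Agent.Lib.helper23.exists_stringData D hD ⟨D.simple k, hsimp k hk⟩
  exact exists_nMat_unit D k (hsimp k hk) S

theorem long_of_comm (D : ChevalleyDatum)
    (hD : D ∈ [chevG2, chevB2, chevD4, chevF4, chevE6, chevE7, chevE8])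
    (b0 l0 s1 s2 : ℕ) (c : ℤ) (w1 w2 : List ℕ)
    (hsimp : ∀ k < D.rank, D.simple k < D.nroots)
    (h1 : walkRoot D w1 b0 = some s1) (h2 : walkRoot D w2 b0 = some s2)
    (hne : s2 ≠ s1) (hneg : s2 ≠ D.neg s1) (hterms : D.commTerms s1 s2 = [(l0, c, 1, 1)])
    (hc : (c : K) ≠ 0) (T : Subgroup (GL D.Idx K)) (hN : D.monomialSubgroup K ≤ T)
    (hb : RootGood D T b0) : RootGood D T l0 := by
  have hrefl : ∀ k s, k < D.rank → s < D.nroots → ∃ η : ℤ, (η = 1 ∨ η = -1) ∧ ∀ t : K,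
      D.nMat K (D.simple k) 1 * D.x K s t =
        D.x K (D.reflectRoot k s) ((η : K) * t) * D.nMat K (D.simple k) 1 :=
    fun k s hk hs => Cfsg.Agent.Lib.helper23.chev_conj_all D hD k hk s hs
  have hn : ∀ k < D.rank, ∃ g : GL D.Idx K, (g : Matrix D.Idx D.Idx K) = D.nMat K (D.simple k) 1 ∧
      g ∈ D.monomialSubgroup K := by
    intro k hk
    obtain ⟨S, -⟩ := Cfsg.Agent.Lib.helper23.exists_stringData D hD ⟨D.simple k, hsimp k hk⟩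
    exact exists_nMat_unit D k (hsimp k hk) S
  have hSD : ∀ r : Fin D.nroots, Nonempty (StringData D r) := fun r =>
    ⟨(Cfsg.Agent.Lib.helper23.exists_stringData D hD r).choose⟩
  obtain ⟨g1, hs1⟩ := rootGood_walk D T hN hrefl hn _ _ _ h1 hb
  obtain ⟨g2, hs2⟩ := rootGood_walk D T hN hrefl hn _ _ _ h2 hb
  exact rootGood_comm D T (commFormula_all D hD K) hSD s1 s2 l0 c hs1 hs2 hne hneg hterms hc g1 g2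

end

def cUG2 : List (List ℕ) := [[], []]

def cVG2 : List (Bool × List ℕ) := [(true, []), (true, [1]), (false, [0, 1, 0]), (false, [1, 0]), (false, [0]), (true, [0, 1]), (true, [1, 0, 1]), (false, []), (false, [1]), (false, [0, 1]), (true, [0, 1, 0, 1]), (true, [1, 0, 1, 0, 1])]

theorem hsimpG2 : ∀ k < chevG2.rank, chevG2.simple k < chevG2.nroots := by decide +kernel

theorem hUG2 : ∀ i < chevG2.rank, chevG2.isLong (chevG2.simple i) = false →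
    walkRoot chevG2 (cUG2.getD i []) (chevG2.simple i) = some 7 := by decide +kernel

theorem hVG2 : ∀ r < chevG2.nroots, walkRoot chevG2 (cVG2.getD r (false, [])).2
    (if (cVG2.getD r (false, [])).1 then 0 else 7) = some r := by decide +kernel

theorem hWG2 : walkRoot chevG2 [0, 1, 0] 7 = some 2 ∧ walkRoot chevG2 [1, 0] 7 = some 3 ∧
    (3 : ℕ) ≠ 2 ∧ 3 ≠ chevG2.neg 2 ∧ chevG2.commTerms 2 3 = [(0, 3, 1, 1)] := by decide +kernel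

theorem short_gen_G2 {K : Type*} [Field K] (hc : ((3 : ℤ) : K) ≠ 0) (i : ℕ) (hi : i < chevG2.rank)
    (hshort : chevG2.isLong (chevG2.simple i) = false) :
    chevG2.group K ≤ chevG2.monomialSubgroup K ⊔ chevG2.rootSubgroup K (chevG2.simple i) := by
  have hD : chevG2 ∈ [chevG2, chevB2, chevD4, chevF4, chevE6, chevE7, chevE8] := by simp
  obtain ⟨h1, h2, h3, h4, h5⟩ := hWG2
  exact short_gen chevG2 hD 7 0 cUG2 cVG2 hsimpG2 hUG2 hVG2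
    (fun T hN hb => long_of_comm chevG2 hD 7 0 2 3 3 _ _ hsimpG2 h1 h2 h3 h4 h5 hc T hN hb)
    i hi hshort

def cUB2 : List (List ℕ) := [[], []]

def cVB2 : List (Bool × List ℕ) := [(true, []), (false, [1, 0]), (false, [0]), (true, [0]), (true, [1, 0]), (false, []), (false, [1]), (true, [0, 1, 0])]

theorem hsimpB2 : ∀ k < chevB2.rank, chevB2.simple k < chevB2.nroots := by decide +kernel

theorem hUB2 : ∀ i < chevB2.rank, chevB2.isLong (chevB2.simple i) = false →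
    walkRoot chevB2 (cUB2.getD i []) (chevB2.simple i) = some 5 := by decide +kernel

theorem hVB2 : ∀ r < chevB2.nroots, walkRoot chevB2 (cVB2.getD r (false, [])).2
    (if (cVB2.getD r (false, [])).1 then 0 else 5) = some r := by decide +kernel

theorem hWB2 : walkRoot chevB2 [1, 0] 5 = some 1 ∧ walkRoot chevB2 [0] 5 = some 2 ∧
    (2 : ℕ) ≠ 1 ∧ 2 ≠ chevB2.neg 1 ∧ chevB2.commTerms 1 2 = [(0, 2, 1, 1)] := by decide +kernel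

theorem short_gen_B2 {K : Type*} [Field K] (hc : ((2 : ℤ) : K) ≠ 0) (i : ℕ) (hi : i < chevB2.rank)
    (hshort : chevB2.isLong (chevB2.simple i) = false) :
    chevB2.group K ≤ chevB2.monomialSubgroup K ⊔ chevB2.rootSubgroup K (chevB2.simple i) := by
  have hD : chevB2 ∈ [chevG2, chevB2, chevD4, chevF4, chevE6, chevE7, chevE8] := by simp
  obtain ⟨h1, h2, h3, h4, h5⟩ := hWB2
  exact short_gen chevB2 hD 5 0 cUB2 cVB2 hsimpB2 hUB2 hVB2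
    (fun T hN hb => long_of_comm chevB2 hD 5 0 1 2 2 _ _ hsimpB2 h1 h2 h3 h4 h5 hc T hN hb)
    i hi hshort

def cUD4 : List (List ℕ) := [[], [1, 0], [1, 2, 0, 1], [1, 3, 0, 1]]

def cVD4 : List (Bool × List ℕ) := [(false, [1, 3, 2, 1, 0]), (false, [3, 2, 1, 0]), (false, [2, 1, 0]), (false, [3, 1, 0]), (false, [1, 0]), (false, [0]), (false, [3, 2, 0, 1, 0]), (false, [2, 0, 1, 0]), (false, [3, 0, 1, 0]), (false, [0, 1, 0]), (false, [1, 2, 0, 1, 0]), (false, [1, 3, 0, 1, 0]), (false, [1, 3, 0, 1]), (false, [1, 2, 0, 1]), (false, [0, 1]), (false, [3, 0, 1]), (false, [2, 0, 1]), (false, [3, 2, 0, 1]), (false, []), (false, [1]), (false, [3, 1]), (false, [2, 1]), (false, [3, 2, 1]), (false, [1, 3, 2, 1])]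

theorem hsimpD4 : ∀ k < chevD4.rank, chevD4.simple k < chevD4.nroots := by decide +kernel

theorem hUD4 : ∀ i < chevD4.rank, chevD4.isLong (chevD4.simple i) = false →
    walkRoot chevD4 (cUD4.getD i []) (chevD4.simple i) = some 18 := by decide +kernel

theorem hVD4 : ∀ r < chevD4.nroots, walkRoot chevD4 (cVD4.getD r (false, [])).2
    (if (cVD4.getD r (false, [])).1 then 18 else 18) = some r := by decide +kernel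

theorem short_gen_D4 {K : Type*} [Field K] (i : ℕ) (hi : i < chevD4.rank)
    (hshort : chevD4.isLong (chevD4.simple i) = false) :
    chevD4.group K ≤ chevD4.monomialSubgroup K ⊔ chevD4.rootSubgroup K (chevD4.simple i) := by
  have hD : chevD4 ∈ [chevG2, chevB2, chevD4, chevF4, chevE6, chevE7, chevE8] := by simp
  exact short_gen chevD4 hD 18 18 cUD4 cVD4 hsimpD4 hUD4 hVD4 (fun T hN hb => hb) i hi hshort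

def cUF4 : List (List ℕ) := [[], [1, 0], [], []]

def cVF4 : List (Bool × List ℕ) := [(true, []), (true, [3]), (true, [2, 3]), (false, [0, 1, 2, 3, 1, 2, 1, 0]), (true, [1, 2, 3]), (true, [2, 1, 2, 3]), (true, [3, 2, 1, 2, 3]), (false, [1, 2, 3, 1, 2, 1, 0]), (false, [2, 3, 1, 2, 1, 0]), (false, [3, 1, 2, 1, 0]), (false, [1, 2, 1, 0]), (false, [3, 2, 1, 0]), (false, [2, 1, 0]), (false, [1, 0]), (false, [0]), (true, [0, 1, 2, 3]), (true, [2, 0, 1, 2, 3]), (true, [3, 2, 0, 1, 2, 3]), (false, [3, 2, 0, 1, 0]), (false, [2, 0, 1, 0]), (false, [0, 1, 0]), (true, [1, 2, 0, 1, 2, 3]), (true, [3, 1, 2, 0, 1, 2, 3]), (true, [2, 1, 2, 0, 1, 2, 3]), (true, [3, 2, 1, 2, 0, 1, 2, 3]), (true, [2, 3, 1, 2, 0, 1, 2, 3]), (true, [2, 3, 2, 1, 2, 0, 1, 2, 3]), (false, [0, 1]), (false, [2, 0, 1]), (false, [3, 2, 0, 1]),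 (true, [1, 2, 3, 1, 2, 0, 1, 2, 3]), (true, [1, 2, 3, 2, 1, 2, 0, 1, 2, 3]), (true, [2, 1, 2, 3, 2, 1, 2, 0, 1, 2, 3]), (false, []), (false, [1]), (false, [2, 1]), (false, [3, 2, 1]), (false, [1, 2, 1]), (false, [3, 1, 2, 1]), (false, [2, 3, 1, 2, 1]), (false, [1, 2, 3, 1, 2, 1]), (true, [0, 1, 2, 3, 1, 2, 0, 1, 2, 3]), (true, [0, 1, 2, 3, 2, 1, 2, 0, 1, 2, 3]), (true, [2, 0, 1, 2, 3, 2, 1, 2, 0, 1, 2, 3]), (false, [0, 1, 2, 3, 1, 2, 1]), (true, [1, 2, 0, 1, 2, 3, 2, 1, 2, 0, 1, 2, 3]), (true, [2, 1, 2, 0, 1, 2, 3, 2, 1, 2, 0, 1, 2, 3]), (true, [3, 2, 1, 2, 0, 1, 2, 3, 2, 1, 2, 0, 1, 2, 3])]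

theorem hsimpF4 : ∀ k < chevF4.rank, chevF4.simple k < chevF4.nroots := by decide +kernel

theorem hUF4 : ∀ i < chevF4.rank, chevF4.isLong (chevF4.simple i) = false →
    walkRoot chevF4 (cUF4.getD i []) (chevF4.simple i) = some 33 := by decide +kernel

theorem hVF4 : ∀ r < chevF4.nroots, walkRoot chevF4 (cVF4.getD r (false, [])).2
    (if (cVF4.getD r (false, [])).1 then 0 else 33) = some r := by decide +kernel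

theorem hWF4 : walkRoot chevF4 [0, 1, 2, 3, 1, 2, 1, 0] 33 = some 3 ∧ walkRoot chevF4 [3, 2, 0, 1, 0] 33 = some 18 ∧
    (18 : ℕ) ≠ 3 ∧ 18 ≠ chevF4.neg 3 ∧ chevF4.commTerms 3 18 = [(0, 2, 1, 1)] := by decide +kernel

theorem short_gen_F4 {K : Type*} [Field K] (hc : ((2 : ℤ) : K) ≠ 0) (i : ℕ) (hi : i < chevF4.rank)
    (hshort : chevF4.isLong (chevF4.simple i) = false) :
    chevF4.group K ≤ chevF4.monomialSubgroup K ⊔ chevF4.rootSubgroup K (chevF4.simple i) := by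
  have hD : chevF4 ∈ [chevG2, chevB2, chevD4, chevF4, chevE6, chevE7, chevE8] := by simp
  obtain ⟨h1, h2, h3, h4, h5⟩ := hWF4
  exact short_gen chevF4 hD 33 0 cUF4 cVF4 hsimpF4 hUF4 hVF4
    (fun T hN hb => long_of_comm chevF4 hD 33 0 3 18 2 _ _ hsimpF4 h1 h2 h3 h4 h5 hc T hN hb)
    i hi hshort

def cUE6 : List (List ℕ) := [[], [2, 3, 0, 2, 1, 3], [2, 0], [2, 3, 0, 2], [2, 3, 4, 0, 2, 3], [2, 3, 4, 5, 0, 2, 3, 4]]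

def cVE6 : List (Bool × List ℕ) := [(false, [1, 3, 4, 5, 2, 3, 4, 1, 3, 2, 0]), (false, [3, 4, 5, 2, 3, 4, 1, 3, 2, 0]), (false, [4, 5, 2, 3, 4, 1, 3, 2, 0]), (false, [5, 2, 3, 4, 1, 3, 2, 0]), (false, [2, 3, 4, 1, 3, 2, 0]), (false, [4, 5, 3, 4, 1, 3, 2, 0]), (false, [5, 3, 4, 1, 3, 2, 0]), (false, [3, 4, 1, 3, 2, 0]), (false, [5, 4, 1, 3, 2, 0]), (false, [4, 1, 3, 2, 0]), (false, [1, 3, 2, 0]), (false, [5, 4, 3, 2, 0]), (false, [4, 3, 2, 0]), (false, [3, 2, 0]), (false, [2, 0]), (false, [0]), (false, [4, 5, 3, 4, 1, 3, 0, 2, 0]), (false, [5, 3, 4, 1, 3, 0, 2, 0]), (false, [3, 4, 1, 3, 0, 2, 0]), (false, [5, 4, 1, 3, 0, 2, 0]), (false, [4, 1, 3, 0, 2, 0]), (false, [1, 3, 0, 2, 0]), (false, [5, 4, 2, 1, 3, 0, 2, 0]), (false, [4, 2, 1, 3, 0, 2, 0]), (false, [2, 1, 3, 0, 2, 0]), (false, [3, 2, 1, 3,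 0, 2, 0]), (false, [5, 4, 3, 0, 2, 0]), (false, [4, 3, 0, 2, 0]), (false, [3, 0, 2, 0]), (false, [0, 2, 0]), (false, [5, 4, 2, 3, 0, 2, 0]), (false, [4, 2, 3, 0, 2, 0]), (false, [2, 3, 0, 2, 0]), (false, [5, 3, 4, 2, 3, 0, 2, 0]), (false, [3, 4, 2, 3, 0, 2, 0]), (false, [4, 5, 3, 4, 2, 3, 0, 2, 0]), (false, [4, 5, 3, 4, 2, 3, 0, 2]), (false, [3, 4, 2, 3, 0, 2]), (false, [5, 3, 4, 2, 3, 0, 2]), (false, [2, 3, 0, 2]), (false, [4, 2, 3, 0, 2]), (false, [5, 4, 2, 3, 0, 2]), (false, [0, 2]), (false, [3, 0, 2]), (false, [4, 3, 0, 2]), (false, [5, 4, 3, 0, 2]), (false, [3, 2, 1, 3, 0, 2]), (false, [2, 1, 3, 0, 2]), (false, [4, 2, 1, 3, 0, 2]), (false, [5, 4, 2, 1, 3, 0, 2]), (false, [1, 3, 0, 2]), (false, [4, 1, 3, 0, 2]), (false, [5, 4, 1, 3, 0, 2]), (false, [3, 4, 1, 3, 0, 2]), (false, [5, 3, 4, 1, 3, 0,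 2]), (false, [4, 5, 3, 4, 1, 3, 0, 2]), (false, []), (false, [2]), (false, [3, 2]), (false, [4, 3, 2]), (false, [5, 4, 3, 2]), (false, [1, 3, 2]), (false, [4, 1, 3, 2]), (false, [5, 4, 1, 3, 2]), (false, [3, 4, 1, 3, 2]), (false, [5, 3, 4, 1, 3, 2]), (false, [4, 5, 3, 4, 1, 3, 2]), (false, [2, 3, 4, 1, 3, 2]), (false, [5, 2, 3, 4, 1, 3, 2]), (false, [4, 5, 2, 3, 4, 1, 3, 2]), (false, [3, 4, 5, 2, 3, 4, 1, 3, 2]), (false, [1, 3, 4, 5, 2, 3, 4, 1, 3, 2])]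

theorem hsimpE6 : ∀ k < chevE6.rank, chevE6.simple k < chevE6.nroots := by decide +kernel

theorem hUE6 : ∀ i < chevE6.rank, chevE6.isLong (chevE6.simple i) = false →
    walkRoot chevE6 (cUE6.getD i []) (chevE6.simple i) = some 56 := by decide +kernel

theorem hVE6 : ∀ r < chevE6.nroots, walkRoot chevE6 (cVE6.getD r (false, [])).2
    (if (cVE6.getD r (false, [])).1 then 56 else 56) = some r := by decide +kernel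

theorem short_gen_E6 {K : Type*} [Field K] (i : ℕ) (hi : i < chevE6.rank)
    (hshort : chevE6.isLong (chevE6.simple i) = false) :
    chevE6.group K ≤ chevE6.monomialSubgroup K ⊔ chevE6.rootSubgroup K (chevE6.simple i) := by
  have hD : chevE6 ∈ [chevG2, chevB2, chevD4, chevF4, chevE6, chevE7, chevE8] := by simp
  exact short_gen chevE6 hD 56 56 cUE6 cVE6 hsimpE6 hUE6 hVE6 (fun T hN hb => hb) i hi hshort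

def cUE7 : List (List ℕ) := [[], [2, 3, 0, 2, 1, 3], [2, 0], [2, 3, 0, 2], [2, 3, 4, 0, 2, 3], [2, 3, 4, 5, 0, 2, 3, 4], [2, 3, 4, 5, 6, 0, 2, 3, 4, 5]]

def cVE7 : List (Bool × List ℕ) := [(false, [0, 2, 3, 4, 5, 6, 1, 3, 4, 5, 2, 3, 4, 1, 3, 2, 0]), (false, [2, 3, 4, 5, 6, 1, 3, 4, 5, 2, 3, 4, 1, 3, 2, 0]), (false, [3, 4, 5, 6, 1, 3, 4, 5, 2, 3, 4, 1, 3, 2, 0]), (false, [4, 5, 6, 1, 3, 4, 5, 2, 3, 4, 1, 3, 2, 0]), (false, [5, 6, 1, 3, 4, 5, 2, 3, 4, 1, 3, 2, 0]), (false, [6, 1, 3, 4, 5, 2, 3, 4, 1, 3, 2, 0]), (false, [1, 3, 4, 5, 2, 3, 4, 1, 3, 2, 0]), (false, [4, 5, 6, 3, 4, 5, 2, 3, 4, 1, 3, 2, 0]), (false, [5, 6, 3, 4, 5, 2, 3, 4, 1, 3, 2, 0]), (false, [6, 3, 4, 5, 2, 3, 4, 1, 3, 2, 0]), (false, [3, 4, 5, 2, 3, 4, 1, 3, 2, 0]), (false, [5, 6, 4, 5, 2, 3, 4, 1, 3, 2, 0]), (false, [6, 4, 5, 2, 3,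 4, 1, 3, 2, 0]), (false, [4, 5, 2, 3, 4, 1, 3, 2, 0]), (false, [6, 5, 2, 3, 4, 1, 3, 2, 0]), (false, [5, 2, 3, 4, 1, 3, 2, 0]), (false, [2, 3, 4, 1, 3, 2, 0]), (false, [5, 6, 4, 5, 3, 4, 1, 3, 2, 0]), (false, [6, 4, 5, 3, 4, 1, 3, 2, 0]), (false, [4, 5, 3, 4, 1, 3, 2, 0]), (false, [6, 5, 3, 4, 1, 3, 2, 0]), (false, [5, 3, 4, 1, 3, 2, 0]), (false, [3, 4, 1, 3, 2, 0]), (false, [6, 5, 4, 1, 3, 2, 0]), (false, [5, 4, 1, 3, 2, 0]), (false, [4, 1, 3, 2, 0]), (false, [1, 3, 2, 0]), (false, [6, 5, 4, 3, 2, 0]), (false, [5, 4, 3, 2, 0]), (false, [4, 3, 2, 0]), (false, [3, 2, 0]), (false, [2, 0]), (false, [0]), (false, [5, 6, 4, 5, 3, 4, 1, 3, 0, 2, 0]), (false, [6, 4, 5, 3, 4, 1, 3, 0, 2, 0]), (false, [4, 5, 3, 4, 1, 3, 0, 2, 0]), (false, [6, 5, 3, 4, 1, 3, 0, 2, 0]), (false, [5, 3, 4, 1, 3, 0, 2, 0]), (false,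 [3, 4, 1, 3, 0, 2, 0]), (false, [6, 5, 4, 1, 3, 0, 2, 0]), (false, [5, 4, 1, 3, 0, 2, 0]), (false, [4, 1, 3, 0, 2, 0]), (false, [1, 3, 0, 2, 0]), (false, [6, 5, 4, 2, 1, 3, 0, 2, 0]), (false, [5, 4, 2, 1, 3, 0, 2, 0]), (false, [4, 2, 1, 3, 0, 2, 0]), (false, [2, 1, 3, 0, 2, 0]), (false, [3, 2, 1, 3, 0, 2, 0]), (false, [6, 5, 4, 3, 0, 2, 0]), (false, [5, 4, 3, 0, 2, 0]), (false, [4, 3, 0, 2, 0]), (false, [3, 0, 2, 0]), (false, [0, 2, 0]), (false, [6, 5, 4, 2, 3, 0, 2, 0]), (false, [5, 4, 2, 3, 0, 2, 0]), (false, [4, 2, 3, 0, 2, 0]), (false, [2, 3, 0, 2, 0]), (false, [6, 5, 3, 4, 2, 3, 0, 2, 0]), (false, [5, 3, 4, 2, 3, 0, 2, 0]), (false, [3, 4, 2, 3, 0, 2, 0]), (false, [6, 4, 5, 3, 4, 2, 3, 0, 2, 0]), (false, [4, 5, 3, 4, 2, 3, 0, 2, 0]), (false, [5, 6, 4, 5, 3, 4, 2, 3, 0, 2, 0]), (false, [5, 6, 4,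 5, 3, 4, 2, 3, 0, 2]), (false, [4, 5, 3, 4, 2, 3, 0, 2]), (false, [6, 4, 5, 3, 4, 2, 3, 0, 2]), (false, [3, 4, 2, 3, 0, 2]), (false, [5, 3, 4, 2, 3, 0, 2]), (false, [6, 5, 3, 4, 2, 3, 0, 2]), (false, [2, 3, 0, 2]), (false, [4, 2, 3, 0, 2]), (false, [5, 4, 2, 3, 0, 2]), (false, [6, 5, 4, 2, 3, 0, 2]), (false, [0, 2]), (false, [3, 0, 2]), (false, [4, 3, 0, 2]), (false, [5, 4, 3, 0, 2]), (false, [6, 5, 4, 3, 0, 2]), (false, [3, 2, 1, 3, 0, 2]), (false, [2, 1, 3, 0, 2]), (false, [4, 2, 1, 3, 0, 2]), (false, [5, 4, 2, 1, 3, 0, 2]), (false, [6, 5, 4, 2, 1, 3, 0, 2]), (false, [1, 3, 0, 2]), (false, [4, 1, 3, 0, 2]), (false, [5, 4, 1, 3, 0, 2]), (false, [6, 5, 4, 1, 3, 0, 2]), (false, [3, 4, 1, 3, 0, 2]), (false, [5, 3, 4, 1, 3, 0, 2]), (false, [6, 5, 3, 4, 1, 3, 0, 2]), (false, [4, 5, 3, 4, 1, 3, 0, 2]), (false,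 [6, 4, 5, 3, 4, 1, 3, 0, 2]), (false, [5, 6, 4, 5, 3, 4, 1, 3, 0, 2]), (false, []), (false, [2]), (false, [3, 2]), (false, [4, 3, 2]), (false, [5, 4, 3, 2]), (false, [6, 5, 4, 3, 2]), (false, [1, 3, 2]), (false, [4, 1, 3, 2]), (false, [5, 4, 1, 3, 2]), (false, [6, 5, 4, 1, 3, 2]), (false, [3, 4, 1, 3, 2]), (false, [5, 3, 4, 1, 3, 2]), (false, [6, 5, 3, 4, 1, 3, 2]), (false, [4, 5, 3, 4, 1, 3, 2]), (false, [6, 4, 5, 3, 4, 1, 3, 2]), (false, [5, 6, 4, 5, 3, 4, 1, 3, 2]), (false, [2, 3, 4, 1, 3, 2]), (false, [5, 2, 3, 4, 1, 3, 2]), (false, [6, 5, 2, 3, 4, 1, 3, 2]), (false, [4, 5, 2, 3, 4, 1, 3, 2]), (false, [6, 4, 5, 2, 3, 4, 1, 3, 2]), (false, [5, 6, 4, 5, 2, 3, 4, 1, 3, 2]), (false, [3, 4, 5, 2, 3, 4, 1, 3, 2]), (false, [6, 3, 4, 5, 2, 3, 4, 1, 3, 2]), (false, [5, 6, 3, 4, 5, 2, 3, 4, 1, 3, 2]), (false,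 [4, 5, 6, 3, 4, 5, 2, 3, 4, 1, 3, 2]), (false, [1, 3, 4, 5, 2, 3, 4, 1, 3, 2]), (false, [6, 1, 3, 4, 5, 2, 3, 4, 1, 3, 2]), (false, [5, 6, 1, 3, 4, 5, 2, 3, 4, 1, 3, 2]), (false, [4, 5, 6, 1, 3, 4, 5, 2, 3, 4, 1, 3, 2]), (false, [3, 4, 5, 6, 1, 3, 4, 5, 2, 3, 4, 1, 3, 2]), (false, [2, 3, 4, 5, 6, 1, 3, 4, 5, 2, 3, 4, 1, 3, 2]), (false, [0, 2, 3, 4, 5, 6, 1, 3, 4, 5, 2, 3, 4, 1, 3, 2])]

theorem hsimpE7 : ∀ k < chevE7.rank, chevE7.simple k < chevE7.nroots := by decide +kernel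

theorem hUE7 : ∀ i < chevE7.rank, chevE7.isLong (chevE7.simple i) = false →
    walkRoot chevE7 (cUE7.getD i []) (chevE7.simple i) = some 93 := by decide +kernel

theorem hVE7 : ∀ r < chevE7.nroots, walkRoot chevE7 (cVE7.getD r (false, [])).2
    (if (cVE7.getD r (false, [])).1 then 93 else 93) = some r := by decide +kernel

theorem short_gen_E7 {K : Type*} [Field K] (i : ℕ) (hi : i < chevE7.rank)
    (hshort : chevE7.isLong (chevE7.simple i) = false) :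
    chevE7.group K ≤ chevE7.monomialSubgroup K ⊔ chevE7.rootSubgroup K (chevE7.simple i) := by
  have hD : chevE7 ∈ [chevG2, chevB2, chevD4, chevF4, chevE6, chevE7, chevE8] := by simp
  exact short_gen chevE7 hD 93 93 cUE7 cVE7 hsimpE7 hUE7 hVE7 (fun T hN hb => hb) i hi hshort

def cUE8 : List (List ℕ) := [[], [2, 3, 0, 2, 1, 3], [2, 0], [2, 3, 0, 2], [2, 3, 4, 0, 2, 3], [2, 3, 4, 5, 0, 2, 3, 4], [2, 3, 4, 5, 6, 0, 2, 3, 4, 5], [2, 3, 4, 5, 6, 7, 0, 2, 3, 4, 5, 6]]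

def cVE8 : List (Bool × List ℕ) := [(false, [7, 6, 5, 4, 3, 2, 1, 3, 4, 5, 6, 7, 0, 2, 3, 4, 5, 6, 1, 3, 4, 5, 2, 3, 4, 1, 3, 2, 0]), (false, [6, 5, 4, 3, 2, 1, 3, 4, 5, 6, 7, 0, 2, 3, 4, 5, 6, 1, 3, 4, 5, 2, 3, 4, 1, 3, 2, 0]), (false, [5, 4, 3, 2, 1, 3, 4, 5, 6, 7, 0, 2, 3, 4, 5, 6, 1, 3, 4, 5, 2, 3, 4, 1, 3, 2, 0]), (false, [4, 3, 2, 1, 3, 4, 5, 6, 7, 0, 2, 3, 4, 5, 6, 1, 3, 4, 5, 2, 3, 4, 1, 3, 2, 0]), (false, [3, 2, 1, 3, 4, 5, 6, 7, 0, 2, 3, 4, 5, 6, 1, 3, 4, 5, 2, 3, 4, 1, 3, 2, 0]), (false, [2, 1, 3, 4, 5, 6, 7, 0, 2, 3, 4, 5, 6, 1, 3, 4, 5, 2, 3, 4, 1, 3, 2, 0]), (false, [1, 3, 4, 5, 6, 7, 0, 2, 3, 4, 5, 6, 1, 3, 4, 5, 2, 3, 4, 1, 3, 2, 0]), (false, [2, 3, 4, 5, 6, 7, 0, 2, 3, 4, 5, 6, 1, 3, 4, 5, 2, 3, 4, 1, 3, 2, 0]), (false, [3, 4, 5, 6, 7, 0, 2, 3, 4, 5, 6, 1, 3, 4, 5, 2, 3, 4, 1, 3, 2,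 0]), (false, [4, 5, 6, 7, 0, 2, 3, 4, 5, 6, 1, 3, 4, 5, 2, 3, 4, 1, 3, 2, 0]), (false, [5, 6, 7, 0, 2, 3, 4, 5, 6, 1, 3, 4, 5, 2, 3, 4, 1, 3, 2, 0]), (false, [6, 7, 0, 2, 3, 4, 5, 6, 1, 3, 4, 5, 2, 3, 4, 1, 3, 2, 0]), (false, [7, 0, 2, 3, 4, 5, 6, 1, 3, 4, 5, 2, 3, 4, 1, 3, 2, 0]), (false, [0, 2, 3, 4, 5, 6, 1, 3, 4, 5, 2, 3, 4, 1, 3, 2, 0]), (false, [1, 3, 4, 5, 6, 7, 2, 3, 4, 5, 6, 1, 3, 4, 5, 2, 3, 4, 1, 3, 2, 0]), (false, [3, 4, 5, 6, 7, 2, 3, 4, 5, 6, 1, 3, 4, 5, 2, 3, 4, 1, 3, 2, 0]), (false, [4, 5, 6, 7, 2, 3, 4, 5, 6, 1, 3, 4, 5, 2, 3, 4, 1, 3, 2, 0]), (false, [5, 6, 7, 2, 3, 4, 5, 6, 1, 3, 4, 5, 2, 3, 4, 1, 3, 2, 0]), (false, [6, 7, 2, 3, 4, 5, 6, 1, 3, 4, 5, 2, 3, 4, 1, 3, 2, 0]), (false, [7, 2, 3, 4, 5, 6, 1, 3, 4, 5, 2, 3, 4, 1, 3, 2, 0]), (false, [2, 3, 4, 5, 6, 1, 3, 4, 5, 2, 3, 4, 1,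 3, 2, 0]), (false, [4, 5, 6, 7, 3, 4, 5, 6, 1, 3, 4, 5, 2, 3, 4, 1, 3, 2, 0]), (false, [5, 6, 7, 3, 4, 5, 6, 1, 3, 4, 5, 2, 3, 4, 1, 3, 2, 0]), (false, [6, 7, 3, 4, 5, 6, 1, 3, 4, 5, 2, 3, 4, 1, 3, 2, 0]), (false, [7, 3, 4, 5, 6, 1, 3, 4, 5, 2, 3, 4, 1, 3, 2, 0]), (false, [3, 4, 5, 6, 1, 3, 4, 5, 2, 3, 4, 1, 3, 2, 0]), (false, [5, 6, 7, 4, 5, 6, 1, 3, 4, 5, 2, 3, 4, 1, 3, 2, 0]), (false, [6, 7, 4, 5, 6, 1, 3, 4, 5, 2, 3, 4, 1, 3, 2, 0]), (false, [7, 4, 5, 6, 1, 3, 4, 5, 2, 3, 4, 1, 3, 2, 0]), (false, [4, 5, 6, 1, 3, 4, 5, 2, 3, 4, 1, 3, 2, 0]), (false, [6, 7, 5, 6, 1, 3, 4, 5, 2, 3, 4, 1, 3, 2, 0]), (false, [7, 5, 6, 1, 3, 4, 5, 2, 3, 4, 1, 3, 2, 0]), (false, [5, 6, 1, 3, 4, 5, 2, 3, 4, 1, 3, 2, 0]), (false, [7, 6, 1, 3, 4, 5, 2, 3, 4, 1, 3, 2, 0]), (false, [6, 1, 3, 4, 5, 2, 3, 4, 1, 3, 2, 0]), (false,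 [1, 3, 4, 5, 2, 3, 4, 1, 3, 2, 0]), (false, [5, 6, 7, 4, 5, 6, 3, 4, 5, 2, 3, 4, 1, 3, 2, 0]), (false, [6, 7, 4, 5, 6, 3, 4, 5, 2, 3, 4, 1, 3, 2, 0]), (false, [7, 4, 5, 6, 3, 4, 5, 2, 3, 4, 1, 3, 2, 0]), (false, [4, 5, 6, 3, 4, 5, 2, 3, 4, 1, 3, 2, 0]), (false, [6, 7, 5, 6, 3, 4, 5, 2, 3, 4, 1, 3, 2, 0]), (false, [7, 5, 6, 3, 4, 5, 2, 3, 4, 1, 3, 2, 0]), (false, [5, 6, 3, 4, 5, 2, 3, 4, 1, 3, 2, 0]), (false, [7, 6, 3, 4, 5, 2, 3, 4, 1, 3, 2, 0]), (false, [6, 3, 4, 5, 2, 3, 4, 1, 3, 2, 0]), (false, [3, 4, 5, 2, 3, 4, 1, 3, 2, 0]), (false, [6, 7, 5, 6, 4, 5, 2, 3, 4, 1, 3, 2, 0]), (false, [7, 5, 6, 4, 5, 2, 3, 4, 1, 3, 2, 0]), (false, [5, 6, 4, 5, 2, 3, 4, 1, 3, 2, 0]), (false, [7, 6, 4, 5, 2, 3, 4, 1, 3, 2, 0]), (false, [6, 4, 5, 2, 3, 4, 1, 3, 2, 0]), (false, [4, 5, 2, 3, 4, 1, 3, 2, 0]), (false, [7,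 6, 5, 2, 3, 4, 1, 3, 2, 0]), (false, [6, 5, 2, 3, 4, 1, 3, 2, 0]), (false, [5, 2, 3, 4, 1, 3, 2, 0]), (false, [2, 3, 4, 1, 3, 2, 0]), (false, [6, 7, 5, 6, 4, 5, 3, 4, 1, 3, 2, 0]), (false, [7, 5, 6, 4, 5, 3, 4, 1, 3, 2, 0]), (false, [5, 6, 4, 5, 3, 4, 1, 3, 2, 0]), (false, [7, 6, 4, 5, 3, 4, 1, 3, 2, 0]), (false, [6, 4, 5, 3, 4, 1, 3, 2, 0]), (false, [4, 5, 3, 4, 1, 3, 2, 0]), (false, [7, 6, 5, 3, 4, 1, 3, 2, 0]), (false, [6, 5, 3, 4, 1, 3, 2, 0]), (false, [5, 3, 4, 1, 3, 2, 0]), (false, [3, 4, 1, 3, 2, 0]), (false, [7, 6, 5, 4, 1, 3, 2, 0]), (false, [6, 5, 4, 1, 3, 2, 0]), (false, [5, 4, 1, 3, 2, 0]), (false, [4, 1, 3, 2, 0]), (false, [1, 3, 2, 0]), (false, [7, 6, 5, 4, 3, 2, 0]), (false, [6, 5, 4, 3, 2, 0]), (false, [5, 4, 3, 2, 0]), (false, [4, 3, 2, 0]), (false, [3, 2, 0]), (false, [2, 0]), (false,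 [0]), (false, [6, 7, 5, 6, 4, 5, 3, 4, 1, 3, 0, 2, 0]), (false, [7, 5, 6, 4, 5, 3, 4, 1, 3, 0, 2, 0]), (false, [5, 6, 4, 5, 3, 4, 1, 3, 0, 2, 0]), (false, [7, 6, 4, 5, 3, 4, 1, 3, 0, 2, 0]), (false, [6, 4, 5, 3, 4, 1, 3, 0, 2, 0]), (false, [4, 5, 3, 4, 1, 3, 0, 2, 0]), (false, [7, 6, 5, 3, 4, 1, 3, 0, 2, 0]), (false, [6, 5, 3, 4, 1, 3, 0, 2, 0]), (false, [5, 3, 4, 1, 3, 0, 2, 0]), (false, [3, 4, 1, 3, 0, 2, 0]), (false, [7, 6, 5, 4, 1, 3, 0, 2, 0]), (false, [6, 5, 4, 1, 3, 0, 2, 0]), (false, [5, 4, 1, 3, 0, 2, 0]), (false, [4, 1, 3, 0, 2, 0]), (false, [1, 3, 0, 2, 0]), (false, [7, 6, 5, 4, 2, 1, 3, 0, 2, 0]), (false, [6, 5, 4, 2, 1, 3, 0, 2, 0]), (false, [5, 4, 2, 1, 3, 0, 2, 0]), (false, [4, 2, 1, 3, 0, 2, 0]), (false, [2, 1, 3, 0, 2, 0]), (false, [3, 2, 1, 3, 0, 2, 0]), (false, [7, 6, 5, 4, 3, 0,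 2, 0]), (false, [6, 5, 4, 3, 0, 2, 0]), (false, [5, 4, 3, 0, 2, 0]), (false, [4, 3, 0, 2, 0]), (false, [3, 0, 2, 0]), (false, [0, 2, 0]), (false, [7, 6, 5, 4, 2, 3, 0, 2, 0]), (false, [6, 5, 4, 2, 3, 0, 2, 0]), (false, [5, 4, 2, 3, 0, 2, 0]), (false, [4, 2, 3, 0, 2, 0]), (false, [2, 3, 0, 2, 0]), (false, [7, 6, 5, 3, 4, 2, 3, 0, 2, 0]), (false, [6, 5, 3, 4, 2, 3, 0, 2, 0]), (false, [5, 3, 4, 2, 3, 0, 2, 0]), (false, [3, 4, 2, 3, 0, 2, 0]), (false, [7, 6, 4, 5, 3, 4, 2, 3, 0, 2, 0]), (false, [6, 4, 5, 3, 4, 2, 3, 0, 2, 0]), (false, [4, 5, 3, 4, 2, 3, 0, 2, 0]), (false, [7, 5, 6, 4, 5, 3, 4, 2, 3, 0, 2, 0]), (false, [5, 6, 4, 5, 3, 4, 2, 3, 0, 2, 0]), (false, [6, 7, 5, 6, 4, 5, 3, 4, 2, 3, 0, 2, 0]), (false, [6, 7, 5, 6, 4, 5, 3, 4, 2, 3, 0, 2]), (false, [5, 6, 4, 5, 3, 4, 2, 3, 0, 2]), (false, [7, 5,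 6, 4, 5, 3, 4, 2, 3, 0, 2]), (false, [4, 5, 3, 4, 2, 3, 0, 2]), (false, [6, 4, 5, 3, 4, 2, 3, 0, 2]), (false, [7, 6, 4, 5, 3, 4, 2, 3, 0, 2]), (false, [3, 4, 2, 3, 0, 2]), (false, [5, 3, 4, 2, 3, 0, 2]), (false, [6, 5, 3, 4, 2, 3, 0, 2]), (false, [7, 6, 5, 3, 4, 2, 3, 0, 2]), (false, [2, 3, 0, 2]), (false, [4, 2, 3, 0, 2]), (false, [5, 4, 2, 3, 0, 2]), (false, [6, 5, 4, 2, 3, 0, 2]), (false, [7, 6, 5, 4, 2, 3, 0, 2]), (false, [0, 2]), (false, [3, 0, 2]), (false, [4, 3, 0, 2]), (false, [5, 4, 3, 0, 2]), (false, [6, 5, 4, 3, 0, 2]), (false, [7, 6, 5, 4, 3, 0, 2]), (false, [3, 2, 1, 3, 0, 2]), (false, [2, 1, 3, 0, 2]), (false, [4, 2, 1, 3, 0, 2]), (false, [5, 4, 2, 1, 3, 0, 2]), (false, [6, 5, 4, 2, 1, 3, 0, 2]), (false, [7, 6, 5, 4, 2, 1, 3, 0, 2]), (false, [1, 3, 0, 2]), (false, [4, 1, 3, 0, 2]), (false,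 [5, 4, 1, 3, 0, 2]), (false, [6, 5, 4, 1, 3, 0, 2]), (false, [7, 6, 5, 4, 1, 3, 0, 2]), (false, [3, 4, 1, 3, 0, 2]), (false, [5, 3, 4, 1, 3, 0, 2]), (false, [6, 5, 3, 4, 1, 3, 0, 2]), (false, [7, 6, 5, 3, 4, 1, 3, 0, 2]), (false, [4, 5, 3, 4, 1, 3, 0, 2]), (false, [6, 4, 5, 3, 4, 1, 3, 0, 2]), (false, [7, 6, 4, 5, 3, 4, 1, 3, 0, 2]), (false, [5, 6, 4, 5, 3, 4, 1, 3, 0, 2]), (false, [7, 5, 6, 4, 5, 3, 4, 1, 3, 0, 2]), (false, [6, 7, 5, 6, 4, 5, 3, 4, 1, 3, 0, 2]), (false, []), (false, [2]), (false, [3, 2]), (false, [4, 3, 2]), (false, [5, 4, 3, 2]), (false, [6, 5, 4, 3, 2]), (false, [7, 6, 5, 4, 3, 2]), (false, [1, 3, 2]), (false, [4, 1, 3, 2]), (false, [5, 4, 1, 3, 2]), (false, [6, 5, 4, 1, 3, 2]), (false, [7, 6, 5, 4, 1, 3, 2]), (false, [3, 4, 1, 3, 2]), (false, [5, 3, 4, 1, 3, 2]), (false, [6, 5,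 3, 4, 1, 3, 2]), (false, [7, 6, 5, 3, 4, 1, 3, 2]), (false, [4, 5, 3, 4, 1, 3, 2]), (false, [6, 4, 5, 3, 4, 1, 3, 2]), (false, [7, 6, 4, 5, 3, 4, 1, 3, 2]), (false, [5, 6, 4, 5, 3, 4, 1, 3, 2]), (false, [7, 5, 6, 4, 5, 3, 4, 1, 3, 2]), (false, [6, 7, 5, 6, 4, 5, 3, 4, 1, 3, 2]), (false, [2, 3, 4, 1, 3, 2]), (false, [5, 2, 3, 4, 1, 3, 2]), (false, [6, 5, 2, 3, 4, 1, 3, 2]), (false, [7, 6, 5, 2, 3, 4, 1, 3, 2]), (false, [4, 5, 2, 3, 4, 1, 3, 2]), (false, [6, 4, 5, 2, 3, 4, 1, 3, 2]), (false, [7, 6, 4, 5, 2, 3, 4, 1, 3, 2]), (false, [5, 6, 4, 5, 2, 3, 4, 1, 3, 2]), (false, [7, 5, 6, 4, 5, 2, 3, 4, 1, 3, 2]), (false, [6, 7, 5, 6, 4, 5, 2, 3, 4, 1, 3, 2]), (false, [3, 4, 5, 2, 3, 4, 1, 3, 2]), (false, [6, 3, 4, 5, 2, 3, 4, 1, 3, 2]), (false, [7, 6, 3, 4, 5, 2, 3, 4, 1, 3, 2]), (false, [5, 6, 3, 4, 5, 2,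 3, 4, 1, 3, 2]), (false, [7, 5, 6, 3, 4, 5, 2, 3, 4, 1, 3, 2]), (false, [6, 7, 5, 6, 3, 4, 5, 2, 3, 4, 1, 3, 2]), (false, [4, 5, 6, 3, 4, 5, 2, 3, 4, 1, 3, 2]), (false, [7, 4, 5, 6, 3, 4, 5, 2, 3, 4, 1, 3, 2]), (false, [6, 7, 4, 5, 6, 3, 4, 5, 2, 3, 4, 1, 3, 2]), (false, [5, 6, 7, 4, 5, 6, 3, 4, 5, 2, 3, 4, 1, 3, 2]), (false, [1, 3, 4, 5, 2, 3, 4, 1, 3, 2]), (false, [6, 1, 3, 4, 5, 2, 3, 4, 1, 3, 2]), (false, [7, 6, 1, 3, 4, 5, 2, 3, 4, 1, 3, 2]), (false, [5, 6, 1, 3, 4, 5, 2, 3, 4, 1, 3, 2]), (false, [7, 5, 6, 1, 3, 4, 5, 2, 3, 4, 1, 3, 2]), (false, [6, 7, 5, 6, 1, 3, 4, 5, 2, 3, 4, 1, 3, 2]), (false, [4, 5, 6, 1, 3, 4, 5, 2, 3, 4, 1, 3, 2]), (false, [7, 4, 5, 6, 1, 3, 4, 5, 2, 3, 4, 1, 3, 2]), (false, [6, 7, 4, 5, 6, 1, 3, 4, 5, 2, 3, 4, 1, 3, 2]), (false, [5, 6, 7, 4, 5, 6, 1, 3, 4, 5, 2, 3, 4, 1,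 3, 2]), (false, [3, 4, 5, 6, 1, 3, 4, 5, 2, 3, 4, 1, 3, 2]), (false, [7, 3, 4, 5, 6, 1, 3, 4, 5, 2, 3, 4, 1, 3, 2]), (false, [6, 7, 3, 4, 5, 6, 1, 3, 4, 5, 2, 3, 4, 1, 3, 2]), (false, [5, 6, 7, 3, 4, 5, 6, 1, 3, 4, 5, 2, 3, 4, 1, 3, 2]), (false, [4, 5, 6, 7, 3, 4, 5, 6, 1, 3, 4, 5, 2, 3, 4, 1, 3, 2]), (false, [2, 3, 4, 5, 6, 1, 3, 4, 5, 2, 3, 4, 1, 3, 2]), (false, [7, 2, 3, 4, 5, 6, 1, 3, 4, 5, 2, 3, 4, 1, 3, 2]), (false, [6, 7, 2, 3, 4, 5, 6, 1, 3, 4, 5, 2, 3, 4, 1, 3, 2]), (false, [5, 6, 7, 2, 3, 4, 5, 6, 1, 3, 4, 5, 2, 3, 4, 1, 3, 2]), (false, [4, 5, 6, 7, 2, 3, 4, 5, 6, 1, 3, 4, 5, 2, 3, 4, 1, 3, 2]), (false, [3, 4, 5, 6, 7, 2, 3, 4, 5, 6, 1, 3, 4, 5, 2, 3, 4, 1, 3, 2]), (false, [1, 3, 4, 5, 6, 7, 2, 3, 4, 5, 6, 1, 3, 4, 5, 2, 3, 4, 1, 3, 2]), (false, [0, 2, 3, 4, 5, 6, 1, 3, 4, 5, 2, 3, 4, 1, 3,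 2]), (false, [7, 0, 2, 3, 4, 5, 6, 1, 3, 4, 5, 2, 3, 4, 1, 3, 2]), (false, [6, 7, 0, 2, 3, 4, 5, 6, 1, 3, 4, 5, 2, 3, 4, 1, 3, 2]), (false, [5, 6, 7, 0, 2, 3, 4, 5, 6, 1, 3, 4, 5, 2, 3, 4, 1, 3, 2]), (false, [4, 5, 6, 7, 0, 2, 3, 4, 5, 6, 1, 3, 4, 5, 2, 3, 4, 1, 3, 2]), (false, [3, 4, 5, 6, 7, 0, 2, 3, 4, 5, 6, 1, 3, 4, 5, 2, 3, 4, 1, 3, 2]), (false, [2, 3, 4, 5, 6, 7, 0, 2, 3, 4, 5, 6, 1, 3, 4, 5, 2, 3, 4, 1, 3, 2]), (false, [1, 3, 4, 5, 6, 7, 0, 2, 3, 4, 5, 6, 1, 3, 4, 5, 2, 3, 4, 1, 3, 2]), (false, [2, 1, 3, 4, 5, 6, 7, 0, 2, 3, 4, 5, 6, 1, 3, 4, 5, 2, 3, 4, 1, 3, 2]), (false, [3, 2, 1, 3, 4, 5, 6, 7, 0, 2, 3, 4, 5, 6, 1, 3, 4, 5, 2, 3, 4, 1, 3, 2]), (false, [4, 3, 2, 1, 3, 4, 5, 6, 7, 0, 2, 3, 4, 5, 6, 1, 3, 4, 5, 2, 3, 4, 1, 3, 2]), (false, [5, 4, 3, 2, 1, 3, 4, 5, 6, 7, 0, 2, 3, 4, 5, 6, 1, 3,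 4, 5, 2, 3, 4, 1, 3, 2]), (false, [6, 5, 4, 3, 2, 1, 3, 4, 5, 6, 7, 0, 2, 3, 4, 5, 6, 1, 3, 4, 5, 2, 3, 4, 1, 3, 2]), (false, [7, 6, 5, 4, 3, 2, 1, 3, 4, 5, 6, 7, 0, 2, 3, 4, 5, 6, 1, 3, 4, 5, 2, 3, 4, 1, 3, 2])]

theorem hsimpE8 : ∀ k < chevE8.rank, chevE8.simple k < chevE8.nroots := by decide +kernel

theorem hUE8 : ∀ i < chevE8.rank, chevE8.isLong (chevE8.simple i) = false →
    walkRoot chevE8 (cUE8.getD i []) (chevE8.simple i) = some 162 := by decide +kernel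

theorem hVE8 : ∀ r < chevE8.nroots, walkRoot chevE8 (cVE8.getD r (false, [])).2
    (if (cVE8.getD r (false, [])).1 then 162 else 162) = some r := by decide +kernel

theorem short_gen_E8 {K : Type*} [Field K] (i : ℕ) (hi : i < chevE8.rank)
    (hshort : chevE8.isLong (chevE8.simple i) = false) :
    chevE8.group K ≤ chevE8.monomialSubgroup K ⊔ chevE8.rootSubgroup K (chevE8.simple i) := by
  have hD : chevE8 ∈ [chevG2, chevB2, chevD4, chevF4, chevE6, chevE7, chevE8] := by simp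
  exact short_gen chevE8 hD 162 162 cUE8 cVE8 hsimpE8 hUE8 hVE8 (fun T hN hb => hb) i hi hshort

end Cfsg.Agent.Lib.helper45
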