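import Mathlib
import Cfsg.Prelude.Def_ChevStructure

set_option autoImplicit false

namespace Cfsg.Agent.Lib.helper45

section abstractGroup

variable {G : Type*} [Group G]

/-- Conjugating `y` by `A x y B` gives `x` when `x, y` are braided involutions, `y` commutes with `A`
and `x` commutes with `B`. -/
theorem cox_shift (A B x y : G) (hx : x * x = 1) (hy : y * y = 1) (hxy : x * y * x = y * x * y)
    (hA : Commute y A) (hB : Commute x B) : (A * x * y * B)⁻¹ * y * (A * x * y * B) = x := by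
  have hxi : x⁻¹ = x := inv_eq_of_mul_eq_one_left hx
  have hyi : y⁻¹ = y := inv_eq_of_mul_eq_one_left hy
  have h1 : A⁻¹ * y * A = y := by
    rw [mul_assoc, hA.eq, inv_mul_cancel_left]
  have h2 : y * x * y * x * y = x := by
    have e : y * x * y * x * y = y * (x * y * x) * y := by group
    rw [e, hxy]
    have e' : y * (y * x * y) * y = (y * y) * x * (y * y) := by group
    rw [e', hy, one_mul, mul_one]
  have h3 : (A * x * y * B)⁻¹ * y * (A * x * y * B) = B⁻¹ * y⁻¹ * x⁻¹ * (A⁻¹ * y * A) * x * y * B := by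
    group
  rw [h3, h1, hxi, hyi]
  have h4 : B⁻¹ * y * x * y * x * y * B = B⁻¹ * (y * x * y * x * y) * B := by group
  rw [h4, h2, mul_assoc, hB.eq, inv_mul_cancel_left]

/-- The mirror image of `cox_shift`. -/
theorem cox_shift' (A B x y : G) (hx : x * x = 1) (hy : y * y = 1) (hxy : x * y * x = y * x * y)
    (hA : Commute y A) (hB : Commute x B) : (A * x * y * B) * x * (A * x * y * B)⁻¹ = y := by
  have hxi : x⁻¹ = x := inv_eq_of_mul_eq_one_left hx
  have hyi : y⁻¹ = y := inv_eq_of_mul_eq_one_left hy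
  have h1 : B * x * B⁻¹ = x := by
    rw [← hB.eq, mul_inv_cancel_right]
  have h2 : x * y * x * y * x = y := by
    have e : x * y * x * y * x = x * (y * x * y) * x := by group
    rw [e, ← hxy]
    have e' : x * (x * y * x) * x = (x * x) * y * (x * x) := by group
    rw [e', hx, one_mul, mul_one]
  have h3 : (A * x * y * B) * x * (A * x * y * B)⁻¹ = A * x * y * (B * x * B⁻¹) * y⁻¹ * x⁻¹ * A⁻¹ := by
    group
  rw [h3, h1, hxi, hyi]
  have h4 : A * x * y * x * y * x * A⁻¹ = A * (x * y * x * y * x) * A⁻¹ := by group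
  rw [h4, h2, ← hA.eq, mul_inv_cancel_right]

/-- The head of a diagram of type `E`: nodes `0 — 2 — 3 — 4 — ⋯` with `1` attached to `3`. -/
theorem cox_E_head (H : Subgroup G) (s0 s1 s2 s3 s4 Q c : G)
    (h0 : s0 * s0 = 1) (h1 : s1 * s1 = 1) (h2 : s2 * s2 = 1) (h3 : s3 * s3 = 1) (h4 : s4 * s4 = 1)
    (b02 : s0 * s2 * s0 = s2 * s0 * s2) (b23 : s2 * s3 * s2 = s3 * s2 * s3)
    (c01 : Commute s0 s1) (c03 : Commute s0 s3) (c12 : Commute s1 s2)
    (hc : c = s0 * s1 * s2 * s3 * s4 * Q)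
    (hcH : c ∈ H) (h3H : s3 ∈ H) (h4H : s4 ∈ H) (hQH : Q ∈ H) :
    s0 ∈ H ∧ s1 ∈ H ∧ s2 ∈ H := by
  have i2 : s2⁻¹ = s2 := inv_eq_of_mul_eq_one_left h2
  have hc1 : c * Q⁻¹ * s4 * s3 = s0 * s1 * s2 := by
    rw [hc]
    have e : s0 * s1 * s2 * s3 * s4 * Q * Q⁻¹ * s4 * s3 = s0 * s1 * s2 * (s3 * (s4 * s4) * s3) := by group
    rw [e, h4, mul_one, h3, mul_one]
  have hc1H : s0 * s1 * s2 ∈ H := by
    rw [← hc1]
    exact H.mul_mem (H.mul_mem (H.mul_mem hcH (H.inv_mem hQH)) h4H) h3H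
  have e1 : (s0 * s1 * s2) ^ 3 = s1 := by
    have hcomm : Commute s1 (s0 * s2) := (c01.symm).mul_right c12
    have e : s0 * s1 * s2 = s1 * (s0 * s2) := by rw [c01.eq, mul_assoc]
    rw [e, hcomm.mul_pow]
    have p1 : s1 ^ 3 = s1 := by rw [pow_succ, pow_two, h1, one_mul]
    have p2 : (s0 * s2) ^ 3 = 1 := by
      have e' : (s0 * s2) ^ 3 = (s0 * s2 * s0) * (s2 * s0 * s2) := by
        simp only [pow_succ, pow_zero, one_mul, mul_assoc]
      rw [e', ← b02]
      have e'' : s0 * s2 * s0 * (s0 * s2 * s0) = s0 * (s2 * (s0 * s0) * s2) * s0 := by group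
      rw [e'', h0, mul_one, h2, mul_one, h0]
    rw [p1, p2, mul_one]
  have h1H : s1 ∈ H := by
    rw [← e1]
    exact H.pow_mem hc1H 3
  have e2 : s3 * s1 * s3 * s4 * Q * c⁻¹ * s3 * c * Q⁻¹ * s4 * s3 * s1 * s3 = s2 := by
    rw [hc]
    have e : s3 * s1 * s3 * s4 * Q * (s0 * s1 * s2 * s3 * s4 * Q)⁻¹ * s3 * (s0 * s1 * s2 * s3 * s4 * Q) *
        Q⁻¹ * s4 * s3 * s1 * s3 =
        s3 * (s1 * s2⁻¹ * s1⁻¹) * (s0⁻¹ * s3 * s0) * (s1 * s2 * (s3 * (s4 * s4) * s3) * s1) * s3 := by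
      group
    have k1 : s1 * s2⁻¹ * s1⁻¹ = s2⁻¹ := by
      rw [c12.inv_right.eq, mul_inv_cancel_right]
    have k2 : s0⁻¹ * s3 * s0 = s3 := by
      rw [mul_assoc, c03.symm.eq, inv_mul_cancel_left]
    have k3 : s1 * s2 * (s3 * (s4 * s4) * s3) * s1 = s2 := by
      rw [h4, mul_one, h3, mul_one, c12.eq, mul_assoc, h1, mul_one]
    rw [e, k1, k2, k3, i2]
    have e' : s3 * s2 * s3 * s2 * s3 = s3 * (s2 * s3 * s2) * s3 := by group
    rw [e', b23]
    have e'' : s3 * (s3 * s2 * s3) * s3 = (s3 * s3) * s2 * (s3 * s3) := by group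
    rw [e'', h3, one_mul, mul_one]
  have h2H : s2 ∈ H := by
    rw [← e2]
    apply_rules [Subgroup.mul_mem, Subgroup.inv_mem]
  have e3 : (s0 * s1 * s2) * s2 * s1 = s0 := by
    rw [mul_assoc (s0 * s1), h2, mul_one, mul_assoc, h1, mul_one]
  refine ⟨?_, h1H, h2H⟩
  rw [← e3]
  exact H.mul_mem (H.mul_mem hc1H h2H) h1H

end abstractGroup

section coxeter

variable {B W : Type*} [Group W] {M : CoxeterMatrix B} (cs : CoxeterSystem M W)

theorem cox_commute (i j : B) (h : M i j = 2) : Commute (cs.simple i) (cs.simple j) := by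
  have h1 := cs.simple_mul_simple_pow i j
  rw [h, pow_two] at h1
  have h2 : cs.simple i * cs.simple j = (cs.simple i * cs.simple j)⁻¹ := (inv_eq_of_mul_eq_one_left h1).symm
  rw [mul_inv_rev, cs.inv_simple, cs.inv_simple] at h2
  exact h2

theorem cox_braid (i j : B) (h : M i j = 3) :
    cs.simple i * cs.simple j * cs.simple i = cs.simple j * cs.simple i * cs.simple j := by
  have h1 := cs.simple_mul_simple_pow i j
  rw [h] at h1
  have h2 : cs.simple i * cs.simple j * cs.simple i * (cs.simple j * cs.simple i * cs.simple j) = 1 := by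
    rw [← h1]
    simp only [pow_succ, pow_zero, one_mul, mul_assoc]
  have h3 := eq_inv_of_mul_eq_one_left h2
  rw [h3, mul_inv_rev, mul_inv_rev, cs.inv_simple, cs.inv_simple, mul_assoc]

theorem cox_commute_wordProd (x : B) (L : List B) (h : ∀ i ∈ L, M x i = 2) :
    Commute (cs.simple x) (cs.wordProd L) := by
  induction L with
  | nil => simp
  | cons a L ih =>
    rw [cs.wordProd_cons]
    exact (cox_commute cs x a (h a (by simp))).mul_right (ih (fun i hi => h i (by simp [hi])))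

theorem cox_wordProd_split (L1 L2 : List B) (x y : B) :
    cs.wordProd (L1 ++ x :: y :: L2) = cs.wordProd L1 * cs.simple x * cs.simple y * cs.wordProd L2 := by
  rw [cs.wordProd_append, cs.wordProd_cons, cs.wordProd_cons, mul_assoc, mul_assoc]

/-- If `c = L₁ x y L₂ ∈ H` with `y` commuting with `L₁`, `x` commuting with `L₂`, `m(x,y) = 3` and `y ∈ H`,
then `x ∈ H`. -/
theorem cox_shift_list (H : Subgroup W) (L1 L2 : List B) (x y : B) (hxy : M x y = 3)
    (h1 : ∀ i ∈ L1, M y i = 2) (h2 : ∀ j ∈ L2, M x j = 2)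
    (hc : cs.wordProd (L1 ++ x :: y :: L2) ∈ H) (hy : cs.simple y ∈ H) : cs.simple x ∈ H := by
  rw [cox_wordProd_split] at hc
  have h := cox_shift (cs.wordProd L1) (cs.wordProd L2) (cs.simple x) (cs.simple y)
    (cs.simple_mul_simple_self x) (cs.simple_mul_simple_self y) (cox_braid cs x y hxy)
    (cox_commute_wordProd cs y L1 h1) (cox_commute_wordProd cs x L2 h2)
  rw [← h]
  exact H.mul_mem (H.mul_mem (H.inv_mem hc) hy) hc

/-- If `c = L₁ x y L₂ ∈ H` with `y` commuting with `L₁`, `x` commuting with `L₂`, `m(x,y) = 3` and `x ∈ H`,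
then `y ∈ H`. -/
theorem cox_shift_list' (H : Subgroup W) (L1 L2 : List B) (x y : B) (hxy : M x y = 3)
    (h1 : ∀ i ∈ L1, M y i = 2) (h2 : ∀ j ∈ L2, M x j = 2)
    (hc : cs.wordProd (L1 ++ x :: y :: L2) ∈ H) (hx : cs.simple x ∈ H) : cs.simple y ∈ H := by
  rw [cox_wordProd_split] at hc
  have h := cox_shift' (cs.wordProd L1) (cs.wordProd L2) (cs.simple x) (cs.simple y)
    (cs.simple_mul_simple_self x) (cs.simple_mul_simple_self y) (cox_braid cs x y hxy)
    (cox_commute_wordProd cs y L1 h1) (cox_commute_wordProd cs x L2 h2)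
  rw [← h]
  exact H.mul_mem (H.mul_mem hc hx) (H.inv_mem hc)

theorem cox_wordProd_mem (H : Subgroup W) (L : List B) (h : ∀ i ∈ L, cs.simple i ∈ H) :
    cs.wordProd L ∈ H := by
  induction L with
  | nil => simp
  | cons a L ih =>
    rw [cs.wordProd_cons]
    exact H.mul_mem (h a (by simp)) (ih (fun i hi => h i (by simp [hi])))

/-- The head of a diagram of type `E`, for a Coxeter system. -/
theorem cox_E_head_list (H : Subgroup W) (i0 i1 i2 i3 i4 : B) (L : List B)
    (b02 : M i0 i2 = 3) (b23 : M i2 i3 = 3) (c01 : M i0 i1 = 2) (c03 : M i0 i3 = 2) (c12 : M i1 i2 = 2)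
    (hc : cs.wordProd (i0 :: i1 :: i2 :: i3 :: i4 :: L) ∈ H) (h3 : cs.simple i3 ∈ H)
    (h4 : cs.simple i4 ∈ H) (hL : ∀ i ∈ L, cs.simple i ∈ H) :
    cs.simple i0 ∈ H ∧ cs.simple i1 ∈ H ∧ cs.simple i2 ∈ H := by
  apply cox_E_head H (cs.simple i0) (cs.simple i1) (cs.simple i2) (cs.simple i3) (cs.simple i4)
    (cs.wordProd L) (cs.wordProd (i0 :: i1 :: i2 :: i3 :: i4 :: L))
    (cs.simple_mul_simple_self _) (cs.simple_mul_simple_self _) (cs.simple_mul_simple_self _)
    (cs.simple_mul_simple_self _) (cs.simple_mul_simple_self _)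
    (cox_braid cs i0 i2 b02) (cox_braid cs i2 i3 b23) (cox_commute cs i0 i1 c01) (cox_commute cs i0 i3 c03)
    (cox_commute cs i1 i2 c12) ?_ hc h3 h4 (cox_wordProd_mem cs H L hL)
  simp only [cs.wordProd_cons, mul_assoc]

end coxeter

end Cfsg.Agent.Lib.helper45
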