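import Mathlib

set_option autoImplicit false
set_option linter.unusedSectionVars false

namespace Cfsg.Agent.Lib.helper45

open Matrix

section abstractEig

variable {F : Type*} [Field F] [Fintype F] {ι : Type*} [Fintype ι] [DecidableEq ι]
variable {K' : Type*} [Field K'] {M : Type*} [AddCommGroup M] [Module K' M]
variable (ψ : AddChar F K') (R : (ι → F) → (M →ₗ[K'] M))

/-- The simultaneous eigenspace of the operators `R v` for the character `v ↦ ψ (w ⬝ᵥ v)`. -/
def eig (w : ι → F) : Submodule K' M :=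
  ⨅ v : ι → F, LinearMap.ker (R v - ψ (w ⬝ᵥ v) • LinearMap.id)

theorem mem_eig {w : ι → F} {x : M} : x ∈ eig ψ R w ↔ ∀ v, R v x = ψ (w ⬝ᵥ v) • x := by
  simp [eig, Submodule.mem_iInf, sub_eq_zero]

theorem sum_char [DecidableEq (ι → F)] (hψ : ψ.IsPrimitive) (w : ι → F) :
    ∑ v : ι → F, ψ (w ⬝ᵥ v) = if w = 0 then (Fintype.card (ι → F) : K') else 0 := by
  classical
  split_ifs with h
  · subst h
    simp
  · obtain ⟨i, hi⟩ : ∃ i, w i ≠ 0 := by
      by_contra hcon
      apply h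
      funext i
      by_contra hi
      exact hcon ⟨i, hi⟩
    have hψ1 : ψ ≠ 1 := by
      have := hψ (one_ne_zero (α := F))
      intro h1
      apply this
      ext x
      simp [AddChar.mulShift_apply, h1]
    obtain ⟨b, hb⟩ := AddChar.ne_one_iff.mp hψ1
    let f : (ι → F) →+ F :=
      { toFun := fun v => w ⬝ᵥ v
        map_zero' := dotProduct_zero w
        map_add' := dotProduct_add w }
    have hχ : ψ.compAddMonoidHom f ≠ 1 := by
      rw [AddChar.ne_one_iff]
      refine ⟨Pi.single i (b / w i), ?_⟩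
      have : f (Pi.single i (b / w i)) = b := by
        change w ⬝ᵥ Pi.single i (b / w i) = b
        rw [dotProduct_single, mul_div_cancel₀ _ hi]
      rw [AddChar.compAddMonoidHom_apply, this]
      exact hb
    exact AddChar.sum_eq_zero_of_ne_one hχ

/-- The (unnormalised) projection onto the eigenspace for `w`. -/
noncomputable def proj (w : ι → F) : M →ₗ[K'] M := ∑ v : ι → F, ψ (-(w ⬝ᵥ v)) • R v

theorem proj_apply_of_mem_eig [DecidableEq (ι → F)] (hψ : ψ.IsPrimitive) {w w' : ι → F} {x : M}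
    (hx : x ∈ eig ψ R w') :
    proj ψ R w x = (if w' = w then (Fintype.card (ι → F) : K') else 0) • x := by
  rw [mem_eig] at hx
  unfold proj
  rw [LinearMap.sum_apply]
  have h1 : ∀ v : ι → F, (ψ (-(w ⬝ᵥ v)) • R v) x = ψ ((w' - w) ⬝ᵥ v) • x := by
    intro v
    rw [LinearMap.smul_apply, hx v, smul_smul, ← AddChar.map_add_eq_mul, sub_dotProduct]
    congr 2
    ring
  rw [Finset.sum_congr rfl (fun v _ => h1 v), ← Finset.sum_smul, sum_char ψ hψ]
  simp only [sub_eq_zero]

theorem proj_mem_eig (hR : ∀ v v', R (v + v') = R v * R v') (w : ι → F) (y : M) :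
    proj ψ R w y ∈ eig ψ R w := by
  rw [mem_eig]
  intro v0
  unfold proj
  rw [LinearMap.sum_apply, map_sum, Finset.smul_sum]
  rw [← Fintype.sum_equiv (Equiv.addLeft v0) (fun v => ψ (w ⬝ᵥ v0) • (ψ (-(w ⬝ᵥ (v0 + v))) • R (v0 + v)) y)
    (fun v => ψ (w ⬝ᵥ v0) • (ψ (-(w ⬝ᵥ v)) • R v) y) (fun v => rfl)]
  apply Finset.sum_congr rfl
  intro v _
  rw [LinearMap.smul_apply, LinearMap.smul_apply, map_smul, smul_smul, ← AddChar.map_add_eq_mul, hR]
  congr 2
  rw [dotProduct_add]
  ring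

theorem sum_proj [DecidableEq (ι → F)] (hψ : ψ.IsPrimitive) (hR0 : R 0 = 1) :
    ∑ w : ι → F, proj ψ R w = (Fintype.card (ι → F) : K') • (1 : M →ₗ[K'] M) := by
  unfold proj
  rw [Finset.sum_comm]
  have h1 : ∀ v : ι → F, ∑ w : ι → F, ψ (-(w ⬝ᵥ v)) • R v =
      (if v = 0 then (Fintype.card (ι → F) : K') else 0) • R v := by
    intro v
    rw [← Finset.sum_smul]
    congr 1
    have h2 : ∀ w : ι → F, ψ (-(w ⬝ᵥ v)) = ψ ((-v) ⬝ᵥ w) := by
      intro w
      rw [neg_dotProduct, dotProduct_comm]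
    rw [Finset.sum_congr rfl (fun w _ => h2 w), sum_char ψ hψ]
    simp only [neg_eq_zero]
  rw [Finset.sum_congr rfl (fun v _ => h1 v)]
  simp only [ite_smul, zero_smul, Finset.sum_ite_eq', Finset.mem_univ, if_true, hR0]

theorem iSupIndep_eig (hψ : ψ.IsPrimitive) (hcard : (Fintype.card (ι → F) : K') ≠ 0) :
    iSupIndep (eig ψ R) := by
  classical
  intro w
  rw [Submodule.disjoint_def]
  intro x hx hx'
  have hle : (⨆ (j : ι → F) (_ : j ≠ w), eig ψ R j) ≤ LinearMap.ker (proj ψ R w) := by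
    apply iSup₂_le
    intro j hj y hy
    rw [LinearMap.mem_ker, proj_apply_of_mem_eig ψ R hψ hy, if_neg hj, zero_smul]
  have h1 : proj ψ R w x = 0 := hle hx'
  rw [proj_apply_of_mem_eig ψ R hψ hx, if_pos rfl] at h1
  exact (smul_eq_zero.mp h1).resolve_left hcard

theorem eq_one_of_eig_eq_bot (hψ : ψ.IsPrimitive) (hcard : (Fintype.card (ι → F) : K') ≠ 0)
    (hR : ∀ v v', R (v + v') = R v * R v') (hR0 : R 0 = 1)
    (h : ∀ w : ι → F, w ≠ 0 → eig ψ R w = ⊥) (v : ι → F) : R v = 1 := by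
  classical
  ext x
  have h1 := congrArg (fun f : M →ₗ[K'] M => f x) (sum_proj ψ R hψ hR0)
  simp only [LinearMap.sum_apply, LinearMap.smul_apply, Module.End.one_apply] at h1
  have h2 : ∑ w : ι → F, proj ψ R w x = proj ψ R 0 x := by
    apply Finset.sum_eq_single
    · intro w _ hw
      have := proj_mem_eig ψ R hR w x
      rw [h w hw, Submodule.mem_bot] at this
      exact this
    · intro h0
      exact absurd (Finset.mem_univ _) h0
  rw [h2] at h1
  have h3 : x ∈ eig ψ R 0 := by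
    have h4 : (Fintype.card (ι → F) : K') • x ∈ eig ψ R 0 := by
      rw [← h1]
      exact proj_mem_eig ψ R hR 0 x
    have h5 := (eig ψ R 0).smul_mem ((Fintype.card (ι → F) : K')⁻¹) h4
    rwa [smul_smul, inv_mul_cancel₀ hcard, one_smul] at h5
  rw [mem_eig] at h3
  rw [h3 v]
  simp

/-- The bound: if the operators are not all trivial and the non-vanishing of the eigenspaces is constant on
nonzero characters, the dimension is at least `q ^ |ι| - 1`. -/
theorem card_sub_one_le_finrank [Module.Finite K' M] (hψ : ψ.IsPrimitive)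
    (hcard : (Fintype.card (ι → F) : K') ≠ 0)
    (hR : ∀ v v', R (v + v') = R v * R v') (hR0 : R 0 = 1) (hne : ∃ v, R v ≠ 1)
    (htrans : ∀ w w' : ι → F, w ≠ 0 → w' ≠ 0 → eig ψ R w ≠ ⊥ → eig ψ R w' ≠ ⊥) :
    Fintype.card F ^ Fintype.card ι - 1 ≤ Module.finrank K' M := by
  classical
  obtain ⟨w0, hw0, hw0'⟩ : ∃ w0 : ι → F, w0 ≠ 0 ∧ eig ψ R w0 ≠ ⊥ := by
    by_contra hcon
    obtain ⟨v, hv⟩ := hne
    apply hv
    apply eq_one_of_eig_eq_bot ψ R hψ hcard hR hR0
    intro w hw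
    by_contra hw'
    exact hcon ⟨w, hw, hw'⟩
  have hall : ∀ w : ι → F, w ≠ 0 → eig ψ R w ≠ ⊥ := fun w hw => htrans w0 w hw0 hw hw0'
  have h1 := (iSupIndep_eig ψ R hψ hcard).subtype_ne_bot_le_finrank
  have h2 : Fintype.card {w : ι → F // w ≠ 0} ≤ Fintype.card {w : ι → F // eig ψ R w ≠ ⊥} :=
    Fintype.card_subtype_mono _ _ hall
  have h3 : Fintype.card {w : ι → F // w ≠ 0} = Fintype.card F ^ Fintype.card ι - 1 := by
    rw [Fintype.card_subtype_compl, Fintype.card_subtype_eq, Fintype.card_fun]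
  omega

end abstractEig

end Cfsg.Agent.Lib.helper45
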