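import Mathlib
import Cfsg.Agent.Lib.helper45.CrossChar

set_option autoImplicit false
set_option linter.unusedSectionVars false

namespace Cfsg.Agent.Lib.helper45

open Matrix

section abstractEig2

variable {F : Type*} [Field F] [Fintype F] {ι : Type*} [Fintype ι] [DecidableEq ι]
variable {K' : Type*} [Field K'] {M : Type*} [AddCommGroup M] [Module K' M]
variable (ψ : AddChar F K') (R : (ι → F) → (M →ₗ[K'] M))

/-- If every character occurring in `M` vanishes on the coordinate `i0`, the coordinate subgroup acts trivially. -/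
theorem eq_one_of_eig_vanish (hψ : ψ.IsPrimitive) (hcard : (Fintype.card (ι → F) : K') ≠ 0)
    (hR : ∀ v v', R (v + v') = R v * R v') (hR0 : R 0 = 1) (i0 : ι)
    (h : ∀ w : ι → F, eig ψ R w ≠ ⊥ → w i0 = 0) (s : F) : R (Pi.single i0 s) = 1 := by
  classical
  ext x
  have h1 := congrArg (fun f : M →ₗ[K'] M => f x) (sum_proj ψ R hψ hR0)
  simp only [LinearMap.sum_apply, LinearMap.smul_apply, Module.End.one_apply] at h1
  have h2 : ∀ w : ι → F, R (Pi.single i0 s) (proj ψ R w x) = proj ψ R w x := by
    intro w
    by_cases hw : eig ψ R w = ⊥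
    · have := proj_mem_eig ψ R hR w x
      rw [hw, Submodule.mem_bot] at this
      rw [this, map_zero]
    · have hmem := proj_mem_eig ψ R hR w x
      rw [mem_eig] at hmem
      rw [hmem (Pi.single i0 s), dotProduct_single, h w hw, zero_mul, AddChar.map_zero_eq_one, one_smul]
  have h3 : R (Pi.single i0 s) ((Fintype.card (ι → F) : K') • x) = (Fintype.card (ι → F) : K') • x := by
    rw [← h1, map_sum]
    exact Finset.sum_congr rfl (fun w _ => h2 w)
  rw [map_smul] at h3
  have h4 := congrArg (fun y => (Fintype.card (ι → F) : K')⁻¹ • y) h3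
  simp only [smul_smul, inv_mul_cancel₀ hcard, one_smul] at h4
  rw [h4, Module.End.one_apply]

/-- The number of characters occurring in `M` is at most the dimension. -/
theorem card_le_finrank_of_forall_eig_ne_bot [Module.Finite K' M] (hψ : ψ.IsPrimitive)
    (hcard : (Fintype.card (ι → F) : K') ≠ 0) (T : Finset (ι → F))
    (hT : ∀ w ∈ T, eig ψ R w ≠ ⊥) : T.card ≤ Module.finrank K' M := by
  classical
  have h1 := (iSupIndep_eig ψ R hψ hcard).subtype_ne_bot_le_finrank
  have h2 : T.card ≤ Fintype.card {w : ι → F // eig ψ R w ≠ ⊥} := by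
    rw [Fintype.card_subtype]
    apply Finset.card_le_card
    intro w hw
    rw [Finset.mem_filter]
    exact ⟨Finset.mem_univ _, hT w hw⟩
  omega

end abstractEig2

end Cfsg.Agent.Lib.helper45
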