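import Mathlib
import Cfsg.Agent.Lib.helper45.CrossChar

set_option autoImplicit false
set_option linter.unusedSectionVars false
set_option linter.unusedSimpArgs false

namespace Cfsg.Agent.Lib.helper45

open Matrix

section concreteSL

variable {F : Type*} [Field F] {m : ℕ}

/-- The matrix `1 + e₀ ⊗ (0, v)`: an element of the abelian unipotent radical of the stabiliser of a line. -/
def uMat (v : Fin m → F) : Matrix (Fin (m + 1)) (Fin (m + 1)) F :=
  1 + vecMulVec (Pi.single 0 1) (vecCons 0 v)

theorem vecCons_zero_dotProduct_single_zero (v : Fin m → F) :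
    (vecCons 0 v : Fin (m + 1) → F) ⬝ᵥ Pi.single 0 1 = 0 := by
  rw [dotProduct_single]
  simp

theorem uMat_det (v : Fin m → F) : (uMat v).det = 1 := by
  unfold uMat
  rw [Matrix.vecMulVec_eq Unit, det_one_add_replicateCol_mul_replicateRow,
    vecCons_zero_dotProduct_single_zero, add_zero]

/-- The element of `SL` with matrix `uMat v`. -/
def uSL (v : Fin m → F) : SpecialLinearGroup (Fin (m + 1)) F := ⟨uMat v, uMat_det v⟩

theorem vecCons_zero_add (v v' : Fin m → F) :
    (vecCons 0 (v + v') : Fin (m + 1) → F) = vecCons 0 v + vecCons 0 v' := by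
  ext i
  refine Fin.cases ?_ ?_ i
  · simp
  · intro j
    simp

theorem vecCons_zero_smul (c : F) (v : Fin m → F) :
    (vecCons 0 (c • v) : Fin (m + 1) → F) = c • vecCons 0 v := by
  ext i
  refine Fin.cases ?_ ?_ i
  · simp
  · intro j
    simp

theorem vecCons_zero_single (b : Fin m) :
    (vecCons 0 (Pi.single b 1) : Fin (m + 1) → F) = Pi.single (Fin.succ b) 1 := by
  ext i
  refine Fin.cases ?_ ?_ i
  · simp [Pi.single_apply, (Fin.succ_ne_zero b).symm]
  · intro j
    simp [Pi.single_apply]

theorem uSL_add (v v' : Fin m → F) : uSL (v + v') = uSL v * uSL v' := by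
  apply Subtype.ext
  change uMat (v + v') = uMat v * uMat v'
  unfold uMat
  rw [Matrix.add_mul, Matrix.one_mul, Matrix.mul_add, Matrix.mul_one,
    vecMulVec_mul_vecMulVec, vecCons_zero_dotProduct_single_zero, zero_smul, vecMulVec_zero,
    vecCons_zero_add, vecMulVec_add]
  abel

theorem uSL_zero : uSL (0 : Fin m → F) = 1 := by
  apply Subtype.ext
  change uMat (0 : Fin m → F) = 1
  unfold uMat
  have : (vecCons 0 (0 : Fin m → F) : Fin (m + 1) → F) = 0 := by
    ext i
    refine Fin.cases ?_ ?_ i
    · simp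
    · intro j
      simp
  rw [this, vecMulVec_zero, add_zero]

theorem uSL_apply_zero_succ (v : Fin m → F) (j : Fin m) :
    (uSL v : Matrix (Fin (m + 1)) (Fin (m + 1)) F) 0 (Fin.succ j) = v j := by
  change uMat v 0 (Fin.succ j) = v j
  unfold uMat
  simp [vecMulVec_apply, Matrix.one_apply, (Fin.succ_ne_zero j).symm]

/-- The matrix `1 + (0, a) ⊗ e_{b+1}`. -/
def gMat (a : Fin m → F) (b : Fin m) : Matrix (Fin (m + 1)) (Fin (m + 1)) F :=
  1 + vecMulVec (vecCons 0 a) (Pi.single (Fin.succ b) 1)

theorem gMat_det (a : Fin m → F) (b : Fin m) (hab : a b = 0) : (gMat a b).det = 1 := by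
  unfold gMat
  rw [Matrix.vecMulVec_eq Unit, det_one_add_replicateCol_mul_replicateRow, single_dotProduct]
  simp [hab]

/-- The element of `SL` with matrix `gMat a b`. -/
def gSL (a : Fin m → F) (b : Fin m) (hab : a b = 0) : SpecialLinearGroup (Fin (m + 1)) F :=
  ⟨gMat a b, gMat_det a b hab⟩

theorem gSL_mul_uSL (a : Fin m → F) (b : Fin m) (hab : a b = 0) (v : Fin m → F) :
    gSL a b hab * uSL (v + (v ⬝ᵥ a) • Pi.single b 1) = uSL v * gSL a b hab := by
  apply Subtype.ext
  change gMat a b * uMat (v + (v ⬝ᵥ a) • Pi.single b 1) = uMat v * gMat a b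
  unfold uMat gMat
  have h1 : (Pi.single (Fin.succ b) 1 : Fin (m + 1) → F) ⬝ᵥ Pi.single 0 1 = 0 := by
    rw [dotProduct_single]
    simp [Pi.single_apply, (Fin.succ_ne_zero b).symm]
  have h2 : (vecCons 0 v : Fin (m + 1) → F) ⬝ᵥ vecCons 0 a = v ⬝ᵥ a := by
    rw [cons_dotProduct_cons]
    simp
  rw [Matrix.add_mul, Matrix.one_mul, Matrix.mul_add, Matrix.mul_one, Matrix.add_mul, Matrix.one_mul,
    Matrix.mul_add, Matrix.mul_one, vecMulVec_mul_vecMulVec, vecMulVec_mul_vecMulVec, h1, h2, zero_smul,
    vecMulVec_zero, vecCons_zero_add, vecCons_zero_smul, vecCons_zero_single, vecMulVec_add]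
  abel

/-- A property of vectors of `F^m`, `m ≥ 2`, which is stable under the elementary moves
`w ↦ w + w_b • a` (`a_b = 0`) and holds for one nonzero vector holds for all nonzero vectors. -/
theorem trans_of_stable (hm : 2 ≤ m) (P : (Fin m → F) → Prop)
    (hP : ∀ (w a : Fin m → F) (b : Fin m), a b = 0 → P w → P (w + w b • a)) :
    ∀ w w' : Fin m → F, w ≠ 0 → w' ≠ 0 → P w → P w' := by
  have hex : ∀ w : Fin m → F, w ≠ 0 → ∃ k, w k ≠ 0 := by
    intro w hw
    by_contra hcon
    apply hw
    funext i
    by_contra hi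
    exact hcon ⟨i, hi⟩
  have hother : ∀ k : Fin m, ∃ i : Fin m, i ≠ k := by
    intro k
    by_cases hk : k.val = 0
    · exact ⟨⟨1, by omega⟩, fun h => by
        have := congrArg Fin.val h
        simp at this
        omega⟩
    · exact ⟨⟨0, by omega⟩, fun h => by
        have := congrArg Fin.val h
        simp at this
        omega⟩
  have step1 : ∀ w : Fin m → F, w ≠ 0 → P w → P (fun _ => 1) := by
    intro w hw hPw
    obtain ⟨k, hk⟩ := hex w hw
    obtain ⟨i, hi⟩ := hother k
    have h1 := hP w (fun j => if j = k then 0 else (1 - w j) / w k) k (by simp) hPw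
    have e1 : w + w k • (fun j => if j = k then 0 else (1 - w j) / w k) =
        fun j => if j = k then w k else 1 := by
      funext j
      by_cases hj : j = k
      · subst hj
        simp
      · simp only [Pi.add_apply, Pi.smul_apply, hj, if_false, smul_eq_mul]
        field_simp
        ring
    rw [e1] at h1
    have h2 := hP _ (Pi.single k (1 - w k)) i (by simp [Pi.single_apply, hi]) h1
    have e2 : (fun j => if j = k then w k else 1) +
        (fun j => if j = k then w k else (1 : F)) i • Pi.single k (1 - w k) = fun _ => 1 := by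
      funext j
      by_cases hj : j = k
      · subst hj
        simp [hi]
      · simp [hj, hi, Pi.single_apply]
    rw [e2] at h2
    exact h2
  have step2 : ∀ w : Fin m → F, w ≠ 0 → P (fun _ => 1) → P w := by
    intro w hw hP1
    obtain ⟨k, hk⟩ := hex w hw
    obtain ⟨i, hi⟩ := hother k
    have h1 := hP _ (Pi.single k (w k - 1)) i (by simp [Pi.single_apply, hi]) hP1
    have e1 : (fun _ => (1 : F)) + (fun _ : Fin m => (1 : F)) i • Pi.single k (w k - 1) =
        fun j => if j = k then w k else 1 := by
      funext j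
      by_cases hj : j = k
      · subst hj
        simp
      · simp [hj, Pi.single_apply]
    rw [e1] at h1
    have h2 := hP _ (fun j => if j = k then 0 else (w j - 1) / w k) k (by simp) h1
    have e2 : (fun j => if j = k then w k else 1) +
        (fun j => if j = k then w k else (1 : F)) k • (fun j => if j = k then 0 else (w j - 1) / w k) = w := by
      funext j
      by_cases hj : j = k
      · subst hj
        simp
      · simp only [Pi.add_apply, Pi.smul_apply, hj, if_false, if_true, smul_eq_mul]
        field_simp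
        ring
    rw [e2] at h2
    exact h2
  intro w w' hw hw' hPw
  exact step2 w' hw' (step1 w hw hPw)

end concreteSL

section bound

variable {F : Type*} [Field F] [Fintype F] {m : ℕ} {K' : Type*} [Field K'] {d : ℕ}

/-- The Landazuri–Seitz type bound: a representation of `SL_{m+1}(F)`, `m ≥ 2`, over a field containing a
primitive additive character of `F`, which is nontrivial on a transvection, has degree at least `q^m - 1`. -/
theorem card_pow_sub_one_le_of_rep (hm : 2 ≤ m) (ψ : AddChar F K') (hψ : ψ.IsPrimitive)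
    (hcard : (Fintype.card F : K') ≠ 0)
    (ρ' : SpecialLinearGroup (Fin (m + 1)) F →* GL (Fin d) K')
    (hne : ∃ v : Fin m → F, ρ' (uSL v) ≠ 1) : Fintype.card F ^ m - 1 ≤ d := by
  classical
  let R : (Fin m → F) → ((Fin d → K') →ₗ[K'] (Fin d → K')) :=
    fun v => Matrix.toLin' ((ρ' (uSL v) : GL (Fin d) K') : Matrix (Fin d) (Fin d) K')
  have hRdef : ∀ v, R v = Matrix.toLin' ((ρ' (uSL v) : GL (Fin d) K') : Matrix (Fin d) (Fin d) K') :=
    fun v => rfl
  have hR : ∀ v v', R (v + v') = R v * R v' := by
    intro v v'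
    rw [hRdef, hRdef, hRdef, uSL_add, map_mul, Units.val_mul, Matrix.toLin'_mul]
    rfl
  have hR0 : R 0 = 1 := by
    rw [hRdef, uSL_zero, map_one, Units.val_one, Matrix.toLin'_one]
    rfl
  have hcard' : (Fintype.card (Fin m → F) : K') ≠ 0 := by
    rw [Fintype.card_fun, Nat.cast_pow]
    exact pow_ne_zero _ hcard
  have hne' : ∃ v, R v ≠ 1 := by
    obtain ⟨v, hv⟩ := hne
    refine ⟨v, ?_⟩
    intro h1
    apply hv
    apply Units.ext
    apply Matrix.toLin'.injective
    rw [Units.val_one, Matrix.toLin'_one]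
    exact h1
  have htrans : ∀ w w' : Fin m → F, w ≠ 0 → w' ≠ 0 → eig ψ R w ≠ ⊥ → eig ψ R w' ≠ ⊥ := by
    apply trans_of_stable hm (fun w => eig ψ R w ≠ ⊥)
    intro w a b hab hw
    rw [Submodule.ne_bot_iff] at hw ⊢
    obtain ⟨x, hx, hx0⟩ := hw
    refine ⟨Matrix.toLin' ((ρ' (gSL a b hab) : GL (Fin d) K') : Matrix (Fin d) (Fin d) K') x, ?_, ?_⟩
    · rw [mem_eig] at hx ⊢
      intro v
      have key := gSL_mul_uSL a b hab v
      have e1 : R v (Matrix.toLin' ((ρ' (gSL a b hab) : GL (Fin d) K') : Matrix (Fin d) (Fin d) K') x) =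
          Matrix.toLin' ((ρ' (gSL a b hab) : GL (Fin d) K') : Matrix (Fin d) (Fin d) K')
            (R (v + (v ⬝ᵥ a) • Pi.single b 1) x) := by
        rw [hRdef, hRdef, ← LinearMap.comp_apply, ← LinearMap.comp_apply, ← Matrix.toLin'_mul,
          ← Matrix.toLin'_mul, ← Units.val_mul, ← Units.val_mul, ← map_mul, ← map_mul, key]
      rw [e1, hx, map_smul]
      congr 2
      rw [dotProduct_add, dotProduct_smul, dotProduct_single, add_dotProduct, smul_dotProduct,
        dotProduct_comm a v]
      simp only [smul_eq_mul, mul_one]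
      ring
    · intro h
      apply hx0
      have e2 : Matrix.toLin' ((ρ' (gSL a b hab)⁻¹ : GL (Fin d) K') : Matrix (Fin d) (Fin d) K')
          (Matrix.toLin' ((ρ' (gSL a b hab) : GL (Fin d) K') : Matrix (Fin d) (Fin d) K') x) = x := by
        rw [← LinearMap.comp_apply, ← Matrix.toLin'_mul, ← Units.val_mul, ← map_mul, inv_mul_cancel,
          map_one, Units.val_one, Matrix.toLin'_one]
        rfl
      rw [← e2, h, map_zero]
  have h := card_sub_one_le_finrank ψ R hψ hcard' hR hR0 hne' htrans
  simpa using h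

end bound

end Cfsg.Agent.Lib.helper45
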