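import Mathlib
import Cfsg.Agent.Lib.helper45.CrossChar2

set_option autoImplicit false
set_option linter.unusedSectionVars false
set_option linter.unusedSimpArgs false

namespace Cfsg.Agent.Lib.helper45

open Matrix

section concreteSp

variable {F : Type*} [Field F] {n : ℕ}

/-- The symmetric matrix `e ⊗ p + p ⊗ e`, `e` the basis vector with index `i0`. -/
def sMat (i0 : Fin n) (p : Fin n → F) : Matrix (Fin n) (Fin n) F :=
  vecMulVec (Pi.single i0 1) p + vecMulVec p (Pi.single i0 1)

theorem sMat_transpose (i0 : Fin n) (p : Fin n → F) : (sMat i0 p)ᵀ = sMat i0 p := by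
  unfold sMat
  rw [transpose_add, transpose_vecMulVec, transpose_vecMulVec, add_comm]

theorem sMat_add (i0 : Fin n) (p p' : Fin n → F) : sMat i0 (p + p') = sMat i0 p + sMat i0 p' := by
  unfold sMat
  rw [vecMulVec_add, add_vecMulVec]
  abel

theorem sMat_zero (i0 : Fin n) : sMat i0 (0 : Fin n → F) = 0 := by
  unfold sMat
  rw [vecMulVec_zero, zero_vecMulVec, add_zero]

theorem sMat_apply_self (i0 : Fin n) (p : Fin n → F) : sMat i0 p i0 i0 = 2 * p i0 := by
  unfold sMat
  simp [vecMulVec_apply]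
  ring

/-- The element `[[1, S(p)], [0, 1]]` of the symplectic group. -/
def uSp (i0 : Fin n) (p : Fin n → F) : symplecticGroup (Fin n) F :=
  ⟨fromBlocks 1 (sMat i0 p) 0 1, by
    rw [SymplecticGroup.mem_iff, J, fromBlocks_multiply, fromBlocks_transpose, fromBlocks_multiply]
    simp [sMat_transpose]⟩

theorem uSp_add (i0 : Fin n) (p p' : Fin n → F) : uSp i0 (p + p') = uSp i0 p * uSp i0 p' := by
  apply Subtype.ext
  change fromBlocks 1 (sMat i0 (p + p')) 0 1 = fromBlocks 1 (sMat i0 p) 0 1 * fromBlocks 1 (sMat i0 p') 0 1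
  rw [fromBlocks_multiply, sMat_add]
  simp [add_comm]

theorem uSp_zero (i0 : Fin n) : uSp i0 (0 : Fin n → F) = 1 := by
  apply Subtype.ext
  change fromBlocks 1 (sMat i0 (0 : Fin n → F)) 0 1 = 1
  rw [sMat_zero, fromBlocks_one]

/-- The element `[[A, 0], [0, Bᵀ]]` of the symplectic group, for `A B = 1`. -/
def gSp (A B : Matrix (Fin n) (Fin n) F) (hAB : A * B = 1) : symplecticGroup (Fin n) F :=
  ⟨fromBlocks A 0 0 Bᵀ, by
    rw [SymplecticGroup.mem_iff, J, fromBlocks_multiply, fromBlocks_transpose, fromBlocks_multiply]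
    simp [hAB, ← transpose_mul]⟩

theorem gSp_mul_uSp (i0 : Fin n) (A B : Matrix (Fin n) (Fin n) F) (hAB : A * B = 1) (hBA : B * A = 1)
    (c c' : F) (hcc : c * c' = 1) (hA : A *ᵥ Pi.single i0 1 = c • Pi.single i0 1)
    (hB : B *ᵥ Pi.single i0 1 = c' • Pi.single i0 1) (p : Fin n → F) :
    gSp A B hAB * uSp i0 p = uSp i0 (c • (A *ᵥ p)) * gSp A B hAB := by
  apply Subtype.ext
  change fromBlocks A 0 0 Bᵀ * fromBlocks 1 (sMat i0 p) 0 1 =
    fromBlocks 1 (sMat i0 (c • (A *ᵥ p))) 0 1 * fromBlocks A 0 0 Bᵀ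
  rw [fromBlocks_multiply, fromBlocks_multiply]
  have key : A * sMat i0 p = sMat i0 (c • (A *ᵥ p)) * Bᵀ := by
    unfold sMat
    rw [Matrix.mul_add, mul_vecMulVec, mul_vecMulVec, Matrix.add_mul, vecMulVec_mul, vecMulVec_mul,
      vecMul_transpose, vecMul_transpose, hA, hB, mulVec_smul, mulVec_mulVec, hBA, one_mulVec,
      smul_vecMulVec, vecMulVec_smul, smul_vecMulVec, vecMulVec_smul, smul_smul, hcc, one_smul]
  simp [key]

end concreteSp

section boundSp

variable {F : Type*} [Field F] [Fintype F] {m : ℕ} {K' : Type*} [Field K'] {d : ℕ}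

theorem vecMulVec_mulVec_comm {R : Type*} [CommRing R] {k : ℕ} (u v w : Fin k → R) :
    vecMulVec u v *ᵥ w = (v ⬝ᵥ w) • u := by
  rw [vecMulVec_mulVec, op_smul_eq_smul]

/-- The Landazuri–Seitz type bound for symplectic groups: a representation of `Sp_{2(m+1)}(F)` over a field
containing a primitive additive character of `F`, nontrivial on a long root subgroup, has degree at least
`q^m (q - 1) / 2`. -/
theorem sp_card_le_of_rep (ψ : AddChar F K') (hψ : ψ.IsPrimitive) (hcard : (Fintype.card F : K') ≠ 0)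
    (ρ' : symplecticGroup (Fin (m + 1)) F →* GL (Fin d) K')
    (hne : ∃ s : F, ρ' (uSp 0 (Pi.single 0 s)) ≠ 1) :
    Fintype.card F ^ m * (Fintype.card F - 1) / 2 ≤ d := by
  classical
  let R : (Fin (m + 1) → F) → ((Fin d → K') →ₗ[K'] (Fin d → K')) :=
    fun p => Matrix.toLin' ((ρ' (uSp 0 p) : GL (Fin d) K') : Matrix (Fin d) (Fin d) K')
  have hRdef : ∀ p, R p = Matrix.toLin' ((ρ' (uSp 0 p) : GL (Fin d) K') : Matrix (Fin d) (Fin d) K') :=
    fun p => rfl
  have hR : ∀ v v', R (v + v') = R v * R v' := by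
    intro v v'
    rw [hRdef, hRdef, hRdef, uSp_add, map_mul, Units.val_mul, Matrix.toLin'_mul]
    rfl
  have hR0 : R 0 = 1 := by
    rw [hRdef, uSp_zero, map_one, Units.val_one, Matrix.toLin'_one]
    rfl
  have hcard' : (Fintype.card (Fin (m + 1) → F) : K') ≠ 0 := by
    rw [Fintype.card_fun, Nat.cast_pow]
    exact pow_ne_zero _ hcard
  have transport : ∀ (A B : Matrix (Fin (m + 1)) (Fin (m + 1)) F) (hAB : A * B = 1) (_ : B * A = 1) (c c' : F)
      (_ : c * c' = 1) (_ : A *ᵥ Pi.single 0 1 = c • Pi.single 0 1)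
      (_ : B *ᵥ Pi.single 0 1 = c' • Pi.single 0 1) (w w' : Fin (m + 1) → F)
      (_ : ∀ p, w' ⬝ᵥ p = w ⬝ᵥ (c' • (B *ᵥ p))), eig ψ R w ≠ ⊥ → eig ψ R w' ≠ ⊥ := by
    intro A B hAB hBA c c' hcc hA hB w w' hw' hw
    rw [Submodule.ne_bot_iff] at hw ⊢
    obtain ⟨x, hx, hx0⟩ := hw
    refine ⟨Matrix.toLin' ((ρ' (gSp A B hAB) : GL (Fin d) K') : Matrix (Fin d) (Fin d) K') x, ?_, ?_⟩
    · rw [mem_eig] at hx ⊢
      intro p
      have key := gSp_mul_uSp 0 A B hAB hBA c c' hcc hA hB (c' • (B *ᵥ p))
      have e0 : c • (A *ᵥ (c' • (B *ᵥ p))) = p := by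
        rw [mulVec_smul, smul_smul, hcc, one_smul, mulVec_mulVec, hAB, one_mulVec]
      rw [e0] at key
      have e1 : R p (Matrix.toLin' ((ρ' (gSp A B hAB) : GL (Fin d) K') : Matrix (Fin d) (Fin d) K') x) =
          Matrix.toLin' ((ρ' (gSp A B hAB) : GL (Fin d) K') : Matrix (Fin d) (Fin d) K')
            (R (c' • (B *ᵥ p)) x) := by
        rw [hRdef, hRdef, ← LinearMap.comp_apply, ← LinearMap.comp_apply, ← Matrix.toLin'_mul,
          ← Matrix.toLin'_mul, ← Units.val_mul, ← Units.val_mul, ← map_mul, ← map_mul, key]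
      rw [e1, hx, map_smul, hw']
    · intro h
      apply hx0
      have e2 : Matrix.toLin' ((ρ' (gSp A B hAB)⁻¹ : GL (Fin d) K') : Matrix (Fin d) (Fin d) K')
          (Matrix.toLin' ((ρ' (gSp A B hAB) : GL (Fin d) K') : Matrix (Fin d) (Fin d) K') x) = x := by
        rw [← LinearMap.comp_apply, ← Matrix.toLin'_mul, ← Units.val_mul, ← map_mul, inv_mul_cancel,
          map_one, Units.val_one, Matrix.toLin'_one]
        rfl
      rw [← e2, h, map_zero]
  have torus : ∀ t : F, t ≠ 0 → ∀ w : Fin (m + 1) → F, eig ψ R w ≠ ⊥ →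
      eig ψ R (fun i => (if i = 0 then t * t else t) * w i) ≠ ⊥ := by
    intro t ht w hw
    refine transport (diagonal fun i => if i = 0 then t⁻¹ else 1) (diagonal fun i => if i = 0 then t else 1)
      ?_ ?_ t⁻¹ t (inv_mul_cancel₀ ht) ?_ ?_ w _ ?_ hw
    · have : (fun i : Fin (m + 1) => (if i = 0 then t⁻¹ else 1) * (if i = 0 then t else 1)) =
          fun _ => (1 : F) := by
        funext i
        split_ifs <;> simp [ht]
      rw [diagonal_mul_diagonal, this, diagonal_one]
    · have : (fun i : Fin (m + 1) => (if i = 0 then t else 1) * (if i = 0 then t⁻¹ else 1)) =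
          fun _ => (1 : F) := by
        funext i
        split_ifs <;> simp [ht]
      rw [diagonal_mul_diagonal, this, diagonal_one]
    · ext i
      rw [mulVec_diagonal]
      by_cases hi : i = 0
      · subst hi
        simp
      · simp [hi]
    · ext i
      rw [mulVec_diagonal]
      by_cases hi : i = 0
      · subst hi
        simp
      · simp [hi]
    · intro p
      simp only [dotProduct, Pi.smul_apply, mulVec_diagonal, smul_eq_mul]
      apply Finset.sum_congr rfl
      intro i _
      split_ifs <;> ring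
  have shear : ∀ y : Fin (m + 1) → F, y 0 = 0 → ∀ w : Fin (m + 1) → F, eig ψ R w ≠ ⊥ →
      eig ψ R (w - w 0 • y) ≠ ⊥ := by
    intro y hy w hw
    have hE : vecMulVec (Pi.single (0 : Fin (m + 1)) (1 : F)) y * vecMulVec (Pi.single 0 1) y = 0 := by
      rw [vecMulVec_mul_vecMulVec, dotProduct_single, hy, zero_mul, zero_smul, vecMulVec_zero]
    have hE' : vecMulVec (Pi.single (0 : Fin (m + 1)) (1 : F)) y *ᵥ Pi.single 0 1 = 0 := by
      rw [vecMulVec_mulVec_comm, dotProduct_single, hy, zero_mul, zero_smul]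
    refine transport (1 + vecMulVec (Pi.single 0 1) y) (1 - vecMulVec (Pi.single 0 1) y)
      ?_ ?_ 1 1 (mul_one 1) ?_ ?_ w _ ?_ hw
    · have : (1 + vecMulVec (Pi.single (0 : Fin (m + 1)) (1 : F)) y) * (1 - vecMulVec (Pi.single 0 1) y) =
          1 - vecMulVec (Pi.single 0 1) y * vecMulVec (Pi.single 0 1) y := by noncomm_ring
      rw [this, hE, sub_zero]
    · have : (1 - vecMulVec (Pi.single (0 : Fin (m + 1)) (1 : F)) y) * (1 + vecMulVec (Pi.single 0 1) y) =
          1 - vecMulVec (Pi.single 0 1) y * vecMulVec (Pi.single 0 1) y := by noncomm_ring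
      rw [this, hE, sub_zero]
    · rw [add_mulVec, one_mulVec, hE', add_zero, one_smul]
    · rw [sub_mulVec, one_mulVec, hE', sub_zero, one_smul]
    · intro p
      rw [one_smul, sub_mulVec, one_mulVec, vecMulVec_mulVec_comm, dotProduct_sub, dotProduct_smul,
        dotProduct_single, sub_dotProduct, smul_dotProduct]
      simp only [smul_eq_mul, mul_one]
      ring
  obtain ⟨w0, hw0, hw00⟩ : ∃ w0 : Fin (m + 1) → F, eig ψ R w0 ≠ ⊥ ∧ w0 0 ≠ 0 := by
    by_contra hcon
    obtain ⟨s, hs⟩ := hne
    apply hs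
    have h1 := eq_one_of_eig_vanish ψ R hψ hcard' hR hR0 0 (fun w hw => by
      by_contra h0
      exact hcon ⟨w, hw, h0⟩) s
    apply Units.ext
    apply Matrix.toLin'.injective
    rw [Units.val_one, Matrix.toLin'_one]
    exact h1
  have hT : ∀ w : Fin (m + 1) → F, (∃ t : F, t ≠ 0 ∧ t * t * w0 0 = w 0) → eig ψ R w ≠ ⊥ := by
    intro w hw
    obtain ⟨t, ht, hwt⟩ := hw
    have h1 := torus t ht w0 hw0
    have h2 := shear (fun i => if i = 0 then 0 else ((if i = 0 then t * t else t) * w0 i - w i) / (t * t * w0 0))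
      (by simp) _ h1
    have e : ((fun i => (if i = 0 then t * t else t) * w0 i) -
        ((fun i : Fin (m + 1) => (if i = 0 then t * t else t) * w0 i) 0) •
          (fun i => if i = 0 then 0 else ((if i = 0 then t * t else t) * w0 i - w i) / (t * t * w0 0))) = w := by
      funext i
      by_cases hi : i = 0
      · subst hi
        simp [hwt]
      · have hne0 : t * t * w0 0 ≠ 0 := mul_ne_zero (mul_ne_zero ht ht) hw00
        simp only [Pi.sub_apply, Pi.smul_apply, hi, if_false, if_true, smul_eq_mul]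
        field_simp
        ring
    rw [e] at h2
    exact h2
  have hle := card_le_finrank_of_forall_eig_ne_bot ψ R hψ hcard'
    (Finset.univ.filter (fun w : Fin (m + 1) → F => ∃ t : F, t ≠ 0 ∧ t * t * w0 0 = w 0))
    (fun w hw => hT w (Finset.mem_filter.mp hw).2)
  have hSq : Fintype.card F - 1 ≤
      2 * ((Finset.univ.filter (fun t : F => t ≠ 0)).image (fun t => t * t * w0 0)).card := by
    have h := Finset.card_le_mul_card_image (Finset.univ.filter (fun t : F => t ≠ 0)) 2
      (f := fun t => t * t * w0 0) (by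
        intro a ha
        obtain ⟨x0, _, rfl⟩ := Finset.mem_image.mp ha
        refine le_trans (Finset.card_le_card (t := {x0, -x0}) ?_) Finset.card_le_two
        intro x hx
        rw [Finset.mem_filter] at hx
        have h3 := mul_right_cancel₀ hw00 hx.2
        rcases mul_self_eq_mul_self_iff.mp h3 with h4 | h4 <;> simp [h4])
    have hc : (Finset.univ.filter (fun t : F => t ≠ 0)).card = Fintype.card F - 1 := by
      rw [Finset.filter_ne', Finset.card_erase_of_mem (Finset.mem_univ _), Finset.card_univ]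
    rw [hc] at h
    exact h
  have hTcard : ((Finset.univ.filter (fun t : F => t ≠ 0)).image (fun t => t * t * w0 0)).card *
      Fintype.card F ^ m ≤
      (Finset.univ.filter (fun w : Fin (m + 1) → F => ∃ t : F, t ≠ 0 ∧ t * t * w0 0 = w 0)).card := by
    have h : (((Finset.univ.filter (fun t : F => t ≠ 0)).image (fun t => t * t * w0 0)) ×ˢ
        (Finset.univ : Finset (Fin m → F))).card ≤
        (Finset.univ.filter (fun w : Fin (m + 1) → F => ∃ t : F, t ≠ 0 ∧ t * t * w0 0 = w 0)).card := by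
      apply Finset.card_le_card_of_injOn (fun av : F × (Fin m → F) => (Fin.cons av.1 av.2 : Fin (m + 1) → F))
      · intro av hav
        rw [Finset.mem_coe, Finset.mem_product, Finset.mem_image] at hav
        obtain ⟨⟨t, ht, hta⟩, _⟩ := hav
        rw [Finset.mem_filter] at ht
        rw [Finset.mem_coe, Finset.mem_filter]
        refine ⟨Finset.mem_univ _, t, ht.2, ?_⟩
        change t * t * w0 0 = (Fin.cons av.1 av.2 : Fin (m + 1) → F) 0
        rw [Fin.cons_zero]
        exact hta
      · intro av _ av' _ h'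
        have h : (Fin.cons av.1 av.2 : Fin (m + 1) → F) = Fin.cons av'.1 av'.2 := h'
        have h1 := congrFun h 0
        rw [Fin.cons_zero, Fin.cons_zero] at h1
        have h2 : av.2 = av'.2 := by
          funext j
          have h3 := congrFun h (Fin.succ j)
          rw [Fin.cons_succ, Fin.cons_succ] at h3
          exact h3
        exact Prod.ext h1 h2
    rwa [Finset.card_product, Finset.card_univ, Fintype.card_fun, Fintype.card_fin] at h
  have hfin : Module.finrank K' (Fin d → K') = d := by simp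
  rw [hfin] at hle
  apply Nat.div_le_of_le_mul
  calc Fintype.card F ^ m * (Fintype.card F - 1)
      ≤ Fintype.card F ^ m *
        (2 * ((Finset.univ.filter (fun t : F => t ≠ 0)).image (fun t => t * t * w0 0)).card) :=
        Nat.mul_le_mul_left _ hSq
    _ = 2 * (((Finset.univ.filter (fun t : F => t ≠ 0)).image (fun t => t * t * w0 0)).card *
        Fintype.card F ^ m) := by ring
    _ ≤ 2 * d := Nat.mul_le_mul_left 2 (le_trans hTcard hle)

end boundSp

end Cfsg.Agent.Lib.helper45
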