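import Mathlib

set_option autoImplicit false

namespace Cfsg.Agent.Lib.helper45

open Matrix

section TwoByTwo

variable {F : Type*} [Field F]

theorem two_by_two_aux (h2 : (2 : F) ≠ 0) (hm1 : ∀ t : F, t * t ≠ -1) (x y z w : F)
    (h11 : x * x + y * z = 1) (h12 : x * y + y * w = 0) (h21 : z * x + w * z = 0)
    (h22 : z * y + w * w = 1)
    (c11 : (x + y + z + w) * x + (-x - z + y + w) * z
      = x * (x + y + z + w) + y * (-x + z - y + w))
    (c12 : (x + y + z + w) * y + (-x - z + y + w) * w
      = x * (-x - z + y + w) + y * (x - z - y + w))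
    (c21 : (-x + z - y + w) * x + (x - z - y + w) * z
      = z * (x + y + z + w) + w * (-x + z - y + w)) :
    y = 0 ∧ z = 0 ∧ x = w := by
  have h4 : (4 : F) ≠ 0 := by
    have : (4 : F) = 2 * 2 := by norm_num
    rw [this]; exact mul_ne_zero h2 h2
  have h8 : (8 : F) ≠ 0 := by
    have : (8 : F) = 2 * 4 := by norm_num
    rw [this]; exact mul_ne_zero h2 h4
  by_cases hxw : x + w = 0
  · exfalso
    have hw : w = -x := by linear_combination hxw
    subst hw
    have e1 : (y - z) * (y + z + 2 * x) = 0 := by linear_combination c11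
    have e2 : 2 * (y * y + y * z + 2 * x * x - x * y + x * z) = 0 := by linear_combination c12
    have e3 : 2 * (2 * x * x + x * y - x * z + y * z + z * z) = 0 := by
      linear_combination (-1 : F) * c21
    rcases mul_eq_zero.1 e1 with h | h
    · have hyz : y = z := by linear_combination h
      subst hyz
      have : (4 : F) = 0 := by linear_combination e2 - 4 * h11
      exact h4 this
    · have hz : z = -2 * x - y := by linear_combination h
      subst hz
      have e4 : (8 : F) * (x * y) = 0 := by linear_combination (-1 : F) * e2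
      have e5 : (8 : F) * (x * (2 * x + y)) = 0 := by linear_combination e3
      have e4' : x * y = 0 := (mul_eq_zero.1 e4).resolve_left h8
      have e5' : x * (2 * x + y) = 0 := (mul_eq_zero.1 e5).resolve_left h8
      rcases mul_eq_zero.1 e4' with hx | hy
      · subst hx
        apply hm1 y
        linear_combination (-1 : F) * h11
      · subst hy
        have hx2 : x * (2 * x) = 0 := by simpa using e5'
        have hx : x = 0 := by
          rcases mul_eq_zero.1 hx2 with h | h
          · exact h
          · exact (mul_eq_zero.1 h).resolve_left h2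
        subst hx
        simp at h11
  · have hy : y = 0 := by
      have : y * (x + w) = 0 := by linear_combination h12
      exact (mul_eq_zero.1 this).resolve_right hxw
    have hz : z = 0 := by
      have : z * (x + w) = 0 := by linear_combination h21
      exact (mul_eq_zero.1 this).resolve_right hxw
    subst hy hz
    refine ⟨rfl, rfl, ?_⟩
    have : (x - w) * (x + w) = 0 := by linear_combination h11 - h22
    have := (mul_eq_zero.1 this).resolve_right hxw
    linear_combination this

/-- the matrix `a (1 + J)` -/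
def gmat (a : F) : Matrix (Fin 2) (Fin 2) F := !![a, -a; a, a]

/-- its inverse `(2a)⁻¹ (1 - J)` -/
def gmat' (a : F) : Matrix (Fin 2) (Fin 2) F :=
  !![(2 * a)⁻¹, (2 * a)⁻¹; -(2 * a)⁻¹, (2 * a)⁻¹]

theorem gmat_mul_gmat' (h2 : (2 : F) ≠ 0) (a : F) (ha : a ≠ 0) : gmat a * gmat' a = 1 := by
  ext i j
  fin_cases i <;> fin_cases j <;> simp [gmat, gmat', Matrix.mul_apply, Fin.sum_univ_two] <;>
    field_simp <;> ring

theorem gmat'_mul_gmat (h2 : (2 : F) ≠ 0) (a : F) (ha : a ≠ 0) : gmat' a * gmat a = 1 := by
  ext i j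
  fin_cases i <;> fin_cases j <;> simp [gmat, gmat', Matrix.mul_apply, Fin.sum_univ_two] <;>
    field_simp <;> ring

theorem gmat_sq_sq (a : F) (ha : (2 * a * a) * (2 * a * a) = 1) :
    (gmat a * gmat a) * (gmat a * gmat a) = -1 := by
  ext i j
  fin_cases i <;> fin_cases j <;> simp [gmat, Matrix.mul_apply, Fin.sum_univ_two] <;>
    linear_combination (-1 : F) * ha

theorem gmat_scalar (h2 : (2 : F) ≠ 0) (hm1 : ∀ t : F, t * t ≠ -1) (a : F) (ha : a ≠ 0)
    (e : Matrix (Fin 2) (Fin 2) F) (he : e * e = 1)
    (hc : (gmat' a * e * gmat a) * e = e * (gmat' a * e * gmat a)) : e = 1 ∨ e = -1 := by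
  have ha2 : (2 * a)⁻¹ * a = 2⁻¹ := by field_simp
  have hg : gmat a = a • (!![1, -1; 1, 1] : Matrix (Fin 2) (Fin 2) F) := by
    ext i j
    fin_cases i <;> fin_cases j <;> simp [gmat]
  have hg' : gmat' a = (2 * a)⁻¹ • (!![1, 1; -1, 1] : Matrix (Fin 2) (Fin 2) F) := by
    ext i j
    fin_cases i <;> fin_cases j <;> simp [gmat']
  have hconj : gmat' a * e * gmat a
      = (2⁻¹ : F) • ((!![1, 1; -1, 1] : Matrix (Fin 2) (Fin 2) F) * e * !![1, -1; 1, 1]) := by
    rw [hg, hg', Matrix.smul_mul, Matrix.smul_mul, Matrix.mul_smul, smul_smul, ha2]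
  rw [hconj, Matrix.smul_mul, Matrix.mul_smul] at hc
  have hc' : ((!![1, 1; -1, 1] : Matrix (Fin 2) (Fin 2) F) * e * !![1, -1; 1, 1]) * e
      = e * ((!![1, 1; -1, 1] : Matrix (Fin 2) (Fin 2) F) * e * !![1, -1; 1, 1]) :=
    smul_right_injective _ (inv_ne_zero h2) hc
  have h11 := congrFun (congrFun he 0) 0
  have h12 := congrFun (congrFun he 0) 1
  have h21 := congrFun (congrFun he 1) 0
  have h22 := congrFun (congrFun he 1) 1
  have c11 := congrFun (congrFun hc' 0) 0
  have c12 := congrFun (congrFun hc' 0) 1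
  have c21 := congrFun (congrFun hc' 1) 0
  simp only [Matrix.mul_apply, Fin.sum_univ_two, Matrix.one_apply, Matrix.of_apply,
    Matrix.cons_val', Matrix.cons_val_zero, Matrix.cons_val_one, Matrix.empty_val',
    Matrix.cons_val_fin_one] at h11 h12 h21 h22 c11 c12 c21
  obtain ⟨hy, hz, hxw⟩ := two_by_two_aux h2 hm1 (e 0 0) (e 0 1) (e 1 0) (e 1 1)
    (by simpa using h11) (by simpa using h12) (by simpa using h21) (by simpa using h22)
    (by linear_combination c11) (by linear_combination c12) (by linear_combination c21)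
  have hx : e 0 0 * e 0 0 = 1 := by
    have := h11
    simp only [if_true] at this
    rw [hy] at this
    simpa using this
  have hx' : e 0 0 = 1 ∨ e 0 0 = -1 := by
    have : (e 0 0 - 1) * (e 0 0 + 1) = 0 := by linear_combination hx
    rcases mul_eq_zero.1 this with h | h
    · left; linear_combination h
    · right; linear_combination h
  rcases hx' with h | h
  · left
    ext i j
    fin_cases i <;> fin_cases j <;> simp [hy, hz, h, ← hxw]
  · right
    ext i j
    fin_cases i <;> fin_cases j <;> simp [hy, hz, h, ← hxw]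

theorem exists_gmat_param [Fintype F] (hq : Fintype.card F % 4 = 3) :
    (∀ t : F, t * t ≠ -1) ∧ ∃ a : F, a ≠ 0 ∧ (2 * a * a) * (2 * a * a) = 1 := by
  classical
  have hns : ¬ IsSquare (-1 : F) := by
    rw [FiniteField.isSquare_neg_one_iff]
    omega
  have h2 : (2 : F) ≠ 0 := by
    intro h
    have h1 : ringChar F ∣ 2 := (ringChar.spec F 2).1 (by exact_mod_cast h)
    have h2 : ringChar F = 2 := by
      rcases (Nat.dvd_prime Nat.prime_two).1 h1 with h' | h'
      · exact absurd h' (CharP.ringChar_ne_one)
      · exact h'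
    have h3 := FiniteField.even_card_of_char_two h2
    omega
  refine ⟨fun t ht => hns ⟨t, ht.symm⟩, ?_⟩
  by_cases hs : IsSquare (2 : F)
  · obtain ⟨b, hb⟩ := hs
    have hb0 : b ≠ 0 := by
      rintro rfl
      simp at hb
      exact h2 hb
    refine ⟨b⁻¹, inv_ne_zero hb0, ?_⟩
    have : 2 * b⁻¹ * b⁻¹ = 1 := by rw [hb]; field_simp
    rw [this, one_mul]
  · have hs' : IsSquare (-2 : F) := by
      have h1 : quadraticChar F (-1) = -1 := quadraticChar_neg_one_iff_not_isSquare.2 hns
      have h2' : quadraticChar F 2 = -1 := quadraticChar_neg_one_iff_not_isSquare.2 hs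
      have h3 : quadraticChar F (-2) = 1 := by
        have : (-2 : F) = (-1) * 2 := by ring
        rw [this, map_mul, h1, h2']
        norm_num
      exact (quadraticChar_one_iff_isSquare (by simpa using h2)).1 h3
    obtain ⟨b, hb⟩ := hs'
    have hb0 : b ≠ 0 := by
      rintro rfl
      simp at hb
      exact h2 hb
    refine ⟨b⁻¹, inv_ne_zero hb0, ?_⟩
    have : 2 * b⁻¹ * b⁻¹ = -1 := by
      have h2b : (2 : F) = -(b * b) := by rw [← hb]; ring
      rw [h2b]; field_simp
    rw [this]; ring

end TwoByTwo

end Cfsg.Agent.Lib.helper45
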