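import Mathlib

set_option autoImplicit false

namespace Cfsg.Agent.Lib.helper45

open scoped Pointwise

theorem le_normalizer_of_conj_mem {G : Type*} [Group G] (M E : Subgroup G)
    (h : ∀ x ∈ M, ∀ e ∈ E, x * e * x⁻¹ ∈ E) : M ≤ Subgroup.normalizer (E : Set G) := by
  intro x hx
  rw [Subgroup.mem_normalizer_iff]
  intro e
  refine ⟨h x hx e, fun he => ?_⟩
  have := h x⁻¹ (M.inv_mem hx) _ he
  simpa [mul_assoc] using this

theorem sylow_normal_transport {G : Type*} [Group G] [Finite G] {p : ℕ} [Fact p.Prime]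
    (E₀ : Subgroup G) (hE : IsPGroup p E₀)
    (hN : (Nat.card G).factorization p ≤ (Nat.card (Subgroup.normalizer (E₀ : Set G))).factorization p)
    (S : Sylow p G) :
    ∃ g : G, (∀ x ∈ E₀, g * x * g⁻¹ ∈ S) ∧ (∀ s ∈ S, g⁻¹ * s * g ∈ Subgroup.normalizer (E₀ : Set G)) := by
  have hEN : IsPGroup p (E₀.subgroupOf (Subgroup.normalizer (E₀ : Set G))) := hE.comap_subtype
  obtain ⟨Q, hQ⟩ := hEN.exists_le_sylow
  have hcard : Nat.card ((Q : Subgroup (Subgroup.normalizer (E₀ : Set G))).map (Subgroup.normalizer (E₀ : Set G)).subtype)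
      = p ^ (Nat.card G).factorization p := by
    rw [Subgroup.card_map_of_injective (Subgroup.subtype_injective _), Sylow.card_eq_multiplicity]
    congr 1
    apply le_antisymm _ hN
    exact (Nat.factorization_le_iff_dvd Nat.card_pos.ne' Nat.card_pos.ne').2
      (Subgroup.card_subgroup_dvd_card _) p
  obtain ⟨g, hg⟩ := MulAction.exists_smul_eq G (Sylow.ofCard _ hcard) S
  have hS : ∀ s : G, s ∈ S ↔ g⁻¹ * s * g ∈ (Q : Subgroup (Subgroup.normalizer (E₀ : Set G))).map (Subgroup.normalizer (E₀ : Set G)).subtype := by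
    intro s
    have h1 : s ∈ S ↔ s ∈ MulAut.conj g • ((Sylow.ofCard _ hcard : Sylow p G) : Subgroup G) := by
      rw [← hg]; rfl
    rw [h1, Subgroup.mem_pointwise_smul_iff_inv_smul_mem, Sylow.coe_ofCard]
    simp [MulAut.smul_def]
  refine ⟨g, ?_, ?_⟩
  · intro x hx
    rw [hS]
    have h1 : g⁻¹ * (g * x * g⁻¹) * g = x := by group
    rw [h1]
    exact ⟨⟨x, Subgroup.le_normalizer hx⟩, hQ (by simpa [Subgroup.mem_subgroupOf] using hx), rfl⟩
  · intro s hs
    rw [hS] at hs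
    obtain ⟨y, -, hy⟩ := hs
    rw [← hy]
    exact y.2

/-- If the normalizer of an elementary abelian 2-subgroup `E₀` has odd index, every Sylow
2-subgroup contains a normal elementary abelian subgroup of the same order. -/
theorem exists_normal_elemAb_in_sylow {G : Type*} [Group G] [Finite G] (E₀ : Subgroup G) (k : ℕ)
    (hcomm : ∀ x ∈ E₀, ∀ y ∈ E₀, x * y = y * x) (hsq : ∀ x ∈ E₀, x ^ 2 = 1)
    (hcard : k ≤ Nat.card E₀)
    (hN : (Nat.card G).factorization 2
      ≤ (Nat.card (Subgroup.normalizer (E₀ : Set G))).factorization 2)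
    (S : Sylow 2 G) :
    ∃ E : Subgroup ↥(S : Subgroup G), E.Normal ∧
      (IsMulCommutative E ∧ ∀ a ∈ E, a ^ 2 = 1) ∧ k ≤ Nat.card ↥E := by
  haveI : Fact (Nat.Prime 2) := ⟨Nat.prime_two⟩
  have hE : IsPGroup 2 E₀ := by
    intro x
    refine ⟨1, ?_⟩
    have := hsq x.1 x.2
    apply Subtype.ext
    simpa using this
  obtain ⟨g, hg1, hg2⟩ := sylow_normal_transport E₀ hE hN S
  let E : Subgroup ↥(S : Subgroup G) :=
    E₀.comap ((MulAut.conj g⁻¹).toMonoidHom.comp (S : Subgroup G).subtype)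
  have hmem : ∀ s : ↥(S : Subgroup G), s ∈ E ↔ g⁻¹ * (s : G) * g ∈ E₀ := by
    intro s
    simp [E, Subgroup.mem_comap]
  refine ⟨E, ⟨?_⟩, ⟨⟨⟨?_⟩⟩, ?_⟩, ?_⟩
  · intro e he t
    rw [hmem] at he ⊢
    have hn := hg2 (t : G) t.2
    have h1 := (Subgroup.mem_normalizer_iff.1 hn _).1 he
    have h2 : g⁻¹ * ((t * e * t⁻¹ : ↥(S : Subgroup G)) : G) * g
        = g⁻¹ * (t : G) * g * (g⁻¹ * (e : G) * g) * (g⁻¹ * (t : G) * g)⁻¹ := by
      simp only [Subgroup.coe_mul, Subgroup.coe_inv]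
      group
    rw [h2]
    exact h1
  · intro a b
    have ha := (hmem a.1).1 a.2
    have hb := (hmem b.1).1 b.2
    have h := hcomm _ ha _ hb
    apply Subtype.ext
    apply Subtype.ext
    simp only [Subgroup.coe_mul]
    have h3 : (a.1 : G) * (b.1 : G) = g * (g⁻¹ * (a.1 : G) * g * (g⁻¹ * (b.1 : G) * g)) * g⁻¹ := by
      group
    have h4 : (b.1 : G) * (a.1 : G) = g * (g⁻¹ * (b.1 : G) * g * (g⁻¹ * (a.1 : G) * g)) * g⁻¹ := by
      group
    rw [h3, h4, h]
  · intro a ha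
    have h := hsq _ ((hmem a).1 ha)
    apply Subtype.ext
    have h3 : ((a ^ 2 : ↥(S : Subgroup G)) : G) = g * (g⁻¹ * (a : G) * g) ^ 2 * g⁻¹ := by
      simp only [pow_two, Subgroup.coe_mul]
      group
    rw [h3, h]
    simp
  · refine hcard.trans ?_
    let f : ↥E₀ → ↥E := fun x => ⟨⟨g * (x : G) * g⁻¹, hg1 x.1 x.2⟩, by
      rw [hmem]
      have : g⁻¹ * (g * (x : G) * g⁻¹) * g = x := by group
      rw [this]
      exact x.2⟩
    apply Nat.card_le_card_of_injective f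
    intro x y hxy
    have h1 : g * (x : G) * g⁻¹ = g * (y : G) * g⁻¹ :=
      congrArg (fun z : ↥E => ((z : ↥(S : Subgroup G)) : G)) hxy
    apply Subtype.ext
    simpa using h1

end Cfsg.Agent.Lib.helper45
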