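import Mathlib
import Cfsg.Agent.Lib.helper45.SylowNormalTransport

set_option autoImplicit false

namespace Cfsg.Agent.Lib.helper45

open Matrix

section GLWreath

variable {F : Type*} [Field F] {d m r : ℕ}

/-- index type: `m` blocks of size `d`, then `r` further coordinates -/
abbrev BI (d m r : ℕ) := (Fin d × Fin m) ⊕ Fin r

/-- block sum as a ring homomorphism -/
def bdR (F : Type*) [Field F] (d m r : ℕ) :
    ((Fin m → Matrix (Fin d) (Fin d) F) × Matrix (Fin r) (Fin r) F) →+*
      Matrix (BI d m r) (BI d m r) F where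
  toFun p := fromBlocks (blockDiagonal p.1) 0 0 p.2
  map_one' := by simp [fromBlocks_one]
  map_mul' p q := by
    rw [fromBlocks_multiply]
    simp only [Matrix.mul_zero, Matrix.zero_mul, add_zero, zero_add, Prod.fst_mul, Prod.snd_mul]
    congr 1
    exact Matrix.blockDiagonal_mul _ _
  map_zero' := by simp
  map_add' p q := by simp [fromBlocks_add, blockDiagonal_add]

theorem bdR_apply (p : (Fin m → Matrix (Fin d) (Fin d) F) × Matrix (Fin r) (Fin r) F) :
    bdR F d m r p = fromBlocks (blockDiagonal p.1) 0 0 p.2 := rfl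

theorem bdR_injective : Function.Injective (bdR F d m r) := by
  intro p q h
  have := fromBlocks_inj.1 h
  exact Prod.ext (blockDiagonal_injective this.1) this.2.2.2

/-- block permutation matrix -/
def gP (F : Type*) [Field F] (d : ℕ) {m : ℕ} (σ : Equiv.Perm (Fin m)) :
    Matrix (Fin d × Fin m) (Fin d × Fin m) F :=
  Matrix.of fun x y => if x.1 = y.1 ∧ x.2 = σ y.2 then 1 else 0

theorem gP_apply (σ : Equiv.Perm (Fin m)) (x y : Fin d × Fin m) :
    gP F d σ x y = if x.1 = y.1 ∧ x.2 = σ y.2 then 1 else 0 := rfl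

theorem gP_one : gP F d (1 : Equiv.Perm (Fin m)) = 1 := by
  ext x y
  rw [gP_apply, Matrix.one_apply]
  by_cases h : x = y
  · subst h; simp
  · rw [if_neg h, if_neg]
    intro h'
    exact h (Prod.ext h'.1 h'.2)

theorem gP_mul (σ τ : Equiv.Perm (Fin m)) : gP F d (σ * τ) = gP F d σ * gP F d τ := by
  ext x y
  rw [Matrix.mul_apply, Finset.sum_eq_single (y.1, τ y.2)]
  · rw [gP_apply, gP_apply, gP_apply]
    simp only [and_self, if_true, mul_one]
    rfl
  · intro z _ hz
    rw [gP_apply, gP_apply]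
    by_cases h : z.1 = y.1 ∧ z.2 = τ y.2
    · exact absurd (Prod.ext h.1 h.2 : z = (y.1, τ y.2)) hz
    · simp [h]
  · simp

theorem gP_mul_blockDiagonal (σ : Equiv.Perm (Fin m)) (A : Fin m → Matrix (Fin d) (Fin d) F) :
    gP F d σ * blockDiagonal A = blockDiagonal (fun i => A (σ⁻¹ i)) * gP F d σ := by
  ext x y
  rw [Matrix.mul_apply, Matrix.mul_apply, Finset.sum_eq_single (x.1, σ⁻¹ x.2),
    Finset.sum_eq_single (y.1, σ y.2)]
  · rw [gP_apply, gP_apply, blockDiagonal_apply, blockDiagonal_apply]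
    have e1 : (x.1 = x.1 ∧ x.2 = σ (σ⁻¹ x.2)) := ⟨rfl, by simp⟩
    have e2 : (y.1 = y.1 ∧ σ y.2 = σ y.2) := ⟨rfl, rfl⟩
    rw [if_pos e1, if_pos e2, one_mul, mul_one]
    by_cases h : x.2 = σ y.2
    · have h' : σ⁻¹ x.2 = y.2 := by rw [h]; simp
      rw [if_pos h', if_pos h]
    · have h' : ¬ σ⁻¹ x.2 = y.2 := by
        intro h''; apply h; rw [← h'']; simp
      rw [if_neg h', if_neg h]
  · intro z _ hz
    rw [gP_apply]
    by_cases h : z.1 = y.1 ∧ z.2 = σ y.2
    · exact absurd (Prod.ext h.1 h.2 : z = (y.1, σ y.2)) hz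
    · simp [h]
  · simp
  · intro z _ hz
    rw [gP_apply]
    by_cases h : x.1 = z.1 ∧ x.2 = σ z.2
    · exfalso; apply hz
      refine Prod.ext h.1.symm ?_
      show z.2 = σ⁻¹ x.2
      rw [h.2]; simp
    · simp [h]
  · simp

/-- base part -/
def gwBaseM (F : Type*) [Field F] (d m r : ℕ) :
    (Fin m → GL (Fin d) F) × (Fin r → Fˣ) →* Matrix (BI d m r) (BI d m r) F where
  toFun p := bdR F d m r (fun i => (p.1 i : Matrix (Fin d) (Fin d) F),
    Matrix.diagonal fun l => (p.2 l : F))
  map_one' := by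
    have : ((fun i => ((1 : Fin m → GL (Fin d) F) i : Matrix (Fin d) (Fin d) F)),
        Matrix.diagonal fun l => (((1 : Fin r → Fˣ) l : Fˣ) : F))
        = (1 : (Fin m → Matrix (Fin d) (Fin d) F) × Matrix (Fin r) (Fin r) F) := by
      refine Prod.ext ?_ ?_
      · funext i; rfl
      · simp
    simp only [Prod.fst_one, Prod.snd_one]
    rw [this, map_one]
  map_mul' p q := by
    rw [← map_mul]
    congr 1
    refine Prod.ext ?_ ?_
    · funext i; rfl
    · simp [Matrix.diagonal_mul_diagonal]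

def gwBase (F : Type*) [Field F] (d m r : ℕ) :
    (Fin m → GL (Fin d) F) × (Fin r → Fˣ) →* GL (BI d m r) F :=
  (gwBaseM F d m r).toHomUnits

theorem gwBase_coe (p : (Fin m → GL (Fin d) F) × (Fin r → Fˣ)) :
    ((gwBase F d m r p : GL (BI d m r) F) : Matrix (BI d m r) (BI d m r) F)
      = fromBlocks (blockDiagonal fun i => (p.1 i : Matrix (Fin d) (Fin d) F)) 0 0
          (Matrix.diagonal fun l => (p.2 l : F)) := rfl

def gwPermM (F : Type*) [Field F] (d m r : ℕ) :
    Equiv.Perm (Fin m) →* Matrix (BI d m r) (BI d m r) F where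
  toFun σ := fromBlocks (gP F d σ) 0 0 1
  map_one' := by rw [gP_one, fromBlocks_one]
  map_mul' σ τ := by simp [fromBlocks_multiply, gP_mul]

def gwPerm (F : Type*) [Field F] (d m r : ℕ) : Equiv.Perm (Fin m) →* GL (BI d m r) F :=
  (gwPermM F d m r).toHomUnits

theorem gwPerm_coe (σ : Equiv.Perm (Fin m)) :
    ((gwPerm F d m r σ : GL (BI d m r) F) : Matrix (BI d m r) (BI d m r) F)
      = fromBlocks (gP F d σ) 0 0 1 := rfl

theorem gwPerm_mul_gwBase (σ : Equiv.Perm (Fin m)) (p : (Fin m → GL (Fin d) F) × (Fin r → Fˣ)) :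
    gwPerm F d m r σ * gwBase F d m r p
      = gwBase F d m r (fun i => p.1 (σ⁻¹ i), p.2) * gwPerm F d m r σ := by
  apply Units.ext
  rw [Units.val_mul, Units.val_mul, gwPerm_coe, gwBase_coe, gwBase_coe, fromBlocks_multiply,
    fromBlocks_multiply, gP_mul_blockDiagonal]
  simp

/-- the wreath product `GL_d(F) ≀ S_m` -/
abbrev GW₁ (F : Type*) [Field F] (d m : ℕ) :=
  (Fin m → GL (Fin d) F) ⋊[mulAutArrow (G := Equiv.Perm (Fin m)) (A := Fin m)
    (M := GL (Fin d) F)] Equiv.Perm (Fin m)

/-- the group `GL_d(F) ≀ S_m × (F^×)^r` -/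
abbrev GW (F : Type*) [Field F] (d m r : ℕ) := GW₁ F d m × (Fin r → Fˣ)

def gwHom₁ (F : Type*) [Field F] (d m r : ℕ) : GW₁ F d m →* GL (BI d m r) F :=
  SemidirectProduct.lift ((gwBase F d m r).comp (MonoidHom.inl _ _)) (gwPerm F d m r) (fun σ => by
    apply MonoidHom.ext
    intro A
    simp only [MonoidHom.comp_apply, MulEquiv.coe_toMonoidHom, MulAut.conj_apply,
      MonoidHom.inl_apply]
    rw [eq_mul_inv_iff_mul_eq, gwPerm_mul_gwBase]
    rfl)

theorem gwHom₁_apply (x : GW₁ F d m) :
    gwHom₁ F d m r x = gwBase F d m r (x.left, 1) * gwPerm F d m r x.right := rfl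

theorem gwHom₁_comm (x : GW₁ F d m) (t : Fin r → Fˣ) :
    Commute (gwHom₁ F d m r x) (gwBase F d m r (1, t)) := by
  rw [gwHom₁_apply]
  apply Commute.mul_left
  · show gwBase F d m r (x.left, 1) * gwBase F d m r (1, t)
      = gwBase F d m r (1, t) * gwBase F d m r (x.left, 1)
    rw [← map_mul, ← map_mul]
    congr 1
    refine Prod.ext ?_ ?_ <;> simp
  · show gwPerm F d m r x.right * gwBase F d m r (1, t)
      = gwBase F d m r (1, t) * gwPerm F d m r x.right
    rw [gwPerm_mul_gwBase]
    rfl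

def gwHom (F : Type*) [Field F] (d m r : ℕ) : GW F d m r →* GL (BI d m r) F :=
  MonoidHom.noncommCoprod (gwHom₁ F d m r) ((gwBase F d m r).comp (MonoidHom.inr _ _))
    (fun x t => gwHom₁_comm x t)

theorem gwHom_apply (w : GW F d m r) :
    gwHom F d m r w = gwBase F d m r (w.1.left, 1) * gwPerm F d m r w.1.right
      * gwBase F d m r (1, w.2) := rfl

theorem blockDiagonal_mul_gP_apply (A : Fin m → Matrix (Fin d) (Fin d) F)
    (σ : Equiv.Perm (Fin m)) (x y : Fin d × Fin m) :
    (blockDiagonal A * gP F d σ) x y = if x.2 = σ y.2 then A x.2 x.1 y.1 else 0 := by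
  rw [Matrix.mul_apply, Finset.sum_eq_single (y.1, σ y.2)]
  · rw [gP_apply, blockDiagonal_apply]
    simp
  · intro z _ hz
    rw [gP_apply]
    by_cases h : z.1 = y.1 ∧ z.2 = σ y.2
    · exact absurd (Prod.ext h.1 h.2 : z = (y.1, σ y.2)) hz
    · simp [h]
  · simp

theorem gwHom_coe (w : GW F d m r) :
    ((gwHom F d m r w : GL (BI d m r) F) : Matrix (BI d m r) (BI d m r) F)
      = fromBlocks (blockDiagonal (fun i => (w.1.left i : Matrix (Fin d) (Fin d) F))
          * gP F d w.1.right) 0 0 (Matrix.diagonal fun l => (w.2 l : F)) := by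
  rw [gwHom_apply, Units.val_mul, Units.val_mul, gwBase_coe, gwPerm_coe, gwBase_coe,
    fromBlocks_multiply, fromBlocks_multiply]
  have h1 : (blockDiagonal fun _ : Fin m => (1 : Matrix (Fin d) (Fin d) F)) = 1 :=
    blockDiagonal_one
  simp [h1]

theorem gwHom_injective [NeZero d] : Function.Injective (gwHom F d m r) := by
  have : Nonempty (Fin d) := ⟨0⟩
  rw [injective_iff_map_eq_one]
  intro w hw
  have hm := congrArg Units.val hw
  rw [gwHom_coe, Units.val_one, ← fromBlocks_one] at hm
  obtain ⟨h11, -, -, h22⟩ := fromBlocks_inj.1 hm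
  have hσ : ∀ j, w.1.right j = j := by
    intro j
    by_contra hne
    have hz : (w.1.left (w.1.right j) : Matrix (Fin d) (Fin d) F) = 0 := by
      ext a b
      have := congrFun (congrFun h11 (a, w.1.right j)) (b, j)
      rw [blockDiagonal_mul_gP_apply, if_pos rfl, Matrix.one_apply,
        if_neg (fun h => hne (congrArg Prod.snd h))] at this
      exact this
    have h1 := (w.1.left (w.1.right j)).mul_inv
    rw [hz, Matrix.zero_mul] at h1
    exact zero_ne_one h1
  have hσ1 : w.1.right = 1 := Equiv.ext hσ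
  have hA : w.1.left = 1 := by
    rw [hσ1, gP_one, Matrix.mul_one, ← blockDiagonal_one] at h11
    have := blockDiagonal_injective h11
    funext i
    exact Units.ext (congrFun this i)
  have ht : w.2 = 1 := by
    funext l
    apply Units.ext
    have := congrFun (congrFun h22 l) l
    simpa using this
  exact Prod.ext (SemidirectProduct.ext hA hσ1) ht

theorem card_GW [Fintype F] : Nat.card (GW F d m r)
    = Nat.card (GL (Fin d) F) ^ m * m.factorial * (Fintype.card F - 1) ^ r := by
  rw [Nat.card_prod, SemidirectProduct.card, Nat.card_fun, Nat.card_perm, Nat.card_fin,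
    Nat.card_fun, Nat.card_fin, Nat.card_units, Nat.card_eq_fintype_card (α := F)]

/-- the sign character `ℤˣ → Fˣ` -/
def sgnU (F : Type*) [Field F] : ℤˣ →* Fˣ := Units.map (Int.castRingHom F).toMonoidHom

theorem sgnU_coe (u : ℤˣ) : ((sgnU F u : Fˣ) : F) = ((u : ℤ) : F) := rfl

theorem sgnU_injective (h2 : (2 : F) ≠ 0) : Function.Injective (sgnU F) := by
  intro u v h
  have hi : ((u : ℤ) : F) = ((v : ℤ) : F) := congrArg Units.val h
  have h1 : (1 : F) ≠ -1 := by
    intro h
    apply h2
    have : (2 : F) = 1 + 1 := by norm_num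
    rw [this]
    nth_rewrite 1 [h]
    simp
  rcases Int.units_eq_one_or u with h | h <;> rcases Int.units_eq_one_or v with h' | h'
  · rw [h, h']
  · rw [h, h'] at hi
    simp at hi
    exact absurd hi h1
  · rw [h, h'] at hi
    simp at hi
    exact absurd hi.symm h1
  · rw [h, h']

/-- the sign subgroup: scalars `±1` on every block and `±1` on the remaining coordinates -/
def gwSign (F : Type*) [Field F] (d m r : ℕ) : (Fin m → ℤˣ) × (Fin r → ℤˣ) →* GW F d m r :=
  MonoidHom.prodMap
    (SemidirectProduct.inl.comp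
      (((Matrix.GeneralLinearGroup.scalar (Fin d)).comp (sgnU F)).compLeft (Fin m)))
    ((sgnU F).compLeft (Fin r))

theorem gwSign_apply (p : (Fin m → ℤˣ) × (Fin r → ℤˣ)) :
    gwSign F d m r p = (SemidirectProduct.inl
      (fun i => Matrix.GeneralLinearGroup.scalar (Fin d) (sgnU F (p.1 i))),
      fun l => sgnU F (p.2 l)) := rfl

theorem gwSign_injective [NeZero d] (h2 : (2 : F) ≠ 0) :
    Function.Injective (gwSign F d m r) := by
  intro p p' h
  rw [gwSign_apply, gwSign_apply] at h
  have h1 := SemidirectProduct.inl_injective (congrArg Prod.fst h)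
  have h2' := congrArg Prod.snd h
  refine Prod.ext ?_ ?_
  · funext i
    have h3 := congrFun h1 i
    have h4 := congrArg (fun g : GL (Fin d) F => (g : Matrix (Fin d) (Fin d) F) 0 0) h3
    simp only [Matrix.GeneralLinearGroup.coe_scalar, Matrix.scalar_apply,
      Matrix.diagonal_apply_eq] at h4
    exact sgnU_injective h2 (Units.ext h4)
  · funext l
    exact sgnU_injective h2 (congrFun h2' l)

theorem gwSign_conj (w : GW F d m r) (p : (Fin m → ℤˣ) × (Fin r → ℤˣ)) :
    w * gwSign F d m r p * w⁻¹ = gwSign F d m r (fun i => p.1 (w.1.right⁻¹ i), p.2) := by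
  rw [gwSign_apply, gwSign_apply]
  refine Prod.ext ?_ ?_
  · show w.1 * SemidirectProduct.inl
        (fun i => Matrix.GeneralLinearGroup.scalar (Fin d) (sgnU F (p.1 i))) * w.1⁻¹
      = SemidirectProduct.inl
        (fun i => Matrix.GeneralLinearGroup.scalar (Fin d) (sgnU F (p.1 (w.1.right⁻¹ i))))
    set s : Fin m → GL (Fin d) F :=
      fun i => Matrix.GeneralLinearGroup.scalar (Fin d) (sgnU F (p.1 i)) with hs
    have key : ∀ (A : Fin m → GL (Fin d) F) (σ : Equiv.Perm (Fin m)),
        (SemidirectProduct.inl A * SemidirectProduct.inr σ : GW₁ F d m)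
          * SemidirectProduct.inl s * (SemidirectProduct.inl A * SemidirectProduct.inr σ)⁻¹
        = SemidirectProduct.inl A
          * (SemidirectProduct.inr σ * SemidirectProduct.inl s
            * SemidirectProduct.inr σ⁻¹) * (SemidirectProduct.inl A)⁻¹ := by
      intro A σ
      rw [map_inv]
      group
    have h1 : w.1 * SemidirectProduct.inl s * w.1⁻¹
        = SemidirectProduct.inl w.1.left
          * (SemidirectProduct.inr w.1.right * SemidirectProduct.inl s
            * SemidirectProduct.inr w.1.right⁻¹) * (SemidirectProduct.inl w.1.left)⁻¹ := by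
      rw [← key, SemidirectProduct.inl_left_mul_inr_right]
    rw [h1, ← SemidirectProduct.inl_aut, ← map_inv, ← map_mul, ← map_mul]
    congr 1
    funext i
    show w.1.left i * s (w.1.right⁻¹ • i) * (w.1.left i)⁻¹ = _
    rw [mul_inv_eq_iff_eq_mul, hs]
    exact (Matrix.GeneralLinearGroup.scalar_commute _ _).symm
  · show w.2 * (fun l => sgnU F (p.2 l)) * w.2⁻¹ = fun l => sgnU F (p.2 l)
    rw [mul_comm, inv_mul_cancel_left]

theorem gw_normalizer {G : Type*} [Group G] (Ψ : GW F d m r →* G) :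
    Ψ.range ≤ Subgroup.normalizer ((Ψ.comp (gwSign F d m r)).range : Set G) := by
  apply le_normalizer_of_conj_mem
  rintro _ ⟨w, rfl⟩ _ ⟨p, rfl⟩
  refine ⟨(fun i => p.1 (w.1.right⁻¹ i), p.2), ?_⟩
  simp only [MonoidHom.comp_apply]
  rw [← gwSign_conj, map_mul, map_mul, map_inv]

/-- Existence of a normal elementary abelian subgroup of order `2 ^ (m + r)` in every Sylow
2-subgroup of a finite group `G` containing a copy of `GL_d(F) ≀ S_m × (F^×)^r` of odd index. -/
theorem gw_exists_normal_elemAb [Fintype F] [NeZero d] (h2 : (2 : F) ≠ 0) {G : Type*} [Group G]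
    [Finite G] (Ψ : GW F d m r →* G) (hΨ : Function.Injective Ψ)
    (hv : (Nat.card G).factorization 2 ≤ (Nat.card (GW F d m r)).factorization 2)
    (hW0 : Nat.card (GW F d m r) ≠ 0) (S : Sylow 2 G) :
    ∃ E : Subgroup ↥(S : Subgroup G), E.Normal ∧
      (IsMulCommutative E ∧ ∀ a ∈ E, a ^ 2 = 1) ∧ 2 ^ (m + r) ≤ Nat.card ↥E := by
  apply exists_normal_elemAb_in_sylow (Ψ.comp (gwSign F d m r)).range (2 ^ (m + r))
  · rintro _ ⟨p, rfl⟩ _ ⟨p', rfl⟩
    rw [← map_mul, ← map_mul, mul_comm]
  · rintro _ ⟨p, rfl⟩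
    rw [← map_pow]
    have : p ^ 2 = 1 := by
      refine Prod.ext ?_ ?_
      · funext i
        simp [Int.units_sq]
      · funext l
        simp [Int.units_sq]
    rw [this, map_one]
  · have hinj : Function.Injective (Ψ.comp (gwSign F d m r)) :=
      hΨ.comp (gwSign_injective h2)
    rw [Nat.card_congr (MonoidHom.ofInjective hinj).toEquiv.symm, Nat.card_prod, Nat.card_fun,
      Nat.card_fun, Nat.card_fin, Nat.card_fin, pow_add]
    simp
  · have hdvd : Nat.card (GW F d m r)
        ∣ Nat.card (Subgroup.normalizer ((Ψ.comp (gwSign F d m r)).range : Set G)) := by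
      rw [Nat.card_congr (MonoidHom.ofInjective hΨ).toEquiv]
      exact Subgroup.card_dvd_of_le (gw_normalizer Ψ)
    exact hv.trans ((Nat.factorization_le_iff_dvd hW0 Nat.card_pos.ne').2 hdvd 2)

end GLWreath

end Cfsg.Agent.Lib.helper45
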