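import Mathlib

set_option autoImplicit false

namespace Cfsg.Agent.Lib.helper45

section AlgLemma

variable {R : Type*} [Ring R]

theorem inv_diff_cube {x y : R} (hx : x * x = 1) (hy : y * y = 1) (hxy : x * y = y * x) :
    (x - y) * (x - y) * (x - y) = (x - y) + (x - y) + (x - y) + (x - y) := by
  have e1 : x * x * x = x := by rw [hx, one_mul]
  have e2 : x * x * y = y := by rw [hx, one_mul]
  have e3 : x * y * x = y := by rw [hxy, mul_assoc, hx, mul_one]
  have e4 : x * y * y = x := by rw [mul_assoc, hy, mul_one]
  have e5 : y * x * x = y := by rw [mul_assoc, hx, mul_one]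
  have e6 : y * x * y = x := by rw [← hxy, mul_assoc, hy, mul_one]
  have e7 : y * y * x = x := by rw [hy, one_mul]
  have e8 : y * y * y = y := by rw [hy, one_mul]
  calc (x - y) * (x - y) * (x - y)
      = x * x * x - x * x * y - x * y * x + x * y * y - y * x * x + y * x * y + y * y * x
          - y * y * y := by noncomm_ring
    _ = x - y - y + x - y + x + x - y := by rw [e1, e2, e3, e4, e5, e6, e7, e8]
    _ = (x - y) + (x - y) + (x - y) + (x - y) := by abel

/-- Key ring-theoretic lemma: if `A` satisfies `(A² + 1)(A - 1) = 0`, and `a`, `b` are commuting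
elements with `a³ = 4a`, `b³ = 4b`, `aA = Ab`, `bA = -Aa`, then `a = 0` (when `2` is not a
zero divisor). -/
theorem alg_lemma (h2 : ∀ x : R, x + x = 0 → x = 0) (A A' a b : R) (hA'A : A' * A = 1)
    (hA : A * A * A - A * A + A - 1 = 0) (h1 : a * A = A * b) (h2' : b * A = -(A * a))
    (hab : a * b = b * a) (ha : a * a * a = a + a + a + a) (hb : b * b * b = b + b + b + b) :
    a = 0 := by
  -- (5), (6)
  have h5 : a * A * A = -(A * A * a) := by
    rw [h1, mul_assoc, h2']; noncomm_ring
  have h6 : b * A * A = -(A * A * b) := by
    rw [h2', neg_mul, mul_assoc, h1]; noncomm_ring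
  have h5' : a * A * A * A = -(A * A * A * b) := by
    rw [h5, neg_mul, mul_assoc (A * A), h1]; noncomm_ring
  have h6' : b * A * A * A = A * A * A * a := by
    rw [h6, neg_mul, mul_assoc (A * A), h2']; noncomm_ring
  -- (7), (8)
  have h7 : (A * A - 1) * a = A * ((A * A - 1) * b) := by
    have e : a * (A * A * A - A * A + A - 1) = 0 := by rw [hA, mul_zero]
    have e' : a * (A * A * A - A * A + A - 1) = a * A * A * A - a * A * A + a * A - a := by
      noncomm_ring
    rw [e', h5', h5, h1] at e
    have : (A * A - 1) * a - A * ((A * A - 1) * b)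
        = -(A * A * A * b) - -(A * A * a) + A * b - a := by noncomm_ring
    rw [e] at this
    exact sub_eq_zero.1 this
  have h8 : (A * A - 1) * b = -(A * ((A * A - 1) * a)) := by
    have e : b * (A * A * A - A * A + A - 1) = 0 := by rw [hA, mul_zero]
    have e' : b * (A * A * A - A * A + A - 1) = b * A * A * A - b * A * A + b * A - b := by
      noncomm_ring
    rw [e', h6', h6, h2'] at e
    have : (A * A - 1) * b + A * ((A * A - 1) * a)
        = A * A * A * a - -(A * A * b) + -(A * a) - b := by noncomm_ring
    rw [e] at this
    exact eq_neg_of_add_eq_zero_left this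
  -- (9)
  have h9 : (A * A - 1) * (a * a + b * b) = 0 := by
    have e1 : (A * A - 1) * a * b = A * ((A * A - 1) * (b * b)) := by
      rw [h7]; noncomm_ring
    have e2 : (A * A - 1) * b * a = -(A * ((A * A - 1) * (a * a))) := by
      rw [h8]; noncomm_ring
    have e3 : (A * A - 1) * a * b = (A * A - 1) * b * a := by
      rw [mul_assoc, hab, ← mul_assoc]
    have e4 : A * ((A * A - 1) * (a * a + b * b)) = 0 := by
      have : A * ((A * A - 1) * (a * a + b * b))
          = A * ((A * A - 1) * (b * b)) - -(A * ((A * A - 1) * (a * a))) := by noncomm_ring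
      rw [this, ← e1, ← e2, e3, sub_self]
    have := congrArg (fun z => A' * z) e4
    simp only [mul_zero] at this
    rw [← mul_assoc, hA'A, one_mul] at this
    exact this
  -- (10)
  have a4 : a * a * (a * a) = a * a + a * a + a * a + a * a := by
    have : a * a * (a * a) = a * (a * a * a) := by noncomm_ring
    rw [this, ha]; noncomm_ring
  have b4 : b * b * (b * b) = b * b + b * b + b * b + b * b := by
    have : b * b * (b * b) = b * (b * b * b) := by noncomm_ring
    rw [this, hb]; noncomm_ring
  have hab2 : b * b * (a * a) = a * a * (b * b) := by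
    calc b * b * (a * a) = b * (b * a) * a := by noncomm_ring
      _ = b * (a * b) * a := by rw [hab]
      _ = (b * a) * (b * a) := by noncomm_ring
      _ = (a * b) * (a * b) := by rw [hab]
      _ = a * (b * a) * b := by noncomm_ring
      _ = a * (a * b) * b := by rw [hab]
      _ = a * a * (b * b) := by noncomm_ring
  set M := A * A - 1 with hM
  have h10a : M * (a * a) = -(M * (b * b)) := by
    have : M * (a * a) + M * (b * b) = M * (a * a + b * b) := by noncomm_ring
    rw [h9] at this
    exact eq_neg_of_add_eq_zero_left this
  have h10 : M * (a * a) = 0 := by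
    -- 4 M a² = M a⁴ = -M b² a², and M a² b² = -M b⁴ = -4 M b² = 4 M a²
    have e1 : M * (a * a * (a * a)) = -(M * (b * b * (a * a))) := by
      have : M * (a * a * (a * a)) = M * (a * a) * (a * a) := by noncomm_ring
      rw [this, h10a]; noncomm_ring
    have e2 : M * (a * a * (b * b)) = -(M * (b * b * (b * b))) := by
      have : M * (a * a * (b * b)) = M * (a * a) * (b * b) := by noncomm_ring
      rw [this, h10a]; noncomm_ring
    rw [a4] at e1
    rw [b4] at e2
    rw [hab2, e2] at e1
    -- e1 : M * (4 a²) = - - (M * (4 b²))
    have e3 : M * (a * a + a * a + a * a + a * a)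
        = M * (a * a) + M * (a * a) + M * (a * a) + M * (a * a) := by noncomm_ring
    have e4 : - -(M * (b * b + b * b + b * b + b * b))
        = -(M * (a * a) + M * (a * a) + M * (a * a) + M * (a * a)) := by
      have : - -(M * (b * b + b * b + b * b + b * b))
          = M * (b * b) + M * (b * b) + M * (b * b) + M * (b * b) := by noncomm_ring
      rw [this]
      have hb' : M * (b * b) = -(M * (a * a)) := by rw [h10a, neg_neg]
      rw [hb']; abel
    rw [e3, e4] at e1
    -- 4x = -4x
    have e5 : (M * (a * a) + M * (a * a) + M * (a * a) + M * (a * a))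
        + (M * (a * a) + M * (a * a) + M * (a * a) + M * (a * a)) = 0 := by
      nth_rewrite 2 [e1]
      abel
    have e6 : (M * (a * a) + M * (a * a)) + (M * (a * a) + M * (a * a)) = 0 := by
      apply h2
      rw [← e5]; abel
    have e7 : M * (a * a) + M * (a * a) = 0 := h2 _ e6
    exact h2 _ e7
  have h10' : A * A * (a * a) = a * a := by
    have : A * A * (a * a) - a * a = M * (a * a) := by rw [hM]; noncomm_ring
    rw [h10] at this
    exact sub_eq_zero.1 this
  -- (11)
  have h11 : A * A * a = -a := by
    have e1 : a * A * A * (a * a) = -(A * A * a * (a * a)) := by rw [h5]; noncomm_ring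
    have e2 : a * A * A * (a * a) = a * (A * A * (a * a)) := by noncomm_ring
    rw [e2, h10'] at e1
    have e3 : a * (a * a) = a * a * a := by noncomm_ring
    have e4 : A * A * a * (a * a) = A * A * (a * a * a) := by noncomm_ring
    rw [e3, e4, ha] at e1
    -- e1 : a+a+a+a = -(A*A*(a+a+a+a))
    have e5 : (A * A * a + a) + (A * A * a + a) + ((A * A * a + a) + (A * A * a + a)) = 0 := by
      have : (A * A * a + a) + (A * A * a + a) + ((A * A * a + a) + (A * A * a + a))
          = A * A * (a + a + a + a) + (a + a + a + a) := by noncomm_ring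
      rw [this]
      nth_rewrite 2 [e1]
      abel
    have e6 := h2 _ e5
    have e7 := h2 _ e6
    exact eq_neg_of_add_eq_zero_left e7
  -- (12)
  have h12 : a * a = 0 := by
    have e1 : A * A * (a * a) = -(a * a) := by
      have : A * A * (a * a) = A * A * a * a := by noncomm_ring
      rw [this, h11]; noncomm_ring
    rw [h10'] at e1
    apply h2
    nth_rewrite 1 [e1]
    abel
  have h13 : a + a + a + a = 0 := by rw [← ha, h12, zero_mul]
  have h14 : a + a = 0 := by
    apply h2
    rw [← h13]; abel
  exact h2 _ h14

end AlgLemma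

end Cfsg.Agent.Lib.helper45
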