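import Mathlib
import Cfsg.Agent.Lib.helper45.GLWreath
import Cfsg.Agent.Lib.helper45.InvAlgLemma
import Cfsg.Agent.Lib.helper45.GLTwoByTwo

set_option autoImplicit false

namespace Cfsg.Agent.Lib.helper45

open Matrix

section GLBlockInv

variable {F : Type*} [Field F] {m : ℕ}

/-- block matrix: `h` on block `i`, identity elsewhere -/
def blk (r : ℕ) (i : Fin m) (h : Matrix (Fin 2) (Fin 2) F) : Matrix (BI 2 m r) (BI 2 m r) F :=
  bdR F 2 m r (Pi.mulSingle i h, 1)

theorem blk_eq (r : ℕ) (i : Fin m) (h : Matrix (Fin 2) (Fin 2) F) :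
    blk r i h = fromBlocks (blockDiagonal (Pi.mulSingle i h)) 0 0 1 := rfl

theorem blk_mul (r : ℕ) (i : Fin m) (h h' : Matrix (Fin 2) (Fin 2) F) :
    blk r i h * blk r i h' = blk r i (h * h') := by
  rw [blk, blk, blk, ← map_mul]
  congr 1
  refine Prod.ext ?_ ?_
  · simp [← Pi.mulSingle_mul]
  · simp

theorem blk_one (r : ℕ) (i : Fin m) : blk r i (1 : Matrix (Fin 2) (Fin 2) F) = 1 := by
  rw [blk, Pi.mulSingle_one]
  exact map_one _

/-- the diagonal of `blk r i (-1)` -/
def zvec (F : Type*) [Field F] {m : ℕ} (r : ℕ) (i : Fin m) : BI 2 m r → F :=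
  Sum.elim (fun p => if p.2 = i then -1 else 1) (fun _ => 1)

theorem blk_neg_one (r : ℕ) (i : Fin m) :
    blk r i (-1 : Matrix (Fin 2) (Fin 2) F) = Matrix.diagonal (zvec F r i) := by
  ext x y
  rcases x with x | x <;> rcases y with y | y
  · rw [blk_eq, fromBlocks_apply₁₁, blockDiagonal_apply, Matrix.diagonal_apply]
    by_cases h : x = y
    · subst h
      simp only [if_true, zvec, Sum.elim_inl, Pi.mulSingle_apply]
      by_cases hi : x.2 = i
      · simp [hi]
      · simp [hi]
    · rw [if_neg (fun h' => h (Sum.inl_injective h'))]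
      by_cases h2 : x.2 = y.2
      · rw [if_pos h2, Pi.mulSingle_apply]
        have h1 : x.1 ≠ y.1 := fun h1 => h (Prod.ext h1 h2)
        by_cases hi : x.2 = i
        · simp [hi, h1]
        · simp [hi, h1]
      · rw [if_neg h2]
  · simp [blk_eq]
  · simp [blk_eq]
  · rw [blk_eq, fromBlocks_apply₂₂, Matrix.diagonal_apply, Matrix.one_apply]
    by_cases h : x = y
    · subst h; simp [zvec]
    · rw [if_neg h, if_neg (fun h' => h (Sum.inr_injective h'))]

theorem blk_step1 (h2 : (2 : F) ≠ 0) (r : ℕ) (g g' : Matrix (Fin 2) (Fin 2) F) (hg : g * g' = 1)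
    (hg' : g' * g = 1) (hh : (g * g) * (g * g) = -1)
    (𝓔 : Set (Matrix (BI 2 m r) (BI 2 m r) F))
    (hcomm : ∀ x ∈ 𝓔, ∀ y ∈ 𝓔, x * y = y * x) (hinv : ∀ x ∈ 𝓔, x * x = 1) (i : Fin m)
    (hnorm : ∀ x ∈ 𝓔, blk r i g' * x * blk r i g ∈ 𝓔)
    (e : Matrix (BI 2 m r) (BI 2 m r) F) (he : e ∈ 𝓔) :
    e * blk r i (-1) = blk r i (-1) * e := by
  have hA'A : blk r i (g' * g') * blk r i (g * g) = (1 : Matrix (BI 2 m r) (BI 2 m r) F) := by
    rw [blk_mul]
    have : g' * g' * (g * g) = 1 := by
      rw [mul_assoc, ← mul_assoc g' g g, hg', one_mul, hg']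
    rw [this, blk_one]
  have hAA' : blk r i (g * g) * blk r i (g' * g') = (1 : Matrix (BI 2 m r) (BI 2 m r) F) := by
    rw [blk_mul]
    have : g * g * (g' * g') = 1 := by
      rw [mul_assoc, ← mul_assoc g g' g', hg, one_mul, hg]
    rw [this, blk_one]
  have hAA : blk r i (g * g) * blk r i (g * g)
      = (blk r i (-1) : Matrix (BI 2 m r) (BI 2 m r) F) := by
    rw [blk_mul, hh]
  have hmem1 : ∀ x ∈ 𝓔, blk r i (g' * g') * x * blk r i (g * g) ∈ 𝓔 := by
    intro x hx
    have : blk r i (g' * g') * x * blk r i (g * g)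
        = blk r i g' * (blk r i g' * x * blk r i g) * blk r i g := by
      rw [← blk_mul, ← blk_mul]
      simp only [mul_assoc]
    rw [this]
    exact hnorm _ (hnorm x hx)
  have hA : blk r i (g * g) * blk r i (g * g) * blk r i (g * g)
      - blk r i (g * g) * blk r i (g * g) + blk r i (g * g) - 1
      = (0 : Matrix (BI 2 m r) (BI 2 m r) F) := by
    have hx : ((Pi.mulSingle i (g * g), 1) :
        (Fin m → Matrix (Fin 2) (Fin 2) F) × Matrix (Fin r) (Fin r) F)
          * (Pi.mulSingle i (g * g), 1) * (Pi.mulSingle i (g * g), 1)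
        - (Pi.mulSingle i (g * g), 1) * (Pi.mulSingle i (g * g), 1)
        + (Pi.mulSingle i (g * g), 1) - 1 = 0 := by
      refine Prod.ext ?_ ?_
      · funext k
        simp only [Prod.fst_sub, Prod.fst_add, Prod.fst_mul, Prod.fst_one, Prod.fst_zero,
          Pi.sub_apply, Pi.add_apply, Pi.mul_apply, Pi.one_apply, Pi.zero_apply]
        by_cases hk : k = i
        · subst hk
          simp only [Pi.mulSingle_eq_same]
          rw [hh]
          simp
        · simp only [Pi.mulSingle_eq_of_ne hk]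
          simp
      · simp
    have := congrArg (bdR F 2 m r) hx
    simp only [map_sub, map_add, map_mul, map_one, map_zero] at this
    exact this
  generalize hAdef : blk r i (g * g) = A at hA'A hAA' hAA hmem1 hA
  generalize hA'def : blk r i (g' * g') = A' at hA'A hAA' hmem1
  have hA4 : A * A * A * A = 1 := by
    rw [mul_assoc (A * A), hAA, blk_mul]
    simp [blk_one]
  have hA'4 : A' * A' * A' * A' = 1 := by
    calc A' * A' * A' * A' = A' * A' * A' * A' * (A * A * A * A) := by rw [hA4, mul_one]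
      _ = A' * (A' * (A' * (A' * A) * A) * A) * A := by simp only [mul_assoc]
      _ = 1 := by simp [hA'A]
  -- the four conjugates
  have he1 := hmem1 e he
  have he2 := hmem1 _ he1
  have he3 := hmem1 _ he2
  generalize he1def : A' * e * A = e1 at he1 he2 he3
  generalize he2def : A' * e1 * A = e2 at he2 he3
  generalize he3def : A' * e2 * A = e3 at he3
  have he4 : A' * e3 * A = e := by
    rw [← he3def, ← he2def, ← he1def]
    calc A' * (A' * (A' * (A' * e * A) * A) * A) * A
        = (A' * A' * A' * A') * e * (A * A * A * A) := by simp only [mul_assoc]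
      _ = e := by rw [hA4, hA'4, one_mul, mul_one]
  have r0 : e * A = A * e1 := by
    rw [← he1def, ← mul_assoc, ← mul_assoc, hAA', one_mul]
  have r1 : e1 * A = A * e2 := by
    rw [← he2def, ← mul_assoc, ← mul_assoc, hAA', one_mul]
  have r2 : e2 * A = A * e3 := by
    rw [← he3def, ← mul_assoc, ← mul_assoc, hAA', one_mul]
  have r3 : e3 * A = A * e := by
    conv_rhs => rw [← he4]
    rw [← mul_assoc, ← mul_assoc, hAA', one_mul]
  have hm2 : ∀ x : Matrix (BI 2 m r) (BI 2 m r) F, x + x = 0 → x = 0 := by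
    intro x hx
    ext j k
    have := congrFun (congrFun hx j) k
    simp only [Matrix.add_apply, Matrix.zero_apply] at this
    have h' : (2 : F) * x j k = 0 := by rw [two_mul]; exact this
    simpa using (mul_eq_zero.1 h').resolve_left h2
  have key := alg_lemma hm2 A A' (e - e2) (e1 - e3) hA'A hA
    (by rw [sub_mul, mul_sub, r0, r2])
    (by rw [sub_mul, mul_sub, r1, r3]; abel)
    (by
      rw [sub_mul, mul_sub, mul_sub, mul_sub, sub_mul, sub_mul, hcomm e he e1 he1,
        hcomm e he e3 he3, hcomm e2 he2 e1 he1, hcomm e2 he2 e3 he3])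
    (inv_diff_cube (hinv e he) (hinv e2 he2) (hcomm e he e2 he2))
    (inv_diff_cube (hinv e1 he1) (hinv e3 he3) (hcomm e1 he1 e3 he3))
  have hee2 : e = e2 := sub_eq_zero.1 key
  rw [← hAA]
  calc e * (A * A) = (e * A) * A := by rw [mul_assoc]
    _ = A * (e1 * A) := by rw [r0, mul_assoc]
    _ = A * (A * e2) := by rw [r1]
    _ = A * A * e := by rw [← hee2, mul_assoc]

theorem entry_zero_of_comm (h2 : (2 : F) ≠ 0) (r : ℕ) (e : Matrix (BI 2 m r) (BI 2 m r) F)
    (i : Fin m) (hc : e * blk r i (-1) = blk r i (-1) * e) (x y : BI 2 m r)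
    (hx : zvec F r i x = -1) (hy : zvec F r i y = 1) : e x y = 0 ∧ e y x = 0 := by
  rw [blk_neg_one] at hc
  have h1 := congrFun (congrFun hc x) y
  have h2' := congrFun (congrFun hc y) x
  rw [Matrix.mul_diagonal, Matrix.diagonal_mul, hx, hy] at h1
  rw [Matrix.mul_diagonal, Matrix.diagonal_mul, hx, hy] at h2'
  constructor
  · have : (2 : F) * e x y = 0 := by linear_combination h1
    exact (mul_eq_zero.1 this).resolve_left h2
  · have : (2 : F) * e y x = 0 := by linear_combination (-1 : F) * h2'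
    exact (mul_eq_zero.1 this).resolve_left h2

/-- the block-scalar diagonal matrix with signs `s` -/
def dgm (r : ℕ) (s : Fin m ⊕ Fin r → F) : Matrix (BI 2 m r) (BI 2 m r) F :=
  Matrix.diagonal (Sum.elim (fun p => s (Sum.inl p.2)) (fun l => s (Sum.inr l)))

/-- the signature of a matrix: its `(0,0)` entries in each block and the remaining diagonal -/
def sigm (r : ℕ) (e : Matrix (BI 2 m r) (BI 2 m r) F) : Fin m ⊕ Fin r → F :=
  Sum.elim (fun i => e (Sum.inl (0, i)) (Sum.inl (0, i))) (fun l => e (Sum.inr l) (Sum.inr l))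

theorem eq_dgm_of_normalized (h2 : (2 : F) ≠ 0) (r : ℕ) (hr : r ≤ 1)
    (g g' : Matrix (Fin 2) (Fin 2) F) (hg : g * g' = 1)
    (hg' : g' * g = 1) (hh : (g * g) * (g * g) = -1)
    (h22 : ∀ e : Matrix (Fin 2) (Fin 2) F, e * e = 1 → (g' * e * g) * e = e * (g' * e * g) →
      e = 1 ∨ e = -1)
    (𝓔 : Set (Matrix (BI 2 m r) (BI 2 m r) F))
    (hcomm : ∀ x ∈ 𝓔, ∀ y ∈ 𝓔, x * y = y * x) (hinv : ∀ x ∈ 𝓔, x * x = 1)
    (hnorm : ∀ i : Fin m, ∀ x ∈ 𝓔, blk r i g' * x * blk r i g ∈ 𝓔)
    (e : Matrix (BI 2 m r) (BI 2 m r) F) (he : e ∈ 𝓔) :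
    e = dgm r (sigm r e) := by
  have hc : ∀ i, e * blk r i (-1) = blk r i (-1) * e := fun i =>
    blk_step1 h2 r g g' hg hg' hh 𝓔 hcomm hinv i (hnorm i) e he
  -- off-diagonal blocks vanish
  have z1 : ∀ (a b : Fin 2) (i j : Fin m), i ≠ j → e (Sum.inl (a, i)) (Sum.inl (b, j)) = 0 := by
    intro a b i j hij
    exact (entry_zero_of_comm h2 r e i (hc i) (Sum.inl (a, i)) (Sum.inl (b, j))
      (by simp [zvec]) (by simp [zvec, Ne.symm hij])).1
  have z2 : ∀ (a : Fin 2) (i : Fin m) (l : Fin r), e (Sum.inl (a, i)) (Sum.inr l) = 0 := by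
    intro a i l
    exact (entry_zero_of_comm h2 r e i (hc i) (Sum.inl (a, i)) (Sum.inr l)
      (by simp [zvec]) (by simp [zvec])).1
  have z3 : ∀ (a : Fin 2) (i : Fin m) (l : Fin r), e (Sum.inr l) (Sum.inl (a, i)) = 0 := by
    intro a i l
    exact (entry_zero_of_comm h2 r e i (hc i) (Sum.inl (a, i)) (Sum.inr l)
      (by simp [zvec]) (by simp [zvec])).2
  -- block form
  set Ee : Fin m → Matrix (Fin 2) (Fin 2) F :=
    fun i => Matrix.of fun a b => e (Sum.inl (a, i)) (Sum.inl (b, i)) with hEe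
  set Le : Matrix (Fin r) (Fin r) F := Matrix.of fun l l' => e (Sum.inr l) (Sum.inr l') with hLe
  have hform : e = bdR F 2 m r (Ee, Le) := by
    ext x y
    rcases x with x | x <;> rcases y with y | y
    · rw [bdR_apply, fromBlocks_apply₁₁, blockDiagonal_apply]
      by_cases h : x.2 = y.2
      · rw [if_pos h]
        obtain ⟨a, i⟩ := x
        obtain ⟨b, j⟩ := y
        simp only at h
        subst h
        rfl
      · rw [if_neg h]
        exact z1 x.1 y.1 x.2 y.2 h
    · rw [bdR_apply, fromBlocks_apply₁₂]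
      exact z2 x.1 x.2 y
    · rw [bdR_apply, fromBlocks_apply₂₁]
      exact z3 y.1 y.2 x
    · rw [bdR_apply, fromBlocks_apply₂₂]
      rfl
  -- squares
  have hsq : (Ee, Le) * (Ee, Le) = (1 : (Fin m → Matrix (Fin 2) (Fin 2) F) × Matrix (Fin r) (Fin r) F) := by
    apply bdR_injective (F := F) (d := 2) (m := m) (r := r)
    rw [map_mul, map_one, ← hform]
    exact hinv e he
  have hEsq : ∀ i, Ee i * Ee i = 1 := fun i => congrFun (congrArg Prod.fst hsq) i
  have hLsq : Le * Le = 1 := congrArg Prod.snd hsq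
  -- each block is scalar
  have hEs : ∀ i, Ee i = 1 ∨ Ee i = -1 := by
    intro i
    apply h22 (Ee i) (hEsq i)
    have h1 := hcomm _ (hnorm i e he) e he
    have h3 : blk r i g' * e * blk r i g
        = bdR F 2 m r ((Pi.mulSingle i g', 1) * (Ee, Le) * (Pi.mulSingle i g, 1)) := by
      rw [map_mul, map_mul, ← hform]
      rfl
    rw [h3] at h1
    have h1' : bdR F 2 m r (((Pi.mulSingle i g', 1) * (Ee, Le) * (Pi.mulSingle i g, 1)) * (Ee, Le))
        = bdR F 2 m r ((Ee, Le) * ((Pi.mulSingle i g', 1) * (Ee, Le) * (Pi.mulSingle i g, 1))) := by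
      rw [map_mul, map_mul (bdR F 2 m r) (Ee, Le), ← hform]
      exact h1
    have h4 := congrFun (congrArg Prod.fst (bdR_injective h1')) i
    simpa [Pi.mulSingle_eq_same] using h4
  -- conclusion
  ext x y
  rcases x with x | x <;> rcases y with y | y
  · rw [dgm, Matrix.diagonal_apply]
    obtain ⟨a, i⟩ := x
    obtain ⟨b, j⟩ := y
    by_cases hij : i = j
    · subst hij
      have hval : e (Sum.inl (a, i)) (Sum.inl (b, i)) = Ee i a b := rfl
      have h00 : sigm r e (Sum.inl i) = Ee i 0 0 := rfl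
      rw [hval]
      simp only [Sum.elim_inl, h00]
      rcases hEs i with h | h
      · rw [h]
        by_cases hab : a = b
        · subst hab; simp
        · rw [if_neg (fun h' => hab (congrArg Prod.fst (Sum.inl_injective h')))]
          simp [Matrix.one_apply, hab]
      · rw [h]
        by_cases hab : a = b
        · subst hab; simp
        · rw [if_neg (fun h' => hab (congrArg Prod.fst (Sum.inl_injective h')))]
          simp [Matrix.one_apply, hab]
    · rw [if_neg (fun h' => hij (congrArg Prod.snd (Sum.inl_injective h')))]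
      exact z1 a b i j hij
  · rw [dgm, Matrix.diagonal_apply, if_neg (by simp)]
    exact z2 x.1 x.2 y
  · rw [dgm, Matrix.diagonal_apply, if_neg (by simp)]
    exact z3 y.1 y.2 x
  · have hxy : x = y := by
      apply Fin.ext
      have := x.2
      have := y.2
      omega
    subst hxy
    rw [dgm, Matrix.diagonal_apply_eq]
    rfl

/-- A set of commuting involutions normalized by the block elements `blk r i g` (`g` of order 8
acting irreducibly, as in `gmat`) has at most `2 ^ (m + r)` elements, for `r ≤ 1`. -/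
theorem gl_block_inv_bound (h2 : (2 : F) ≠ 0) (r : ℕ) (hr : r ≤ 1)
    (g g' : Matrix (Fin 2) (Fin 2) F) (hg : g * g' = 1)
    (hg' : g' * g = 1) (hh : (g * g) * (g * g) = -1)
    (h22 : ∀ e : Matrix (Fin 2) (Fin 2) F, e * e = 1 → (g' * e * g) * e = e * (g' * e * g) →
      e = 1 ∨ e = -1)
    (𝓔 : Set (Matrix (BI 2 m r) (BI 2 m r) F))
    (hcomm : ∀ x ∈ 𝓔, ∀ y ∈ 𝓔, x * y = y * x) (hinv : ∀ x ∈ 𝓔, x * x = 1)
    (hnorm : ∀ i : Fin m, ∀ x ∈ 𝓔, blk r i g' * x * blk r i g ∈ 𝓔) :
    𝓔.ncard ≤ 2 ^ (m + r) := by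
  classical
  have hform : ∀ e ∈ 𝓔, e = dgm r (sigm r e) := fun e he =>
    eq_dgm_of_normalized h2 r hr g g' hg hg' hh h22 𝓔 hcomm hinv hnorm e he
  have hsig : ∀ e ∈ 𝓔, ∀ j, sigm r e j = 1 ∨ sigm r e j = -1 := by
    intro e he j
    have hsq : dgm r (sigm r e) * dgm r (sigm r e) = 1 := by
      rw [← hform e he]; exact hinv e he
    rw [dgm, Matrix.diagonal_mul_diagonal, ← Matrix.diagonal_one] at hsq
    have h := Matrix.diagonal_injective hsq
    have key : sigm r e j * sigm r e j = 1 := by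
      rcases j with i | l
      · have := congrFun h (Sum.inl (0, i))
        simpa using this
      · have := congrFun h (Sum.inr l)
        simpa using this
    have : (sigm r e j - 1) * (sigm r e j + 1) = 0 := by linear_combination key
    rcases mul_eq_zero.1 this with h' | h'
    · left; linear_combination h'
    · right; linear_combination h'
  let T : Finset (Fin m ⊕ Fin r → F) := Fintype.piFinset (fun _ => ({1, -1} : Finset F))
  have hT : T.card ≤ 2 ^ (m + r) := by
    rw [Fintype.card_piFinset]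
    calc ∏ _j : Fin m ⊕ Fin r, ({1, -1} : Finset F).card
        ≤ ∏ _j : Fin m ⊕ Fin r, 2 :=
          Finset.prod_le_prod' (fun _ _ => Finset.card_le_two)
      _ = 2 ^ (m + r) := by simp
  calc 𝓔.ncard ≤ (T : Set (Fin m ⊕ Fin r → F)).ncard :=
        Set.ncard_le_ncard_of_injOn (sigm r)
          (fun e he => by
            simp only [T, Finset.mem_coe, Fintype.mem_piFinset, Finset.mem_insert,
              Finset.mem_singleton]
            exact hsig e he)
          (fun e he e' he' h => by rw [hform e he, hform e' he', h])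
          (Finset.finite_toSet T)
    _ = T.card := Set.ncard_coe_finset T
    _ ≤ 2 ^ (m + r) := hT

end GLBlockInv

end Cfsg.Agent.Lib.helper45
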