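import Mathlib

set_option autoImplicit false

namespace Cfsg.Agent.Lib.helper45

section GLTwoVal

theorem gl2_odd_geom_sum (q : ℕ) (hq : Odd q) (j : ℕ) :
    Odd (∑ i ∈ Finset.range (2 * j + 1), q ^ i) := by
  induction j with
  | zero => simp
  | succ j ih =>
    have h : 2 * (j + 1) + 1 = (2 * j + 1) + 1 + 1 := by ring
    rw [h, Finset.sum_range_succ, Finset.sum_range_succ, add_assoc]
    exact ih.add_even ((hq.pow).add_odd (hq.pow))

theorem gl2_v2_pow_odd (q : ℕ) (hq1 : 1 < q) (hq2 : ¬ 2 ∣ q) (j : ℕ) :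
    padicValNat 2 (q ^ (2 * j + 1) - 1) = padicValNat 2 (q - 1) := by
  have hodd : Odd q := Nat.odd_iff.mpr (by omega)
  have h1 := geom_sum_mul_add (q - 1) (2 * j + 1)
  have hq' : q - 1 + 1 = q := by omega
  rw [hq'] at h1
  have h2 : q ^ (2 * j + 1) - 1 = (∑ i ∈ Finset.range (2 * j + 1), q ^ i) * (q - 1) := by omega
  have h3 := gl2_odd_geom_sum q hodd j
  have h4 : ¬ 2 ∣ ∑ i ∈ Finset.range (2 * j + 1), q ^ i := by
    rw [← even_iff_two_dvd]; exact Nat.not_even_iff_odd.mpr h3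
  have h5 : (∑ i ∈ Finset.range (2 * j + 1), q ^ i) ≠ 0 := fun h => h4 (h ▸ dvd_zero 2)
  rw [h2, padicValNat.mul h5 (by omega), padicValNat.eq_zero_of_not_dvd h4, zero_add]

theorem gl2_v2_pow_even (q : ℕ) (hq1 : 1 < q) (hq2 : ¬ 2 ∣ q) (i : ℕ) :
    padicValNat 2 (q ^ (2 * (i + 1)) - 1) = padicValNat 2 (q ^ 2 - 1) + padicValNat 2 (i + 1) := by
  have h1 := padicValNat.pow_two_sub_one hq1 hq2 (n := 2 * (i + 1)) (by omega) (even_two_mul _)
  have h2 := padicValNat.pow_two_sub_one hq1 hq2 (n := 2) (by norm_num) even_two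
  rw [padicValNat.mul (by norm_num) (by omega), padicValNat_self] at h1
  rw [padicValNat_self] at h2
  omega

/-- `Σ_{k=1}^{n} v₂(q^k - 1)`. -/
def v2S (q n : ℕ) : ℕ := ∑ k ∈ Finset.range n, padicValNat 2 (q ^ (k + 1) - 1)

theorem v2S_even (q : ℕ) (hq1 : 1 < q) (hq2 : ¬ 2 ∣ q) (m : ℕ) :
    v2S q (2 * m) = m * padicValNat 2 (q - 1) + m * padicValNat 2 (q ^ 2 - 1)
      + padicValNat 2 (Nat.factorial m) := by
  induction m with
  | zero => simp [v2S]
  | succ m ih =>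
    have h : 2 * (m + 1) = 2 * m + 1 + 1 := by ring
    have h' : 2 * m + 1 + 1 = 2 * (m + 1) := by ring
    unfold v2S at ih ⊢
    rw [h, Finset.sum_range_succ, Finset.sum_range_succ, ih, gl2_v2_pow_odd q hq1 hq2 m, h',
      gl2_v2_pow_even q hq1 hq2 m, Nat.factorial_succ,
      padicValNat.mul (by omega) (Nat.factorial_ne_zero m)]
    ring

theorem v2S_odd (q : ℕ) (hq1 : 1 < q) (hq2 : ¬ 2 ∣ q) (m : ℕ) :
    v2S q (2 * m + 1) = (m + 1) * padicValNat 2 (q - 1) + m * padicValNat 2 (q ^ 2 - 1)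
      + padicValNat 2 (Nat.factorial m) := by
  have h := v2S_even q hq1 hq2 m
  unfold v2S at h ⊢
  rw [Finset.sum_range_succ, h, gl2_v2_pow_odd q hq1 hq2 m]
  ring

theorem gl2_padicValNat_prod {ι : Type*} (p : ℕ) [Fact p.Prime] (s : Finset ι) (f : ι → ℕ)
    (hf : ∀ i ∈ s, f i ≠ 0) :
    (∏ i ∈ s, f i) ≠ 0 ∧ padicValNat p (∏ i ∈ s, f i) = ∑ i ∈ s, padicValNat p (f i) := by
  classical
  induction s using Finset.induction_on with
  | empty => simp
  | insert a s ha ih =>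
    have h1 := ih (fun i hi => hf i (Finset.mem_insert_of_mem hi))
    have h2 := hf a (Finset.mem_insert_self a s)
    rw [Finset.prod_insert ha, Finset.sum_insert ha]
    exact ⟨mul_ne_zero h2 h1.1, by rw [padicValNat.mul h2 h1.1, h1.2]⟩

theorem v2_gl_card (q : ℕ) (hq1 : 1 < q) (hq2 : ¬ 2 ∣ q) (n : ℕ) :
    padicValNat 2 (∏ i : Fin n, (q ^ n - q ^ (i : ℕ))) = v2S q n := by
  have hfact : Fact (Nat.Prime 2) := ⟨Nat.prime_two⟩
  rw [Fin.prod_univ_eq_prod_range (fun i => q ^ n - q ^ i) n]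
  have hterm : ∀ i ∈ Finset.range n, q ^ n - q ^ i = q ^ i * (q ^ (n - i) - 1) := by
    intro i hi
    have hi' : i < n := Finset.mem_range.mp hi
    have : q ^ n = q ^ i * q ^ (n - i) := by rw [← pow_add]; congr 1; omega
    rw [this, Nat.mul_sub, mul_one]
  have hne : ∀ i ∈ Finset.range n, q ^ n - q ^ i ≠ 0 := by
    intro i hi
    have hi' : i < n := Finset.mem_range.mp hi
    have : q ^ i < q ^ n := Nat.pow_lt_pow_right hq1 hi'
    omega
  rw [(gl2_padicValNat_prod 2 _ _ hne).2]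
  unfold v2S
  rw [← Finset.sum_range_reflect]
  apply Finset.sum_congr rfl
  intro i hi
  have hi' : i < n := Finset.mem_range.mp hi
  have hmem : n - 1 - i ∈ Finset.range n := Finset.mem_range.mpr (by omega)
  rw [hterm (n - 1 - i) hmem]
  have h1 : ¬ 2 ∣ q ^ (n - 1 - i) := fun h => hq2 (Nat.prime_two.dvd_of_dvd_pow h)
  have h2 : q ^ (n - (n - 1 - i)) - 1 ≠ 0 := by
    have : 1 < q ^ (n - (n - 1 - i)) := Nat.one_lt_pow (by omega) hq1
    omega
  rw [padicValNat.mul (pow_ne_zero _ (by omega)) h2, padicValNat.eq_zero_of_not_dvd h1, zero_add]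
  congr 3
  omega

theorem v2_succ_of_one_mod_four (q : ℕ) (hq4 : q % 4 = 1) : padicValNat 2 (q + 1) = 1 := by
  have h : q + 1 = 2 * ((q + 1) / 2) := by omega
  have hodd : ¬ 2 ∣ (q + 1) / 2 := by omega
  rw [h, padicValNat.mul (by norm_num) (by omega), padicValNat_self,
    padicValNat.eq_zero_of_not_dvd hodd]

theorem v2_pred_of_three_mod_four (q : ℕ) (hq4 : q % 4 = 3) : padicValNat 2 (q - 1) = 1 := by
  have h : q - 1 = 2 * ((q - 1) / 2) := by omega
  have hodd : ¬ 2 ∣ (q - 1) / 2 := by omega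
  rw [h, padicValNat.mul (by norm_num) (by omega), padicValNat_self,
    padicValNat.eq_zero_of_not_dvd hodd]

theorem v2_sq_sub_one (q : ℕ) (hq1 : 1 < q) (hq2 : ¬ 2 ∣ q) :
    padicValNat 2 (q ^ 2 - 1) = padicValNat 2 (q + 1) + padicValNat 2 (q - 1) := by
  have h2 := padicValNat.pow_two_sub_one hq1 hq2 (n := 2) (by norm_num) even_two
  rw [padicValNat_self] at h2
  omega

theorem v2S_of_one_mod_four (q : ℕ) (hq1 : 1 < q) (hq4 : q % 4 = 1) (n : ℕ) :
    v2S q n = n * padicValNat 2 (q - 1) + padicValNat 2 (Nat.factorial n) := by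
  have hq2 : ¬ 2 ∣ q := by omega
  have hc2 : padicValNat 2 (q ^ 2 - 1) = padicValNat 2 (q - 1) + 1 := by
    rw [v2_sq_sub_one q hq1 hq2, v2_succ_of_one_mod_four q hq4, add_comm]
  have key : ∀ k, padicValNat 2 (q ^ (k + 1) - 1)
      = padicValNat 2 (q - 1) + padicValNat 2 (k + 1) := by
    intro k
    rcases Nat.even_or_odd' (k + 1) with ⟨j, hj | hj⟩
    · obtain ⟨i, rfl⟩ : ∃ i, j = i + 1 := ⟨j - 1, by omega⟩
      rw [hj, gl2_v2_pow_even q hq1 hq2 i, hc2, padicValNat.mul (by norm_num) (by omega),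
        padicValNat_self]
      ring
    · have hodd : ¬ 2 ∣ 2 * j + 1 := by omega
      rw [hj, gl2_v2_pow_odd q hq1 hq2 j, padicValNat.eq_zero_of_not_dvd hodd, add_zero]
  induction n with
  | zero => simp [v2S]
  | succ n ih =>
    unfold v2S at ih ⊢
    rw [Finset.sum_range_succ, ih, key, Nat.factorial_succ,
      padicValNat.mul (by omega) (Nat.factorial_ne_zero n)]
    ring

end GLTwoVal

end Cfsg.Agent.Lib.helper45
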