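import Mathlib

set_option autoImplicit false

namespace Cfsg.Agent.Lib.helper45

open Module

universe u v

section InvIsom

variable {F : Type u} [Field F] {V : Type v} [AddCommGroup V] [Module F V]

/-- The fixed space of an endomorphism. -/
def fixSub (e : Module.End F V) : Submodule F V := LinearMap.ker (e - 1)

theorem mem_fixSub {e : Module.End F V} {x : V} : x ∈ fixSub e ↔ e x = x := by
  simp [fixSub, sub_eq_zero]

theorem inv_apply_apply' {e : Module.End F V} (he : e * e = 1) (x : V) : e (e x) = x := by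
  have := LinearMap.congr_fun he x
  simpa using this

/-- The projection onto the fixed space of an involution. -/
noncomputable def fixProj (e : Module.End F V) (he : e * e = 1) : V →ₗ[F] fixSub e :=
  LinearMap.codRestrict (fixSub e) ((2⁻¹ : F) • (1 + e)) (fun x => by
    rw [mem_fixSub]
    simp [inv_apply_apply' he, add_comm])

theorem fixProj_coe (e : Module.End F V) (he : e * e = 1) (x : V) :
    ((fixProj e he x : fixSub e) : V) = (2⁻¹ : F) • (x + e x) := by
  simp [fixProj]

/-- The compression of an endomorphism to the fixed space of an involution. -/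
noncomputable def fixComp (e : Module.End F V) (he : e * e = 1) (a : Module.End F V) :
    Module.End F (fixSub e) :=
  fixProj e he ∘ₗ a ∘ₗ (fixSub e).subtype

theorem fixComp_apply (h2 : (2 : F) ≠ 0) (e : Module.End F V) (he : e * e = 1)
    (a : Module.End F V) (hae : a * e = e * a) (x : fixSub e) :
    ((fixComp e he a x : fixSub e) : V) = a x := by
  have hx : e x = x := mem_fixSub.1 x.2
  have h1 : e (a x) = a x := by
    have := LinearMap.congr_fun hae (x : V)
    simp only [Module.End.mul_apply] at this
    rw [← this, hx]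
  simp only [fixComp, LinearMap.comp_apply, Submodule.subtype_apply, fixProj_coe, h1]
  rw [← two_smul F, smul_smul, inv_mul_cancel₀ h2, one_smul]

theorem fix_nondeg (h2 : (2 : F) ≠ 0) (B : V →ₗ[F] V →ₗ[F] F) (e : Module.End F V)
    (he : e * e = 1) (hiso : ∀ x y, B (e x) (e y) = B x y)
    (hnd : ∀ x, (∀ y, B x y = 0) → x = 0) :
    ∀ x : fixSub e, (∀ y : fixSub e, B.domRestrict₁₂ (fixSub e) (fixSub e) x y = 0) → x = 0 := by
  intro x hx
  apply Subtype.ext
  apply hnd
  intro y
  have h1 := hx (fixProj e he y)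
  have hxe : e x = x := mem_fixSub.1 x.2
  have h3 : B x (e y) = B x y := by
    have := hiso x y; rwa [hxe] at this
  rw [LinearMap.domRestrict₁₂_apply, fixProj_coe, map_smul, map_add, h3, ← two_mul,
    smul_eq_mul, ← mul_assoc, inv_mul_cancel₀ h2, one_mul] at h1
  exact h1

theorem fixSub_pos [FiniteDimensional F V] (e : Module.End F V) (he : e * e = 1)
    (hne : e ≠ -1) : 0 < finrank F (fixSub e) := by
  have : ∃ x, e x ≠ -x := by
    by_contra h
    push_neg at h
    exact hne (LinearMap.ext (fun x => by simpa using h x))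
  obtain ⟨x, hx⟩ := this
  rw [Module.finrank_pos_iff_exists_ne_zero]
  refine ⟨⟨x + e x, ?_⟩, ?_⟩
  · rw [mem_fixSub, map_add, inv_apply_apply' he, add_comm]
  · intro h
    have h' : x + e x = 0 := congrArg Subtype.val h
    exact hx (eq_neg_of_add_eq_zero_right h')

theorem fixSub_disjoint (h2 : (2 : F) ≠ 0) (e : Module.End F V) :
    Disjoint (fixSub e) (fixSub (-e)) := by
  rw [Submodule.disjoint_def]
  intro x hx hx'
  rw [mem_fixSub] at hx hx'
  rw [LinearMap.neg_apply, hx] at hx'
  have h3 : (2 : F) • x = 0 := by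
    rw [two_smul]
    nth_rewrite 1 [← hx']
    simp
  rcases smul_eq_zero.1 h3 with h | h
  · exact absurd h h2
  · exact h

theorem fix_decomp (h2 : (2 : F) ≠ 0) (e : Module.End F V) (he : e * e = 1)
    (he' : (-e) * (-e) = 1) (a : Module.End F V) (hae : a * e = e * a) (x : V) :
    a x = ((fixComp e he a (fixProj e he x) : fixSub e) : V)
      + ((fixComp (-e) he' a (fixProj (-e) he' x) : fixSub (-e)) : V) := by
  rw [fixComp_apply h2 e he a hae, fixComp_apply h2 (-e) he' a (by simp [hae]), ← map_add]
  congr 1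
  rw [fixProj_coe, fixProj_coe, ← smul_add, LinearMap.neg_apply]
  have : x + e x + (x + -e x) = (2 : F) • x := by
    rw [two_smul]; abel
  rw [this, smul_smul, inv_mul_cancel₀ h2, one_smul]

theorem fixComp_props (h2 : (2 : F) ≠ 0) (B : V →ₗ[F] V →ₗ[F] F) (E : Set (Module.End F V))
    (e : Module.End F V) (he : e * e = 1) (hce : ∀ a ∈ E, a * e = e * a)
    (hcomm : ∀ a ∈ E, ∀ b ∈ E, a * b = b * a) (hinv : ∀ a ∈ E, a * a = 1)
    (hiso : ∀ a ∈ E, ∀ x y, B (a x) (a y) = B x y) :
    (∀ a ∈ fixComp e he '' E, ∀ b ∈ fixComp e he '' E, a * b = b * a) ∧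
    (∀ a ∈ fixComp e he '' E, a * a = 1) ∧
    (∀ a ∈ fixComp e he '' E, ∀ x y,
      B.domRestrict₁₂ (fixSub e) (fixSub e) (a x) (a y)
        = B.domRestrict₁₂ (fixSub e) (fixSub e) x y) := by
  refine ⟨?_, ?_, ?_⟩
  · rintro _ ⟨a, ha, rfl⟩ _ ⟨b, hb, rfl⟩
    apply LinearMap.ext
    intro x
    apply Subtype.ext
    rw [Module.End.mul_apply, Module.End.mul_apply, fixComp_apply h2 e he a (hce a ha),
      fixComp_apply h2 e he b (hce b hb), fixComp_apply h2 e he b (hce b hb),
      fixComp_apply h2 e he a (hce a ha)]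
    exact LinearMap.congr_fun (hcomm a ha b hb) (x : V)
  · rintro _ ⟨a, ha, rfl⟩
    apply LinearMap.ext
    intro x
    apply Subtype.ext
    rw [Module.End.mul_apply, fixComp_apply h2 e he a (hce a ha),
      fixComp_apply h2 e he a (hce a ha)]
    exact inv_apply_apply' (hinv a ha) (x : V)
  · rintro _ ⟨a, ha, rfl⟩ x y
    rw [LinearMap.domRestrict₁₂_apply, LinearMap.domRestrict₁₂_apply,
      fixComp_apply h2 e he a (hce a ha), fixComp_apply h2 e he a (hce a ha)]
    exact hiso a ha x y

/-- A finite family of commuting involutive isometries of a nondegenerate alternating form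
on a space of dimension `d` (characteristic not 2) has at most `2 ^ (d / 2)` members. -/
theorem invFam_ncard_le (h2 : (2 : F) ≠ 0) :
    ∀ (d : ℕ) (V : Type v) [AddCommGroup V] [Module F V] [FiniteDimensional F V]
      (B : V →ₗ[F] V →ₗ[F] F) (E : Set (Module.End F V)),
      finrank F V = d → (∀ x, B x x = 0) → (∀ x, (∀ y, B x y = 0) → x = 0) →
      E.Finite → (∀ a ∈ E, ∀ b ∈ E, a * b = b * a) → (∀ a ∈ E, a * a = 1) →
      (∀ a ∈ E, ∀ x y, B (a x) (a y) = B x y) → E.ncard ≤ 2 ^ (d / 2) := by
  intro d
  induction d using Nat.strong_induction_on with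
  | _ d ih =>
  intro V _ _ _ B E hd halt hnd hfin hcomm hinv hiso
  by_cases hex : ∃ e ∈ E, e ≠ 1 ∧ e ≠ -1
  · obtain ⟨e, heE, he1, hem1⟩ := hex
    have hee := hinv e heE
    have hee' : (-e) * (-e) = 1 := by rw [neg_mul_neg]; exact hee
    have hdisj := fixSub_disjoint h2 e
    have hdim : finrank F (fixSub e) + finrank F (fixSub (-e)) ≤ d :=
      hd ▸ Submodule.finrank_add_finrank_le_of_disjoint hdisj
    have hp : 0 < finrank F (fixSub e) := fixSub_pos e hee hem1
    have hm : 0 < finrank F (fixSub (-e)) :=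
      fixSub_pos (-e) hee' (fun h => he1 (neg_injective h))
    have hce : ∀ a ∈ E, a * e = e * a := fun a ha => hcomm a ha e heE
    have hce' : ∀ a ∈ E, a * (-e) = (-e) * a := fun a ha => by
      rw [mul_neg, neg_mul, hce a ha]
    have hisoe' : ∀ x y, B ((-e) x) ((-e) y) = B x y := by
      intro x y
      simp only [LinearMap.neg_apply, map_neg, neg_neg]
      exact hiso e heE x y
    obtain ⟨p1, p2, p3⟩ := fixComp_props h2 B E e hee hce hcomm hinv hiso
    obtain ⟨m1, m2, m3⟩ := fixComp_props h2 B E (-e) hee' hce' hcomm hinv hiso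
    have key1 := ih (finrank F (fixSub e)) (by omega) (fixSub e)
      (B.domRestrict₁₂ (fixSub e) (fixSub e)) (fixComp e hee '' E) rfl
      (fun x => by rw [LinearMap.domRestrict₁₂_apply]; exact halt _)
      (fix_nondeg h2 B e hee (hiso e heE) hnd) (hfin.image _) p1 p2 p3
    have key2 := ih (finrank F (fixSub (-e))) (by omega) (fixSub (-e))
      (B.domRestrict₁₂ (fixSub (-e)) (fixSub (-e))) (fixComp (-e) hee' '' E) rfl
      (fun x => by rw [LinearMap.domRestrict₁₂_apply]; exact halt _)
      (fix_nondeg h2 B (-e) hee' hisoe' hnd) (hfin.image _) m1 m2 m3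
    have hinj : Set.InjOn (fun a => (fixComp e hee a, fixComp (-e) hee' a)) E := by
      intro a ha b hb hab
      have h1 : fixComp e hee a = fixComp e hee b := congrArg Prod.fst hab
      have h2' : fixComp (-e) hee' a = fixComp (-e) hee' b := congrArg Prod.snd hab
      apply LinearMap.ext
      intro x
      rw [fix_decomp h2 e hee hee' a (hce a ha) x, fix_decomp h2 e hee hee' b (hce b hb) x,
        h1, h2']
    calc E.ncard ≤ ((fixComp e hee '' E) ×ˢ (fixComp (-e) hee' '' E)).ncard :=
          Set.ncard_le_ncard_of_injOn _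
            (fun a ha => ⟨Set.mem_image_of_mem _ ha, Set.mem_image_of_mem _ ha⟩) hinj
            ((hfin.image _).prod (hfin.image _))
      _ = (fixComp e hee '' E).ncard * (fixComp (-e) hee' '' E).ncard := Set.ncard_prod
      _ ≤ 2 ^ (finrank F (fixSub e) / 2) * 2 ^ (finrank F (fixSub (-e)) / 2) :=
          Nat.mul_le_mul key1 key2
      _ = 2 ^ (finrank F (fixSub e) / 2 + finrank F (fixSub (-e)) / 2) := (pow_add _ _ _).symm
      _ ≤ 2 ^ (d / 2) := Nat.pow_le_pow_right (by norm_num) (by omega)
  · push_neg at hex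
    by_cases hV : ∃ x : V, x ≠ 0
    · obtain ⟨x, hx⟩ := hV
      have hy : ∃ y, B x y ≠ 0 := by
        by_contra h
        push_neg at h
        exact hx (hnd x h)
      obtain ⟨y, hy⟩ := hy
      have hd2 : 2 ≤ d := by
        by_contra hlt
        have h1 : finrank F V ≤ 1 := by omega
        obtain ⟨w, hw⟩ := finrank_le_one_iff.1 h1
        obtain ⟨c, hc⟩ := hw x
        obtain ⟨c', hc'⟩ := hw y
        apply hy
        rw [← hc, ← hc']
        simp [halt]
      have hsub : E ⊆ {1, -1} := by
        intro a ha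
        by_cases h : a = 1
        · left; exact h
        · right; exact hex a ha h
      calc E.ncard ≤ ({1, -1} : Set (Module.End F V)).ncard :=
            Set.ncard_le_ncard hsub (Set.toFinite _)
        _ ≤ 2 := by
            have := Set.ncard_insert_le (1 : Module.End F V) {-1}
            rw [Set.ncard_singleton] at this
            exact this
        _ = 2 ^ 1 := by norm_num
        _ ≤ 2 ^ (d / 2) := Nat.pow_le_pow_right (by norm_num) (by omega)
    · push_neg at hV
      have hsub : E ⊆ {1} := by
        intro a _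
        apply LinearMap.ext
        intro x
        rw [hV x, map_zero, map_zero]
      calc E.ncard ≤ ({1} : Set (Module.End F V)).ncard :=
            Set.ncard_le_ncard hsub (Set.toFinite _)
        _ = 1 := Set.ncard_singleton _
        _ ≤ 2 ^ (d / 2) := Nat.one_le_two_pow

end InvIsom

end Cfsg.Agent.Lib.helper45
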