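import Mathlib
import Cfsg.Agent.Lib.helper45.InvIsom

set_option autoImplicit false

namespace Cfsg.Agent.Lib.helper45

open Module Matrix

section SpInvBound

variable {F : Type*} [Field F]

theorem two_ne_zero_of_odd_card [Fintype F] (hF : Odd (Fintype.card F)) : (2 : F) ≠ 0 := by
  intro h
  have h1 : ringChar F ∣ 2 := by
    have := (ringChar.spec F 2).1 (by exact_mod_cast h)
    exact this
  have h2 : ringChar F = 2 := by
    rcases (Nat.dvd_prime Nat.prime_two).1 h1 with h' | h'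
    · exact absurd h' (CharP.ringChar_ne_one)
    · exact h'
  have h3 := FiniteField.even_card_of_char_two h2
  rcases hF with ⟨k, hk⟩
  omega

theorem J_alt (n : ℕ) (x : Fin n ⊕ Fin n → F) : x ⬝ᵥ (J (Fin n) F) *ᵥ x = 0 := by
  simp [Matrix.J, Matrix.fromBlocks_mulVec, dotProduct, Fintype.sum_sum_type, mul_comm,
    Matrix.neg_mulVec]

theorem J_nondeg (n : ℕ) (x : Fin n ⊕ Fin n → F)
    (h : ∀ y, x ⬝ᵥ (J (Fin n) F) *ᵥ y = 0) : x = 0 := by
  rw [← dotProduct_eq_zero_iff]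
  intro w
  have h1 := h ((J (Fin n) F) *ᵥ w)
  rw [Matrix.mulVec_mulVec, Matrix.J_squared] at h1
  simpa [Matrix.neg_mulVec] using h1

theorem sp_iso (n : ℕ) (A : Matrix (Fin n ⊕ Fin n) (Fin n ⊕ Fin n) F)
    (hA : A ∈ Matrix.symplecticGroup (Fin n) F) (x y : Fin n ⊕ Fin n → F) :
    (A *ᵥ x) ⬝ᵥ (J (Fin n) F) *ᵥ (A *ᵥ y) = x ⬝ᵥ (J (Fin n) F) *ᵥ y := by
  rw [SymplecticGroup.mem_iff'] at hA
  rw [← Matrix.vecMul_transpose, ← Matrix.dotProduct_mulVec, Matrix.mulVec_mulVec,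
    Matrix.mulVec_mulVec, hA]

/-- A set of pairwise commuting symplectic involutions has at most `2 ^ n` elements. -/
theorem sp_inv_set_ncard_le [Fintype F] (hF : Odd (Fintype.card F)) (n : ℕ)
    (S : Set (Matrix (Fin n ⊕ Fin n) (Fin n ⊕ Fin n) F))
    (hS : ∀ A ∈ S, A ∈ Matrix.symplecticGroup (Fin n) F)
    (hcomm : ∀ A ∈ S, ∀ B ∈ S, A * B = B * A) (hinv : ∀ A ∈ S, A * A = 1) :
    S.ncard ≤ 2 ^ n := by
  classical
  have h2 := two_ne_zero_of_odd_card hF
  have key := invFam_ncard_le h2 (n + n) (Fin n ⊕ Fin n → F)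
    (Matrix.toLinearMap₂' F (J (Fin n) F)) (Matrix.toLin' '' S)
    (by simp) (fun x => by rw [Matrix.toLinearMap₂'_apply']; exact J_alt n x)
    (fun x hx => J_nondeg n x (fun y => by
      have := hx y; rwa [Matrix.toLinearMap₂'_apply'] at this))
    ((Set.toFinite S).image _)
    (by
      rintro _ ⟨A, hA, rfl⟩ _ ⟨B, hB, rfl⟩
      rw [Module.End.mul_eq_comp, Module.End.mul_eq_comp, ← Matrix.toLin'_mul,
        ← Matrix.toLin'_mul, hcomm A hA B hB])
    (by
      rintro _ ⟨A, hA, rfl⟩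
      rw [Module.End.mul_eq_comp, ← Matrix.toLin'_mul, hinv A hA, Matrix.toLin'_one]
      rfl)
    (by
      rintro _ ⟨A, hA, rfl⟩ x y
      rw [Matrix.toLinearMap₂'_apply', Matrix.toLinearMap₂'_apply', Matrix.toLin'_apply,
        Matrix.toLin'_apply]
      exact sp_iso n A (hS A hA) x y)
  rw [Set.ncard_image_of_injective S (Matrix.toLin'.injective)] at key
  calc S.ncard ≤ 2 ^ ((n + n) / 2) := key
    _ = 2 ^ n := by congr 1; omega

/-- Upper bound: an elementary abelian 2-subgroup of a subgroup of `Sp_{2n}(F)`, `F` of odd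
order, has order at most `2 ^ n`. -/
theorem sp_elemAb_card_le [Fintype F] (hF : Odd (Fintype.card F)) (n : ℕ)
    (S : Subgroup ↥(Matrix.symplecticGroup (Fin n) F)) (E : Subgroup ↥S)
    (hE1 : IsMulCommutative E) (hE2 : ∀ a ∈ E, a ^ 2 = 1) : Nat.card ↥E ≤ 2 ^ n := by
  classical
  let ψ : ↥E → Matrix (Fin n ⊕ Fin n) (Fin n ⊕ Fin n) F := fun x => x.1.1.1
  have hψ : Function.Injective ψ := by
    intro x y hxy
    exact Subtype.ext (Subtype.ext (Subtype.ext hxy))
  have key := sp_inv_set_ncard_le hF n (ψ '' Set.univ)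
    (by rintro _ ⟨x, -, rfl⟩; exact x.1.1.2)
    (by
      rintro _ ⟨x, -, rfl⟩ _ ⟨y, -, rfl⟩
      have h := mul_comm' x y
      have h' := congrArg ψ h
      exact h')
    (by
      rintro _ ⟨x, -, rfl⟩
      have h := hE2 x.1 x.2
      rw [pow_two] at h
      have h' := congrArg (fun z : ↥S => (z.1.1 : Matrix (Fin n ⊕ Fin n) (Fin n ⊕ Fin n) F)) h
      exact h')
  rw [Set.ncard_image_of_injective _ hψ, Set.ncard_univ] at key
  exact key

end SpInvBound

end Cfsg.Agent.Lib.helper45
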