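import Mathlib
import Cfsg.Agent.Lib.helper45.GLBlockInv
import Cfsg.Agent.Lib.helper45.GLTwoVal
import Cfsg.Agent.Lib.helper45.SpInvBound

set_option autoImplicit false

namespace Cfsg.Agent.Lib.helper45

open Matrix

open scoped Pointwise

section GLNormRank

variable {F : Type*} [Field F]

/-- reindexing of `GL` along an equivalence of index types -/
def reidxHom {ι κ : Type*} [Fintype ι] [DecidableEq ι] [Fintype κ] [DecidableEq κ] (ε : ι ≃ κ) :
    GL ι F →* GL κ F :=
  ({ toFun := fun y => (y : Matrix ι ι F).submatrix ε.symm ε.symm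
     map_one' := by simp
     map_mul' := fun x y => by
       simp only [Units.val_mul]
       exact (Matrix.submatrix_mul_equiv _ _ _ _ _).symm } : GL ι F →* Matrix κ κ F).toHomUnits

theorem reidxHom_coe {ι κ : Type*} [Fintype ι] [DecidableEq ι] [Fintype κ] [DecidableEq κ]
    (ε : ι ≃ κ) (y : GL ι F) :
    ((reidxHom ε y : GL κ F) : Matrix κ κ F) = (y : Matrix ι ι F).submatrix ε.symm ε.symm := rfl

theorem reidxHom_injective {ι κ : Type*} [Fintype ι] [DecidableEq ι] [Fintype κ] [DecidableEq κ]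
    (ε : ι ≃ κ) : Function.Injective (reidxHom (F := F) ε) := by
  intro x y h
  have h1 := congrArg Units.val h
  rw [reidxHom_coe, reidxHom_coe] at h1
  apply Units.ext
  have h2 := congrArg (fun M : Matrix κ κ F => M.submatrix ε ε) h1
  simpa [Matrix.submatrix_submatrix] using h2

/-- A set of pairwise commuting involutions in `M_n(F)` has at most `2 ^ n` elements. -/
theorem gl_inv_set_ncard_le [Fintype F] (hF : Odd (Fintype.card F)) (n : ℕ)
    (S : Set (Matrix (Fin n) (Fin n) F)) (hcomm : ∀ A ∈ S, ∀ B ∈ S, A * B = B * A)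
    (hinv : ∀ A ∈ S, A * A = 1) : S.ncard ≤ 2 ^ n := by
  let f : Matrix (Fin n) (Fin n) F → Matrix (Fin n ⊕ Fin n) (Fin n ⊕ Fin n) F :=
    fun A => fromBlocks A 0 0 Aᵀ
  have hf : Function.Injective f := fun A B h => (fromBlocks_inj.1 h).1
  have key := sp_inv_set_ncard_le hF n (f '' S)
    (by
      rintro _ ⟨A, hA, rfl⟩
      rw [SymplecticGroup.fromBlocks_mem_iff]
      refine ⟨by simp, by simp, ?_⟩
      simp only [transpose_zero, Matrix.zero_mul, sub_zero]
      rw [← transpose_mul, hinv A hA, transpose_one])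
    (by
      rintro _ ⟨A, hA, rfl⟩ _ ⟨B, hB, rfl⟩
      simp only [f, fromBlocks_multiply, Matrix.mul_zero, Matrix.zero_mul, add_zero, zero_add]
      rw [hcomm A hA B hB, ← transpose_mul, ← transpose_mul, hcomm A hA B hB])
    (by
      rintro _ ⟨A, hA, rfl⟩
      simp only [f, fromBlocks_multiply, Matrix.mul_zero, Matrix.zero_mul, add_zero, zero_add]
      rw [hinv A hA, ← transpose_mul, hinv A hA, transpose_one, fromBlocks_one])
  rwa [Set.ncard_image_of_injective _ hf] at key

/-- Upper bound criterion: if every elementary abelian 2-subgroup normalized by a fixed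
2-subgroup `C₀` has order at most `k`, then the same holds for the normal elementary abelian
subgroups of any Sylow 2-subgroup. -/
theorem card_le_of_normalized_bound {G : Type*} [Group G] [Finite G] (C₀ : Subgroup G)
    (hC : IsPGroup 2 C₀) (k : ℕ)
    (hB : ∀ E' : Subgroup G, (∀ x ∈ E', ∀ y ∈ E', x * y = y * x) → (∀ x ∈ E', x ^ 2 = 1) →
      (∀ c ∈ C₀, ∀ x ∈ E', c * x * c⁻¹ ∈ E') → Nat.card E' ≤ k)
    (S : Sylow 2 G) (E : Subgroup ↥(S : Subgroup G)) (hn : E.Normal)
    (hE : IsMulCommutative E ∧ ∀ a ∈ E, a ^ 2 = 1) : Nat.card E ≤ k := by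
  haveI : Fact (Nat.Prime 2) := ⟨Nat.prime_two⟩
  obtain ⟨Q, hQ⟩ := hC.exists_le_sylow
  obtain ⟨g, hg⟩ := MulAction.exists_smul_eq G Q S
  have hS : ∀ s : G, s ∈ S ↔ g⁻¹ * s * g ∈ Q := by
    intro s
    have h1 : s ∈ S ↔ s ∈ MulAut.conj g • (Q : Subgroup G) := by
      rw [← hg]; rfl
    rw [h1, Subgroup.mem_pointwise_smul_iff_inv_smul_mem]
    simp [MulAut.smul_def]
    rfl
  let f : ↥(S : Subgroup G) →* G :=
    (MulAut.conj g⁻¹).toMonoidHom.comp (S : Subgroup G).subtype
  have hfa : ∀ s : ↥(S : Subgroup G), f s = g⁻¹ * (s : G) * g := by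
    intro s
    simp [f]
  have hf : Function.Injective f := by
    intro s t hst
    rw [hfa, hfa] at hst
    apply Subtype.ext
    simpa using hst
  have hcard : Nat.card (E.map f) = Nat.card E := Subgroup.card_map_of_injective hf
  rw [← hcard]
  apply hB
  · rintro _ ⟨x, hx, rfl⟩ _ ⟨y, hy, rfl⟩
    rw [← map_mul, ← map_mul]
    congr 1
    haveI := hE.1
    have := mul_comm' (⟨x, hx⟩ : ↥E) ⟨y, hy⟩
    exact congrArg Subtype.val this
  · rintro _ ⟨x, hx, rfl⟩
    rw [← map_pow, hE.2 x hx, map_one]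
  · rintro c hc _ ⟨x, hx, rfl⟩
    have hs : g * c * g⁻¹ ∈ S := by
      rw [hS]
      have : g⁻¹ * (g * c * g⁻¹) * g = c := by group
      rw [this]
      exact hQ hc
    refine ⟨⟨g * c * g⁻¹, hs⟩ * x * ⟨g * c * g⁻¹, hs⟩⁻¹, hn.conj_mem x hx _, ?_⟩
    rw [hfa, hfa]
    simp only [Subgroup.coe_mul, Subgroup.coe_inv]
    group

theorem card_BI (d m r : ℕ) : Fintype.card (BI d m r) = d * m + r := by
  simp [BI, Fintype.card_sum, Fintype.card_prod]

theorem v2_card_GL [Fintype F] (hF : Odd (Fintype.card F)) (n : ℕ) :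
    (Nat.card (GL (Fin n) F)).factorization 2 = v2S (Fintype.card F) n := by
  have hq1 : 1 < Fintype.card F := Fintype.one_lt_card
  have hq2 : ¬ 2 ∣ Fintype.card F := by
    rcases hF with ⟨k, hk⟩; omega
  rw [Matrix.card_GL_field, Nat.factorization_def _ Nat.prime_two, v2_gl_card _ hq1 hq2]

theorem card_GL_one [Fintype F] : Nat.card (GL (Fin 1) F) = Fintype.card F - 1 := by
  rw [Matrix.card_GL_field]
  simp

theorem card_GL_two [Fintype F] : Nat.card (GL (Fin 2) F)
    = (Fintype.card F ^ 2 - 1) * (Fintype.card F ^ 2 - Fintype.card F) := by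
  rw [Matrix.card_GL_field, Fin.prod_univ_two]
  simp

/-- `q ≡ 1 (mod 4)`: the normal 2-rank of a Sylow 2-subgroup of `GL_n(q)` is `n`. -/
theorem gl_normal_rank_one_mod_four [Fintype F] (hq : Fintype.card F % 4 = 1) (n : ℕ)
    (S : Sylow 2 (GL (Fin n) F)) :
    (∃ E : Subgroup ↥(S : Subgroup (GL (Fin n) F)), E.Normal ∧
      (IsMulCommutative E ∧ ∀ a ∈ E, a ^ 2 = 1) ∧ 2 ^ n ≤ Nat.card ↥E) ∧
    ∀ E : Subgroup ↥(S : Subgroup (GL (Fin n) F)),
      (IsMulCommutative E ∧ ∀ a ∈ E, a ^ 2 = 1) → Nat.card ↥E ≤ 2 ^ n := by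
  classical
  haveI : Fact (Nat.Prime 2) := ⟨Nat.prime_two⟩
  have hF : Odd (Fintype.card F) := Nat.odd_iff.2 (by omega)
  have h2 := two_ne_zero_of_odd_card hF
  have hq1 : 1 < Fintype.card F := Fintype.one_lt_card
  have hq2 : ¬ 2 ∣ Fintype.card F := by omega
  constructor
  · let ε : BI 1 n 0 ≃ Fin n := Fintype.equivFinOfCardEq (by rw [card_BI]; omega)
    have hcardW : Nat.card (GW F 1 n 0) = (Fintype.card F - 1) ^ n * n.factorial := by
      rw [card_GW, card_GL_one, pow_zero, mul_one]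
    have hW0 : Nat.card (GW F 1 n 0) ≠ 0 := by
      rw [hcardW]
      exact mul_ne_zero (pow_ne_zero _ (by omega)) (Nat.factorial_ne_zero n)
    have hv : (Nat.card (GL (Fin n) F)).factorization 2
        ≤ (Nat.card (GW F 1 n 0)).factorization 2 := by
      rw [v2_card_GL hF, hcardW, Nat.factorization_def _ Nat.prime_two,
        v2S_of_one_mod_four _ hq1 hq,
        padicValNat.mul (pow_ne_zero _ (by omega)) (Nat.factorial_ne_zero n), padicValNat.pow]
    obtain ⟨E, hE1, hE2, hE3⟩ := gw_exists_normal_elemAb (d := 1) (m := n) (r := 0) h2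
      ((reidxHom ε).comp (gwHom F 1 n 0))
      ((reidxHom_injective ε).comp gwHom_injective) hv hW0 S
    exact ⟨E, hE1, hE2, by simpa using hE3⟩
  · intro E hE
    let ψ : ↥E → Matrix (Fin n) (Fin n) F := fun x => ((x.1.1 : GL (Fin n) F) : Matrix _ _ F)
    have hψ : Function.Injective ψ := by
      intro x y hxy
      exact Subtype.ext (Subtype.ext (Units.ext hxy))
    haveI := hE.1
    have key := gl_inv_set_ncard_le hF n (ψ '' Set.univ)
      (by
        rintro _ ⟨x, -, rfl⟩ _ ⟨y, -, rfl⟩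
        have h := mul_comm' x y
        exact congrArg ψ h)
      (by
        rintro _ ⟨x, -, rfl⟩
        have h := hE.2 x.1 x.2
        rw [pow_two] at h
        exact congrArg (fun z : ↥(S : Subgroup (GL (Fin n) F)) =>
          ((z.1 : GL (Fin n) F) : Matrix (Fin n) (Fin n) F)) h)
    rw [Set.ncard_image_of_injective _ hψ, Set.ncard_univ] at key
    exact key

theorem gwHom_mulSingle {m : ℕ} (r : ℕ) (i : Fin m) (u : GL (Fin 2) F) :
    ((gwHom F 2 m r (SemidirectProduct.inl (Pi.mulSingle i u), 1) : GL (BI 2 m r) F) :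
      Matrix (BI 2 m r) (BI 2 m r) F) = blk r i (u : Matrix (Fin 2) (Fin 2) F) := by
  rw [gwHom_coe, blk_eq]
  have h1 : (fun k => (((Pi.mulSingle i u : Fin m → GL (Fin 2) F) k : GL (Fin 2) F) :
      Matrix (Fin 2) (Fin 2) F)) = Pi.mulSingle i (u : Matrix (Fin 2) (Fin 2) F) := by
    funext k
    by_cases hk : k = i
    · subst hk; simp
    · simp [Pi.mulSingle_eq_of_ne hk]
  simp [gP_one, h1]

/-- `q ≡ 3 (mod 4)`: the normal 2-rank of a Sylow 2-subgroup of `GL_n(q)` is `⌊(n+1)/2⌋`. -/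
theorem gl_normal_rank_three_mod_four [Fintype F] (hq : Fintype.card F % 4 = 3) (n : ℕ)
    (S : Sylow 2 (GL (Fin n) F)) :
    (∃ E : Subgroup ↥(S : Subgroup (GL (Fin n) F)), E.Normal ∧
      (IsMulCommutative E ∧ ∀ a ∈ E, a ^ 2 = 1) ∧ 2 ^ ((n + 1) / 2) ≤ Nat.card ↥E) ∧
    ∀ E : Subgroup ↥(S : Subgroup (GL (Fin n) F)), E.Normal →
      (IsMulCommutative E ∧ ∀ a ∈ E, a ^ 2 = 1) → Nat.card ↥E ≤ 2 ^ ((n + 1) / 2) := by
  classical
  haveI : Fact (Nat.Prime 2) := ⟨Nat.prime_two⟩
  have hF : Odd (Fintype.card F) := Nat.odd_iff.2 (by omega)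
  have h2 := two_ne_zero_of_odd_card hF
  have hq1 : 1 < Fintype.card F := Fintype.one_lt_card
  have hq2 : ¬ 2 ∣ Fintype.card F := by omega
  obtain ⟨m, r, hr, hn, hk⟩ : ∃ m r : ℕ, r ≤ 1 ∧ n = 2 * m + r ∧ (n + 1) / 2 = m + r :=
    ⟨n / 2, n % 2, by omega, by omega, by omega⟩
  rw [hk]
  let ε : BI 2 m r ≃ Fin n := Fintype.equivFinOfCardEq (by rw [card_BI]; omega)
  let Ψ : GW F 2 m r →* GL (Fin n) F := (reidxHom ε).comp (gwHom F 2 m r)
  have hΨ : Function.Injective Ψ := (reidxHom_injective ε).comp gwHom_injective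
  constructor
  · have hsq : 1 < Fintype.card F ^ 2 := Nat.one_lt_pow (by norm_num) hq1
    have hne1 : Fintype.card F ^ 2 - 1 ≠ 0 := by omega
    have hqq : Fintype.card F ^ 2 - Fintype.card F = Fintype.card F * (Fintype.card F - 1) := by
      rw [Nat.mul_sub, mul_one, pow_two]
    have hne2 : Fintype.card F * (Fintype.card F - 1) ≠ 0 :=
      mul_ne_zero (by omega) (by omega)
    have hcardW : Nat.card (GW F 2 m r)
        = ((Fintype.card F ^ 2 - 1) * (Fintype.card F * (Fintype.card F - 1))) ^ m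
          * m.factorial * (Fintype.card F - 1) ^ r := by
      rw [card_GW, card_GL_two, hqq]
    have hW0 : Nat.card (GW F 2 m r) ≠ 0 := by
      rw [hcardW]
      exact mul_ne_zero (mul_ne_zero (pow_ne_zero _ (mul_ne_zero hne1 hne2))
        (Nat.factorial_ne_zero m)) (pow_ne_zero _ (by omega))
    have hv : (Nat.card (GL (Fin n) F)).factorization 2
        ≤ (Nat.card (GW F 2 m r)).factorization 2 := by
      rw [v2_card_GL hF, hcardW, Nat.factorization_def _ Nat.prime_two,
        padicValNat.mul (mul_ne_zero (pow_ne_zero _ (mul_ne_zero hne1 hne2))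
          (Nat.factorial_ne_zero m)) (pow_ne_zero _ (by omega)),
        padicValNat.mul (pow_ne_zero _ (mul_ne_zero hne1 hne2)) (Nat.factorial_ne_zero m),
        padicValNat.pow, padicValNat.pow, padicValNat.mul hne1 hne2,
        padicValNat.mul (by omega) (by omega), padicValNat.eq_zero_of_not_dvd hq2, hn]
      have hr' : r = 0 ∨ r = 1 := by omega
      rcases hr' with rfl | rfl
      · rw [add_zero, v2S_even _ hq1 hq2]
        apply le_of_eq
        ring
      · rw [v2S_odd _ hq1 hq2]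
        apply le_of_eq
        ring
    exact gw_exists_normal_elemAb (d := 2) (m := m) (r := r) h2 Ψ hΨ hv hW0 S
  · intro E hEn hE
    obtain ⟨hm1, a, ha0, ha⟩ := exists_gmat_param hq
    let gh : GL (Fin 2) F := ⟨gmat a, gmat' a, gmat_mul_gmat' h2 a ha0, gmat'_mul_gmat h2 a ha0⟩
    have hgh8 : gh ^ 8 = 1 := by
      apply Units.ext
      have h8 : (8 : ℕ) = 2 * 2 * 2 := by norm_num
      rw [Units.val_pow_eq_pow_val, Units.val_one, h8, pow_mul, pow_mul]
      show (((gmat a) ^ 2) ^ 2) ^ 2 = 1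
      rw [pow_two (gmat a), pow_two (gmat a * gmat a), gmat_sq_sq a ha]
      simp
    -- the 2-group C₀
    let P : Subgroup (Fin m → GL (Fin 2) F) :=
      Subgroup.pi Set.univ (fun _ : Fin m => Subgroup.zpowers gh)
    have hP : IsPGroup 2 P := by
      intro x
      refine ⟨3, ?_⟩
      apply Subtype.ext
      have hx := x.2
      rw [Subgroup.mem_pi] at hx
      funext i
      obtain ⟨k, hk'⟩ := Subgroup.mem_zpowers_iff.1 (hx i (Set.mem_univ i))
      show ((x : Fin m → GL (Fin 2) F) ^ 2 ^ 3) i = 1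
      rw [Pi.pow_apply, ← hk']
      have : (2 : ℕ) ^ 3 = 8 := by norm_num
      rw [this, ← zpow_natCast, ← _root_.zpow_mul, mul_comm, _root_.zpow_mul, zpow_natCast, hgh8, _root_.one_zpow]
    let θ : (Fin m → GL (Fin 2) F) →* GL (Fin n) F :=
      Ψ.comp ((MonoidHom.inl _ _).comp SemidirectProduct.inl)
    have hC : IsPGroup 2 (P.map θ) := hP.map θ
    refine card_le_of_normalized_bound (P.map θ) hC _ ?_ S E hEn hE
    intro E' hcomm hsq hnorm
    -- matrices over the block index type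
    let μ : ↥E' → Matrix (BI 2 m r) (BI 2 m r) F :=
      fun x => ((x : GL (Fin n) F) : Matrix (Fin n) (Fin n) F).submatrix ε ε
    have hμinj : Function.Injective μ := by
      intro x y hxy
      apply Subtype.ext
      apply Units.ext
      have h2' := congrArg (fun M : Matrix (BI 2 m r) (BI 2 m r) F =>
        M.submatrix ε.symm ε.symm) hxy
      simpa [μ, Matrix.submatrix_submatrix] using h2'
    have hμmul : ∀ x y : ↥E', μ (x * y) = μ x * μ y := by
      intro x y
      simp only [μ, Subgroup.coe_mul, Units.val_mul]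
      exact (Matrix.submatrix_mul_equiv _ _ _ _ _).symm
    have hμone : μ 1 = 1 := by
      simp [μ]
    have hμΨ : ∀ w : GW F 2 m r, ((Ψ w : GL (Fin n) F) : Matrix (Fin n) (Fin n) F).submatrix ε ε
        = ((gwHom F 2 m r w : GL (BI 2 m r) F) : Matrix (BI 2 m r) (BI 2 m r) F) := by
      intro w
      show ((reidxHom ε (gwHom F 2 m r w) : GL (Fin n) F) :
        Matrix (Fin n) (Fin n) F).submatrix ε ε = _
      rw [reidxHom_coe]
      simp [Matrix.submatrix_submatrix]
    have key := gl_block_inv_bound h2 r hr (gmat a) (gmat' a) (gmat_mul_gmat' h2 a ha0)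
      (gmat'_mul_gmat h2 a ha0) (gmat_sq_sq a ha) (gmat_scalar h2 hm1 a ha0) (μ '' Set.univ)
      (by
        rintro _ ⟨x, -, rfl⟩ _ ⟨y, -, rfl⟩
        rw [← hμmul, ← hμmul]
        congr 1
        exact Subtype.ext (hcomm x.1 x.2 y.1 y.2))
      (by
        rintro _ ⟨x, -, rfl⟩
        rw [← hμmul, ← hμone]
        congr 1
        apply Subtype.ext
        have := hsq x.1 x.2
        rw [pow_two] at this
        exact this)
      (by
        rintro i _ ⟨x, -, rfl⟩
        -- the normalizing elements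
        let w' : GW F 2 m r := (SemidirectProduct.inl (Pi.mulSingle i gh⁻¹), 1)
        let w'' : GW F 2 m r := (SemidirectProduct.inl (Pi.mulSingle i gh), 1)
        have hww : w' * w'' = 1 := by
          refine Prod.ext ?_ ?_
          · show (SemidirectProduct.inl (Pi.mulSingle i gh⁻¹) : GW₁ F 2 m)
              * SemidirectProduct.inl (Pi.mulSingle i gh) = 1
            rw [← map_mul, ← Pi.mulSingle_mul, inv_mul_cancel, Pi.mulSingle_one, map_one]
          · simp [w', w'']
        have hinv' : (Ψ w')⁻¹ = Ψ w'' := by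
          apply inv_eq_of_mul_eq_one_right
          rw [← map_mul, hww, map_one]
        have hmemC : Ψ w' ∈ P.map θ := by
          refine ⟨Pi.mulSingle i gh⁻¹, ?_, rfl⟩
          show Pi.mulSingle i gh⁻¹ ∈ Subgroup.pi Set.univ (fun _ : Fin m => Subgroup.zpowers gh)
          rw [Subgroup.mulSingle_mem_pi]
          intro _
          exact Subgroup.inv_mem _ (Subgroup.mem_zpowers gh)
        have hx' := hnorm (Ψ w') hmemC x.1 x.2
        refine ⟨⟨Ψ w' * x.1 * (Ψ w')⁻¹, hx'⟩, Set.mem_univ _, ?_⟩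
        show ((Ψ w' * (x : GL (Fin n) F) * (Ψ w')⁻¹ : GL (Fin n) F) :
          Matrix (Fin n) (Fin n) F).submatrix ε ε = _
        rw [hinv', Units.val_mul, Units.val_mul, ← Matrix.submatrix_mul_equiv _ _ ε ε ε,
          ← Matrix.submatrix_mul_equiv _ _ ε ε ε, hμΨ, hμΨ, gwHom_mulSingle, gwHom_mulSingle]
        rfl)
    rw [Set.ncard_image_of_injective _ hμinj, Set.ncard_univ] at key
    exact key

end GLNormRank

end Cfsg.Agent.Lib.helper45
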