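import Mathlib
import Cfsg.Prelude.Def_JordanBlocks

/-! The commutant of a unipotent matrix of given Jordan type: explicit parametrisation by the
first columns of the blocks, and the invertibility criterion. -/

set_option autoImplicit false
set_option linter.unusedSectionVars false
set_option linter.style.haveILetI false

namespace Cfsg.Agent.Lib.helper45

open Matrix

section jordan

variable {F : Type*} [Field F] {t : ℕ} (d : Fin t → ℕ)

/-- the index type of the Jordan type matrix -/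
abbrev JIdx (d : Fin t → ℕ) : Type := (k : Fin t) × Fin (d k)

/-- the nilpotent part of the Jordan type matrix -/
def jordanNil (d : Fin t → ℕ) (F : Type*) [Field F] : Matrix (JIdx d) (JIdx d) F :=
  Matrix.of fun x y => if x.1 = y.1 ∧ (x.2 : ℕ) = (y.2 : ℕ) + 1 then 1 else 0

theorem jordanTypeMatrix_eq : Cfsg.jordanTypeMatrix d F = 1 + jordanNil d F := by
  ext ⟨k, i⟩ ⟨l, j⟩
  unfold Cfsg.jordanTypeMatrix jordanNil
  rw [Matrix.blockDiagonal'_apply, Matrix.add_apply, Matrix.one_apply]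
  by_cases hkl : k = l
  · subst hkl
    simp only [dif_pos, cast_eq, Cfsg.jordanBlock, Matrix.of_apply, true_and]
    by_cases hij : (i : ℕ) = j
    · have hij' : i = j := Fin.ext hij
      subst hij'
      rw [if_pos rfl, if_pos rfl, if_neg (by omega), add_zero]
    · have hne : (⟨k, i⟩ : JIdx d) ≠ ⟨k, j⟩ := by
        intro h
        rw [Sigma.mk.inj_iff] at h
        exact hij (congrArg Fin.val (eq_of_heq h.2))
      rw [if_neg hij, if_neg hne, zero_add]
  · have hne : (⟨k, i⟩ : JIdx d) ≠ ⟨l, j⟩ := by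
      intro h
      exact hkl (congrArg Sigma.fst h)
    rw [dif_neg hkl, if_neg hne, zero_add]
    simp only [Matrix.of_apply]
    rw [if_neg]
    rintro ⟨h, _⟩
    exact hkl h

theorem comm_jordan_iff (g : Matrix (JIdx d) (JIdx d) F) :
    g * Cfsg.jordanTypeMatrix d F = Cfsg.jordanTypeMatrix d F * g
      ↔ g * jordanNil d F = jordanNil d F * g := by
  rw [jordanTypeMatrix_eq, mul_add, add_mul, mul_one, one_mul, add_right_inj]

theorem mul_jordanNil_apply (g : Matrix (JIdx d) (JIdx d) F) (x : JIdx d) (l : Fin t)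
    (j : Fin (d l)) :
    (g * jordanNil d F) x ⟨l, j⟩
      = if h : (j : ℕ) + 1 < d l then g x ⟨l, ⟨(j : ℕ) + 1, h⟩⟩ else 0 := by
  rw [Matrix.mul_apply]
  by_cases h : (j : ℕ) + 1 < d l
  · rw [dif_pos h, Finset.sum_eq_single (⟨l, ⟨(j : ℕ) + 1, h⟩⟩ : JIdx d)]
    · simp [jordanNil]
    · rintro ⟨l', j'⟩ _ hne
      simp only [jordanNil, Matrix.of_apply]
      rw [if_neg, mul_zero]
      rintro ⟨h1, h2⟩
      apply hne
      have h1' : l' = l := h1
      subst h1'
      exact congrArg _ (Fin.ext h2)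
    · intro h'
      exact absurd (Finset.mem_univ _) h'
  · rw [dif_neg h]
    apply Finset.sum_eq_zero
    rintro ⟨l', j'⟩ _
    simp only [jordanNil, Matrix.of_apply]
    rw [if_neg, mul_zero]
    rintro ⟨h1, h2⟩
    have h1' : l' = l := h1
    subst h1'
    have := j'.2
    omega

theorem jordanNil_mul_apply (g : Matrix (JIdx d) (JIdx d) F) (k : Fin t) (i : Fin (d k))
    (y : JIdx d) :
    (jordanNil d F * g) ⟨k, i⟩ y
      = if h : 0 < (i : ℕ) then g ⟨k, ⟨(i : ℕ) - 1, by have := i.2; omega⟩⟩ y else 0 := by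
  rw [Matrix.mul_apply]
  by_cases h : 0 < (i : ℕ)
  · rw [dif_pos h, Finset.sum_eq_single (⟨k, ⟨(i : ℕ) - 1, by have := i.2; omega⟩⟩ : JIdx d)]
    · simp only [jordanNil, Matrix.of_apply]
      rw [if_pos ⟨trivial, by show (i : ℕ) = (i : ℕ) - 1 + 1; omega⟩, one_mul]
    · rintro ⟨k', i'⟩ _ hne
      simp only [jordanNil, Matrix.of_apply]
      rw [if_neg, zero_mul]
      rintro ⟨h1, h2⟩
      apply hne
      have h1' : k = k' := h1
      subst h1'
      exact congrArg _ (Fin.ext (by show (i' : ℕ) = (i : ℕ) - 1; omega))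
    · intro h'
      exact absurd (Finset.mem_univ _) h'
  · rw [dif_neg h]
    apply Finset.sum_eq_zero
    rintro ⟨k', i'⟩ _
    simp only [jordanNil, Matrix.of_apply]
    rw [if_neg, zero_mul]
    rintro ⟨_, h2⟩
    omega

/-- the entries of a matrix commuting with the nilpotent part are determined by the first
columns of the blocks -/
theorem comm_entry (hd : ∀ k, 1 ≤ d k) (g : Matrix (JIdx d) (JIdx d) F)
    (hg : g * jordanNil d F = jordanNil d F * g) (k l : Fin t) :
    ∀ (jn : ℕ) (hj : jn < d l) (i : Fin (d k)),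
      g ⟨k, i⟩ ⟨l, ⟨jn, hj⟩⟩
        = if h : jn ≤ (i : ℕ) then g ⟨k, ⟨(i : ℕ) - jn, by have := i.2; omega⟩⟩ ⟨l, ⟨0, hd l⟩⟩
          else 0 := by
  intro jn
  induction jn with
  | zero =>
    intro hj i
    rw [dif_pos (Nat.zero_le _)]
    rfl
  | succ jn ih =>
    intro hj i
    have h1 := congrFun (congrFun hg ⟨k, i⟩) ⟨l, ⟨jn, by omega⟩⟩
    rw [mul_jordanNil_apply, jordanNil_mul_apply, dif_pos hj] at h1
    rw [h1]
    by_cases hi : 0 < (i : ℕ)
    · rw [dif_pos hi, ih (by omega)]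
      by_cases h2 : jn + 1 ≤ (i : ℕ)
      · rw [dif_pos h2, dif_pos (by show jn ≤ (i : ℕ) - 1; omega)]
        congr 3
        show (i : ℕ) - 1 - jn = (i : ℕ) - (jn + 1)
        omega
      · rw [dif_neg h2, dif_neg (by show ¬ jn ≤ (i : ℕ) - 1; omega)]
    · rw [dif_neg hi, dif_neg (by omega)]

theorem comm_zero (hd : ∀ k, 1 ≤ d k) (g : Matrix (JIdx d) (JIdx d) F)
    (hg : g * jordanNil d F = jordanNil d F * g) (k l : Fin t) (m : Fin (d k))
    (h : (m : ℕ) + d l < d k) : g ⟨k, m⟩ ⟨l, ⟨0, hd l⟩⟩ = 0 := by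
  have hl := hd l
  have h1 := congrFun (congrFun hg ⟨k, ⟨(m : ℕ) + d l, h⟩⟩) ⟨l, ⟨d l - 1, by omega⟩⟩
  rw [mul_jordanNil_apply, jordanNil_mul_apply, dif_neg (by show ¬ (d l - 1 + 1 < d l); omega),
    dif_pos (by show 0 < (m : ℕ) + d l; omega)] at h1
  rw [comm_entry d hd g hg k l (d l - 1) (by omega),
    dif_pos (by show d l - 1 ≤ (m : ℕ) + d l - 1; omega)] at h1
  rw [h1]
  congr 2
  apply Fin.ext
  show (m : ℕ) = (m : ℕ) + d l - 1 - (d l - 1)
  omega

/-- the families of first columns -/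
def jvalid (d : Fin t → ℕ) (F : Type*) [Field F] : Set (Fin t → JIdx d → F) :=
  {v | ∀ (l : Fin t) (x : JIdx d), (x.2 : ℕ) + d l < d x.1 → v l x = 0}

/-- the matrix with given first columns -/
def jmat (v : Fin t → JIdx d → F) : Matrix (JIdx d) (JIdx d) F :=
  Matrix.of fun x y =>
    if h : (y.2 : ℕ) ≤ (x.2 : ℕ) then v y.1 ⟨x.1, ⟨(x.2 : ℕ) - (y.2 : ℕ), by have := x.2.2; omega⟩⟩
    else 0

theorem jmat_comm (v : Fin t → JIdx d → F) (hv : v ∈ jvalid d F) :
    jmat d v * jordanNil d F = jordanNil d F * jmat d v := by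
  ext ⟨k, i⟩ ⟨l, j⟩
  rw [mul_jordanNil_apply, jordanNil_mul_apply]
  have hi2 := i.2
  have hj2 := j.2
  by_cases hj : (j : ℕ) + 1 < d l
  · rw [dif_pos hj]
    by_cases hi0 : 0 < (i : ℕ)
    · rw [dif_pos hi0]
      simp only [jmat, Matrix.of_apply]
      by_cases hi : (j : ℕ) + 1 ≤ (i : ℕ)
      · rw [dif_pos hi, dif_pos (show (j : ℕ) ≤ (i : ℕ) - 1 by omega)]
        have e : (i : ℕ) - ((j : ℕ) + 1) = (i : ℕ) - 1 - (j : ℕ) := by omega
        simp only [e]
      · rw [dif_neg hi, dif_neg (show ¬ (j : ℕ) ≤ (i : ℕ) - 1 by omega)]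
    · rw [dif_neg hi0]
      simp only [jmat, Matrix.of_apply]
      rw [dif_neg (show ¬ (j : ℕ) + 1 ≤ (i : ℕ) by omega)]
  · rw [dif_neg hj]
    by_cases hi0 : 0 < (i : ℕ)
    · rw [dif_pos hi0]
      simp only [jmat, Matrix.of_apply]
      by_cases hi : (j : ℕ) ≤ (i : ℕ) - 1
      · rw [dif_pos hi]
        symm
        apply hv
        show (i : ℕ) - 1 - (j : ℕ) + d l < d k
        omega
      · rw [dif_neg hi]
    · rw [dif_neg hi0]

theorem jmat_col (hd : ∀ k, 1 ≤ d k) (v : Fin t → JIdx d → F) (x : JIdx d) (l : Fin t) :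
    jmat d v x ⟨l, ⟨0, hd l⟩⟩ = v l x := by
  simp only [jmat, Matrix.of_apply]
  rw [dif_pos (Nat.zero_le _)]
  rfl

theorem comm_eq_jmat (hd : ∀ k, 1 ≤ d k) (g : Matrix (JIdx d) (JIdx d) F)
    (hg : g * jordanNil d F = jordanNil d F * g) :
    g = jmat d (fun l x => g x ⟨l, ⟨0, hd l⟩⟩) := by
  ext ⟨k, i⟩ ⟨l, ⟨j, hj⟩⟩
  rw [comm_entry d hd g hg k l j hj i]
  rfl

theorem col_valid (hd : ∀ k, 1 ≤ d k) (g : Matrix (JIdx d) (JIdx d) F)
    (hg : g * jordanNil d F = jordanNil d F * g) :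
    (fun l x => g x ⟨l, ⟨0, hd l⟩⟩) ∈ jvalid d F := by
  rintro l ⟨k, m⟩ h
  exact comm_zero d hd g hg k l m h

end jordan

section count

variable {F : Type*} [Field F] [Fintype F] {t : ℕ} (d : Fin t → ℕ)

theorem sum_fin_min (a b : ℕ) :
    (∑ m : Fin a, if (m : ℕ) + b < a then 0 else 1) = min a b := by
  rw [Fin.sum_univ_eq_sum_range (fun m => if m + b < a then 0 else 1) a]
  have h1 : ∀ m ∈ Finset.range a, (if m + b < a then 0 else 1) = (if a - b ≤ m then 1 else 0) := by
    intro m _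
    by_cases h : m + b < a
    · rw [if_pos h, if_neg (by omega)]
    · rw [if_neg h, if_pos (by omega)]
  rw [Finset.sum_congr rfl h1, Finset.sum_boole, Nat.cast_id]
  have h2 : (Finset.range a).filter (fun m => a - b ≤ m) = Finset.Ico (a - b) a := by
    ext m
    rw [Finset.mem_filter, Finset.mem_range, Finset.mem_Ico]
    exact and_comm
  rw [h2, Nat.card_Ico]
  omega

theorem card_jvalid :
    Nat.card (jvalid d F) = Fintype.card F ^ (∑ l, ∑ k, min (d k) (d l)) := by
  classical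
  have e : jvalid d F
      ≃ ((l : Fin t) → (x : JIdx d) → {y : F // (x.2 : ℕ) + d l < d x.1 → y = 0}) :=
    (Equiv.subtypePiEquivPi (p := fun (l : Fin t) (w : JIdx d → F) =>
        ∀ x : JIdx d, (x.2 : ℕ) + d l < d x.1 → w x = 0)).trans
      (Equiv.piCongrRight fun l => Equiv.subtypePiEquivPi
        (p := fun (x : JIdx d) (y : F) => (x.2 : ℕ) + d l < d x.1 → y = 0))
  rw [Nat.card_congr e, Nat.card_pi]
  have h1 : ∀ (l : Fin t) (x : JIdx d),
      Nat.card {y : F // (x.2 : ℕ) + d l < d x.1 → y = 0}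
        = Fintype.card F ^ (if (x.2 : ℕ) + d l < d x.1 then 0 else 1) := by
    intro l x
    by_cases h : (x.2 : ℕ) + d l < d x.1
    · rw [if_pos h, pow_zero, Nat.card_eq_one_iff_unique]
      exact ⟨⟨fun a b => Subtype.ext ((a.2 h).trans (b.2 h).symm)⟩, ⟨⟨0, fun _ => rfl⟩⟩⟩
    · rw [if_neg h, pow_one, ← Nat.card_eq_fintype_card]
      exact Nat.card_congr (Equiv.subtypeUnivEquiv (fun y h' => absurd h' h))
  have h2 : ∀ l : Fin t, Nat.card ((x : JIdx d) → {y : F // (x.2 : ℕ) + d l < d x.1 → y = 0})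
      = Fintype.card F ^ (∑ k, min (d k) (d l)) := by
    intro l
    rw [Nat.card_pi, Finset.prod_congr rfl (fun x _ => h1 l x), Finset.prod_pow_eq_pow_sum,
      Fintype.sum_sigma]
    congr 1
    apply Finset.sum_congr rfl
    intro k _
    exact sum_fin_min (d k) (d l)
  rw [Finset.prod_congr rfl (fun l _ => h2 l), Finset.prod_pow_eq_pow_sum]

theorem card_commutant (hd : ∀ k, 1 ≤ d k) :
    Nat.card {g : Matrix (JIdx d) (JIdx d) F // g * jordanNil d F = jordanNil d F * g}
      = Fintype.card F ^ (∑ l, ∑ k, min (d k) (d l)) := by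
  rw [← card_jvalid]
  apply Nat.card_eq_of_bijective
    (fun g : {g : Matrix (JIdx d) (JIdx d) F // g * jordanNil d F = jordanNil d F * g} =>
      (⟨fun l x => g.1 x ⟨l, ⟨0, hd l⟩⟩, col_valid d hd g.1 g.2⟩ : jvalid d F))
  constructor
  · intro g g' h
    apply Subtype.ext
    rw [comm_eq_jmat d hd g.1 g.2, comm_eq_jmat d hd g'.1 g'.2]
    exact congrArg (jmat d) (congrArg Subtype.val h)
  · rintro ⟨v, hv⟩
    refine ⟨⟨jmat d v, jmat_comm d v hv⟩, Subtype.ext ?_⟩
    funext l x
    exact jmat_col d hd v x l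

/-- the diagonal block of size `s` of the action on the top quotient -/
def jrho (hd : ∀ k, 1 ≤ d k) (g : Matrix (JIdx d) (JIdx d) F) (s : ℕ) :
    Matrix {k : Fin t // d k = s} {k : Fin t // d k = s} F :=
  Matrix.of fun k l => g ⟨k.1, ⟨0, hd k.1⟩⟩ ⟨l.1, ⟨0, hd l.1⟩⟩

theorem jdet_ne_zero_iff (hd : ∀ k, 1 ≤ d k) (g : Matrix (JIdx d) (JIdx d) F)
    (hg : g * jordanNil d F = jordanNil d F * g) :
    g.det ≠ 0 ↔ ∀ s, (jrho d hd g s).det ≠ 0 := by
  classical
  let b : JIdx d → ℕᵒᵈ ×ₗ ℕ := fun x => toLex (OrderDual.toDual (x.2 : ℕ), d x.1)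
  have hb : ∀ y y' : JIdx d, b y = b y' ↔ ((y.2 : ℕ) = (y'.2 : ℕ) ∧ d y.1 = d y'.1) := by
    intro y y'
    show toLex (OrderDual.toDual (y.2 : ℕ), d y.1) = toLex (OrderDual.toDual (y'.2 : ℕ), d y'.1) ↔ _
    rw [toLex_inj, Prod.mk.injEq, OrderDual.toDual_inj]
  have hBT : g.BlockTriangular b := by
    rintro ⟨k, i⟩ ⟨l, ⟨j, hj⟩⟩ hlt
    have hlt' : toLex (OrderDual.toDual j, d l) < toLex (OrderDual.toDual (i : ℕ), d k) := hlt
    rw [Prod.Lex.toLex_lt_toLex] at hlt'
    rw [comm_entry d hd g hg k l j hj i]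
    rcases hlt' with h | ⟨h1, h2⟩
    · have h' : (i : ℕ) < j := OrderDual.toDual_lt_toDual.mp h
      rw [dif_neg (by omega)]
    · have h1' : j = (i : ℕ) := OrderDual.toDual_inj.mp h1
      have h2' : d l < d k := h2
      rw [dif_pos (by omega)]
      apply comm_zero d hd g hg
      show (i : ℕ) - j + d l < d k
      omega
  have hblock : ∀ x : JIdx d, (g.toSquareBlock b (b x)).det = (jrho d hd g (d x.1)).det := by
    intro x
    let e : {k : Fin t // d k = d x.1} ≃ {y : JIdx d // b y = b x} :=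
      { toFun := fun k => ⟨⟨k.1, ⟨(x.2 : ℕ), by rw [k.2]; exact x.2.2⟩⟩, (hb _ _).mpr ⟨rfl, k.2⟩⟩
        invFun := fun y => ⟨y.1.1, ((hb _ _).mp y.2).2⟩
        left_inv := fun k => rfl
        right_inv := fun y => by
          obtain ⟨⟨k, i⟩, hy⟩ := y
          apply Subtype.ext
          show (⟨k, ⟨(x.2 : ℕ), _⟩⟩ : JIdx d) = ⟨k, i⟩
          congr 1
          exact Fin.ext ((hb _ _).mp hy).1.symm }
    rw [← Matrix.det_submatrix_equiv_self e]
    congr 1
    ext k l
    show g ⟨k.1, ⟨(x.2 : ℕ), _⟩⟩ ⟨l.1, ⟨(x.2 : ℕ), _⟩⟩ = g ⟨k.1, ⟨0, hd k.1⟩⟩ ⟨l.1, ⟨0, hd l.1⟩⟩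
    rw [comm_entry d hd g hg k.1 l.1 (x.2 : ℕ) _ _, dif_pos (le_refl _)]
    congr 3
    exact Nat.sub_self _
  rw [hBT.det, Finset.prod_ne_zero_iff]
  constructor
  · intro h s
    by_cases hs : Nonempty {k : Fin t // d k = s}
    · obtain ⟨⟨k0, hk0⟩⟩ := hs
      have h1 := h (b ⟨k0, ⟨0, hd k0⟩⟩) (Finset.mem_image_of_mem _ (Finset.mem_univ _))
      rw [hblock] at h1
      subst hk0
      exact h1
    · haveI : IsEmpty {k : Fin t // d k = s} := not_nonempty_iff.mp hs
      rw [Matrix.det_isEmpty]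
      exact one_ne_zero
  · intro h a ha
    obtain ⟨x, _, rfl⟩ := Finset.mem_image.mp ha
    rw [hblock]
    exact h _

/-- the commutant as an additive subgroup -/
def jcomm (d : Fin t → ℕ) (F : Type*) [Field F] : AddSubgroup (Matrix (JIdx d) (JIdx d) F) where
  carrier := {g | g * jordanNil d F = jordanNil d F * g}
  add_mem' := fun {a b} ha hb => by
    show (a + b) * jordanNil d F = jordanNil d F * (a + b)
    have ha' : a * jordanNil d F = jordanNil d F * a := ha
    have hb' : b * jordanNil d F = jordanNil d F * b := hb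
    rw [add_mul, mul_add, ha', hb']
  zero_mem' := by
    show 0 * jordanNil d F = jordanNil d F * 0
    rw [zero_mul, mul_zero]
  neg_mem' := fun {a} ha => by
    show -a * jordanNil d F = jordanNil d F * -a
    have ha' : a * jordanNil d F = jordanNil d F * a := ha
    rw [neg_mul, mul_neg, ha']

/-- the target of the reduction map -/
abbrev JB (d : Fin t → ℕ) (F : Type*) [Field F] (D : ℕ) : Type _ :=
  (s : Fin (D + 1)) → Matrix {k : Fin t // d k = (s : ℕ)} {k : Fin t // d k = (s : ℕ)} F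

/-- the reduction map to the top quotient -/
def jrhoHom (hd : ∀ k, 1 ≤ d k) (D : ℕ) : jcomm d F →+ JB d F D where
  toFun g := fun s => jrho d hd g.1 s
  map_zero' := by
    funext s
    ext k l
    rfl
  map_add' a b := by
    funext s
    ext k l
    rfl

/-- a section of the reduction map -/
def jsec (D : ℕ) (hD : ∀ k, d k ≤ D) (M : JB d F D) : Matrix (JIdx d) (JIdx d) F :=
  Matrix.of fun x y =>
    if h : d x.1 = d y.1 ∧ (x.2 : ℕ) = (y.2 : ℕ) then
      M ⟨d x.1, Nat.lt_succ_of_le (hD x.1)⟩ ⟨x.1, rfl⟩ ⟨y.1, h.1.symm⟩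
    else 0

theorem jsec_comm (D : ℕ) (hD : ∀ k, d k ≤ D) (M : JB d F D) :
    jsec d D hD M * jordanNil d F = jordanNil d F * jsec d D hD M := by
  ext ⟨k, i⟩ ⟨l, j⟩
  rw [mul_jordanNil_apply, jordanNil_mul_apply]
  have hi2 := i.2
  have hj2 := j.2
  by_cases hc : d k = d l ∧ (i : ℕ) = (j : ℕ) + 1
  · have hj : (j : ℕ) + 1 < d l := by omega
    have hi0 : 0 < (i : ℕ) := by omega
    rw [dif_pos hj, dif_pos hi0]
    simp only [jsec, Matrix.of_apply]
    rw [dif_pos ⟨hc.1, hc.2⟩, dif_pos ⟨hc.1, by show (i : ℕ) - 1 = (j : ℕ); omega⟩]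
  · by_cases hj : (j : ℕ) + 1 < d l
    · rw [dif_pos hj]
      simp only [jsec, Matrix.of_apply]
      rw [dif_neg hc]
      by_cases hi0 : 0 < (i : ℕ)
      · rw [dif_pos hi0, dif_neg]
        rintro ⟨h1, h2⟩
        apply hc
        refine ⟨h1, ?_⟩
        have h2' : (i : ℕ) - 1 = (j : ℕ) := h2
        omega
      · rw [dif_neg hi0]
    · rw [dif_neg hj]
      by_cases hi0 : 0 < (i : ℕ)
      · rw [dif_pos hi0]
        simp only [jsec, Matrix.of_apply]
        rw [dif_neg]
        rintro ⟨h1, h2⟩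
        have h2' : (i : ℕ) - 1 = (j : ℕ) := h2
        have h1' : d k = d l := h1
        omega
      · rw [dif_neg hi0]

theorem jrho_jsec (hd : ∀ k, 1 ≤ d k) (D : ℕ) (hD : ∀ k, d k ≤ D) (M : JB d F D)
    (s : Fin (D + 1)) : jrho d hd (jsec d D hD M) (s : ℕ) = M s := by
  ext k l
  obtain ⟨s, hs⟩ := s
  obtain ⟨k, hk⟩ := k
  obtain ⟨l, hl⟩ := l
  have hk' : d k = s := hk
  subst hk'
  simp only [jrho, jsec, Matrix.of_apply]
  rw [dif_pos ⟨hl.symm, trivial⟩]

theorem card_preimage_of_section {A B : Type*} [AddCommGroup A] [AddCommGroup B] [Finite A]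
    (ρ : A →+ B) (σ : B → A) (hσ : ∀ b, ρ (σ b) = b) (T : Set B) :
    Nat.card {a : A // ρ a ∈ T} * Nat.card B = Nat.card T * Nat.card A := by
  have key : ∀ T : Set B, Nat.card {a : A // ρ a ∈ T} = Nat.card T * Nat.card ρ.ker := by
    intro T
    rw [← Nat.card_prod]
    apply Nat.card_eq_of_bijective (fun a : {a : A // ρ a ∈ T} =>
      ((⟨ρ a.1, a.2⟩, ⟨a.1 - σ (ρ a.1), by
        rw [AddMonoidHom.mem_ker, map_sub, hσ, sub_self]⟩) : T × ρ.ker))
    constructor
    · intro a a' h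
      have h1 : ρ a.1 = ρ a'.1 := congrArg (fun p : T × ρ.ker => (p.1 : B)) h
      have h2 : a.1 - σ (ρ a.1) = a'.1 - σ (ρ a'.1) := congrArg (fun p : T × ρ.ker => (p.2 : A)) h
      rw [h1] at h2
      exact Subtype.ext (sub_left_injective h2)
    · rintro ⟨⟨b, hb⟩, ⟨z, hz⟩⟩
      have hz' : ρ z = 0 := hz
      have h1 : ρ (σ b + z) = b := by rw [map_add, hσ, hz', add_zero]
      refine ⟨⟨σ b + z, by rw [h1]; exact hb⟩, ?_⟩
      apply Prod.ext
      · exact Subtype.ext h1
      · apply Subtype.ext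
        show σ b + z - σ (ρ (σ b + z)) = z
        rw [h1, add_sub_cancel_left]
  have h1 := key T
  have h2 := key Set.univ
  have h3 : Nat.card {a : A // ρ a ∈ (Set.univ : Set B)} = Nat.card A :=
    Nat.card_congr (Equiv.subtypeUnivEquiv (fun a => Set.mem_univ _))
  rw [h3, Nat.card_univ] at h2
  rw [h1, h2]
  ring

end count

section final

variable {F : Type*} [Field F] [Fintype F] {t : ℕ} (d : Fin t → ℕ)

/-- the number of blocks of size `i` -/
def jcnt (d : Fin t → ℕ) (i : ℕ) : ℕ := (Finset.univ.filter (fun k : Fin t => d k = i)).card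

theorem card_det_ne_zero (K : Type*) [Fintype K] [DecidableEq K] (n : ℕ)
    (hn : Fintype.card K = n) :
    Nat.card {A : Matrix K K F // A.det ≠ 0}
      = ∏ j : Fin n, (Fintype.card F ^ n - Fintype.card F ^ (j : ℕ)) := by
  subst hn
  rw [← Matrix.card_GL_field]
  let e : K ≃ Fin (Fintype.card K) := Fintype.equivFin K
  symm
  apply Nat.card_eq_of_bijective (fun g : GL (Fin (Fintype.card K)) F =>
    (⟨Matrix.reindex e.symm e.symm (g : Matrix (Fin (Fintype.card K)) (Fin (Fintype.card K)) F), by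
      rw [Matrix.det_reindex_self]
      exact ((Matrix.isUnit_iff_isUnit_det _).mp g.isUnit).ne_zero⟩ :
      {A : Matrix K K F // A.det ≠ 0}))
  constructor
  · intro g g' h
    apply Units.ext
    exact (Matrix.reindex e.symm e.symm).injective (congrArg Subtype.val h)
  · rintro ⟨A, hA⟩
    refine ⟨Matrix.GeneralLinearGroup.mkOfDetNeZero (Matrix.reindex e e A) (by
      rw [Matrix.det_reindex_self]
      exact hA), Subtype.ext ?_⟩
    show Matrix.reindex e.symm e.symm (Matrix.reindex e e A) = A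
    ext i j
    simp

theorem card_centralizer_jordan (hd : ∀ k, 1 ≤ d k) (D : ℕ) (hD : ∀ k, d k ≤ D) :
    Nat.card {g : GL (JIdx d) F //
        (g : Matrix (JIdx d) (JIdx d) F) * Cfsg.jordanTypeMatrix d F
          = Cfsg.jordanTypeMatrix d F * (g : Matrix (JIdx d) (JIdx d) F)}
      * Fintype.card F ^ (∑ s : Fin (D + 1), jcnt d s * jcnt d s)
      = (∏ s : Fin (D + 1), ∏ j : Fin (jcnt d s),
          (Fintype.card F ^ jcnt d s - Fintype.card F ^ (j : ℕ)))
        * Fintype.card F ^ (∑ l, ∑ k, min (d k) (d l)) := by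
  classical
  let T : Set (JB d F D) := {M | ∀ s, (M s).det ≠ 0}
  have h1 : Nat.card {g : GL (JIdx d) F //
        (g : Matrix (JIdx d) (JIdx d) F) * Cfsg.jordanTypeMatrix d F
          = Cfsg.jordanTypeMatrix d F * (g : Matrix (JIdx d) (JIdx d) F)}
      = Nat.card {a : jcomm d F // jrhoHom d hd D a ∈ T} := by
    apply Nat.card_eq_of_bijective (fun g : {g : GL (JIdx d) F //
        (g : Matrix (JIdx d) (JIdx d) F) * Cfsg.jordanTypeMatrix d F
          = Cfsg.jordanTypeMatrix d F * (g : Matrix (JIdx d) (JIdx d) F)} =>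
      (⟨⟨(g.1 : Matrix (JIdx d) (JIdx d) F), (comm_jordan_iff d _).mp g.2⟩, fun s =>
        (jdet_ne_zero_iff d hd _ ((comm_jordan_iff d _).mp g.2)).mp
          ((Matrix.isUnit_iff_isUnit_det _).mp g.1.isUnit).ne_zero s⟩ :
        {a : jcomm d F // jrhoHom d hd D a ∈ T}))
    constructor
    · intro g g' h
      apply Subtype.ext
      apply Units.ext
      exact congrArg (fun a : {a : jcomm d F // jrhoHom d hd D a ∈ T} =>
        (a.1.1 : Matrix (JIdx d) (JIdx d) F)) h
    · rintro ⟨⟨A, hA⟩, hT⟩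
      have hA' : A * jordanNil d F = jordanNil d F * A := hA
      have hdet : A.det ≠ 0 := by
        rw [jdet_ne_zero_iff d hd A hA']
        intro s
        by_cases hs : s < D + 1
        · exact hT ⟨s, hs⟩
        · haveI : IsEmpty {k : Fin t // d k = s} := by
            constructor
            rintro ⟨k, hk⟩
            have := hD k
            omega
          rw [Matrix.det_isEmpty]
          exact one_ne_zero
      refine ⟨⟨Matrix.GeneralLinearGroup.mkOfDetNeZero A hdet, (comm_jordan_iff d _).mpr hA'⟩, ?_⟩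
      rfl
  have h2 := card_preimage_of_section (jrhoHom d hd D)
    (fun M => (⟨jsec d D hD M, jsec_comm d D hD M⟩ : jcomm d F))
    (fun M => funext fun s => jrho_jsec d hd D hD M s) T
  have h3 : Nat.card (JB d F D) = Fintype.card F ^ (∑ s : Fin (D + 1), jcnt d s * jcnt d s) := by
    rw [Nat.card_pi, ← Finset.prod_pow_eq_pow_sum]
    apply Finset.prod_congr rfl
    intro s _
    rw [Nat.card_eq_fintype_card]
    show Fintype.card ({k : Fin t // d k = (s : ℕ)} → {k : Fin t // d k = (s : ℕ)} → F) = _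
    rw [Fintype.card_fun, Fintype.card_fun, ← pow_mul, Fintype.card_subtype]
    rfl
  have h4 : Nat.card T = ∏ s : Fin (D + 1), ∏ j : Fin (jcnt d s),
      (Fintype.card F ^ jcnt d s - Fintype.card F ^ (j : ℕ)) := by
    have e : T ≃ ((s : Fin (D + 1)) →
        {A : Matrix {k : Fin t // d k = (s : ℕ)} {k : Fin t // d k = (s : ℕ)} F // A.det ≠ 0}) :=
      Equiv.subtypePiEquivPi (p := fun (s : Fin (D + 1))
        (A : Matrix {k : Fin t // d k = (s : ℕ)} {k : Fin t // d k = (s : ℕ)} F) => A.det ≠ 0)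
    rw [Nat.card_congr e, Nat.card_pi]
    apply Finset.prod_congr rfl
    intro s _
    exact card_det_ne_zero _ (jcnt d s) (Fintype.card_subtype _)
  have h5 : Nat.card (jcomm d F) = Fintype.card F ^ (∑ l, ∑ k, min (d k) (d l)) :=
    card_commutant d hd
  rw [h1, ← h3, h2, h4, h5]

theorem jordan_exponent_identity (hd : ∀ k, 1 ≤ d k) (D : ℕ) (hD : ∀ k, d k ≤ D) :
    ∑ l, ∑ k, min (d k) (d l)
      = (2 * (∑ i ∈ Finset.range (D + 1), ∑ j ∈ Finset.range (D + 1),
            if i < j then i * jcnt d i * jcnt d j else 0)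
          + ∑ i ∈ Finset.range (D + 1), (i - 1) * jcnt d i ^ 2)
        + ∑ s : Fin (D + 1), jcnt d s * jcnt d s := by
  classical
  have L : ∀ g : ℕ → ℕ, ∑ k, g (d k) = ∑ i ∈ Finset.range (D + 1), jcnt d i * g i := by
    intro g
    rw [← Finset.sum_fiberwise_of_maps_to (s := Finset.univ) (t := Finset.range (D + 1)) (g := d)
      (fun k _ => Finset.mem_range.mpr (Nat.lt_succ_of_le (hD k))) (fun k => g (d k))]
    apply Finset.sum_congr rfl
    intro i _
    have h1 : ∀ k ∈ Finset.univ.filter (fun k : Fin t => d k = i), g (d k) = g i := by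
      intro k hk
      rw [(Finset.mem_filter.mp hk).2]
    rw [Finset.sum_congr rfl h1, Finset.sum_const, smul_eq_mul]
    rfl
  have h1 : ∑ l, ∑ k, min (d k) (d l)
      = ∑ j ∈ Finset.range (D + 1), ∑ i ∈ Finset.range (D + 1),
          jcnt d j * (jcnt d i * min i j) := by
    calc ∑ l, ∑ k, min (d k) (d l)
        = ∑ j ∈ Finset.range (D + 1), jcnt d j * ∑ k, min (d k) j :=
          L (fun j => ∑ k, min (d k) j)
      _ = ∑ j ∈ Finset.range (D + 1), jcnt d j
            * ∑ i ∈ Finset.range (D + 1), jcnt d i * min i j := by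
          apply Finset.sum_congr rfl
          intro j _
          congr 1
          exact L (fun i => min i j)
      _ = _ := by
          apply Finset.sum_congr rfl
          intro j _
          rw [Finset.mul_sum]
  have h2 : ∀ j ∈ Finset.range (D + 1),
      ∑ i ∈ Finset.range (D + 1), jcnt d j * (jcnt d i * min i j)
        = ∑ i ∈ Finset.range (D + 1), (if i < j then i * jcnt d i * jcnt d j else 0)
          + ∑ i ∈ Finset.range (D + 1), (if j < i then j * jcnt d j * jcnt d i else 0)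
          + j * jcnt d j ^ 2 := by
    intro j hj
    have h : ∀ i ∈ Finset.range (D + 1), jcnt d j * (jcnt d i * min i j)
        = (if i < j then i * jcnt d i * jcnt d j else 0)
          + (if j < i then j * jcnt d j * jcnt d i else 0)
          + (if i = j then j * jcnt d j ^ 2 else 0) := by
      intro i _
      rcases lt_trichotomy i j with h | h | h
      · rw [if_pos h, if_neg (by omega), if_neg (by omega), min_eq_left h.le]
        ring
      · subst h
        rw [if_neg (lt_irrefl _), if_pos rfl, min_self]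
        ring
      · rw [if_neg (by omega), if_pos h, if_neg (by omega), min_eq_right h.le]
        ring
    rw [Finset.sum_congr rfl h, Finset.sum_add_distrib, Finset.sum_add_distrib,
      Finset.sum_ite_eq' (Finset.range (D + 1)) j (fun _ => j * jcnt d j ^ 2), if_pos hj]
  have hS1 : ∑ j ∈ Finset.range (D + 1), ∑ i ∈ Finset.range (D + 1),
        (if i < j then i * jcnt d i * jcnt d j else 0)
      = ∑ i ∈ Finset.range (D + 1), ∑ j ∈ Finset.range (D + 1),
        (if i < j then i * jcnt d i * jcnt d j else 0) := Finset.sum_comm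
  have h0 : jcnt d 0 = 0 := by
    unfold jcnt
    rw [Finset.card_eq_zero, Finset.filter_eq_empty_iff]
    intro k _ hk
    have := hd k
    omega
  have h3 : ∑ j ∈ Finset.range (D + 1), j * jcnt d j ^ 2
      = ∑ i ∈ Finset.range (D + 1), (i - 1) * jcnt d i ^ 2
        + ∑ s : Fin (D + 1), jcnt d s * jcnt d s := by
    rw [Fin.sum_univ_eq_sum_range (fun s => jcnt d s * jcnt d s) (D + 1), ← Finset.sum_add_distrib]
    apply Finset.sum_congr rfl
    intro i _
    rcases Nat.eq_zero_or_pos i with h | h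
    · subst h
      rw [h0]
      norm_num
    · obtain ⟨i', rfl⟩ : ∃ i', i = i' + 1 := ⟨i - 1, by omega⟩
      rw [Nat.add_sub_cancel]
      ring
  rw [h1, Finset.sum_congr rfl h2, Finset.sum_add_distrib, Finset.sum_add_distrib, hS1, h3]
  ring

end final

end Cfsg.Agent.Lib.helper45
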