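import Mathlib
import Cfsg.Agent.Lib.helper85.McLDefs

/-!
# S5075 piece SYSB2 (`sysB_form`)

The symplectic case of the abstract system theorem: if every nonzero vector is a centre, axes and
centres determine each other up to scalars and the axis of `c + d` lies in the span of the axes of
`c` and `d`, then the system is the system of symplectic transvections of a nondegenerate
alternating form.
-/

set_option autoImplicit false

open Cfsg.Agent.Lib.helper85.McL

namespace Cfsg.Agent.Lib.helper45.McL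

universe u

variable {p : ℕ} [Fact p.Prime] {V : Type u} [AddCommGroup V] [Module (ZMod p) V]

/-- Abstract extension lemma: a map `β` which is additive on pairs `v, w` whose images under
`(f, g)` are independent agrees, off `ker f ⊓ ker g`, with a linear map. -/
theorem h45_ext (h2 : (2 : ZMod p) ≠ 0) {A : Type*} [AddCommGroup A] [Module (ZMod p) A]
    (f g : Module.Dual (ZMod p) V) (β : V → A) (c e : V)
    (hfc : f c = 0) (hgc : g c = -1) (hfe : f e = 1) (hge : g e = 0)
    (H1 : ∀ v w, f v * g w - f w * g v ≠ 0 → β (v + w) = β v + β w) :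
    ∃ β' : V →ₗ[ZMod p] A, ∀ v, (f v ≠ 0 ∨ g v ≠ 0) → β' v = β v := by
  classical
  have Q : ∀ v1 v2 w1 w2 x1 x2 : ZMod p, v1 * w2 - w1 * v2 = 0 → v1 * x2 - x1 * v2 ≠ 0 →
      (w1 ≠ 0 ∨ w2 ≠ 0) → w1 * x2 - x1 * w2 ≠ 0 := by
    intro v1 v2 w1 w2 x1 x2 h0 h1 hw h
    have e1 : w1 * (v1 * x2 - x1 * v2) = 0 := by
      have : w1 * (v1 * x2 - x1 * v2) = (w1 * x2 - x1 * w2) * v1 + x1 * (v1 * w2 - w1 * v2) := by
        ring
      rw [this, h, h0]; ring
    have e2 : w2 * (v1 * x2 - x1 * v2) = 0 := by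
      have : w2 * (v1 * x2 - x1 * v2) = (w1 * x2 - x1 * w2) * v2 + x2 * (v1 * w2 - w1 * v2) := by
        ring
      rw [this, h, h0]; ring
    rcases hw with hw | hw
    · exact hw ((mul_eq_zero.mp e1).resolve_right h1)
    · exact hw ((mul_eq_zero.mp e2).resolve_right h1)
  have A1 : ∀ v w, (f v ≠ 0 ∨ g v ≠ 0) → (f w ≠ 0 ∨ g w ≠ 0) →
      (f (v + w) ≠ 0 ∨ g (v + w) ≠ 0) → β (v + w) = β v + β w := by
    intro v w hv hw hvw
    by_cases hi : f v * g w - f w * g v ≠ 0
    · exact H1 v w hi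
    · have hi0 : f v * g w - f w * g v = 0 := not_not.mp hi
      obtain ⟨x, hx⟩ : ∃ x, f v * g x - f x * g v ≠ 0 := by
        by_cases hfv : f v = 0
        · refine ⟨e, ?_⟩
          have hgv : g v ≠ 0 := by tauto
          rw [hfe, hge, hfv]; simpa using hgv
        · refine ⟨c, ?_⟩
          rw [hfc, hgc]; simpa using hfv
      have hwx : f w * g x - f x * g w ≠ 0 := Q _ _ _ _ _ _ hi0 hx hw
      have hi1 : f v * g (v + w) - f (v + w) * g v = 0 := by
        rw [map_add, map_add]; linear_combination hi0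
      have hvwx : f (v + w) * g x - f x * g (v + w) ≠ 0 := Q _ _ _ _ _ _ hi1 hx hvw
      have e1 : β (v + x) = β v + β x := H1 v x hx
      have e2 : β (v + x + w) = β (v + x) + β w := H1 (v + x) w (by
        rw [map_add, map_add]
        intro h; apply hwx; linear_combination -h + hi0)
      have e3 : β (v + w + x) = β (v + w) + β x := H1 (v + w) x hvwx
      have e4 : v + x + w = v + w + x := by abel
      rw [e4, e3, e1] at e2
      have : β (v + w) + β x = (β v + β w) + β x := by rw [e2]; abel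
      exact add_right_cancel this
  have Dc : f c ≠ 0 ∨ g c ≠ 0 := Or.inr (by rw [hgc]; simp)
  have De : f e ≠ 0 ∨ g e ≠ 0 := Or.inl (by rw [hfe]; exact one_ne_zero)
  have nD : ∀ v, ¬ (f v ≠ 0 ∨ g v ≠ 0) → f v = 0 ∧ g v = 0 := by
    intro v hv
    simp only [not_or, not_not] at hv; exact hv
  have Dcongr : ∀ a b, f a = f b → g a = g b → (f a ≠ 0 ∨ g a ≠ 0) → (f b ≠ 0 ∨ g b ≠ 0) := by
    intro a b h1 h2' h; rw [← h1, ← h2']; exact h
  have Dvc : ∀ v, ¬ (f v ≠ 0 ∨ g v ≠ 0) → (f (v + c) ≠ 0 ∨ g (v + c) ≠ 0) := by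
    intro v hv
    obtain ⟨h1, h2'⟩ := nD v hv
    right; rw [map_add, h2', hgc]; simp
  have h2' : (-1 : ZMod p) + -1 ≠ 0 := by
    intro h; apply h2; linear_combination -h
  -- the mixed case
  have C3 : ∀ v w, (f v ≠ 0 ∨ g v ≠ 0) → ¬ (f w ≠ 0 ∨ g w ≠ 0) →
      β (v + w) + β c = β v + β (w + c) := by
    intro v w hv hw
    obtain ⟨hw1, hw2⟩ := nD w hw
    have Dvw : f (v + w) ≠ 0 ∨ g (v + w) ≠ 0 :=
      Dcongr v (v + w) (by rw [map_add, hw1, add_zero]) (by rw [map_add, hw2, add_zero]) hv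
    have Dwc := Dvc w hw
    by_cases hvc : f (v + c) ≠ 0 ∨ g (v + c) ≠ 0
    · have e1 : β (v + w + c) = β (v + w) + β c := A1 _ _ Dvw Dc
        (Dcongr (v + c) (v + w + c) (by simp only [map_add, hw1]; ring)
          (by simp only [map_add, hw2]; ring) hvc)
      have e2 : β (v + (w + c)) = β v + β (w + c) := A1 _ _ hv Dwc
        (Dcongr (v + c) (v + (w + c)) (by simp only [map_add, hw1]; ring)
          (by simp only [map_add, hw2]; ring) hvc)
      rw [← e1, ← e2, add_assoc]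
    · obtain ⟨h1, h3⟩ := nD _ hvc
      have fv : f v = 0 := by rw [map_add, hfc, add_zero] at h1; exact h1
      have gv : g v = 1 := by rw [map_add, hgc] at h3; linear_combination h3
      have d1 : f (v + w + e) ≠ 0 ∨ g (v + w + e) ≠ 0 := Or.inl (by
        simp only [map_add, fv, hw1, hfe]; simp)
      have d2 : f (v + w + e + c) ≠ 0 ∨ g (v + w + e + c) ≠ 0 := Or.inl (by
        simp only [map_add, fv, hw1, hfe, hfc]; simp)
      have d3 : f (v + e) ≠ 0 ∨ g (v + e) ≠ 0 := Or.inl (by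
        simp only [map_add, fv, hfe]; simp)
      have d4 : f (v + e + (w + c)) ≠ 0 ∨ g (v + e + (w + c)) ≠ 0 := Or.inl (by
        simp only [map_add, fv, hw1, hfe, hfc]; simp)
      have e1 : β (v + w + e) = β (v + w) + β e := A1 _ _ Dvw De d1
      have e2 : β (v + w + e + c) = β (v + w + e) + β c := A1 _ _ d1 Dc d2
      have e3 : β (v + e) = β v + β e := A1 _ _ hv De d3
      have e4 : β (v + e + (w + c)) = β (v + e) + β (w + c) := A1 _ _ d3 Dwc d4
      have e5 : v + e + (w + c) = v + w + e + c := by abel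
      rw [e5, e2, e1, e3] at e4
      have : (β (v + w) + β c) + β e = (β v + β (w + c)) + β e := by rw [← sub_eq_zero]; rw [← sub_eq_zero] at e4; rw [← e4]; abel
      exact add_right_cancel this
  -- definition of the extension
  let β0 : V → A := fun v => if (f v ≠ 0 ∨ g v ≠ 0) then β v else β (v + c) - β c
  have β0D : ∀ v, (f v ≠ 0 ∨ g v ≠ 0) → β0 v = β v := fun v hv => if_pos hv
  have β0N : ∀ v, ¬ (f v ≠ 0 ∨ g v ≠ 0) → β0 v = β (v + c) - β c := fun v hv => if_neg hv
  have hadd0 : ∀ v w, β0 (v + w) = β0 v + β0 w := by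
    intro v w
    by_cases hv : f v ≠ 0 ∨ g v ≠ 0
    · by_cases hw : f w ≠ 0 ∨ g w ≠ 0
      · by_cases hvw : f (v + w) ≠ 0 ∨ g (v + w) ≠ 0
        · rw [β0D _ hv, β0D _ hw, β0D _ hvw]; exact A1 v w hv hw hvw
        · rw [β0D _ hv, β0D _ hw, β0N _ hvw]
          obtain ⟨s1, s2⟩ := nD _ hvw
          rw [map_add] at s1 s2
          have Dvwc : f (v + w + c) ≠ 0 ∨ g (v + w + c) ≠ 0 := Dvc _ hvw
          by_cases hwc : f (w + c) ≠ 0 ∨ g (w + c) ≠ 0
          · have e1 : β (v + (w + c)) = β v + β (w + c) := A1 _ _ hv hwc (by rw [← add_assoc]; exact Dvwc)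
            have e2 : β (w + c) = β w + β c := A1 _ _ hw Dc hwc
            rw [add_assoc, e1, e2]; abel
          · obtain ⟨t1, t2⟩ := nD _ hwc
            rw [map_add] at t1 t2
            have hvc : f (v + c) ≠ 0 ∨ g (v + c) ≠ 0 := Or.inr (by
              rw [map_add, hgc]
              have : g v = -1 := by rw [hgc] at t2; linear_combination s2 - t2
              rw [this]; exact h2')
            have e1 : β (w + (v + c)) = β w + β (v + c) := A1 _ _ hw hvc (by
              have : w + (v + c) = v + w + c := by abel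
              rw [this]; exact Dvwc)
            have e2 : β (v + c) = β v + β c := A1 _ _ hv Dc hvc
            have : v + w + c = w + (v + c) := by abel
            rw [this, e1, e2]; abel
      · have hvw : f (v + w) ≠ 0 ∨ g (v + w) ≠ 0 :=
          Dcongr v (v + w) (by rw [map_add, (nD w hw).1, add_zero])
            (by rw [map_add, (nD w hw).2, add_zero]) hv
        rw [β0D _ hv, β0N _ hw, β0D _ hvw]
        have := C3 v w hv hw
        rw [← sub_eq_zero]; rw [← sub_eq_zero] at this; rw [← this]; abel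
    · by_cases hw : f w ≠ 0 ∨ g w ≠ 0
      · have hvw : f (v + w) ≠ 0 ∨ g (v + w) ≠ 0 :=
          Dcongr w (v + w) (by rw [map_add, (nD v hv).1, zero_add])
            (by rw [map_add, (nD v hv).2, zero_add]) hw
        rw [β0N _ hv, β0D _ hw, β0D _ hvw]
        have := C3 w v hw hv
        rw [add_comm w v] at this
        rw [← sub_eq_zero]; rw [← sub_eq_zero] at this; rw [← this]; abel
      · obtain ⟨v1, v2⟩ := nD v hv
        obtain ⟨w1, w2⟩ := nD w hw
        have hvw : ¬ (f (v + w) ≠ 0 ∨ g (v + w) ≠ 0) := by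
          simp only [map_add, v1, v2, w1, w2, add_zero, ne_eq, not_true_eq_false, or_self,
            not_false_eq_true]
        rw [β0N _ hv, β0N _ hw, β0N _ hvw]
        have d1 : f (v + c + (w + c)) ≠ 0 ∨ g (v + c + (w + c)) ≠ 0 := Or.inr (by
          simp only [map_add, v2, w2, hgc, zero_add]; exact h2')
        have e1 : β (v + c + (w + c)) = β (v + c) + β (w + c) := A1 _ _ (Dvc v hv) (Dvc w hw) d1
        have e2 : β (v + w + c + c) = β (v + w + c) + β c := A1 _ _ (Dvc _ hvw) Dc (by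
          have : v + w + c + c = v + c + (w + c) := by abel
          rw [this]; exact d1)
        have e3 : v + c + (w + c) = v + w + c + c := by abel
        rw [e3, e2] at e1
        rw [← sub_eq_zero]; rw [← sub_eq_zero] at e1; rw [← e1]; abel
  refine ⟨(AddMonoidHom.mk' β0 hadd0).toZModLinearMap p, ?_⟩
  intro v hv
  exact β0D v hv

/-- PIECE SYSB2. -/
theorem sysB_form (hp : p ≠ 2) [Finite V] {T : Set (V × Module.Dual (ZMod p) V)}
    (hT : TSys T)
    (hB1 : ∀ c φ ψ, (c, φ) ∈ T → (c, ψ) ∈ T → ∃ a : ZMod p, ψ = a • φ)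
    (hB2 : ∀ c d φ, (c, φ) ∈ T → (d, φ) ∈ T → ∃ a : ZMod p, d = a • c)
    (hall : ∀ v : V, v ≠ 0 → ∃ φ, (v, φ) ∈ T)
    (hadd : ∀ c d φ ψ χ, (c, φ) ∈ T → (d, ψ) ∈ T → (c + d, χ) ∈ T →
      ∃ a b : ZMod p, χ = a • φ + b • ψ) :
    ∃ B : LinearMap.BilinForm (ZMod p) V, B.IsAlt ∧ B.Nondegenerate ∧
      ∀ c φ, (c, φ) ∈ T ↔ c ≠ 0 ∧ ∃ a : ZMod p, a ≠ 0 ∧ φ = a • B c := by
  classical
  have h2 : (2 : ZMod p) ≠ 0 := by
    intro h
    have h' : ((2 : ℕ) : ZMod p) = 0 := by exact_mod_cast h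
    rw [ZMod.natCast_eq_zero_iff] at h'
    have hpp : p.Prime := Fact.out
    rcases (Nat.dvd_prime Nat.prime_two).mp h' with h1 | h1
    · exact hpp.one_lt.ne' h1
    · exact hp h1
  have T3 : ∀ c φ d ψ, (c, φ) ∈ T → (d, ψ) ∈ T → φ d ≠ 0 → ψ c = 0 → (c, ψ) ∈ T := by
    intro c φ d ψ h1 h2' h3 h4
    have e1 := hT.conj c φ d ψ h1 h2'
    rw [h4, zero_smul, sub_zero] at e1
    have e2 := hT.smul_left d ψ h2' (-1) (by simp)
    have e5 : d + φ d • c + (-1 : ZMod p) • d = φ d • c := by simp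
    have e3 := hT.add_left _ _ ψ e1 e2 (by
      rw [e5]; exact smul_ne_zero h3 (hT.ne c φ h1).1)
    rw [e5] at e3
    have e4 := hT.smul_left _ ψ e3 (φ d)⁻¹ (inv_ne_zero h3)
    rwa [smul_smul, inv_mul_cancel₀ h3, one_smul] at e4
  have S : ∀ c φ d ψ, (c, φ) ∈ T → (d, ψ) ∈ T → φ d = 0 → ψ c = 0 := by
    intro c φ d ψ h1 h2' h3
    by_contra h4
    have e1 := T3 d ψ c φ h2' h1 h4 h3
    obtain ⟨a, ha⟩ := hB1 d ψ φ h2' e1
    have e2 : φ c = 0 := (hT.ne c φ h1).2.2
    rw [ha] at e2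
    simp only [LinearMap.smul_apply, smul_eq_mul] at e2
    have ha0 : a = 0 := (mul_eq_zero.mp e2).resolve_right h4
    rw [ha0, zero_smul] at ha
    exact (hT.ne c φ h1).2.1 ha
  by_cases hV : ∀ v : V, v = 0
  · refine ⟨0, ?_, ?_, ?_⟩
    · intro x; simp
    · exact ⟨fun x _ => hV x, fun x _ => hV x⟩
    · intro c φ; constructor
      · intro h; exact absurd (hV c) (hT.ne c φ h).1
      · rintro ⟨h, _⟩; exact absurd (hV c) h
  obtain ⟨c, hc⟩ := not_forall.mp hV
  obtain ⟨φ, hcφ⟩ := hall c hc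
  have hφ := hT.ne c φ hcφ
  obtain ⟨e0, he0⟩ : ∃ e0, φ e0 ≠ 0 := by
    by_contra h
    apply hφ.2.1
    ext x
    by_contra hx
    exact h ⟨x, hx⟩
  have hφe : φ ((φ e0)⁻¹ • e0) = 1 := by rw [map_smul, smul_eq_mul, inv_mul_cancel₀ he0]
  generalize (φ e0)⁻¹ • e0 = e at hφe
  have hene : e ≠ 0 := by
    intro h; rw [h, map_zero] at hφe; exact zero_ne_one hφe
  obtain ⟨χ0, heχ0⟩ := hall e hene
  have hχ0c : χ0 c ≠ 0 := by
    intro h
    have := S e χ0 c φ heχ0 hcφ h
    rw [hφe] at this; exact one_ne_zero this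
  have heχ : (e, (-(χ0 c)⁻¹) • χ0) ∈ T :=
    hT.smul_right e χ0 heχ0 _ (neg_ne_zero.mpr (inv_ne_zero hχ0c))
  have hχc : ((-(χ0 c)⁻¹) • χ0) c = -1 := by
    rw [LinearMap.smul_apply, smul_eq_mul, neg_mul, inv_mul_cancel₀ hχ0c]
  generalize (-(χ0 c)⁻¹) • χ0 = χ at heχ hχc
  have hχe : χ e = 0 := (hT.ne e χ heχ).2.2
  have hφc : φ c = 0 := hφ.2.2
  have R : ∀ v ψ, (v, ψ) ∈ T → φ v * ψ e = χ v * ψ c := by
    intro v ψ hv
    by_cases h1 : φ v = 0
    · rw [h1, S c φ v ψ hcφ hv h1]; ring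
    by_cases h2' : χ v = 0
    · rw [h2', S e χ v ψ heχ hv h2']; ring
    have hx1 : (χ v • c, φ) ∈ T := hT.smul_left c φ hcφ _ h2'
    have hx2 : ((-φ v) • e, χ) ∈ T := hT.smul_left e χ heχ _ (neg_ne_zero.mpr h1)
    have hxne : χ v • c + (-φ v) • e ≠ 0 := by
      intro h
      have := congrArg φ h
      rw [map_add, map_smul, map_smul, hφc, hφe, map_zero] at this
      simp only [smul_eq_mul, mul_zero, mul_one, zero_add, neg_eq_zero] at this
      exact h1 this
    obtain ⟨ψx, hψx⟩ := hall _ hxne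
    obtain ⟨a, b, hab⟩ := hadd _ _ φ χ ψx hx1 hx2 hψx
    have e1 : ψx (χ v • c + (-φ v) • e) = 0 := (hT.ne _ _ hψx).2.2
    rw [hab] at e1
    simp only [LinearMap.add_apply, LinearMap.smul_apply, map_add, map_smul, smul_eq_mul, hφc,
      hφe, hχc, hχe] at e1
    have e2 : ψx v = 0 := by
      rw [hab]
      simp only [LinearMap.add_apply, LinearMap.smul_apply, smul_eq_mul]
      linear_combination -e1
    have e3 := S _ ψx v ψ hψx hv e2
    rw [map_add, map_smul, map_smul, smul_eq_mul, smul_eq_mul] at e3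
    linear_combination -e3
  have exβ : ∀ v, (φ v ≠ 0 ∨ χ v ≠ 0) → ∃ ψ, (v, ψ) ∈ T ∧ ψ c = - φ v ∧ ψ e = - χ v := by
    intro v hv
    have hvne : v ≠ 0 := by
      rintro rfl; simp at hv
    obtain ⟨ψ0, hψ0⟩ := hall v hvne
    have r := R v ψ0 hψ0
    by_cases h1 : φ v = 0
    · have h2' : χ v ≠ 0 := by tauto
      have hc0 : ψ0 c = 0 := S c φ v ψ0 hcφ hψ0 h1
      have he0' : ψ0 e ≠ 0 := by
        intro h
        exact h2' (S v ψ0 e χ hψ0 heχ h)
      refine ⟨(-χ v / ψ0 e) • ψ0,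
        hT.smul_right v ψ0 hψ0 _ (div_ne_zero (neg_ne_zero.mpr h2') he0'), ?_, ?_⟩
      · rw [LinearMap.smul_apply, hc0, h1]; simp
      · rw [LinearMap.smul_apply, smul_eq_mul, div_mul_cancel₀ _ he0']
    · have hc0 : ψ0 c ≠ 0 := by
        intro h
        exact h1 (S v ψ0 c φ hψ0 hcφ h)
      refine ⟨(-φ v / ψ0 c) • ψ0,
        hT.smul_right v ψ0 hψ0 _ (div_ne_zero (neg_ne_zero.mpr h1) hc0), ?_, ?_⟩
      · rw [LinearMap.smul_apply, smul_eq_mul, div_mul_cancel₀ _ hc0]
      · rw [LinearMap.smul_apply, smul_eq_mul, div_mul_eq_mul_div, div_eq_iff hc0]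
        linear_combination -r
  choose! β hβ using exβ
  have H1 : ∀ v w, φ v * χ w - φ w * χ v ≠ 0 → β (v + w) = β v + β w := by
    intro v w hi
    have hv : φ v ≠ 0 ∨ χ v ≠ 0 := by
      by_contra h; simp only [not_or, not_not] at h; apply hi; rw [h.1, h.2]; ring
    have hw : φ w ≠ 0 ∨ χ w ≠ 0 := by
      by_contra h; simp only [not_or, not_not] at h; apply hi; rw [h.1, h.2]; ring
    have hvw : φ (v + w) ≠ 0 ∨ χ (v + w) ≠ 0 := by
      by_contra h; simp only [not_or, not_not, map_add] at h; apply hi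
      linear_combination χ w * h.1 - φ w * h.2
    obtain ⟨hv1, hv2, hv3⟩ := hβ v hv
    obtain ⟨hw1, hw2, hw3⟩ := hβ w hw
    obtain ⟨hs1, hs2, hs3⟩ := hβ (v + w) hvw
    obtain ⟨a, b, hab⟩ := hadd v w _ _ _ hv1 hw1 hs1
    have ec := hs2
    have ee := hs3
    rw [hab] at ec ee
    simp only [LinearMap.add_apply, LinearMap.smul_apply, smul_eq_mul, hv2, hv3, hw2, hw3,
      map_add] at ec ee
    have ha : a = 1 := by
      have : (a - 1) * (φ v * χ w - φ w * χ v) = 0 := by
        linear_combination (-χ w) * ec + φ w * ee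
      have := (mul_eq_zero.mp this).resolve_right hi
      linear_combination this
    have hb : b = 1 := by
      have : (b - 1) * (φ v * χ w - φ w * χ v) = 0 := by
        linear_combination χ v * ec - φ v * ee
      have := (mul_eq_zero.mp this).resolve_right hi
      linear_combination this
    rw [hab, ha, hb, one_smul, one_smul]
  obtain ⟨β', hβ'⟩ := h45_ext h2 φ χ β c e hφc hχc hφe hχe H1
  have ax : ∀ v, v ≠ 0 → (v, β' v) ∈ T := by
    intro v hv
    by_cases hD : φ v ≠ 0 ∨ χ v ≠ 0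
    · rw [hβ' v hD]; exact (hβ v hD).1
    · simp only [not_or, not_not] at hD
      obtain ⟨ψ, hψ⟩ := hall v hv
      have De : φ e ≠ 0 ∨ χ e ≠ 0 := Or.inl (by rw [hφe]; exact one_ne_zero)
      have Dve : φ (v + e) ≠ 0 ∨ χ (v + e) ≠ 0 :=
        Or.inl (by rw [map_add, hD.1, hφe, zero_add]; exact one_ne_zero)
      obtain ⟨he1, he2, he3⟩ := hβ e De
      obtain ⟨hs1, hs2, hs3⟩ := hβ (v + e) Dve
      obtain ⟨a, b, hab⟩ := hadd v e ψ (β e) (β (v + e)) hψ he1 hs1
      have hψc : ψ c = 0 := S c φ v ψ hcφ hψ hD.1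
      have hb : b = 1 := by
        have := hs2
        rw [hab] at this
        simp only [LinearMap.add_apply, LinearMap.smul_apply, smul_eq_mul, hψc, he2, map_add,
          hD.1, hφe] at this
        linear_combination -this
      have hβv : β' v = a • ψ := by
        have e1 : β' (v + e) = β' v + β' e := map_add _ _ _
        rw [hβ' _ Dve, hβ' _ De, hab, hb, one_smul] at e1
        exact (add_right_cancel e1).symm
      have ha : a ≠ 0 := by
        rintro rfl
        rw [zero_smul, zero_add, hb, one_smul] at hab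
        rw [hab] at hs1
        obtain ⟨s, hs⟩ := hB2 e (v + e) (β e) he1 hs1
        have : φ (v + e) = φ (s • e) := by rw [hs]
        rw [map_add, map_smul, hD.1, hφe, smul_eq_mul, mul_one, zero_add] at this
        rw [← this, one_smul] at hs
        exact hv (by simpa using hs)
      rw [hβv]; exact hT.smul_right v ψ hψ a ha
  have alt : ∀ v, β' v v = 0 := by
    intro v
    by_cases hv : v = 0
    · rw [hv]; simp
    · exact (hT.ne _ _ (ax v hv)).2.2
  have skew : ∀ v w, β' v w = - β' w v := by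
    intro v w
    have h := alt (v + w)
    have e1 : β' (v + w) (v + w) = β' v v + β' v w + (β' w v + β' w w) := by
      rw [map_add β' v w, LinearMap.add_apply, map_add, map_add]
    rw [e1, alt v, alt w] at h
    linear_combination h
  have sepL : ∀ v, (∀ w, β' v w = 0) → v = 0 := by
    intro v h
    by_contra hv
    apply (hT.ne _ _ (ax v hv)).2.1
    ext w; exact h w
  refine ⟨β', alt, ⟨sepL, ?_⟩, ?_⟩
  · intro v h
    apply sepL
    intro w
    rw [skew, h w, neg_zero]
  · intro c' φ'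
    constructor
    · intro h
      have hc' := (hT.ne _ _ h).1
      obtain ⟨a, ha⟩ := hB1 c' (β' c') φ' (ax c' hc') h
      refine ⟨hc', a, ?_, ha⟩
      rintro rfl
      rw [zero_smul] at ha
      exact (hT.ne _ _ h).2.1 ha
    · rintro ⟨hc', a, ha, rfl⟩
      exact hT.smul_right c' _ (ax c' hc') a ha

end Cfsg.Agent.Lib.helper45.McL
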