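import Mathlib
import Cfsg.Agent.Lib.helper45.OEven

/-! The numbers of classes of elements of odd prime order `r ≠ p` in `O^±_{2m}(q)`. -/

set_option autoImplicit false
set_option linter.unusedSectionVars false
set_option linter.style.haveILetI false

namespace Cfsg.Agent.Lib.helper45

open Polynomial Cfsg

universe u

section shift

variable {K : Type*} [Field K]

theorem sdPolys_mul_X_sub_one {r : ℕ} {σ : K →+* K} {n : ℕ} {g : K[X]}
    (hg : g ∈ sdPolys r σ n) :
    (X - C 1) * g ∈ sdPolys r σ (n + 1) ∧ ((X - C 1) * g).eval 1 = 0 := by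
  obtain ⟨h1, h2, h3, k, hk⟩ := hg
  have hXd : (X - C 1 : K[X]) ∣ X ^ r - 1 := by
    rw [C_1]
    simpa using sub_dvd_pow_sub_pow (X : K[X]) 1 r
  refine ⟨⟨(monic_X_sub_C 1).mul h1, ?_, ?_, k + 1, ?_⟩, ?_⟩
  · rw [(monic_X_sub_C (1 : K)).natDegree_mul h1, natDegree_X_sub_C, h2, add_comm]
  · rw [tdual_mul, tdual_X_sub_one, h3]
  · rw [pow_succ']
    exact mul_dvd_mul hXd hk
  · simp

theorem sdPolys_of_mul_X_sub_one {r : ℕ} {σ : K →+* K} {n : ℕ} {g : K[X]}
    (h : (X - C 1) * g ∈ sdPolys r σ (n + 1)) : g ∈ sdPolys r σ n := by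
  obtain ⟨h1, h2, h3, k, hk⟩ := h
  have hX : (X - C 1 : K[X]) ≠ 0 := X_sub_C_ne_zero 1
  have hg : g.Monic := (monic_X_sub_C (1 : K)).of_mul_monic_left h1
  refine ⟨hg, ?_, ?_, k, (Dvd.intro_left _ rfl).trans hk⟩
  · rw [(monic_X_sub_C (1 : K)).natDegree_mul hg, natDegree_X_sub_C] at h2
    omega
  · rw [tdual_mul, tdual_X_sub_one] at h3
    exact mul_left_cancel₀ hX h3

theorem card_sdPolys_root_one (r : ℕ) (σ : K →+* K) (n : ℕ) :
    Nat.card {f : K[X] // f ∈ sdPolys r σ (n + 1) ∧ f.eval 1 = 0}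
      = Nat.card (sdPolys r σ n) := by
  symm
  have hX : (X - C 1 : K[X]) ≠ 0 := X_sub_C_ne_zero 1
  apply Nat.card_eq_of_bijective (fun g : sdPolys r σ n =>
    (⟨(X - C 1) * g.1, sdPolys_mul_X_sub_one g.2⟩ :
      {f : K[X] // f ∈ sdPolys r σ (n + 1) ∧ f.eval 1 = 0}))
  constructor
  · intro g g' h
    have h1 : (X - C 1) * g.1 = (X - C 1) * g'.1 := congrArg Subtype.val h
    exact Subtype.ext (mul_left_cancel₀ hX h1)
  · rintro ⟨f, hf, hf1⟩
    obtain ⟨g, rfl⟩ : (X - C 1 : K[X]) ∣ f := dvd_iff_isRoot.mpr hf1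
    exact ⟨⟨g, sdPolys_of_mul_X_sub_one hf⟩, rfl⟩

end shift

theorem card_evenSet {F : Type u} [Field F] [Fintype F] (r n m : ℕ) (hn : 2 * m = n + 1) (ε : ℤ) :
    Nat.card (evenSet r F m ε)
      = if ((ε * (Fintype.card F : ℤ) ^ m : ℤ) : ZMod r) = 1
        then Nat.card (sdPolys r (RingHom.id F) (2 * m))
        else Nat.card (sdPolys r (RingHom.id F) n) := by
  by_cases hP : ((ε * (Fintype.card F : ℤ) ^ m : ℤ) : ZMod r) = 1
  · rw [if_pos hP]
    apply Nat.card_congr
    exact Equiv.subtypeEquivRight (fun f => ⟨fun h => h.1, fun h => ⟨h, fun _ => hP⟩⟩)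
  · rw [if_neg hP, ← card_sdPolys_root_one r (RingHom.id F) n]
    apply Nat.card_congr
    refine Equiv.subtypeEquivRight (fun f => ?_)
    show f ∈ sdPolys r (RingHom.id F) (2 * m) ∧
        (f.eval 1 ≠ 0 → ((ε * (Fintype.card F : ℤ) ^ m : ℤ) : ZMod r) = 1)
      ↔ f ∈ sdPolys r (RingHom.id F) (n + 1) ∧ f.eval 1 = 0
    rw [hn]
    exact ⟨fun h => ⟨h.1, by_contra fun h1 => hP (h.2 h1)⟩, fun h => ⟨h.1, fun h1 => absurd h.2 h1⟩⟩

theorem choose_pascal_sub (K t : ℕ) (hK : 1 ≤ K) (ht : 1 ≤ t) :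
    Nat.choose (K - 1 + t) t - 1 = Nat.choose (K + t) t - 1 - Nat.choose (K + t - 1) (t - 1) := by
  have h := Nat.choose_succ_succ' (K + t - 1) (t - 1)
  rw [show K + t - 1 + 1 = K + t by omega, show t - 1 + 1 = t by omega] at h
  rw [show K - 1 + t = K + t - 1 by omega, h]
  omega

theorem pred_div_of_dvd (a i : ℕ) (h : i ∣ a + 1) : a / i = (a + 1) / i - 1 := by
  have h1 := @Nat.succ_div a i
  rw [if_pos h] at h1
  rw [h1, Nat.add_sub_cancel]

theorem pred_div_of_not_dvd (a i : ℕ) (h : ¬ i ∣ a + 1) : a / i = (a + 1) / i := by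
  have h1 := @Nat.succ_div a i
  rw [if_neg h] at h1
  rw [h1, add_zero]

/-- the number of classes of elements of odd prime order `r ≠ p` in `O^+_{2m}(q)` -/
theorem oplus_prime_order_count {F : Type u} [Field F] [Fintype F] {p q : ℕ} [Fact p.Prime]
    [CharP F p] (hF : Fintype.card F = q) (m r i t : ℕ) (hm : 1 ≤ m) (hr : r.Prime) (hr2 : r ≠ 2)
    (hrp : r ≠ p) (hi : i = orderOf (q : ZMod r)) (ht : t * i = r - 1) :
    Nat.card {C : ConjClasses ↥(Cfsg.isometryGroup F (Cfsg.quadFormPlus m F)) //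
        ∃ g : ↥(Cfsg.isometryGroup F (Cfsg.quadFormPlus m F)), ConjClasses.mk g = C ∧ orderOf g = r}
      = if Odd i then Nat.choose (m / i + t / 2) (t / 2) - 1
        else Nat.choose (2 * m / i + t) t - 1
          - (if i ∣ 2 * m ∧ Odd (2 * m / i) then Nat.choose (2 * m / i + t - 1) (t - 1) else 0) := by
  haveI : Fact r.Prime := ⟨hr⟩
  rw [oplus_classes p hrp hr2 m]
  obtain ⟨n, hn⟩ : ∃ n, 2 * m = n + 1 := ⟨2 * m - 1, by omega⟩
  rw [card_evenSet r n m hn 1]
  have hσ := id_frob p (F := F)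
  have hneg := zmod_neg_one_ne_one (r := r) hr2
  have hd : orderOf ((Fintype.card F : ℕ) : ZMod r) = i := by rw [hF, hi]
  have hdpos : 0 < orderOf ((Fintype.card F : ℕ) : ZMod r) :=
    (card_field_isOfFinOrder p hrp).orderOf_pos
  have hipos : 0 < i := hd ▸ hdpos
  have htdiv : (r - 1) / i = t := Nat.div_eq_of_eq_mul_left hipos ht.symm
  have hcast : ((p ^ 0 : ℕ) : ZMod r) = 1 := by simp
  have htpos : 1 ≤ t := by
    have h2 := hr.two_le
    rcases Nat.eq_zero_or_pos t with h | h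
    · rw [h] at ht
      omega
    · exact h
  have hP : (((1 : ℤ) * (Fintype.card F : ℤ) ^ m : ℤ) : ZMod r) = 1 ↔ i ∣ m := by
    rw [one_mul]
    push_cast
    rw [← hd]
    exact (orderOf_dvd_iff_pow_eq_one).symm
  by_cases hodd : Odd i
  · rw [if_pos hodd]
    have hfree : ¬ ∃ k : ℕ, (-((p ^ 0 : ℕ) : ZMod r)) = ((Fintype.card F : ℕ) : ZMod r) ^ k := by
      rintro ⟨k, hk⟩
      rw [hcast] at hk
      have h1 := even_order_of_pow_eq_neg_one hneg hk.symm
      rw [hd] at h1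
      exact (Nat.not_even_iff_odd.mpr hodd) h1
    rw [card_sdPolys_free p hrp (RingHom.id F) 0 hσ (fun x => rfl) (2 * m) hfree,
      card_sdPolys_free p hrp (RingHom.id F) 0 hσ (fun x => rfl) n hfree, hd, htdiv,
      Nat.mul_div_mul_left _ _ (by norm_num : 0 < 2)]
    by_cases hPm : i ∣ m
    · rw [if_pos (hP.mpr hPm)]
    · rw [if_neg (fun h => hPm (hP.mp h))]
      obtain ⟨m', rfl⟩ : ∃ m', m = m' + 1 := ⟨m - 1, by omega⟩
      have hn' : n = 2 * m' + 1 := by omega
      rw [hn', odd_div_two_mul, pred_div_of_not_dvd m' i hPm]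
  · rw [if_neg hodd]
    have heven : Even i := Nat.not_odd_iff_even.mp hodd
    have htriv : ∃ k : ℕ, (-((p ^ 0 : ℕ) : ZMod r)) = ((Fintype.card F : ℕ) : ZMod r) ^ k := by
      refine ⟨orderOf ((Fintype.card F : ℕ) : ZMod r) / 2, ?_⟩
      rw [hcast]
      exact (pow_half_order_eq_neg_one hdpos (hd.symm ▸ heven)).symm
    rw [card_sdPolys_triv p hrp (RingHom.id F) 0 hσ (2 * m) htriv,
      card_sdPolys_triv p hrp (RingHom.id F) 0 hσ n htriv, hd, htdiv]
    by_cases hPm : i ∣ m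
    · rw [if_pos (hP.mpr hPm)]
      have hnot : ¬ (i ∣ 2 * m ∧ Odd (2 * m / i)) := by
        rintro ⟨-, ho⟩
        obtain ⟨k, rfl⟩ := hPm
        rw [show 2 * (i * k) = i * (2 * k) by ring, Nat.mul_div_cancel_left _ hipos] at ho
        exact (Nat.not_odd_iff_even.mpr (even_two_mul k)) ho
      rw [if_neg hnot, Nat.sub_zero]
    · rw [if_neg (fun h => hPm (hP.mp h))]
      by_cases h2 : i ∣ 2 * m
      · have hKodd : Odd (2 * m / i) := by
          rw [← Nat.not_even_iff_odd]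
          rintro ⟨K', hK'⟩
          apply hPm
          refine ⟨K', ?_⟩
          have h3 : 2 * m = i * (2 * m / i) := (Nat.mul_div_cancel' h2).symm
          rw [hK'] at h3
          nlinarith
        have hK1 : 1 ≤ 2 * m / i := hKodd.pos
        rw [if_pos ⟨h2, hKodd⟩]
        have hni : n / i = 2 * m / i - 1 := by
          rw [hn]
          exact pred_div_of_dvd n i (hn ▸ h2)
        rw [hni]
        exact choose_pascal_sub _ t hK1 htpos
      · rw [if_neg (fun h => h2 h.1), Nat.sub_zero]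
        have hni : n / i = 2 * m / i := by
          rw [hn]
          exact pred_div_of_not_dvd n i (hn ▸ h2)
        rw [hni]

/-- the number of classes of elements of odd prime order `r ≠ p` in `O^-_{2m}(q)` -/
theorem ominus_prime_order_count {F : Type u} [Field F] [Fintype F] {p q : ℕ} [Fact p.Prime]
    [CharP F p] (hF : Fintype.card F = q) (m r i t : ℕ) (hm : 1 ≤ m) (a c : F)
    (hac : ∀ z₁ z₂ : F, z₁ ^ 2 + a * z₁ * z₂ + c * z₂ ^ 2 = 0 → z₁ = 0 ∧ z₂ = 0)
    (hr : r.Prime) (hr2 : r ≠ 2) (hrp : r ≠ p) (hi : i = orderOf (q : ZMod r))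
    (ht : t * i = r - 1) :
    Nat.card {C : ConjClasses ↥(Cfsg.isometryGroup F (Cfsg.quadFormMinus (m - 1) F a c)) //
        ∃ g : ↥(Cfsg.isometryGroup F (Cfsg.quadFormMinus (m - 1) F a c)),
          ConjClasses.mk g = C ∧ orderOf g = r}
      = if Odd i then Nat.choose (m / i + t / 2) (t / 2) - 1
          - (if i ∣ m then Nat.choose (m / i + t / 2 - 1) (t / 2 - 1) else 0)
        else Nat.choose (2 * m / i + t) t - 1
          - (if i ∣ 2 * m ∧ Even (2 * m / i) then Nat.choose (2 * m / i + t - 1) (t - 1)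
            else 0) := by
  haveI : Fact r.Prime := ⟨hr⟩
  obtain ⟨k, rfl⟩ : ∃ k, m = k + 1 := ⟨m - 1, by omega⟩
  have ek : k + 1 - 1 = k := by omega
  rw [ek, ominus_classes p hrp hr2 k a c hac]
  obtain ⟨n, hn⟩ : ∃ n, 2 * (k + 1) = n + 1 := ⟨2 * k + 1, by omega⟩
  rw [card_evenSet r n (k + 1) hn (-1)]
  have hσ := id_frob p (F := F)
  have hneg := zmod_neg_one_ne_one (r := r) hr2
  have hd : orderOf ((Fintype.card F : ℕ) : ZMod r) = i := by rw [hF, hi]
  have hdpos : 0 < orderOf ((Fintype.card F : ℕ) : ZMod r) :=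
    (card_field_isOfFinOrder p hrp).orderOf_pos
  have hipos : 0 < i := hd ▸ hdpos
  have htdiv : (r - 1) / i = t := Nat.div_eq_of_eq_mul_left hipos ht.symm
  have hcast : ((p ^ 0 : ℕ) : ZMod r) = 1 := by simp
  have htpos : 1 ≤ t := by
    have h2 := hr.two_le
    rcases Nat.eq_zero_or_pos t with h | h
    · rw [h] at ht
      omega
    · exact h
  have hP : (((-1 : ℤ) * (Fintype.card F : ℤ) ^ (k + 1) : ℤ) : ZMod r) = 1
      ↔ ((Fintype.card F : ℕ) : ZMod r) ^ (k + 1) = -1 := by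
    push_cast
    rw [neg_one_mul, neg_eq_iff_eq_neg]
  have hpow1 : ∀ j : ℕ, ((Fintype.card F : ℕ) : ZMod r) ^ j = 1 ↔ i ∣ j := by
    intro j
    rw [← hd]
    exact (orderOf_dvd_iff_pow_eq_one).symm
  by_cases hodd : Odd i
  · rw [if_pos hodd]
    have hfree : ¬ ∃ k : ℕ, (-((p ^ 0 : ℕ) : ZMod r)) = ((Fintype.card F : ℕ) : ZMod r) ^ k := by
      rintro ⟨k, hk⟩
      rw [hcast] at hk
      have h1 := even_order_of_pow_eq_neg_one hneg hk.symm
      rw [hd] at h1
      exact (Nat.not_even_iff_odd.mpr hodd) h1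
    have hnP : ¬ (((-1 : ℤ) * (Fintype.card F : ℤ) ^ (k + 1) : ℤ) : ZMod r) = 1 := by
      intro h
      have h1 := even_order_of_pow_eq_neg_one hneg (hP.mp h)
      rw [hd] at h1
      exact (Nat.not_even_iff_odd.mpr hodd) h1
    rw [if_neg hnP, card_sdPolys_free p hrp (RingHom.id F) 0 hσ (fun x => rfl) n hfree, hd, htdiv]
    have hn' : n = 2 * k + 1 := by omega
    rw [hn', odd_div_two_mul]
    have hteven : Even t := by
      have h1 : Even (t * i) := by
        rw [ht]
        have := hr.odd_of_ne_two hr2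
        obtain ⟨e, he⟩ := this
        exact ⟨e, by omega⟩
      rcases Nat.even_mul.mp h1 with h | h
      · exact h
      · exact absurd h (Nat.not_even_iff_odd.mpr hodd)
    have ht2 : 1 ≤ t / 2 := by
      obtain ⟨e, he⟩ := hteven
      omega
    by_cases hPm : i ∣ k + 1
    · rw [if_pos hPm, pred_div_of_dvd k i hPm]
      have hK1 : 1 ≤ (k + 1) / i := Nat.div_pos (Nat.le_of_dvd (by omega) hPm) hipos
      exact choose_pascal_sub _ (t / 2) hK1 ht2
    · rw [if_neg hPm, Nat.sub_zero, pred_div_of_not_dvd k i hPm]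
  · rw [if_neg hodd]
    have heven : Even i := Nat.not_odd_iff_even.mp hodd
    have hhalf : ((Fintype.card F : ℕ) : ZMod r) ^ (i / 2) = -1 := by
      have := pow_half_order_eq_neg_one hdpos (hd.symm ▸ heven)
      rw [hd] at this
      exact this
    have htriv : ∃ k : ℕ, (-((p ^ 0 : ℕ) : ZMod r)) = ((Fintype.card F : ℕ) : ZMod r) ^ k := by
      refine ⟨i / 2, ?_⟩
      rw [hcast]
      exact hhalf.symm
    rw [card_sdPolys_triv p hrp (RingHom.id F) 0 hσ (2 * (k + 1)) htriv,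
      card_sdPolys_triv p hrp (RingHom.id F) 0 hσ n htriv, hd, htdiv]
    by_cases hc : i ∣ 2 * (k + 1) ∧ Odd (2 * (k + 1) / i)
    · obtain ⟨h2, hKodd⟩ := hc
      have hPtrue : (((-1 : ℤ) * (Fintype.card F : ℤ) ^ (k + 1) : ℤ) : ZMod r) = 1 := by
        rw [hP]
        obtain ⟨K, hK⟩ : ∃ K, K = 2 * (k + 1) / i := ⟨_, rfl⟩
        rw [← hK] at hKodd
        have h3 : 2 * (k + 1) = i * K := by
          rw [hK]
          exact (Nat.mul_div_cancel' h2).symm
        have h4 : k + 1 = i / 2 * K := by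
          obtain ⟨i', hi'⟩ := heven
          have h5 : i / 2 = i' := by omega
          rw [h5]
          rw [hi'] at h3
          have h6 : (i' + i') * K = 2 * (i' * K) := by ring
          omega
        rw [h4, pow_mul, hhalf, hKodd.neg_one_pow]
      rw [if_pos hPtrue]
      have hnot : ¬ (i ∣ 2 * (k + 1) ∧ Even (2 * (k + 1) / i)) := by
        rintro ⟨-, he⟩
        exact (Nat.not_even_iff_odd.mpr hKodd) he
      rw [if_neg hnot, Nat.sub_zero]
    · have hnP : ¬ (((-1 : ℤ) * (Fintype.card F : ℤ) ^ (k + 1) : ℤ) : ZMod r) = 1 := by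
        intro h
        have h1 := hP.mp h
        have h2 : i ∣ 2 * (k + 1) := by
          rw [← hpow1, mul_comm, pow_mul, h1]
          norm_num
        apply hc
        refine ⟨h2, ?_⟩
        rw [← Nat.not_even_iff_odd]
        rintro ⟨K', hK'⟩
        have h3 : 2 * (k + 1) = i * (2 * (k + 1) / i) := (Nat.mul_div_cancel' h2).symm
        rw [hK'] at h3
        have h4 : i ∣ k + 1 := ⟨K', by nlinarith⟩
        rw [(hpow1 (k + 1)).mpr h4] at h1
        exact hneg h1.symm
      rw [if_neg hnP]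
      by_cases h2 : i ∣ 2 * (k + 1)
      · have hKeven : Even (2 * (k + 1) / i) := by
          rw [← Nat.not_odd_iff_even]
          intro ho
          exact hc ⟨h2, ho⟩
        have hK1 : 1 ≤ 2 * (k + 1) / i := Nat.div_pos (Nat.le_of_dvd (by omega) h2) hipos
        rw [if_pos ⟨h2, hKeven⟩]
        have hni : n / i = 2 * (k + 1) / i - 1 := by
          rw [hn]
          exact pred_div_of_dvd n i (hn ▸ h2)
        rw [hni]
        exact choose_pascal_sub _ t hK1 htpos
      · rw [if_neg (fun h => h2 h.1), Nat.sub_zero]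
        have hni : n / i = 2 * (k + 1) / i := by
          rw [hn]
          exact pred_div_of_not_dvd n i (hn ▸ h2)
        rw [hni]

end Cfsg.Agent.Lib.helper45
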