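import Mathlib
import Cfsg.Agent.Lib.helper79.PearlX
import Cfsg.Agent.Lib.helper35.PearlG3

/-! S5239 (split s5239), NONUNIF sub-piece (c): the cube of a non-uniform element has depth 3.
Core with (c1) `com h x ∉ gam G 3` and (c3) `h ^ 3 ∈ gam G 2` as hypotheses. -/

namespace Cfsg.Agent.Lib.helper79.P3

open Cfsg.Agent.Lib.helper68 Cfsg.Agent.Lib.helper35.PearlG Cfsg.Agent.Lib.helper79

theorem h45_p3_nonunif_c_core {G : Type*} [Group G] [Finite G] (n : ℕ) (hn : 5 ≤ n)
    (hG : Nat.card G = 3 ^ n) (x : G) (hx : x ^ 3 = 1)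
    (hC : Nat.card (Subgroup.centralizer ({x} : Set G)) = 3 ^ 2)
    (hab : ∀ a ∈ gam G 2, ∀ b ∈ gam G 2, a * b = b * a) (h : G)
    (hb : ∀ j, 2 ≤ j → ∀ v ∈ gam G j, com v h ∈ gam G (j + 2))
    (hc1 : com h x ∉ gam G 3) (hc3 : h ^ 3 ∈ gam G 2) :
    h ^ 3 ∈ gam G 3 ∧ h ^ 3 ∉ gam G 4 := by
  have hx1 : x ∈ gam G 1 := by simp [gam]
  have hh1 : h ∈ gam G 1 := by simp [gam]
  have hcP2 : com h x ∈ gam G 2 := by
    have h0 := com_mem (H := G) (i := 1) (j := 1) hh1 hx1
    simpa using h0
  have hdP4 : com (com h x) h ∈ gam G 4 := hb 2 le_rfl _ hcP2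
  have heP6 : com (com (com h x) h) h ∈ gam G 6 := hb 4 (by norm_num) _ hdP4
  have hdP2 : com (com h x) h ∈ gam G 2 := gam_antitone (by norm_num) hdP4
  have heP2 : com (com (com h x) h) h ∈ gam G 2 := gam_antitone (by norm_num) heP6
  -- commutation rules inside the abelian `gam G 2`
  have hdc : com (com h x) h * com h x = com h x * com (com h x) h := hab _ hdP2 _ hcP2
  have hec : com (com (com h x) h) h * com h x = com h x * com (com (com h x) h) h :=
    hab _ heP2 _ hcP2
  have hed : com (com (com h x) h) h * com (com h x) h =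
      com (com h x) h * com (com (com h x) h) h := hab _ heP2 _ hdP2
  have hdc' : ∀ y : G, com (com h x) h * (com h x * y) = com h x * (com (com h x) h * y) :=
    fun y => by rw [← mul_assoc, hdc, mul_assoc]
  have hec' : ∀ y : G, com (com (com h x) h) h * (com h x * y) =
      com h x * (com (com (com h x) h) h * y) := fun y => by rw [← mul_assoc, hec, mul_assoc]
  have hed' : ∀ y : G, com (com (com h x) h) h * (com (com h x) h * y) =
      com (com h x) h * (com (com (com h x) h) h * y) :=
    fun y => by rw [← mul_assoc, hed, mul_assoc]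
  have hid : com (h ^ 3) x =
      com h x ^ 3 * (com (com h x) h ^ 3 * com (com (com h x) h) h) := by
    have h1 : com (h ^ 3) x = (h⁻¹ * (h⁻¹ * com h x * h) * h) * (h⁻¹ * com h x * h) * com h x := by
      rw [show h ^ 3 = h * h * h by simp [pow_succ]]
      simp only [com]; group
    have h2 : h⁻¹ * com h x * h = com h x * com (com h x) h := by
      simp only [com]; group
    have h3 : h⁻¹ * com (com h x) h * h = com (com h x) h * com (com (com h x) h) h := by
      simp only [com]; group
    have h4 : h⁻¹ * (h⁻¹ * com h x * h) * h =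
        com h x * com (com h x) h * (com (com h x) h * com (com (com h x) h) h) := by
      rw [h2]
      calc h⁻¹ * (com h x * com (com h x) h) * h
          = (h⁻¹ * com h x * h) * (h⁻¹ * com (com h x) h * h) := by group
        _ = _ := by rw [h2, h3]
    rw [h1, h4, h2]
    simp only [pow_succ, pow_zero, one_mul, mul_assoc, hdc, hdc', hec, hec', hed, hed']
  have hF3 := h35_pg_F3 3 n hG x hC (by omega) hx
  have hF4 := h35_pg_F4 3 (by norm_num) n hG x hC hx
  have hc3' := hF4 2 le_rfl (by omega) (com h x) hcP2 hc1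
  have hc34 : com h x ^ 3 ∈ gam G 4 := by simpa using hc3'.1
  have hc35 : com h x ^ 3 ∉ gam G 5 := by simpa using hc3'.2
  have hd3 : com (com h x) h ^ 3 ∈ gam G 6 := by simpa using hF3 4 (by norm_num) _ hdP4
  have h6 : com (com h x) h ^ 3 * com (com (com h x) h) h ∈ gam G 6 := mul_mem hd3 heP6
  have hcom4 : com (h ^ 3) x ∈ gam G 4 := by
    rw [hid]; exact mul_mem hc34 (gam_antitone (by norm_num) h6)
  have hcom5 : com (h ^ 3) x ∉ gam G 5 := by
    rw [hid]; intro hmem
    apply hc35
    have h7 : com h x ^ 3 = com h x ^ 3 * (com (com h x) h ^ 3 * com (com (com h x) h) h) *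
        (com (com h x) h ^ 3 * com (com (com h x) h) h)⁻¹ := by group
    rw [h7]; exact mul_mem hmem (inv_mem (gam_antitone (by norm_num) h6))
  constructor
  · by_contra h3
    have hunis := h79_px_unis 3 n hG x hC (by omega) 2 le_rfl (by omega) (h ^ 3) hc3 h3
    exact hunis.2 (by simpa using hcom4)
  · intro h4
    apply hcom5
    have h0 := com_mem (H := G) (i := 4) (j := 1) h4 hx1
    simpa using h0

end Cfsg.Agent.Lib.helper79.P3
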