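import Mathlib
import Cfsg.Agent.Lib.helper79.PearlX

/-! S5239 (split s5239), NONUNIF sub-piece (c1): `com h x ∉ gam G 3` for a non-uniform `h ∉ gam G 2`. -/

namespace Cfsg.Agent.Lib.helper79.P3

open Cfsg.Agent.Lib.helper68 Cfsg.Agent.Lib.helper79

theorem h45_p3_strict {G : Type*} [Group G] [Finite G] (n : ℕ)
    (hG : Nat.card G = 3 ^ n) (A B : Subgroup G) (hAB : A < B) :
    3 * Nat.card ↥A ≤ Nat.card ↥B := by
  have hp : Nat.Prime 3 := by norm_num
  have hBdvd : Nat.card ↥B ∣ 3 ^ n := hG ▸ Subgroup.card_subgroup_dvd_card B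
  obtain ⟨b, hbn, hb⟩ := (Nat.dvd_prime_pow hp).mp hBdvd
  have hAdvd : Nat.card ↥A ∣ 3 ^ b := hb ▸ Subgroup.card_dvd_of_le hAB.le
  obtain ⟨a, hab, ha⟩ := (Nat.dvd_prime_pow hp).mp hAdvd
  have hne : a ≠ b := by
    rintro rfl
    exact hAB.ne (Subgroup.eq_of_le_of_card_ge hAB.le (by rw [ha, hb]))
  have hlt : a + 1 ≤ b := by omega
  rw [ha, hb, ← pow_succ']
  exact Nat.pow_le_pow_right hp.pos hlt

theorem h45_p3_conj_card {G : Type*} [Group G] (x g : G) :
    Nat.card (Subgroup.centralizer ({g⁻¹ * x * g} : Set G)) =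
      Nat.card (Subgroup.centralizer ({x} : Set G)) := by
  refine Nat.card_congr ⟨fun a => ⟨g * a.1 * g⁻¹, ?_⟩, fun b => ⟨g⁻¹ * b.1 * g, ?_⟩, ?_, ?_⟩
  · have ha := Subgroup.mem_centralizer_iff.mp a.2 (g⁻¹ * x * g) rfl
    rw [Subgroup.mem_centralizer_iff]
    intro y hy
    rw [Set.mem_singleton_iff] at hy
    subst hy
    calc y * (g * a.1 * g⁻¹) = g * ((g⁻¹ * y * g) * a.1) * g⁻¹ := by group
      _ = g * (a.1 * (g⁻¹ * y * g)) * g⁻¹ := by rw [ha]
      _ = g * a.1 * g⁻¹ * y := by group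
  · have hb := Subgroup.mem_centralizer_iff.mp b.2 x rfl
    rw [Subgroup.mem_centralizer_iff]
    intro y hy
    rw [Set.mem_singleton_iff] at hy
    subst hy
    calc g⁻¹ * x * g * (g⁻¹ * b.1 * g) = g⁻¹ * (x * b.1) * g := by group
      _ = g⁻¹ * (b.1 * x) * g := by rw [hb]
      _ = g⁻¹ * b.1 * g * (g⁻¹ * x * g) := by group
  · intro a
    apply Subtype.ext
    show g⁻¹ * (g * a.1 * g⁻¹) * g = a.1
    group
  · intro b
    apply Subtype.ext
    show g * (g⁻¹ * b.1 * g) * g⁻¹ = b.1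
    group

theorem h45_p3_nu_c1 {G : Type*} [Group G] [Finite G] (n : ℕ) (hn : 4 ≤ n)
    (hG : Nat.card G = 3 ^ n) (x : G) (hx : x ^ 3 = 1)
    (hC : Nat.card (Subgroup.centralizer ({x} : Set G)) = 3 ^ 2) (h : G) (hh : h ∉ gam G 2)
    (hCh : Nat.card (Subgroup.centralizer ({h} : Set G)) ≠ 3 ^ 2) : com h x ∉ gam G 3 := by
  intro hc
  have hn3 : 3 ≤ n := by omega
  have hx1 : x ∈ gam G 1 := by simp [gam]
  have hN : ∀ g : G, g ∈ (Subgroup.centralizer
      ({QuotientGroup.mk' (gam G 3) x} : Set (G ⧸ gam G 3))).comap (QuotientGroup.mk' (gam G 3)) ↔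
      com g x ∈ gam G 3 := by
    intro g
    rw [Subgroup.mem_comap, Subgroup.mem_centralizer_iff]
    have h4 : (x * g)⁻¹ * (g * x) = com g x := by simp only [com]; group
    constructor
    · intro hg
      have h1 := hg _ rfl
      have h2 : QuotientGroup.mk' (gam G 3) (x * g) = QuotientGroup.mk' (gam G 3) (g * x) := by
        rw [map_mul, map_mul]; exact h1
      have h3 := QuotientGroup.eq.mp h2
      rw [← h4]; exact h3
    · intro hg y hy
      rw [Set.mem_singleton_iff] at hy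
      subst hy
      have h2 : QuotientGroup.mk' (gam G 3) (x * g) = QuotientGroup.mk' (gam G 3) (g * x) :=
        QuotientGroup.eq.mpr (by rw [h4]; exact hg)
      rw [map_mul, map_mul] at h2
      exact h2
  have hxN := (hN x).mpr (by simp [com])
  have hhN := (hN h).mpr hc
  have hPN : gam G 2 ≤ (Subgroup.centralizer
      ({QuotientGroup.mk' (gam G 3) x} : Set (G ⧸ gam G 3))).comap (QuotientGroup.mk' (gam G 3)) :=
    fun m hm => (hN m).mpr (by simpa using com_mem (H := G) (i := 2) (j := 1) hm hx1)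
  have hxP : x ∉ gam G 2 := h79_px_not_mem 3 n hG x hC hn3
  have hcard2 : Nat.card (gam G 2) = 3 ^ (n - 2) := h79_px_card 3 n hG x hC hn3 2 le_rfl (by omega)
  have hcard3 : Nat.card (gam G 3) = 3 ^ (n - 3) :=
    h79_px_card 3 n hG x hC hn3 3 (by norm_num) (by omega)
  have key : ∀ y : G, Nat.card (Subgroup.centralizer ({y} : Set G)) = 3 ^ 2 → ∀ m ∈ gam G 2,
      Nat.card (Subgroup.centralizer ({m * y} : Set G)) = 3 ^ 2 := by
    intro y hy m hm
    have hm' : y⁻¹ * m * y ∈ gam G 2 := by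
      have h0 := (gam_normal (H := G) 2).conj_mem m hm y⁻¹
      simpa using h0
    obtain ⟨g, hg⟩ := h79_px_conj 3 n hG y hy hn3 (y⁻¹ * m * y) hm'
    have e : m * y = g⁻¹ * y * g := by rw [hg]; group
    rw [e, h45_p3_conj_card]; exact hy
  have hCinv : Nat.card (Subgroup.centralizer ({x⁻¹} : Set G)) = 3 ^ 2 := by
    have e : Subgroup.centralizer ({x⁻¹} : Set G) = Subgroup.centralizer ({x} : Set G) := by
      ext a
      rw [Subgroup.mem_centralizer_iff, Subgroup.mem_centralizer_iff]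
      constructor
      · intro ha y hy
        rw [Set.mem_singleton_iff] at hy
        subst hy
        have h1 := ha y⁻¹ rfl
        calc y * a = y * (a * y⁻¹) * y := by group
          _ = y * (y⁻¹ * a) * y := by rw [h1]
          _ = a * y := by group
      · intro ha y hy
        rw [Set.mem_singleton_iff] at hy
        subst hy
        have h1 := ha x rfl
        calc x⁻¹ * a = x⁻¹ * (a * x) * x⁻¹ := by group
          _ = x⁻¹ * (x * a) * x⁻¹ := by rw [h1]
          _ = a * x⁻¹ := by group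
    rw [e]; exact hC
  have hnot : h ∉ gam G 2 ⊔ Subgroup.zpowers x := by
    intro hmem
    have hmem' : h ∈ ((gam G 2 ⊔ Subgroup.zpowers x : Subgroup G) : Set G) := hmem
    rw [Subgroup.normal_mul] at hmem'
    obtain ⟨m, hm, z, hz, rfl⟩ := Set.mem_mul.mp hmem'
    obtain ⟨k, rfl⟩ := Subgroup.mem_zpowers_iff.mp hz
    have hx3 : x ^ (3 : ℤ) = 1 := by exact_mod_cast hx
    have hk : x ^ k = x ^ (k % 3) := zpow_eq_zpow_emod k hx3
    have h0 := Int.emod_nonneg k (by norm_num : (3 : ℤ) ≠ 0)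
    have h3 := Int.emod_lt_of_pos k (by norm_num : (0 : ℤ) < 3)
    rw [hk] at hh hCh
    have hcases : k % 3 = 0 ∨ k % 3 = 1 ∨ k % 3 = 2 := by omega
    rcases hcases with h' | h' | h'
    · rw [h', zpow_zero, mul_one] at hh
      exact hh hm
    · rw [h', zpow_one] at hCh
      exact hCh (key x hC m hm)
    · have hx2 : x ^ (2 : ℤ) = x⁻¹ := by
        have h5 : x ^ (2 : ℤ) * x = 1 := by
          have h6 : x ^ (2 : ℤ) * x = x ^ (3 : ℤ) := by
            rw [show (3 : ℤ) = 2 + 1 by norm_num, zpow_add, zpow_one]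
          rw [h6, hx3]
        exact eq_inv_of_mul_eq_one_left h5
      rw [h', hx2] at hCh
      exact hCh (key x⁻¹ hCinv m hm)
  have hs1 : gam G 2 < gam G 2 ⊔ Subgroup.zpowers x := by
    refine lt_of_le_of_ne le_sup_left (fun he => hxP ?_)
    rw [he]; exact Subgroup.mem_sup_right (Subgroup.mem_zpowers x)
  have hs2 : gam G 2 ⊔ Subgroup.zpowers x <
      (gam G 2 ⊔ Subgroup.zpowers x) ⊔ Subgroup.zpowers h := by
    refine lt_of_le_of_ne le_sup_left (fun he => hnot ?_)
    rw [he]; exact Subgroup.mem_sup_right (Subgroup.mem_zpowers h)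
  have hle : (gam G 2 ⊔ Subgroup.zpowers x) ⊔ Subgroup.zpowers h ≤ (Subgroup.centralizer
      ({QuotientGroup.mk' (gam G 3) x} : Set (G ⧸ gam G 3))).comap (QuotientGroup.mk' (gam G 3)) :=
    sup_le (sup_le hPN ((Subgroup.zpowers_le).mpr hxN)) ((Subgroup.zpowers_le).mpr hhN)
  have c1 := h45_p3_strict n hG _ _ hs1
  have c2 := h45_p3_strict n hG _ _ hs2
  have c3 := Subgroup.card_le_of_le hle
  have hNtop : (Subgroup.centralizer
      ({QuotientGroup.mk' (gam G 3) x} : Set (G ⧸ gam G 3))).comap (QuotientGroup.mk' (gam G 3)) = ⊤ := by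
    apply Subgroup.eq_top_of_le_card
    have h9 : 3 ^ n = 3 * (3 * 3 ^ (n - 2)) := by
      rw [← pow_succ', ← pow_succ']; congr 1; omega
    rw [hG, h9, ← hcard2]
    omega
  have hP23 : gam G 2 ≤ gam G 3 := by
    intro m hm
    obtain ⟨g, hg⟩ := h79_px_onto1 3 n hG x hC hn3 m hm
    have hgN : com g x ∈ gam G 3 := (hN g).mp (by rw [hNtop]; exact Subgroup.mem_top g)
    have e : m = (com g x)⁻¹ := by rw [← hg]; simp only [com]; group
    rw [e]; exact inv_mem hgN
  have hfin := Subgroup.card_le_of_le hP23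
  rw [hcard2, hcard3] at hfin
  have h2 : 3 ^ (n - 3) < 3 ^ (n - 2) := Nat.pow_lt_pow_right (by norm_num) (by omega)
  omega

end Cfsg.Agent.Lib.helper79.P3
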