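import Mathlib
import Cfsg.Agent.Lib.helper79.PearlX

/-! S5239 (split s5239), NONUNIF sub-piece (c3): cubes lie in `gam G 2`. -/

namespace Cfsg.Agent.Lib.helper79.P3

open Cfsg.Agent.Lib.helper68 Cfsg.Agent.Lib.helper79

theorem h45_p3_nu_c3 {G : Type*} [Group G] [Finite G] (n : ℕ) (hn : 3 ≤ n)
    (hG : Nat.card G = 3 ^ n) (x : G)
    (hC : Nat.card (Subgroup.centralizer ({x} : Set G)) = 3 ^ 2) (g : G) : g ^ 3 ∈ gam G 2 := by
  have e : gam G 2 = commutator G := by unfold gam; exact Subgroup.top_lowerCentralSeries_one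
  have hnil : Group.IsNilpotent G := (IsPGroup.of_card hG).isNilpotent
  have hidx : (commutator G).index = 3 ^ 2 := by
    rw [← e]; exact h79_px_index 3 n hG x hC hn 2 le_rfl (by omega)
  rw [e]
  have hcard : Nat.card (G ⧸ commutator G) = 9 := by
    rw [← Subgroup.index_eq_card, hidx]; norm_num
  have hncyc : ¬ IsCyclic (G ⧸ commutator G) := by
    intro hcyc
    have hbot := Cfsg.Agent.Lib.helper15.MaxClass.commutator_eq_bot_of_isCyclic hcyc
    rw [hbot, Subgroup.index_bot, hG] at hidx
    have h2 := Nat.pow_right_injective (le_refl 2 |>.trans (by norm_num : 2 ≤ 3)) hidx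
    omega
  have ho : orderOf (QuotientGroup.mk g : G ⧸ commutator G) ∣ 9 :=
    hcard ▸ orderOf_dvd_natCard _
  have hne : orderOf (QuotientGroup.mk g : G ⧸ commutator G) ≠ 9 := by
    intro h9
    exact hncyc (isCyclic_of_orderOf_eq_card _ (by rw [h9, hcard]))
  have h3 : orderOf (QuotientGroup.mk g : G ⧸ commutator G) ∣ 3 := by
    have hmem : orderOf (QuotientGroup.mk g : G ⧸ commutator G) ∈ Nat.divisors 9 := by
      simp [ho]
    have hd : Nat.divisors 9 = {1, 3, 9} := by decide
    rw [hd] at hmem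
    simp only [Finset.mem_insert, Finset.mem_singleton] at hmem
    rcases hmem with h | h | h
    · rw [h]; norm_num
    · rw [h]
    · exact absurd h hne
  have hpow : (QuotientGroup.mk g : G ⧸ commutator G) ^ 3 = 1 := orderOf_dvd_iff_pow_eq_one.mp h3
  rw [← QuotientGroup.mk_pow] at hpow
  exact (QuotientGroup.eq_one_iff _).mp hpow

end Cfsg.Agent.Lib.helper79.P3
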