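import Mathlib
import Cfsg.Agent.Lib.helper45.P3NUC
import Cfsg.Agent.Lib.helper45.P3NUC1
import Cfsg.Agent.Lib.helper45.P3NUC3

/-! S5239 (split s5239), NONUNIF sub-piece (c), complete: the cube of a non-uniform `h ∉ gam G 2`
has depth exactly 3 (`n ≥ 5`), given `P_2` abelian (P2AB) and the conclusion of (b). -/

namespace Cfsg.Agent.Lib.helper79.P3

open Cfsg.Agent.Lib.helper68

theorem h45_p3_nonunif_c {G : Type*} [Group G] [Finite G] (n : ℕ) (hn : 5 ≤ n)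
    (hG : Nat.card G = 3 ^ n) (x : G) (hx : x ^ 3 = 1)
    (hC : Nat.card (Subgroup.centralizer ({x} : Set G)) = 3 ^ 2)
    (hab : ∀ a ∈ gam G 2, ∀ b ∈ gam G 2, a * b = b * a) (h : G) (hh : h ∉ gam G 2)
    (hCh : Nat.card (Subgroup.centralizer ({h} : Set G)) ≠ 3 ^ 2)
    (hb : ∀ j, 2 ≤ j → ∀ v ∈ gam G j, com v h ∈ gam G (j + 2)) :
    h ^ 3 ∈ gam G 3 ∧ h ^ 3 ∉ gam G 4 :=
  h45_p3_nonunif_c_core n hn hG x hx hC hab h hb
    (h45_p3_nu_c1 n (by omega) hG x hx hC h hh hCh)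
    (h45_p3_nu_c3 n (by omega) hG x hC h)

end Cfsg.Agent.Lib.helper79.P3
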