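import Mathlib

/-! Combinatorics for the class counts in projective groups: compositions indexed by `ZMod r`
under rotation (Burnside), fibre counts, and images with the same kernel relation. -/

set_option autoImplicit false
set_option linter.unusedSectionVars false
set_option linter.style.haveILetI false

namespace Cfsg.Agent.Lib.helper45

section images

/-- two maps with the same kernel relation on `N` have images of the same cardinality -/
theorem card_image_eq_of_iff {α β γ : Type*} (f : α → β) (g : α → γ) (N : Set α)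
    (h : ∀ a ∈ N, ∀ b ∈ N, f a = f b ↔ g a = g b) :
    Nat.card (f '' N) = Nat.card (g '' N) := by
  classical
  apply Nat.card_eq_of_bijective (fun y : f '' N =>
    (⟨g (Classical.choose y.2), Set.mem_image_of_mem g (Classical.choose_spec y.2).1⟩ : g '' N))
  constructor
  · intro y y' hyy
    have e : g (Classical.choose y.2) = g (Classical.choose y'.2) := congrArg Subtype.val hyy
    have e' := (h _ (Classical.choose_spec y.2).1 _ (Classical.choose_spec y'.2).1).mpr e
    apply Subtype.ext
    rw [← (Classical.choose_spec y.2).2, ← (Classical.choose_spec y'.2).2, e']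
  · rintro ⟨z, a, ha, rfl⟩
    have hy : f a ∈ f '' N := Set.mem_image_of_mem f ha
    refine ⟨⟨f a, hy⟩, ?_⟩
    apply Subtype.ext
    show g (Classical.choose hy) = g a
    exact (h _ (Classical.choose_spec hy).1 _ ha).mp (Classical.choose_spec hy).2

/-- enumerate a multiset of cardinality `n` by `Fin n` -/
theorem exists_fin_enum {α : Type*} (s : Multiset α) {n : ℕ} (h : Multiset.card s = n) :
    ∃ d : Fin n → α, (Finset.univ : Finset (Fin n)).val.map d = s := by
  obtain ⟨l, rfl⟩ := Quot.exists_rep s
  have hl : l.length = n := h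
  subst hl
  exact ⟨l.get, by rw [Fin.univ_val_map, List.ofFn_get]; rfl⟩

end images

section comp

variable (r n : ℕ) [NeZero r]

/-- compositions of `n` indexed by `ZMod r` -/
abbrev PComp : Type := {a : ZMod r → ℕ // ∑ j, a j = n}

instance PComp.finite : Finite (PComp r n) :=
  Finite.of_equiv _ (Sym.equivNatSumOfFintype (ZMod r) n)

theorem card_pComp : Nat.card (PComp r n) = (n + r - 1).choose (r - 1) := by
  classical
  have hr : 0 < r := Nat.pos_of_ne_zero (NeZero.ne r)
  rw [← Nat.card_congr (Sym.equivNatSumOfFintype (ZMod r) n), Nat.card_eq_fintype_card,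
    Sym.card_sym_eq_choose, ZMod.card]
  have h1 : r + n - 1 = n + r - 1 := by omega
  have h2 : n ≤ n + r - 1 := by omega
  have h3 : n + r - 1 - n = r - 1 := by omega
  rw [h1, ← Nat.choose_symm h2, h3]

/-- the rotation action of `ZMod r` on compositions -/
@[reducible] def rotAct : AddAction (ZMod r) (PComp r n) where
  vadd m a := ⟨fun j => a.1 (j + m),
    (Fintype.sum_equiv (Equiv.addRight m) (fun j => a.1 (j + m)) a.1 (fun _ => rfl)).trans a.2⟩
  zero_vadd a := Subtype.ext (funext fun j => by
    show a.1 (j + 0) = a.1 j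
    rw [add_zero])
  add_vadd m m' a := Subtype.ext (funext fun j => by
    show a.1 (j + (m + m')) = a.1 (j + m + m')
    rw [add_assoc])

/-- the orbit relation of the rotation action -/
def rotSetoid : Setoid (PComp r n) := @AddAction.orbitRel (ZMod r) (PComp r n) _ (rotAct r n)

theorem rotSetoid_iff (a b : PComp r n) :
    (rotSetoid r n).r a b ↔ ∃ m : ZMod r, ∀ j, a.1 j = b.1 (j + m) := by
  letI := rotAct r n
  show (AddAction.orbitRel (ZMod r) (PComp r n)) a b ↔ _
  rw [AddAction.orbitRel_apply, AddAction.mem_orbit_iff]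
  constructor
  · rintro ⟨m, hm⟩
    refine ⟨m, fun j => ?_⟩
    rw [← hm]
    rfl
  · rintro ⟨m, hm⟩
    refine ⟨m, Subtype.ext (funext fun j => ?_)⟩
    rw [hm j]
    rfl

theorem rot_fixed_const [Fact r.Prime] (a : PComp r n) (m : ZMod r) (hm : m ≠ 0)
    (h : ∀ j, a.1 (j + m) = a.1 j) (j : ZMod r) : a.1 j = a.1 0 := by
  have h1 : ∀ k : ℕ, a.1 (k • m) = a.1 0 := by
    intro k
    induction k with
    | zero => rw [zero_smul]
    | succ k ih => rw [succ_nsmul, h, ih]
  have h2 : j = (j * m⁻¹).val • m := by
    rw [nsmul_eq_mul, ZMod.natCast_zmod_val, mul_assoc, inv_mul_cancel₀ hm, mul_one]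
  rw [h2, h1]

theorem rot_fixed_sum [Fact r.Prime] (a : PComp r n) (m : ZMod r) (hm : m ≠ 0)
    (h : ∀ j, a.1 (j + m) = a.1 j) : r * a.1 0 = n := by
  have h1 : ∑ j, a.1 j = ∑ _j : ZMod r, a.1 0 :=
    Finset.sum_congr rfl (fun j _ => rot_fixed_const r n a m hm h j)
  rw [a.2, Finset.sum_const, Finset.card_univ, ZMod.card, smul_eq_mul] at h1
  exact h1.symm

/-- Burnside count of the rotation orbits of compositions -/
theorem card_rot_orbits [Fact r.Prime] :
    Nat.card (Quotient (rotSetoid r n)) * r
      = (n + r - 1).choose (r - 1) + (r - 1) * (if r ∣ n then 1 else 0) := by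
  classical
  letI := rotAct r n
  letI : Fintype (PComp r n) := Fintype.ofFinite _
  letI : ∀ m : ZMod r, Fintype (AddAction.fixedBy (PComp r n) m) := fun m => Fintype.ofFinite _
  letI : Fintype (Quotient (AddAction.orbitRel (ZMod r) (PComp r n))) := Fintype.ofFinite _
  have hB := AddAction.sum_card_fixedBy_eq_card_orbits_mul_card_addGroup (ZMod r) (PComp r n)
  have hrpos : 0 < r := Nat.pos_of_ne_zero (NeZero.ne r)
  have h0 : Fintype.card (AddAction.fixedBy (PComp r n) (0 : ZMod r))
      = (n + r - 1).choose (r - 1) := by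
    rw [← card_pComp r n, Nat.card_eq_fintype_card]
    apply Fintype.card_congr
    exact Equiv.subtypeUnivEquiv (fun a => zero_vadd (ZMod r) a)
  have h1 : ∀ m : ZMod r, m ≠ 0 →
      Fintype.card (AddAction.fixedBy (PComp r n) m) = (if r ∣ n then 1 else 0) := by
    intro m hm
    have hfix : ∀ a : PComp r n, a ∈ AddAction.fixedBy (PComp r n) m → ∀ j, a.1 (j + m) = a.1 j := by
      intro a ha j
      have h2 : m +ᵥ a = a := ha
      have h3 := congrArg (fun b : PComp r n => b.1 j) h2
      exact h3
    by_cases hrn : r ∣ n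
    · rw [if_pos hrn, Fintype.card_eq_one_iff]
      obtain ⟨t, ht⟩ := hrn
      have hsum : ∑ _j : ZMod r, t = n := by
        rw [Finset.sum_const, Finset.card_univ, ZMod.card, smul_eq_mul, ht]
      refine ⟨⟨⟨fun _ => t, hsum⟩, ?_⟩, ?_⟩
      · show m +ᵥ (⟨fun _ => t, hsum⟩ : PComp r n) = ⟨fun _ => t, hsum⟩
        exact Subtype.ext (funext fun j => rfl)
      · rintro ⟨a, ha⟩
        apply Subtype.ext
        apply Subtype.ext
        funext j
        have h4 := rot_fixed_sum r n a m hm (hfix a ha)
        have h5 := rot_fixed_const r n a m hm (hfix a ha) j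
        show a.1 j = t
        rw [h5]
        exact Nat.eq_of_mul_eq_mul_left hrpos (h4.trans ht)
    · rw [if_neg hrn, Fintype.card_eq_zero_iff]
      constructor
      rintro ⟨a, ha⟩
      exact hrn ⟨a.1 0, (rot_fixed_sum r n a m hm (hfix a ha)).symm⟩
  have hsum : ∑ m : ZMod r, Fintype.card (AddAction.fixedBy (PComp r n) m)
      = (n + r - 1).choose (r - 1) + (r - 1) * (if r ∣ n then 1 else 0) := by
    rw [← Finset.add_sum_erase Finset.univ _ (Finset.mem_univ (0 : ZMod r)), h0]
    congr 1
    rw [Finset.sum_congr rfl (fun m hm => h1 m (Finset.ne_of_mem_erase hm)), Finset.sum_const,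
      Finset.card_erase_of_mem (Finset.mem_univ _), Finset.card_univ, ZMod.card, smul_eq_mul]
  rw [hsum, ZMod.card] at hB
  rw [hB]
  congr 1
  show Nat.card (Quotient (AddAction.orbitRel (ZMod r) (PComp r n))) = _
  exact Nat.card_eq_fintype_card

end comp

section fib

variable {r n : ℕ}

/-- the fibre counts of a map `Fin n → ZMod r` -/
noncomputable def fibCnt (d : Fin n → ZMod r) : ZMod r → ℕ := by
  classical
  exact fun j => ((Finset.univ : Finset (Fin n)).val.map d).count j

theorem fibCnt_sum [NeZero r] (d : Fin n → ZMod r) : ∑ j, fibCnt d j = n := by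
  classical
  unfold fibCnt
  rw [Multiset.sum_count_eq_card (fun a _ => Finset.mem_univ a), Multiset.card_map]
  simp

theorem exists_fibCnt [NeZero r] (a : ZMod r → ℕ) (ha : ∑ j, a j = n) :
    ∃ d : Fin n → ZMod r, fibCnt d = a := by
  classical
  obtain ⟨d, hd⟩ := exists_fin_enum (∑ j : ZMod r, a j • ({j} : Multiset (ZMod r))) (n := n)
    (by simp [ha])
  refine ⟨d, funext fun j => ?_⟩
  unfold fibCnt
  rw [hd, Multiset.count_sum']
  simp [Multiset.count_nsmul, Multiset.count_singleton]

/-- the fibre counts are related by a rotation iff the multisets of values are translates -/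
theorem fibCnt_shift_iff (d d' : Fin n → ZMod r) (m : ZMod r) :
    (∀ j, fibCnt d j = fibCnt d' (j + m))
      ↔ (Finset.univ : Finset (Fin n)).val.map d
          = (Finset.univ : Finset (Fin n)).val.map (fun i => d' i - m) := by
  classical
  have hinj : Function.Injective (fun x : ZMod r => x - m) := sub_left_injective
  have key : ∀ j, Multiset.count j ((Finset.univ : Finset (Fin n)).val.map (fun i => d' i - m))
      = fibCnt d' (j + m) := by
    intro j
    have h1 : (Finset.univ : Finset (Fin n)).val.map (fun i => d' i - m)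
        = ((Finset.univ : Finset (Fin n)).val.map d').map (fun x : ZMod r => x - m) := by
      rw [Multiset.map_map]
      rfl
    rw [h1]
    have h2 := Multiset.count_map_eq_count' (fun x : ZMod r => x - m)
      ((Finset.univ : Finset (Fin n)).val.map d') hinj (j + m)
    rw [add_sub_cancel_right] at h2
    rw [h2]
    unfold fibCnt
    rfl
  rw [Multiset.ext]
  constructor
  · intro h j
    rw [key j, ← h j]
    unfold fibCnt
    rfl
  · intro h j
    rw [← key j, ← h j]
    unfold fibCnt
    rfl

end fib

end Cfsg.Agent.Lib.helper45
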