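import Mathlib
import Cfsg.Agent.Lib.helper45.SemisimpleDet
import Cfsg.Agent.Lib.helper45.SelfDualCount
import Cfsg.Agent.Lib.helper45.PGComb

/-! Matrix lemmas for the class counts in projective groups: matrices whose `r`-th power is
scalar. -/

set_option autoImplicit false
set_option linter.unusedSectionVars false
set_option linter.style.haveILetI false

namespace Cfsg.Agent.Lib.helper45

open Polynomial

section scalarPow

variable {K : Type*} [Field K] {ι : Type*} [Fintype ι] [DecidableEq ι]

/-- the characteristic polynomial of a matrix with `A^r = c` divides a power of `X^r - c` -/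
theorem charpoly_dvd_pow_of_pow_eq_scalar (A : Matrix ι ι K) (r : ℕ) (c : K)
    (hA : A ^ r = Matrix.scalar ι c) :
    A.charpoly ∣ (X ^ r - C c : K[X]) ^ Fintype.card ι := by
  have hcomm : Commute (Matrix.scalar ι (X : K[X])) ((C : K →+* K[X]).mapMatrix A) :=
    Matrix.scalar_commute _ (fun r' => Commute.all _ _) _
  have h := hcomm.mul_geom_sum₂ r
  have h1 : (C : K →+* K[X]).mapMatrix (Matrix.scalar ι c) = Matrix.scalar ι (C c) := by
    simp [Matrix.scalar_apply, Matrix.diagonal_map]
  have h2 : (Matrix.scalar ι (X : K[X])) ^ r - ((C : K →+* K[X]).mapMatrix A) ^ r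
      = Matrix.scalar ι (X ^ r - C c : K[X]) := by
    rw [← map_pow, ← map_pow, hA, h1, map_sub]
  rw [h2] at h
  have hdet : (Matrix.scalar ι (X ^ r - C c : K[X])).det = (X ^ r - C c : K[X]) ^ Fintype.card ι := by
    rw [Matrix.scalar_apply, Matrix.det_diagonal, Finset.prod_const, Finset.card_univ]
  have h3 := congrArg Matrix.det h
  rw [Matrix.det_mul, hdet] at h3
  exact ⟨_, h3.symm⟩

/-- if `X^r - c` is irreducible, a matrix with `A^r = c` has characteristic polynomial a power of
`X^r - c` -/
theorem charpoly_eq_pow_of_irreducible (A : Matrix ι ι K) (r : ℕ) (hr : 0 < r) (c : K)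
    (hA : A ^ r = Matrix.scalar ι c) (hirr : Irreducible (X ^ r - C c : K[X])) :
    ∃ k, r * k = Fintype.card ι ∧ A.charpoly = (X ^ r - C c : K[X]) ^ k := by
  have hdvd := charpoly_dvd_pow_of_pow_eq_scalar A r c hA
  obtain ⟨k, _, hk⟩ := (dvd_prime_pow hirr.prime _).mp hdvd
  have hmon : (X ^ r - C c : K[X]).Monic := monic_X_pow_sub_C c hr.ne'
  have heq : A.charpoly = (X ^ r - C c : K[X]) ^ k :=
    eq_of_monic_of_associated (Matrix.charpoly_monic A) (hmon.pow k) hk
  refine ⟨k, ?_, heq⟩
  have hdeg := congrArg natDegree heq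
  rw [Matrix.charpoly_natDegree_eq_dim, natDegree_pow, natDegree_X_pow_sub_C] at hdeg
  rw [hdeg, mul_comm]

/-- a matrix whose `r`-th power is a nonzero scalar is semisimple when `r` is invertible -/
theorem isSemisimple_of_pow_eq_scalar (A : Matrix ι ι K) (r : ℕ) (hr : (r : K) ≠ 0) (c : K)
    (hc : c ≠ 0) (hA : A ^ r = Matrix.scalar ι c) :
    Module.End.IsSemisimple (Matrix.toLin' A) := by
  apply Module.End.isSemisimple_of_squarefree_aeval_eq_zero
    (separable_X_pow_sub_C c hr hc).squarefree
  have h1 : Matrix.toLin' (Matrix.scalar ι c) = algebraMap K (Module.End K (ι → K)) c :=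
    (Matrix.toLinAlgEquiv' (R := K) (n := ι)).commutes c
  rw [map_sub, map_pow, aeval_X, aeval_C, ← Matrix.toLin'_pow, hA, h1]
  exact sub_self _

/-- matrices whose `r`-th powers are nonzero scalars and that have the same characteristic
polynomial are conjugate -/
theorem exists_GL_conj_of_pow_eq_scalar (A B : Matrix ι ι K) (r : ℕ) (hr : (r : K) ≠ 0)
    (c c' : K) (hc : c ≠ 0) (hc' : c' ≠ 0) (hA : A ^ r = Matrix.scalar ι c)
    (hB : B ^ r = Matrix.scalar ι c') (h : A.charpoly = B.charpoly) :
    ∃ P : GL ι K, (P : Matrix ι ι K) * A = B * (P : Matrix ι ι K) :=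
  exists_GL_conj_of_charpoly_eq A B (isSemisimple_of_pow_eq_scalar A r hr c hc hA)
    (isSemisimple_of_pow_eq_scalar B r hr c' hc' hB) h

end scalarPow

section diag

variable {K : Type*} [Field K] {n r : ℕ}

/-- a matrix of order dividing `r` has the characteristic polynomial of a diagonal matrix of
`r`-th roots of unity, when `K` contains a primitive `r`-th root of unity -/
theorem exists_diag_of_pow_eq_one (A : Matrix (Fin n) (Fin n) K) (hr : 0 < r) (hA : A ^ r = 1)
    (ζ : Kˣ) (hζ : orderOf ζ = r) :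
    ∃ d : Fin n → ZMod r, A.charpoly = ∏ i, (X - C (((ζ ^ (d i).val : Kˣ) : K))) := by
  classical
  haveI : NeZero r := ⟨hr.ne'⟩
  have hdvd := charpoly_dvd_pow_of_pow_eq_one A r hA
  have hprim : IsPrimitiveRoot (ζ : K) r := by
    rw [IsPrimitiveRoot.coe_units_iff, ← hζ]
    exact IsPrimitiveRoot.orderOf ζ
  have hsplit : Splits ((X ^ r - 1 : K[X]) ^ Fintype.card (Fin n)) := by
    have := (X_pow_sub_one_splits hprim).pow (Fintype.card (Fin n))
    rwa [map_one] at this
  have hne : ((X ^ r - 1 : K[X]) ^ Fintype.card (Fin n)) ≠ 0 := by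
    have := X_pow_sub_C_ne_zero hr (1 : K)
    rw [map_one] at this
    exact pow_ne_zero _ this
  have hs : Splits A.charpoly := hsplit.of_dvd hne hdvd
  have hprod := hs.eq_prod_roots_of_monic (Matrix.charpoly_monic A)
  have hcard : Multiset.card A.charpoly.roots = n := by
    rw [← hs.natDegree_eq_card_roots, Matrix.charpoly_natDegree_eq_dim, Fintype.card_fin]
  obtain ⟨v, hv⟩ := exists_fin_enum _ hcard
  have hroot : ∀ i, v i ^ r = 1 := by
    intro i
    have hmem : v i ∈ A.charpoly.roots := by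
      rw [← hv]
      exact Multiset.mem_map_of_mem v (Finset.mem_univ_val i)
    have h1 : IsRoot A.charpoly (v i) := (mem_roots (Matrix.charpoly_monic A).ne_zero).mp hmem
    have h2 := h1.dvd hdvd
    rw [IsRoot, eval_pow, eval_sub, eval_pow, eval_X, eval_one] at h2
    have hn0 : Fintype.card (Fin n) ≠ 0 := by
      rw [Fintype.card_fin]
      exact (Fin.pos i).ne'
    exact sub_eq_zero.mp ((pow_eq_zero_iff hn0).mp h2)
  have hex : ∀ i, ∃ j : ZMod r, ((ζ ^ j.val : Kˣ) : K) = v i := by
    intro i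
    obtain ⟨k, hk, hk2⟩ := hprim.eq_pow_of_pow_eq_one (hroot i)
    refine ⟨(k : ZMod r), ?_⟩
    rw [ZMod.val_natCast_of_lt hk, Units.val_pow_eq_pow_val, hk2]
  choose d hd using hex
  refine ⟨d, ?_⟩
  rw [hprod, ← hv, Multiset.map_map, Finset.prod_eq_multiset_prod]
  congr 1
  apply Multiset.map_congr rfl
  intro i _
  show X - C (v i) = X - C (((ζ ^ (d i).val : Kˣ) : K))
  rw [hd i]

end diag

section mono

variable {K : Type*} [Field K] {κ : Type*} [Fintype κ] [DecidableEq κ] {r : ℕ} [NeZero r]

/-- the block monomial matrix `e_{(j,t)} ↦ c_j e_{(j+1,t)}` -/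
def monoMat (κ : Type*) [Fintype κ] [DecidableEq κ] (c : ZMod r → K) :
    Matrix (ZMod r × κ) (ZMod r × κ) K :=
  Matrix.of fun x y => if x.2 = y.2 ∧ x.1 = y.1 + 1 then c y.1 else 0

theorem monoMat_pow (c : ZMod r → K) (m : ℕ) :
    monoMat κ c ^ m = Matrix.of fun x y =>
      if x.2 = y.2 ∧ x.1 = y.1 + (m : ZMod r) then ∏ u ∈ Finset.range m, c (y.1 + (u : ZMod r))
      else 0 := by
  induction m with
  | zero =>
    ext x y
    rw [pow_zero, Matrix.one_apply]
    simp only [Matrix.of_apply, Nat.cast_zero, add_zero, Finset.range_zero, Finset.prod_empty]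
    by_cases hxy : x = y
    · rw [if_pos hxy, if_pos ⟨by rw [hxy], by rw [hxy]⟩]
    · rw [if_neg hxy, if_neg]
      rintro ⟨h1, h2⟩
      exact hxy (Prod.ext h2 h1)
  | succ m ih =>
    ext x y
    rw [pow_succ', ih, Matrix.mul_apply]
    simp only [Matrix.of_apply, monoMat]
    rw [Finset.sum_eq_single (y.1 + (m : ZMod r), y.2)]
    · simp only [true_and]
      by_cases hx : x.2 = y.2 ∧ x.1 = y.1 + ((m + 1 : ℕ) : ZMod r)
      · have hx' : x.2 = y.2 ∧ x.1 = y.1 + (m : ZMod r) + 1 := by
          refine ⟨hx.1, ?_⟩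
          rw [hx.2, Nat.cast_succ, add_assoc]
        rw [if_pos hx, if_pos hx', if_pos trivial, Finset.prod_range_succ, mul_comm]
      · have hx' : ¬ (x.2 = y.2 ∧ x.1 = y.1 + (m : ZMod r) + 1) := by
          rintro ⟨h1, h2⟩
          apply hx
          refine ⟨h1, ?_⟩
          rw [h2, Nat.cast_succ, add_assoc]
        rw [if_neg hx, if_neg hx', zero_mul]
    · intro b _ hb
      by_cases h1 : b.2 = y.2 ∧ b.1 = y.1 + (m : ZMod r)
      · exact absurd (Prod.ext h1.2 h1.1 : b = (y.1 + (m : ZMod r), y.2)) hb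
      · rw [if_neg h1, mul_zero]
    · intro h
      exact absurd (Finset.mem_univ _) h

theorem monoMat_pow_self (lam : K) :
    monoMat κ (fun j : ZMod r => if j = 0 then lam else 1) ^ r
      = Matrix.scalar (ZMod r × κ) lam := by
  have hr : 0 < r := Nat.pos_of_ne_zero (NeZero.ne r)
  rw [monoMat_pow]
  ext x y
  rw [Matrix.scalar_apply, Matrix.diagonal_apply]
  simp only [Matrix.of_apply, ZMod.natCast_self, add_zero]
  have hprod : ∏ u ∈ Finset.range r, (if y.1 + (u : ZMod r) = 0 then lam else 1) = lam := by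
    have h1 : ∀ u ∈ Finset.range r, (if y.1 + (u : ZMod r) = 0 then lam else 1)
        = (if u = (-y.1).val then lam else 1) := by
      intro u hu
      have hu' : u < r := Finset.mem_range.mp hu
      have hiff : y.1 + (u : ZMod r) = 0 ↔ u = (-y.1).val := by
        constructor
        · intro h
          have h2 : (u : ZMod r) = -y.1 := by
            rw [eq_neg_iff_add_eq_zero, add_comm]
            exact h
          rw [← h2, ZMod.val_natCast_of_lt hu']
        · intro h
          rw [h, ZMod.natCast_zmod_val, add_neg_cancel]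
      rw [if_congr hiff rfl rfl]
    rw [Finset.prod_congr rfl h1, Finset.prod_ite_eq']
    rw [if_pos (Finset.mem_range.mpr (ZMod.val_lt _))]
  by_cases hxy : x = y
  · rw [if_pos hxy, if_pos ⟨by rw [hxy], by rw [hxy]⟩, hprod]
  · rw [if_neg hxy, if_neg]
    rintro ⟨h1, h2⟩
    exact hxy (Prod.ext h2 h1)

theorem monoMat_cstar (σ : K →+* K) (c : ZMod r → K) (hc : ∀ j, σ (c j) * c j = 1) :
    ((monoMat κ c).map σ).transpose * monoMat κ c = 1 := by
  ext x y
  rw [Matrix.mul_apply, Matrix.one_apply]
  simp only [Matrix.transpose_apply, Matrix.map_apply, monoMat, Matrix.of_apply]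
  by_cases hxy : x = y
  · rw [if_pos hxy, Finset.sum_eq_single (x.1 + 1, x.2)]
    · rw [if_pos ⟨rfl, rfl⟩, if_pos ⟨by rw [hxy], by rw [hxy]⟩, ← hxy]
      exact hc _
    · intro b _ hb
      by_cases h1 : b.2 = x.2 ∧ b.1 = x.1 + 1
      · exact absurd (Prod.ext h1.2 h1.1 : b = (x.1 + 1, x.2)) hb
      · rw [if_neg h1, map_zero, zero_mul]
    · intro h
      exact absurd (Finset.mem_univ _) h
  · rw [if_neg hxy]
    apply Finset.sum_eq_zero
    intro b _
    by_cases h1 : b.2 = x.2 ∧ b.1 = x.1 + 1
    · by_cases h2 : b.2 = y.2 ∧ b.1 = y.1 + 1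
      · exfalso
        apply hxy
        apply Prod.ext
        · exact add_right_cancel (h1.2.symm.trans h2.2)
        · exact h1.1.symm.trans h2.1
      · rw [if_neg h2, mul_zero]
    · rw [if_neg h1, map_zero, zero_mul]

/-- existence of an `n × n` monomial matrix with `A^r = lam` when `r ∣ n`; it is unitary
when `lam` has norm one -/
theorem exists_mono_matrix (n : ℕ) (hrn : r ∣ n) (lam : K) :
    ∃ A : Matrix (Fin n) (Fin n) K, A ^ r = Matrix.scalar (Fin n) lam ∧
      ∀ σ : K →+* K, σ lam * lam = 1 → (A.map σ).transpose * A = 1 := by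
  classical
  obtain ⟨k, hk⟩ := hrn
  have hcard : Fintype.card (ZMod r × Fin k) = Fintype.card (Fin n) := by
    rw [Fintype.card_prod, ZMod.card, Fintype.card_fin, Fintype.card_fin, hk]
  let e : ZMod r × Fin k ≃ Fin n := Fintype.equivOfCardEq hcard
  let M := monoMat (Fin k) (fun j : ZMod r => if j = 0 then lam else 1)
  refine ⟨Matrix.reindexAlgEquiv K K e M, ?_, ?_⟩
  · rw [← map_pow, monoMat_pow_self]
    exact (Matrix.reindexAlgEquiv K K e).commutes lam
  · intro σ hσ
    have h1 := monoMat_cstar (κ := Fin k) σ (fun j : ZMod r => if j = 0 then lam else 1) (by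
      intro j
      by_cases hj : j = 0
      · rw [if_pos hj]
        exact hσ
      · rw [if_neg hj, map_one, one_mul])
    have h2 : ((Matrix.reindexAlgEquiv K K e M).map σ).transpose
        = Matrix.reindexAlgEquiv K K e ((M.map σ).transpose) := by
      ext i j
      rfl
    rw [h2, ← map_mul, h1, map_one]

end mono

end Cfsg.Agent.Lib.helper45
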