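import Mathlib
import Cfsg.Agent.Lib.helper45.PGMatrix
import Cfsg.Agent.Lib.helper45.SelfDualCount

/-! Classes of elements of prime order `r` in `G ⧸ Z(G)` for a linear group `G ≤ GL_n(K)` whose
centre consists of the scalars in a subgroup `U ≤ Kˣ` containing the `r`-th roots of unity. -/

set_option autoImplicit false
set_option linter.unusedSectionVars false
set_option linter.style.haveILetI false

namespace Cfsg.Agent.Lib.helper45

open Polynomial

section pg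

variable {K : Type*} [Field K] {n r : ℕ} {G : Type*} [Group G]

/-- the matrix of a group element -/
abbrev pgM (φ : G →* GL (Fin n) K) (g : G) : Matrix (Fin n) (Fin n) K :=
  ((φ g : GL (Fin n) K) : Matrix (Fin n) (Fin n) K)

theorem pgM_mul (φ : G →* GL (Fin n) K) (g h : G) : pgM φ (g * h) = pgM φ g * pgM φ h := by
  show ((φ (g * h) : GL (Fin n) K) : Matrix (Fin n) (Fin n) K) = _
  rw [map_mul, Units.val_mul]

theorem pgM_one (φ : G →* GL (Fin n) K) : pgM φ 1 = 1 := by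
  show ((φ 1 : GL (Fin n) K) : Matrix (Fin n) (Fin n) K) = 1
  rw [map_one, Units.val_one]

theorem pgM_pow (φ : G →* GL (Fin n) K) (g : G) (k : ℕ) : pgM φ (g ^ k) = pgM φ g ^ k := by
  show ((φ (g ^ k) : GL (Fin n) K) : Matrix (Fin n) (Fin n) K) = _
  rw [map_pow, Units.val_pow_eq_pow_val]

theorem pgM_injective (φ : G →* GL (Fin n) K) (hφ : Function.Injective φ) {g h : G}
    (e : pgM φ g = pgM φ h) : g = h := hφ (Units.ext e)

/-- the invariant: the characteristic polynomials of the lifts -/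
def pgChi (φ : G →* GL (Fin n) K) (x : G ⧸ Subgroup.center G) : Set K[X] :=
  {f | ∃ g : G, (QuotientGroup.mk g : G ⧸ Subgroup.center G) = x ∧ (pgM φ g).charpoly = f}

theorem pg_charpoly_conj (φ : G →* GL (Fin n) K) (g c : G) :
    (pgM φ (c * g * c⁻¹)).charpoly = (pgM φ g).charpoly := by
  have h1 : pgM φ c⁻¹ * pgM φ c = 1 := by rw [← pgM_mul, inv_mul_cancel, pgM_one]
  rw [pgM_mul, pgM_mul, Matrix.charpoly_mul_comm, ← Matrix.mul_assoc, h1, Matrix.one_mul]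

theorem pgChi_conj (φ : G →* GL (Fin n) K) (x c : G ⧸ Subgroup.center G) :
    pgChi φ (c * x * c⁻¹) = pgChi φ x := by
  obtain ⟨d, rfl⟩ := QuotientGroup.mk_surjective c
  ext f
  constructor
  · rintro ⟨g, hg, rfl⟩
    refine ⟨d⁻¹ * g * d, ?_, ?_⟩
    · rw [QuotientGroup.mk_mul, QuotientGroup.mk_mul, QuotientGroup.mk_inv, hg]
      group
    · have := pg_charpoly_conj φ g d⁻¹
      rwa [inv_inv] at this
  · rintro ⟨g, rfl, rfl⟩
    refine ⟨d * g * d⁻¹, ?_, pg_charpoly_conj φ g d⟩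
    rw [QuotientGroup.mk_mul, QuotientGroup.mk_mul, QuotientGroup.mk_inv]

theorem pgChi_of_isConj (φ : G →* GL (Fin n) K) {x y : G ⧸ Subgroup.center G} (h : IsConj x y) :
    pgChi φ x = pgChi φ y := by
  obtain ⟨c, hc⟩ := isConj_iff.mp h
  rw [← hc, pgChi_conj]

theorem mem_pgChi_self (φ : G →* GL (Fin n) K) (g : G) :
    (pgM φ g).charpoly ∈ pgChi φ (QuotientGroup.mk g) := ⟨g, rfl, rfl⟩

theorem pgM_mul_scalar_pow (φ : G →* GL (Fin n) K) (g z : G) (b : K)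
    (hz : pgM φ z = Matrix.scalar (Fin n) b) (k : ℕ) :
    pgM φ (g * z) ^ k = pgM φ g ^ k * Matrix.scalar (Fin n) (b ^ k) := by
  rw [pgM_mul, hz, (Matrix.scalar_commute b (fun r' => Commute.all _ _) (pgM φ g)).symm.mul_pow,
    ← map_pow]

/-- the elements of `U` that are not `r`-th powers in `U` -/
def pgN (U : Subgroup Kˣ) (r : ℕ) : Set Kˣ := {c | c ∈ U ∧ ∀ b ∈ U, b ^ r ≠ c}

theorem pgN_mul (U : Subgroup Kˣ) {c b : Kˣ} (hc : c ∈ pgN U r) (hb : b ∈ U) :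
    c * b ^ r ∈ pgN U r := by
  refine ⟨U.mul_mem hc.1 (U.pow_mem hb r), ?_⟩
  intro a ha hab
  apply hc.2 (a * b⁻¹) (U.mul_mem ha (U.inv_mem hb))
  rw [mul_pow, hab, inv_pow, mul_inv_cancel_right]

theorem one_notMem_pgN (U : Subgroup Kˣ) : (1 : Kˣ) ∉ pgN U r := fun h =>
  h.2 1 U.one_mem (one_pow r)

/-- `ζ^j` for `j : ZMod r` -/
def zp (ζ : Kˣ) (j : ZMod r) : Kˣ := ζ ^ j.val

theorem zp_add [NeZero r] (ζ : Kˣ) (hζ : orderOf ζ = r) (j m : ZMod r) :
    zp ζ (j + m) = zp ζ j * zp ζ m := by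
  unfold zp
  rw [ZMod.val_add, ← pow_add]
  have := pow_mod_orderOf ζ (j.val + m.val)
  rwa [hζ] at this

theorem zp_pow (ζ : Kˣ) (hζ : orderOf ζ = r) (j : ZMod r) : zp ζ j ^ r = 1 := by
  unfold zp
  have h1 : ζ ^ r = 1 := by
    have := pow_orderOf_eq_one ζ
    rwa [hζ] at this
  rw [← pow_mul, mul_comm, pow_mul, h1, one_pow]

theorem zp_injective [NeZero r] (ζ : Kˣ) (hζ : orderOf ζ = r) :
    Function.Injective (zp (r := r) ζ) := by
  intro j j' h
  apply ZMod.val_injective r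
  apply pow_injOn_Iio_orderOf (x := ζ)
  · rw [hζ]
    exact ZMod.val_lt j
  · rw [hζ]
    exact ZMod.val_lt j'
  · exact h

/-- the diagonal matrix with entries `ζ^(d i)` -/
def pgD (ζ : Kˣ) (d : Fin n → ZMod r) : Matrix (Fin n) (Fin n) K :=
  Matrix.diagonal (fun i => ((zp ζ (d i) : Kˣ) : K))

theorem pgD_pow (ζ : Kˣ) (hζ : orderOf ζ = r) (d : Fin n → ZMod r) : pgD ζ d ^ r = 1 := by
  unfold pgD
  rw [Matrix.diagonal_pow, ← Matrix.diagonal_one]
  congr 1
  funext i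
  show ((zp ζ (d i) : Kˣ) : K) ^ r = 1
  rw [← Units.val_pow_eq_pow_val, zp_pow ζ hζ, Units.val_one]

theorem pgD_mul_scalar (ζ : Kˣ) (d : Fin n → ZMod r) (b : Kˣ) :
    pgD ζ d * Matrix.scalar (Fin n) (b : K)
      = Matrix.diagonal (fun i => ((zp ζ (d i) * b : Kˣ) : K)) := by
  unfold pgD
  rw [Matrix.scalar_apply, Matrix.diagonal_mul_diagonal]
  rfl

theorem roots_prod_X_sub_C_fin (v : Fin n → K) :
    (∏ i, (X - C (v i))).roots = (Finset.univ : Finset (Fin n)).val.map v := by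
  have h : (fun i => X - C (v i)) = (fun a : K => X - C a) ∘ v := rfl
  rw [Finset.prod_eq_multiset_prod, h, ← Multiset.map_map, roots_multiset_prod_X_sub_C]

theorem pow_eq_pow_irreducible {p q : K[X]} (hp : Irreducible p) (hq : Irreducible q)
    (hpm : p.Monic) (hqm : q.Monic) {k : ℕ} (hk : k ≠ 0) (h : p ^ k = q ^ k) : p = q := by
  have h1 : p ∣ q ^ k := by
    rw [← h]
    exact dvd_pow_self p hk
  exact eq_of_monic_of_associated hpm hqm (hp.associated_of_dvd hq (hp.prime.dvd_of_dvd_pow h1))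

variable (φ : G →* GL (Fin n) K) (U : Subgroup Kˣ)

theorem pg_isConj (hrK : (r : K) ≠ 0) (hconj : ∀ g h : G, IsConj (φ g) (φ h) → IsConj g h)
    (g h : G) (c c' : Kˣ) (hg : pgM φ g ^ r = Matrix.scalar (Fin n) (c : K))
    (hh : pgM φ h ^ r = Matrix.scalar (Fin n) (c' : K))
    (hc : (pgM φ g).charpoly = (pgM φ h).charpoly) : IsConj g h := by
  obtain ⟨P, hP⟩ := exists_GL_conj_of_pow_eq_scalar (pgM φ g) (pgM φ h) r hrK c c' c.ne_zero
    c'.ne_zero hg hh hc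
  apply hconj
  rw [isConj_iff]
  refine ⟨P, ?_⟩
  rw [mul_inv_eq_iff_eq_mul]
  exact Units.ext hP

theorem pg_lift (hZ1 : ∀ z ∈ Subgroup.center G, ∃ c ∈ U, pgM φ z = Matrix.scalar (Fin n) (c : K))
    (g h : G) (e : (QuotientGroup.mk h : G ⧸ Subgroup.center G) = QuotientGroup.mk g) :
    ∃ b ∈ U, ∃ z : G, h = g * z ∧ pgM φ z = Matrix.scalar (Fin n) (b : K) := by
  have h1 : g⁻¹ * h ∈ Subgroup.center G := QuotientGroup.eq.mp e.symm
  obtain ⟨b, hb, hbz⟩ := hZ1 _ h1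
  exact ⟨b, hb, g⁻¹ * h, by group, hbz⟩

theorem pg_pow_scalar
    (hZ1 : ∀ z ∈ Subgroup.center G, ∃ c ∈ U, pgM φ z = Matrix.scalar (Fin n) (c : K))
    (g : G) (hg : (QuotientGroup.mk g : G ⧸ Subgroup.center G) ^ r = 1) :
    ∃ c ∈ U, pgM φ g ^ r = Matrix.scalar (Fin n) (c : K) := by
  rw [← QuotientGroup.mk_pow, QuotientGroup.eq_one_iff] at hg
  obtain ⟨c, hc, hcz⟩ := hZ1 _ hg
  exact ⟨c, hc, by rw [← pgM_pow]; exact hcz⟩

theorem pg_pow_eq_one (hφ : Function.Injective φ)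
    (hZ2 : ∀ c ∈ U, ∃ z ∈ Subgroup.center G, pgM φ z = Matrix.scalar (Fin n) (c : K))
    (g : G) (c : Kˣ) (hc : c ∈ U) (hg : pgM φ g ^ r = Matrix.scalar (Fin n) (c : K)) :
    (QuotientGroup.mk g : G ⧸ Subgroup.center G) ^ r = 1 := by
  rw [← QuotientGroup.mk_pow, QuotientGroup.eq_one_iff]
  obtain ⟨z, hz, hzc⟩ := hZ2 c hc
  have h1 : g ^ r = z := pgM_injective φ hφ (by rw [pgM_pow, hg, hzc])
  rw [h1]
  exact hz

theorem pg_mk_mul_center {g z : G} (hz : z ∈ Subgroup.center G) :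
    (QuotientGroup.mk (g * z) : G ⧸ Subgroup.center G) = QuotientGroup.mk g := by
  rw [QuotientGroup.mk_mul, (QuotientGroup.eq_one_iff z).mpr hz, mul_one]

theorem pg_normal_A
    (hZ2 : ∀ c ∈ U, ∃ z ∈ Subgroup.center G, pgM φ z = Matrix.scalar (Fin n) (c : K))
    (g : G) (b : Kˣ) (hb : b ∈ U)
    (hg : pgM φ g ^ r = Matrix.scalar (Fin n) ((b ^ r : Kˣ) : K)) :
    ∃ g' : G, (QuotientGroup.mk g' : G ⧸ Subgroup.center G) = QuotientGroup.mk g
      ∧ pgM φ g' ^ r = 1 := by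
  obtain ⟨z, hz, hzb⟩ := hZ2 b⁻¹ (U.inv_mem hb)
  refine ⟨g * z, pg_mk_mul_center hz, ?_⟩
  rw [pgM_mul_scalar_pow φ g z _ hzb r, hg, ← map_mul, ← Units.val_pow_eq_pow_val,
    ← Units.val_mul, inv_pow, mul_inv_cancel, Units.val_one, map_one]

theorem pg_charpoly_B (hr : r.Prime)
    (hirr : ∀ c ∈ U, (∀ b ∈ U, b ^ r ≠ c) → Irreducible (X ^ r - C (c : K) : K[X]))
    (g : G) (c : Kˣ) (hc : c ∈ pgN U r) (hg : pgM φ g ^ r = Matrix.scalar (Fin n) (c : K)) :
    ∃ k, r * k = n ∧ (pgM φ g).charpoly = (X ^ r - C (c : K) : K[X]) ^ k := by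
  obtain ⟨k, hk, hk2⟩ := charpoly_eq_pow_of_irreducible (pgM φ g) r hr.pos c hg
    (hirr c hc.1 hc.2)
  exact ⟨k, by rw [hk, Fintype.card_fin], hk2⟩

theorem pg_isConj_B (hr : r.Prime) (hrK : (r : K) ≠ 0)
    (hconj : ∀ g h : G, IsConj (φ g) (φ h) → IsConj g h)
    (hirr : ∀ c ∈ U, (∀ b ∈ U, b ^ r ≠ c) → Irreducible (X ^ r - C (c : K) : K[X]))
    (g h : G) (c : Kˣ) (hc : c ∈ pgN U r) (hg : pgM φ g ^ r = Matrix.scalar (Fin n) (c : K))
    (hh : pgM φ h ^ r = Matrix.scalar (Fin n) (c : K)) : IsConj g h := by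
  obtain ⟨k, hk, hk2⟩ := pg_charpoly_B φ U hr hirr g c hc hg
  obtain ⟨k', hk', hk2'⟩ := pg_charpoly_B φ U hr hirr h c hc hh
  have hkk : k = k' := Nat.eq_of_mul_eq_mul_left hr.pos (hk.trans hk'.symm)
  exact pg_isConj φ hrK hconj g h c c hg hh (by rw [hk2, hk2', hkk])

/-- type `A`: when do two diagonal elements give the same invariant -/
theorem pg_A_iff (hr : r.Prime) (hrK : (r : K) ≠ 0) (ζ : Kˣ) (hζ : orderOf ζ = r)
    (hζU : ∀ c : Kˣ, c ^ r = 1 → c ∈ U)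
    (hZ1 : ∀ z ∈ Subgroup.center G, ∃ c ∈ U, pgM φ z = Matrix.scalar (Fin n) (c : K))
    (hZ2 : ∀ c ∈ U, ∃ z ∈ Subgroup.center G, pgM φ z = Matrix.scalar (Fin n) (c : K))
    (hconj : ∀ g h : G, IsConj (φ g) (φ h) → IsConj g h) (hn : 0 < n)
    (d d' : Fin n → ZMod r) (gd gd' : G) (hgd : pgM φ gd = pgD ζ d)
    (hgd' : pgM φ gd' = pgD ζ d') :
    pgChi φ (QuotientGroup.mk gd) = pgChi φ (QuotientGroup.mk gd')
      ↔ ∃ m : ZMod r, ∀ j, fibCnt d j = fibCnt d' (j + m) := by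
  classical
  haveI : NeZero r := ⟨hr.ne_zero⟩
  constructor
  · intro h
    have h1 : (pgM φ gd).charpoly ∈ pgChi φ (QuotientGroup.mk gd') := h ▸ mem_pgChi_self φ gd
    obtain ⟨hh, hh1, hh2⟩ := h1
    obtain ⟨b, hb, z, rfl, hz⟩ := pg_lift φ U hZ1 gd' hh hh1
    rw [pgM_mul, hgd', hz, hgd, pgD_mul_scalar, Matrix.charpoly_diagonal, pgD,
      Matrix.charpoly_diagonal] at hh2
    have h2 := congrArg roots hh2
    rw [roots_prod_X_sub_C_fin, roots_prod_X_sub_C_fin] at h2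
    have h3 : (Finset.univ : Finset (Fin n)).val.map (fun i => zp ζ (d' i) * b)
        = (Finset.univ : Finset (Fin n)).val.map (fun i => zp ζ (d i)) := by
      apply Multiset.map_injective (Units.val_injective (α := K))
      rw [Multiset.map_map, Multiset.map_map]
      exact h2
    have hmem : zp ζ (d ⟨0, hn⟩) ∈ (Finset.univ : Finset (Fin n)).val.map (fun i => zp ζ (d i)) :=
      Multiset.mem_map_of_mem _ (Finset.mem_univ_val _)
    rw [← h3] at hmem
    obtain ⟨i1, _, hi1⟩ := Multiset.mem_map.mp hmem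
    have hb' : b = zp ζ (d ⟨0, hn⟩ - d' i1) := by
      have h4 : zp ζ (d ⟨0, hn⟩) = zp ζ (d ⟨0, hn⟩ - d' i1) * zp ζ (d' i1) := by
        rw [← zp_add ζ hζ, sub_add_cancel]
      rw [h4, mul_comm] at hi1
      exact mul_right_cancel hi1
    refine ⟨-(d ⟨0, hn⟩ - d' i1), (fibCnt_shift_iff d d' _).mpr ?_⟩
    apply Multiset.map_injective (zp_injective ζ hζ)
    rw [Multiset.map_map, Multiset.map_map]
    refine h3.symm.trans ?_
    apply Multiset.map_congr rfl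
    intro i _
    show zp ζ (d' i) * b = zp ζ (d' i - -(d ⟨0, hn⟩ - d' i1))
    rw [sub_neg_eq_add, zp_add ζ hζ, hb']
  · rintro ⟨m, hm⟩
    have h1 := (fibCnt_shift_iff d d' m).mp hm
    obtain ⟨z, hz, hzb⟩ := hZ2 (zp ζ (-m)) (hζU _ (zp_pow ζ hζ _))
    have hcp : (pgM φ gd).charpoly = (pgM φ (gd' * z)).charpoly := by
      rw [hgd, pgM_mul, hgd', hzb, pgD_mul_scalar, pgD, Matrix.charpoly_diagonal,
        Matrix.charpoly_diagonal]
      have e1 : ∏ i, (X - C ((zp ζ (d i) : Kˣ) : K))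
          = (((Finset.univ : Finset (Fin n)).val.map d).map
              (fun j => (X - C ((zp ζ j : Kˣ) : K) : K[X]))).prod := by
        rw [Multiset.map_map, Finset.prod_eq_multiset_prod]
        rfl
      rw [e1, h1, Multiset.map_map, Finset.prod_eq_multiset_prod]
      congr 1
      apply Multiset.map_congr rfl
      intro i _
      show (X - C ((zp ζ (d' i - m) : Kˣ) : K) : K[X]) = X - C ((zp ζ (d' i) * zp ζ (-m) : Kˣ) : K)
      rw [show d' i - m = d' i + -m from sub_eq_add_neg _ _, zp_add ζ hζ]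
    have hc : IsConj gd (gd' * z) := by
      apply pg_isConj φ hrK hconj gd (gd' * z) 1 (zp ζ (-m) ^ r) _ _ hcp
      · rw [hgd, pgD_pow ζ hζ, Units.val_one, map_one]
      · rw [pgM_mul_scalar_pow φ gd' z _ hzb r, hgd', pgD_pow ζ hζ, one_mul,
          Units.val_pow_eq_pow_val]
    have h2 := pgChi_of_isConj φ (MonoidHom.map_isConj (QuotientGroup.mk' (Subgroup.center G)) hc)
    rw [QuotientGroup.mk'_apply, QuotientGroup.mk'_apply, pg_mk_mul_center hz] at h2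
    exact h2

/-- type `B`: when do two elements with non-power scalar `r`-th powers give the same invariant -/
theorem pg_B_iff (hr : r.Prime) (hrK : (r : K) ≠ 0)
    (hZ1 : ∀ z ∈ Subgroup.center G, ∃ c ∈ U, pgM φ z = Matrix.scalar (Fin n) (c : K))
    (hZ2 : ∀ c ∈ U, ∃ z ∈ Subgroup.center G, pgM φ z = Matrix.scalar (Fin n) (c : K))
    (hconj : ∀ g h : G, IsConj (φ g) (φ h) → IsConj g h)
    (hirr : ∀ c ∈ U, (∀ b ∈ U, b ^ r ≠ c) → Irreducible (X ^ r - C (c : K) : K[X]))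
    (hn : 0 < n) (c c' : Kˣ) (hc : c ∈ pgN U r) (hc' : c' ∈ pgN U r) (gc gc' : G)
    (hgc : pgM φ gc ^ r = Matrix.scalar (Fin n) (c : K))
    (hgc' : pgM φ gc' ^ r = Matrix.scalar (Fin n) (c' : K)) :
    pgChi φ (QuotientGroup.mk gc) = pgChi φ (QuotientGroup.mk gc')
      ↔ ∃ b ∈ U, c = c' * b ^ r := by
  constructor
  · intro h
    have h1 : (pgM φ gc).charpoly ∈ pgChi φ (QuotientGroup.mk gc') := h ▸ mem_pgChi_self φ gc
    obtain ⟨hh, hh1, hh2⟩ := h1
    obtain ⟨b, hb, z, rfl, hz⟩ := pg_lift φ U hZ1 gc' hh hh1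
    refine ⟨b, hb, ?_⟩
    have hpow : pgM φ (gc' * z) ^ r = Matrix.scalar (Fin n) ((c' * b ^ r : Kˣ) : K) := by
      rw [pgM_mul_scalar_pow φ gc' z _ hz r, hgc', ← map_mul, Units.val_mul,
        Units.val_pow_eq_pow_val]
    obtain ⟨k, hk, hk2⟩ := pg_charpoly_B φ U hr hirr gc c hc hgc
    obtain ⟨k', hk', hk2'⟩ := pg_charpoly_B φ U hr hirr (gc' * z) _ (pgN_mul U hc' hb) hpow
    have hkk : k = k' := Nat.eq_of_mul_eq_mul_left hr.pos (hk.trans hk'.symm)
    have hk0 : k ≠ 0 := by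
      rintro rfl
      rw [mul_zero] at hk
      omega
    rw [hk2, hk2', ← hkk] at hh2
    have h3 := pow_eq_pow_irreducible (hirr _ (pgN_mul U hc' hb).1 (pgN_mul U hc' hb).2)
      (hirr c hc.1 hc.2) (monic_X_pow_sub_C _ hr.ne_zero) (monic_X_pow_sub_C _ hr.ne_zero) hk0 hh2
    have h4 : (C ((c' * b ^ r : Kˣ) : K) : K[X]) = C (c : K) := by
      have := congrArg (fun p : K[X] => X ^ r - p) h3
      simpa using this
    exact (Units.ext (C_injective h4)).symm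
  · rintro ⟨b, hb, rfl⟩
    obtain ⟨z, hz, hzb⟩ := hZ2 b hb
    have hpow : pgM φ (gc' * z) ^ r = Matrix.scalar (Fin n) ((c' * b ^ r : Kˣ) : K) := by
      rw [pgM_mul_scalar_pow φ gc' z _ hzb r, hgc', ← map_mul, Units.val_mul,
        Units.val_pow_eq_pow_val]
    have hcj : IsConj gc (gc' * z) := pg_isConj_B φ U hr hrK hconj hirr gc (gc' * z) _ hc hgc hpow
    have h2 := pgChi_of_isConj φ (MonoidHom.map_isConj (QuotientGroup.mk' (Subgroup.center G)) hcj)
    rw [QuotientGroup.mk'_apply, QuotientGroup.mk'_apply, pg_mk_mul_center hz] at h2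
    exact h2

/-- the two types have different invariants -/
theorem pg_AB_ne (hr : r.Prime)
    (hZ1 : ∀ z ∈ Subgroup.center G, ∃ c ∈ U, pgM φ z = Matrix.scalar (Fin n) (c : K))
    (hirr : ∀ c ∈ U, (∀ b ∈ U, b ^ r ≠ c) → Irreducible (X ^ r - C (c : K) : K[X]))
    (hn : 0 < n) (g g' : G) (hg : pgM φ g ^ r = 1) (c : Kˣ) (hc : c ∈ pgN U r)
    (hg' : pgM φ g' ^ r = Matrix.scalar (Fin n) (c : K)) :
    pgChi φ (QuotientGroup.mk g) ≠ pgChi φ (QuotientGroup.mk g') := by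
  intro h
  have h1 : (pgM φ g).charpoly ∈ pgChi φ (QuotientGroup.mk g') := h ▸ mem_pgChi_self φ g
  obtain ⟨hh, hh1, hh2⟩ := h1
  obtain ⟨b, hb, z, rfl, hz⟩ := pg_lift φ U hZ1 g' hh hh1
  have hpow : pgM φ (g' * z) ^ r = Matrix.scalar (Fin n) ((c * b ^ r : Kˣ) : K) := by
    rw [pgM_mul_scalar_pow φ g' z _ hz r, hg', ← map_mul, Units.val_mul,
      Units.val_pow_eq_pow_val]
  have hcN := pgN_mul U hc hb
  obtain ⟨k, hk, hk2⟩ := pg_charpoly_B φ U hr hirr (g' * z) _ hcN hpow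
  have hk0 : k ≠ 0 := by
    rintro rfl
    rw [mul_zero] at hk
    omega
  have hdvd := charpoly_dvd_pow_of_pow_eq_one (pgM φ g) r hg
  rw [← hh2, hk2] at hdvd
  have hirr' := hirr _ hcN.1 hcN.2
  have h3 : (X ^ r - C ((c * b ^ r : Kˣ) : K) : K[X]) ∣ X ^ r - 1 :=
    hirr'.prime.dvd_of_dvd_pow ((dvd_pow_self _ hk0).trans hdvd)
  have hmon1 : (X ^ r - 1 : K[X]).Monic := by
    have := monic_X_pow_sub_C (1 : K) hr.ne_zero
    rwa [map_one] at this
  have hdeg1 : (X ^ r - 1 : K[X]).natDegree = r := by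
    have := natDegree_X_pow_sub_C (R := K) (n := r) (r := 1)
    rwa [map_one] at this
  have h4 := eq_of_monic_of_dvd_of_natDegree_le (monic_X_pow_sub_C _ hr.ne_zero) hmon1 h3
    (by rw [hdeg1, natDegree_X_pow_sub_C])
  have h5 : (C ((c * b ^ r : Kˣ) : K) : K[X]) = C (1 : K) := by
    have := congrArg (fun p : K[X] => X ^ r - p) h4
    simpa using this.symm
  have h6 : c * b ^ r = 1 := Units.ext (C_injective h5)
  rw [h6] at hcN
  exact one_notMem_pgN U hcN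

end pg

section count

variable {K : Type*} [Field K] [Finite K] {n r : ℕ} {G : Type*} [Group G]
  (φ : G →* GL (Fin n) K) (U : Subgroup Kˣ)

/-- invariants of the elements with a lift of order dividing `r` -/
def pgSA (φ : G →* GL (Fin n) K) (r : ℕ) : Set (Set K[X]) :=
  {s | ∃ g : G, pgM φ g ^ r = 1 ∧ s = pgChi φ (QuotientGroup.mk g)}

/-- invariants of the elements whose lifts have a non-power scalar as `r`-th power -/
def pgSB (φ : G →* GL (Fin n) K) (U : Subgroup Kˣ) (r : ℕ) : Set (Set K[X]) :=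
  {s | ∃ c ∈ pgN U r, ∃ g : G, pgM φ g ^ r = Matrix.scalar (Fin n) (c : K)
    ∧ s = pgChi φ (QuotientGroup.mk g)}

theorem card_pgSA (hr : r.Prime) (hrK : (r : K) ≠ 0) (ζ : Kˣ) (hζ : orderOf ζ = r)
    (hζU : ∀ c : Kˣ, c ^ r = 1 → c ∈ U)
    (hZ1 : ∀ z ∈ Subgroup.center G, ∃ c ∈ U, pgM φ z = Matrix.scalar (Fin n) (c : K))
    (hZ2 : ∀ c ∈ U, ∃ z ∈ Subgroup.center G, pgM φ z = Matrix.scalar (Fin n) (c : K))
    (hconj : ∀ g h : G, IsConj (φ g) (φ h) → IsConj g h) (hn : 0 < n)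
    (hdiag : ∀ v : Fin n → Kˣ, (∀ i, v i ^ r = 1) →
      ∃ g : G, pgM φ g = Matrix.diagonal (fun i => (v i : K))) :
    haveI : NeZero r := ⟨hr.ne_zero⟩
    Nat.card (pgSA φ r) = Nat.card (Quotient (rotSetoid r n)) := by
  classical
  haveI : NeZero r := ⟨hr.ne_zero⟩
  have hdiag' : ∀ d : Fin n → ZMod r, ∃ g : G, pgM φ g = pgD ζ d :=
    fun d => hdiag (fun i => zp ζ (d i)) (fun i => zp_pow ζ hζ _)
  choose gA hgA using hdiag'
  have e1 : pgSA φ r
      = (fun d : Fin n → ZMod r => pgChi φ (QuotientGroup.mk (gA d))) '' Set.univ := by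
    ext s
    constructor
    · rintro ⟨g, hg, rfl⟩
      obtain ⟨d, hd⟩ := exists_diag_of_pow_eq_one (pgM φ g) hr.pos hg ζ hζ
      refine ⟨d, trivial, ?_⟩
      have hc : IsConj (gA d) g := by
        apply pg_isConj φ hrK hconj (gA d) g 1 1
        · rw [hgA, pgD_pow ζ hζ, Units.val_one, map_one]
        · rw [hg, Units.val_one, map_one]
        · rw [hgA d, hd, pgD, Matrix.charpoly_diagonal]
          rfl
      exact pgChi_of_isConj φ (MonoidHom.map_isConj (QuotientGroup.mk' (Subgroup.center G)) hc)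
    · rintro ⟨d, _, rfl⟩
      exact ⟨gA d, by rw [hgA, pgD_pow ζ hζ], rfl⟩
  have hsurj : Function.Surjective (fun d : Fin n → ZMod r =>
      (Quotient.mk (rotSetoid r n) ⟨fibCnt d, fibCnt_sum d⟩ : Quotient (rotSetoid r n))) := by
    intro q
    obtain ⟨a, rfl⟩ := Quotient.exists_rep q
    obtain ⟨d, hd⟩ := exists_fibCnt a.1 a.2
    exact ⟨d, congrArg _ (Subtype.ext hd)⟩
  rw [e1, card_image_eq_of_iff _ (fun d : Fin n → ZMod r =>
      (Quotient.mk (rotSetoid r n) ⟨fibCnt d, fibCnt_sum d⟩ : Quotient (rotSetoid r n))) Set.univ,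
    Set.image_univ, Set.range_eq_univ.mpr hsurj, Nat.card_univ]
  intro d _ d' _
  rw [pg_A_iff φ U hr hrK ζ hζ hζU hZ1 hZ2 hconj hn d d' (gA d) (gA d') (hgA d) (hgA d'),
    Quotient.eq]
  exact (rotSetoid_iff r n ⟨fibCnt d, fibCnt_sum d⟩ ⟨fibCnt d', fibCnt_sum d'⟩).symm

theorem card_pgSB (hr : r.Prime) (hrK : (r : K) ≠ 0) (ζ : Kˣ) (hζ : orderOf ζ = r)
    (hζU : ∀ c : Kˣ, c ^ r = 1 → c ∈ U)
    (hZ1 : ∀ z ∈ Subgroup.center G, ∃ c ∈ U, pgM φ z = Matrix.scalar (Fin n) (c : K))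
    (hZ2 : ∀ c ∈ U, ∃ z ∈ Subgroup.center G, pgM φ z = Matrix.scalar (Fin n) (c : K))
    (hconj : ∀ g h : G, IsConj (φ g) (φ h) → IsConj g h) (hn : 0 < n)
    (hmono : r ∣ n → ∀ c ∈ U, ∃ g : G, pgM φ g ^ r = Matrix.scalar (Fin n) (c : K))
    (hirr : ∀ c ∈ U, (∀ b ∈ U, b ^ r ≠ c) → Irreducible (X ^ r - C (c : K) : K[X])) :
    Nat.card (pgSB φ U r) = (r - 1) * (if r ∣ n then 1 else 0) := by
  classical
  by_cases hrn : r ∣ n
  · rw [if_pos hrn, mul_one]
    have hex : ∀ c : Kˣ, ∃ g : G, c ∈ U → pgM φ g ^ r = Matrix.scalar (Fin n) (c : K) := by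
      intro c
      by_cases h : c ∈ U
      · obtain ⟨g, hg⟩ := hmono hrn c h
        exact ⟨g, fun _ => hg⟩
      · exact ⟨1, fun h' => absurd h' h⟩
    choose gB hgB using hex
    have e2 : pgSB φ U r = (fun c : Kˣ => pgChi φ (QuotientGroup.mk (gB c))) '' (pgN U r) := by
      ext s
      constructor
      · rintro ⟨c, hc, g, hg, rfl⟩
        refine ⟨c, hc, ?_⟩
        have hcj : IsConj (gB c) g :=
          pg_isConj_B φ U hr hrK hconj hirr (gB c) g c hc (hgB c hc.1) hg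
        exact pgChi_of_isConj φ
          (MonoidHom.map_isConj (QuotientGroup.mk' (Subgroup.center G)) hcj)
      · rintro ⟨c, hc, rfl⟩
        exact ⟨c, hc, gB c, hgB c hc.1, rfl⟩
    let R : Subgroup U := (powMonoidHom r : U →* U).range
    let κ : Kˣ → U ⧸ R := fun c => if h : c ∈ U then QuotientGroup.mk ⟨c, h⟩ else 1
    have hκ : ∀ c ∈ pgN U r, ∀ c' ∈ pgN U r,
        (pgChi φ (QuotientGroup.mk (gB c)) = pgChi φ (QuotientGroup.mk (gB c')) ↔ κ c = κ c') := by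
      intro c hc c' hc'
      rw [pg_B_iff φ U hr hrK hZ1 hZ2 hconj hirr hn c c' hc hc' (gB c) (gB c') (hgB c hc.1)
        (hgB c' hc'.1)]
      have e3 : κ c = QuotientGroup.mk ⟨c, hc.1⟩ := dif_pos hc.1
      have e4 : κ c' = QuotientGroup.mk ⟨c', hc'.1⟩ := dif_pos hc'.1
      rw [e3, e4, QuotientGroup.eq]
      constructor
      · rintro ⟨b, hb, hcb⟩
        refine ⟨(⟨b, hb⟩ : U)⁻¹, ?_⟩
        apply Subtype.ext
        show ((⟨b, hb⟩ : U)⁻¹ : U).1 ^ r = c⁻¹ * c'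
        show (b⁻¹) ^ r = c⁻¹ * c'
        rw [hcb, mul_inv_rev, inv_pow, inv_mul_cancel_right]
      · rintro ⟨t, ht⟩
        refine ⟨(t : Kˣ)⁻¹, U.inv_mem t.2, ?_⟩
        have h1 : (t : Kˣ) ^ r = c⁻¹ * c' := congrArg Subtype.val ht
        rw [inv_pow, h1, mul_inv_rev, inv_inv, mul_inv_cancel_left]
    have himg : κ '' (pgN U r) = Set.univ \ {1} := by
      ext q
      constructor
      · rintro ⟨c, hc, rfl⟩
        refine ⟨trivial, ?_⟩
        intro h1
        have e3 : κ c = QuotientGroup.mk ⟨c, hc.1⟩ := dif_pos hc.1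
        rw [Set.mem_singleton_iff, e3, QuotientGroup.eq_one_iff] at h1
        obtain ⟨t, ht⟩ := h1
        exact hc.2 t t.2 (congrArg Subtype.val ht)
      · rintro ⟨_, hq⟩
        obtain ⟨⟨c, hcU⟩, rfl⟩ := QuotientGroup.mk_surjective q
        refine ⟨c, ⟨hcU, fun b hb hbc => hq ?_⟩, dif_pos hcU⟩
        rw [Set.mem_singleton_iff, QuotientGroup.eq_one_iff]
        exact ⟨⟨b, hb⟩, Subtype.ext hbc⟩
    have hcardQ : Nat.card (U ⧸ R) = r := by
      have h1 : R.index = (Nat.card U).gcd r := IsCyclic.index_powMonoidHom_range U r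
      have h2 : r ∣ Nat.card U := by
        have hζr : ζ ^ r = 1 := by
          have := pow_orderOf_eq_one ζ
          rwa [hζ] at this
        have := orderOf_dvd_natCard (⟨ζ, hζU ζ hζr⟩ : U)
        rwa [Subgroup.orderOf_mk, hζ] at this
      show R.index = r
      rw [h1, Nat.gcd_eq_right h2]
    rw [e2, card_image_eq_of_iff _ κ (pgN U r) hκ, himg, Nat.card_coe_set_eq,
      Set.ncard_sdiff_singleton_of_mem (Set.mem_univ _), Set.ncard_univ, hcardQ]
  · rw [if_neg hrn, mul_zero]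
    have hempty : pgSB φ U r = ∅ := by
      ext s
      constructor
      · rintro ⟨c, hc, g, hg, rfl⟩
        obtain ⟨k, hk, _⟩ := pg_charpoly_B φ U hr hirr g c hc hg
        exact hrn ⟨k, hk.symm⟩
      · intro h
        exact absurd h (Set.notMem_empty s)
    rw [hempty, Nat.card_coe_set_eq, Set.ncard_empty]

/-- **Classes of elements of prime order in `G ⧸ Z(G)`** for a linear group with scalar centre. -/
theorem pg_classes_count (hφ : Function.Injective φ) (hn : 2 ≤ n) (hr : r.Prime)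
    (hrK : (r : K) ≠ 0) (ζ : Kˣ) (hζ : orderOf ζ = r)
    (hζU : ∀ c : Kˣ, c ^ r = 1 → c ∈ U)
    (hZ1 : ∀ z ∈ Subgroup.center G, ∃ c ∈ U, pgM φ z = Matrix.scalar (Fin n) (c : K))
    (hZ2 : ∀ c ∈ U, ∃ z ∈ Subgroup.center G, pgM φ z = Matrix.scalar (Fin n) (c : K))
    (hconj : ∀ g h : G, IsConj (φ g) (φ h) → IsConj g h)
    (hdiag : ∀ v : Fin n → Kˣ, (∀ i, v i ^ r = 1) →
      ∃ g : G, pgM φ g = Matrix.diagonal (fun i => (v i : K)))
    (hmono : r ∣ n → ∀ c ∈ U, ∃ g : G, pgM φ g ^ r = Matrix.scalar (Fin n) (c : K))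
    (hirr : ∀ c ∈ U, (∀ b ∈ U, b ^ r ≠ c) → Irreducible (X ^ r - C (c : K) : K[X])) :
    Nat.card {C : ConjClasses (G ⧸ Subgroup.center G) //
        ∃ g : G ⧸ Subgroup.center G, ConjClasses.mk g = C ∧ orderOf g = r}
      = ((n + r - 1).choose (r - 1) - r - (if r ∣ n then 1 else 0)) / r
        + r * (if r ∣ n then 1 else 0) := by
  classical
  haveI : Fact r.Prime := ⟨hr⟩
  haveI : NeZero r := ⟨hr.ne_zero⟩
  haveI : Finite G := Finite.of_injective φ hφ
  have hn0 : 0 < n := by omega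
  have hcount := card_classes_prime_order r (pgSA φ r ∪ pgSB φ U r) (pgChi φ) (pgChi_conj φ)
    (by
      intro x y hx hy hxy
      obtain ⟨g, rfl⟩ := QuotientGroup.mk_surjective x
      obtain ⟨c, hc, hgc⟩ := pg_pow_scalar φ U hZ1 g hx
      have h1 : (pgM φ g).charpoly ∈ pgChi φ y := hxy ▸ mem_pgChi_self φ g
      obtain ⟨h, rfl, hh2⟩ := h1
      obtain ⟨c', hc', hhc'⟩ := pg_pow_scalar φ U hZ1 h hy
      exact MonoidHom.map_isConj (QuotientGroup.mk' (Subgroup.center G))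
        (pg_isConj φ hrK hconj g h c c' hgc hhc' hh2.symm))
    (by
      intro x hx
      obtain ⟨g, rfl⟩ := QuotientGroup.mk_surjective x
      obtain ⟨c, hc, hgc⟩ := pg_pow_scalar φ U hZ1 g hx
      by_cases hpow : ∃ b ∈ U, b ^ r = c
      · obtain ⟨b, hb, rfl⟩ := hpow
        obtain ⟨g', hg', hg'1⟩ := pg_normal_A φ U hZ2 g b hb hgc
        left
        exact ⟨g', hg'1, by rw [hg']⟩
      · right
        push Not at hpow
        exact ⟨c, ⟨hc, hpow⟩, g, hgc, rfl⟩)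
    (by
      rintro s (⟨g, hg, rfl⟩ | ⟨c, hc, g, hg, rfl⟩)
      · exact ⟨QuotientGroup.mk g, pg_pow_eq_one φ U hφ hZ2 g 1 U.one_mem
          (by rw [hg, Units.val_one, map_one]), rfl⟩
      · exact ⟨QuotientGroup.mk g, pg_pow_eq_one φ U hφ hZ2 g c hc.1 hg, rfl⟩)
  rw [hcount]
  have hfin : (pgSA φ r ∪ pgSB φ U r).Finite := by
    apply Set.Finite.subset (Set.finite_range (pgChi φ))
    rintro s (⟨g, hg, rfl⟩ | ⟨c, hc, g, hg, rfl⟩)
    · exact ⟨_, rfl⟩
    · exact ⟨_, rfl⟩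
  have hdisj : Disjoint (pgSA φ r) (pgSB φ U r) := by
    rw [Set.disjoint_left]
    rintro s ⟨g, hg, rfl⟩ ⟨c, hc, g', hg', h⟩
    exact pg_AB_ne φ U hr hZ1 hirr hn0 g g' hg c hc hg' h
  have hA := card_pgSA φ U hr hrK ζ hζ hζU hZ1 hZ2 hconj hn0 hdiag
  have hB := card_pgSB φ U hr hrK ζ hζ hζU hZ1 hZ2 hconj hn0 hmono hirr
  have hO := card_rot_orbits r n
  rw [Nat.card_coe_set_eq] at hA hB ⊢
  rw [Set.ncard_union_eq hdisj (hfin.subset Set.subset_union_left)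
    (hfin.subset Set.subset_union_right), hA, hB]
  obtain ⟨O, hOdef⟩ : ∃ O, O = Nat.card (Quotient (rotSetoid r n)) := ⟨_, rfl⟩
  rw [← hOdef] at hO ⊢
  obtain ⟨Cc, hCdef⟩ : ∃ Cc, Cc = (n + r - 1).choose (r - 1) := ⟨_, rfl⟩
  have hr2 : 2 ≤ r := hr.two_le
  by_cases hrn : r ∣ n
  · rw [if_pos hrn] at hO ⊢
    have hC : r + 1 ≤ Cc := by
      have h1 : (r + 1).choose (r - 1) ≤ (n + r - 1).choose (r - 1) :=
        Nat.choose_le_choose (r - 1) (by omega)
      have h2 : (r + 1).choose (r - 1) = (r + 1).choose 2 := by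
        have := Nat.choose_symm (n := r + 1) (k := 2) (by omega)
        rwa [show r + 1 - 2 = r - 1 by omega] at this
      have h3 : (r + 1).choose 2 = r.choose 1 + r.choose 2 := Nat.choose_succ_succ' r 1
      have h4 : 0 < r.choose 2 := Nat.choose_pos hr2
      rw [Nat.choose_one_right] at h3
      omega
    rw [← hCdef] at hO ⊢
    have hO2 : 2 ≤ O := by
      by_contra h
      have h1 : O ≤ 1 := by omega
      have h2 : O * r ≤ 1 * r := Nat.mul_le_mul_right r h1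
      omega
    have h5 : Cc - r - 1 = (O - 2) * r := by
      rw [Nat.sub_mul]
      omega
    rw [h5, Nat.mul_div_cancel _ hr.pos]
    omega
  · rw [if_neg hrn] at hO ⊢
    rw [← hCdef] at hO ⊢
    have h5 : Cc - r - 0 = (O - 1) * r := by
      rw [Nat.sub_mul]
      omega
    rw [h5, Nat.mul_div_cancel _ hr.pos]
    omega

end count

end Cfsg.Agent.Lib.helper45
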