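import Mathlib

/-! S5238 / FC sub-split (table s5238c), piece C10 `in_E` (racer copy of helper45). -/

namespace Cfsg.Agent.Lib.helper45.PearlC

theorem h45_in_E {G : Type*} [Group G] [Finite G] (p : ℕ) [Fact p.Prime] (n : ℕ)
    (hG : Nat.card G = p ^ n) (E : Subgroup G) (hE : Nat.card ↥E = p ^ 3)
    (hna : ¬ IsMulCommutative ↥E) (hC : Subgroup.centralizer (E : Set G) ≤ E)
    (hCp : Nat.card ↥(Subgroup.centralizer (E : Set G)) = p)
    (hZ : Subgroup.center G = Subgroup.centralizer (E : Set G))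
    (w : G) (hw : ∀ g : G, w * g * w⁻¹ * g⁻¹ ∈ Subgroup.center G)
    (hidx : Nat.card G ≤ p * Nat.card ↥(Subgroup.centralizer ({w} : Set G)))
    (hstep : ∀ A B C : Subgroup G, C ≤ B →
      Nat.card ↥(A ⊓ B) * Nat.card ↥C ≤ Nat.card ↥(A ⊓ C) * Nat.card ↥B)
    (hcg : ∀ (D : Subgroup G), D ≤ E → Nat.card ↥E ≤ p * Nat.card ↥D → ∀ e ∈ E, e ∉ D →
      ∀ g : G, (∀ d ∈ D, d * g = g * d) → e * g = g * e →
        g ∈ Subgroup.centralizer (E : Set G))
    (hcc : ∀ a b : G, a ∈ E → b ∈ E → a * b * a⁻¹ * b⁻¹ ∈ Subgroup.centralizer (E : Set G))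
    (hpow : ∀ c : G, c ∈ Subgroup.center G → c ≠ 1 → ∀ z : G, z ∈ Subgroup.center G →
      ∃ k : ℕ, z = c ^ k)
    (hadj : ∀ (d e w c : G) (k : ℕ), (∀ g : G, c * g = g * c) → d * e * d⁻¹ * e⁻¹ = c →
      w * e * w⁻¹ * e⁻¹ = c ^ k → d * w = w * d → e * (w * (d ^ k)⁻¹) = (w * (d ^ k)⁻¹) * e) :
    w ∈ E := by
  have hp := (Fact.out : p.Prime)
  by_cases hEw : E ≤ Subgroup.centralizer ({w} : Set G)
  · apply hC
    rw [Subgroup.mem_centralizer_iff]
    intro h hh
    have h2 := hEw hh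
    rw [Subgroup.mem_centralizer_iff] at h2
    exact (h2 w rfl).symm
  · obtain ⟨e, heE, hew⟩ := SetLike.not_le_iff_exists.mp hEw
    have hDE : E ⊓ Subgroup.centralizer ({w} : Set G) ≤ E := inf_le_left
    have hDw : ∀ d ∈ E ⊓ Subgroup.centralizer ({w} : Set G), d * w = w * d := by
      intro d hd
      have h2 : d ∈ Subgroup.centralizer ({w} : Set G) := hd.2
      rw [Subgroup.mem_centralizer_iff] at h2
      exact (h2 w rfl).symm
    have heD : e ∉ E ⊓ Subgroup.centralizer ({w} : Set G) := fun h => hew h.2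
    have h1 := hstep E ⊤ (Subgroup.centralizer ({w} : Set G)) le_top
    rw [inf_top_eq, Subgroup.card_top] at h1
    have hcpos : 0 < Nat.card ↥(Subgroup.centralizer ({w} : Set G)) := Nat.card_pos
    have hidxD : Nat.card ↥E ≤ p * Nat.card ↥(E ⊓ Subgroup.centralizer ({w} : Set G)) := by
      have h3 : Nat.card ↥E * Nat.card ↥(Subgroup.centralizer ({w} : Set G)) ≤
          (p * Nat.card ↥(E ⊓ Subgroup.centralizer ({w} : Set G))) *
            Nat.card ↥(Subgroup.centralizer ({w} : Set G)) := by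
        calc _ ≤ Nat.card ↥(E ⊓ Subgroup.centralizer ({w} : Set G)) * Nat.card G := h1
          _ ≤ Nat.card ↥(E ⊓ Subgroup.centralizer ({w} : Set G)) *
                (p * Nat.card ↥(Subgroup.centralizer ({w} : Set G))) :=
              Nat.mul_le_mul_left _ hidx
          _ = _ := by ring
      exact Nat.le_of_mul_le_mul_right h3 hcpos
    have hDlt : E ⊓ Subgroup.centralizer ({w} : Set G) < E :=
      lt_of_le_of_ne hDE (fun h => heD (by rw [h]; exact heE))
    have hDdvd : Nat.card ↥(E ⊓ Subgroup.centralizer ({w} : Set G)) ∣ p ^ 3 :=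
      hE ▸ Subgroup.card_dvd_of_le hDE
    obtain ⟨k, hk3, hDk⟩ := (Nat.dvd_prime_pow hp).mp hDdvd
    have hDcard : Nat.card ↥(E ⊓ Subgroup.centralizer ({w} : Set G)) = p ^ 2 := by
      have hk2 : k ≠ 3 := by
        rintro rfl
        exact hDlt.ne (Subgroup.eq_of_le_of_card_ge hDE (by rw [hE, hDk]))
      have hk2' : 2 ≤ k := by
        by_contra hlt
        push Not at hlt
        have h4 : p ^ 3 ≤ p * p ^ k := by rw [← hE, ← hDk]; exact hidxD
        have h5 : p * p ^ k ≤ p * p ^ 1 :=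
          Nat.mul_le_mul_left _ (Nat.pow_le_pow_right hp.pos (by omega))
        have h6 : p ^ 3 ≤ p ^ 2 := by
          calc p ^ 3 ≤ p * p ^ k := h4
            _ ≤ p * p ^ 1 := h5
            _ = p ^ 2 := by ring
        have h7 := Nat.pow_lt_pow_right hp.one_lt (show 2 < 3 by norm_num)
        omega
      have hk : k = 2 := by omega
      rw [hDk, hk]
    have hDab : ∀ a ∈ E ⊓ Subgroup.centralizer ({w} : Set G),
        ∀ b ∈ E ⊓ Subgroup.centralizer ({w} : Set G), a * b = b * a := by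
      intro a ha b hb
      have h8 := IsPGroup.commutative_of_card_eq_prime_sq (p := p)
        (G := ↥(E ⊓ Subgroup.centralizer ({w} : Set G))) hDcard ⟨a, ha⟩ ⟨b, hb⟩
      exact congrArg Subtype.val h8
    have hex : ∃ d ∈ E ⊓ Subgroup.centralizer ({w} : Set G), d * e ≠ e * d := by
      by_contra hcon
      push Not at hcon
      have hDC : E ⊓ Subgroup.centralizer ({w} : Set G) ≤ Subgroup.centralizer (E : Set G) := by
        intro g hg
        exact hcg _ hDE hidxD e heE heD g (fun d hd => hDab d hd g hg) ((hcon g hg).symm)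
      have h9 := Subgroup.card_le_of_le hDC
      rw [hDcard, hCp] at h9
      have h10 := Nat.pow_lt_pow_right hp.one_lt (show 1 < 2 by norm_num)
      rw [pow_one] at h10
      omega
    obtain ⟨d, hdD, hde⟩ := hex
    have hcZ : d * e * d⁻¹ * e⁻¹ ∈ Subgroup.center G := by
      rw [hZ]; exact hcc d e (hDE hdD) heE
    have hc1 : d * e * d⁻¹ * e⁻¹ ≠ 1 := by
      intro h1'
      apply hde
      calc d * e = (d * e * d⁻¹ * e⁻¹) * (e * d) := by group
        _ = e * d := by rw [h1', one_mul]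
    obtain ⟨k', hk'⟩ := hpow _ hcZ hc1 (w * e * w⁻¹ * e⁻¹) (hw e)
    have hcomm : ∀ g : G, (d * e * d⁻¹ * e⁻¹) * g = g * (d * e * d⁻¹ * e⁻¹) :=
      fun g => (Subgroup.mem_center_iff.mp hcZ g).symm
    have hge := hadj d e w _ k' hcomm rfl hk' (hDw d hdD)
    have hgD : ∀ d' ∈ E ⊓ Subgroup.centralizer ({w} : Set G),
        d' * (w * (d ^ k')⁻¹) = (w * (d ^ k')⁻¹) * d' := by
      intro d' hd'
      have h11 : d' * w = w * d' := hDw d' hd'
      have h12 : d' * (d ^ k')⁻¹ = (d ^ k')⁻¹ * d' :=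
        hDab d' hd' _ (Subgroup.inv_mem _ (Subgroup.pow_mem _ hdD k'))
      calc d' * (w * (d ^ k')⁻¹) = (d' * w) * (d ^ k')⁻¹ := by rw [mul_assoc]
        _ = w * (d' * (d ^ k')⁻¹) := by rw [h11, mul_assoc]
        _ = (w * (d ^ k')⁻¹) * d' := by rw [h12, mul_assoc]
    have hgC := hcg _ hDE hidxD e heE heD (w * (d ^ k')⁻¹) hgD hge
    have hgE : w * (d ^ k')⁻¹ ∈ E := hC hgC
    have hfin : w = (w * (d ^ k')⁻¹) * d ^ k' := by group
    rw [hfin]
    exact E.mul_mem hgE (E.pow_mem (hDE hdD) k')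

end Cfsg.Agent.Lib.helper45.PearlC
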