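import Mathlib

/-! S5238 / FC sub-split (table s5238c), piece C4 `center_card` (racer copy of helper45). -/

namespace Cfsg.Agent.Lib.helper45.PearlC

theorem h45_center_card {G : Type*} [Group G] [Finite G] (p : ℕ) [Fact p.Prime] (n : ℕ)
    (hG : Nat.card G = p ^ n) (E : Subgroup G) (hE : Nat.card ↥E = p ^ 3)
    (hna : ¬ IsMulCommutative ↥E) (hC : Subgroup.centralizer (E : Set G) ≤ E)
    (hcg : ∀ (D : Subgroup G), D ≤ E → Nat.card ↥E ≤ p * Nat.card ↥D → ∀ e ∈ E, e ∉ D →
      ∀ g : G, (∀ d ∈ D, d * g = g * d) → e * g = g * e →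
        g ∈ Subgroup.centralizer (E : Set G)) :
    Nat.card ↥(Subgroup.centralizer (E : Set G)) = p ∧
      Subgroup.center G = Subgroup.centralizer (E : Set G) := by
  have hp := (Fact.out : p.Prime)
  have hCE : ¬ E ≤ Subgroup.centralizer (E : Set G) := by
    intro h
    apply hna
    refine ⟨⟨fun a b => ?_⟩⟩
    have hb := h b.2
    rw [Subgroup.mem_centralizer_iff] at hb
    exact Subtype.ext (hb a a.2)
  obtain ⟨e, heE, heC⟩ := SetLike.not_le_iff_exists.mp hCE
  have hlt : ¬ Nat.card ↥E ≤ p * Nat.card ↥(Subgroup.centralizer (E : Set G)) := by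
    intro hidx
    apply heC
    refine hcg _ hC hidx e heE heC e (fun d hd => ?_) rfl
    rw [Subgroup.mem_centralizer_iff] at hd
    exact (hd e heE).symm
  have hdvd : Nat.card ↥(Subgroup.centralizer (E : Set G)) ∣ p ^ 3 :=
    hE ▸ Subgroup.card_dvd_of_le hC
  obtain ⟨k, hk3, hk⟩ := (Nat.dvd_prime_pow hp).mp hdvd
  have hk1 : k ≤ 1 := by
    by_contra hcon
    push Not at hcon
    apply hlt
    rw [hE, hk]
    calc p ^ 3 = p * p ^ 2 := by ring
      _ ≤ p * p ^ k := Nat.mul_le_mul_left _ (Nat.pow_le_pow_right hp.pos hcon)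
  have hZC : Subgroup.center G ≤ Subgroup.centralizer (E : Set G) :=
    Subgroup.center_le_centralizer _
  have hGp : IsPGroup p G := IsPGroup.of_card hG
  have hnt : Nontrivial G := by
    have h0 : 1 < Nat.card G := by
      have h1 : Nat.card ↥E ≤ Nat.card G := Subgroup.card_le_card_group E
      have h2 : 1 < p ^ 3 := Nat.one_lt_pow (by norm_num) hp.one_lt
      omega
    exact Finite.one_lt_card_iff_nontrivial.mp h0
  have hZnt : Nontrivial (Subgroup.center G) := hGp.center_nontrivial
  have hZcard : 1 < Nat.card ↥(Subgroup.center G) := Finite.one_lt_card_iff_nontrivial.mpr hZnt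
  have hZle := Subgroup.card_le_of_le hZC
  have hk0 : k = 1 := by
    rcases Nat.lt_or_ge k 1 with h | h
    · have hk00 : k = 0 := by omega
      subst hk00
      rw [hk, pow_zero] at hZle
      omega
    · omega
  subst hk0
  rw [pow_one] at hk
  refine ⟨hk, ?_⟩
  have hZdvd : Nat.card ↥(Subgroup.center G) ∣ p := hk ▸ Subgroup.card_dvd_of_le hZC
  have hZp : Nat.card ↥(Subgroup.center G) = p := by
    rcases (Nat.dvd_prime hp).mp hZdvd with h | h
    · omega
    · exact h
  exact Subgroup.eq_of_le_of_card_ge hZC (by rw [hk, hZp])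

end Cfsg.Agent.Lib.helper45.PearlC
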