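import Mathlib
import Cfsg.Agent.Lib.helper16.PearlCC2
import Cfsg.Agent.Lib.helper53.PearlCC3
import Cfsg.Agent.Lib.helper45.PearlCC4
import Cfsg.Agent.Lib.helper6.PearlCC5
import Cfsg.Agent.Lib.helper10.PearlCC6
import Cfsg.Agent.Lib.helper10.PearlCC7
import Cfsg.Agent.Lib.helper36.PearlCC8
import Cfsg.Agent.Lib.helper36.PearlCC9
import Cfsg.Agent.Lib.helper45.PearlCC10
import Cfsg.Agent.Lib.helper78.PearlC11

/-! S5238 BLOCK F, leaf FC (`pearl_x_nonab`): assembly of the sub-split `s5238c`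
(Skel tools/S5238C_Skel.lean.txt).  The statement is helper88's Skel statement verbatim. -/

namespace Cfsg.Agent.Lib.helper45.PearlC

theorem h45_strict {G : Type*} [Group G] [Finite G] (p : ℕ) [Fact p.Prime] (n : ℕ)
    (hG : Nat.card G = p ^ n) (A B : Subgroup G) (hAB : A < B) :
    p * Nat.card ↥A ≤ Nat.card ↥B := by
  have hp := (Fact.out : p.Prime)
  have hBdvd : Nat.card ↥B ∣ p ^ n := hG ▸ Subgroup.card_subgroup_dvd_card B
  obtain ⟨b, hbn, hb⟩ := (Nat.dvd_prime_pow hp).mp hBdvd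
  have hAdvd : Nat.card ↥A ∣ p ^ b := hb ▸ Subgroup.card_dvd_of_le hAB.le
  obtain ⟨a, hab, ha⟩ := (Nat.dvd_prime_pow hp).mp hAdvd
  have hne : a ≠ b := by
    rintro rfl
    exact hAB.ne (Subgroup.eq_of_le_of_card_ge hAB.le (by rw [ha, hb]))
  have hlt : a + 1 ≤ b := by omega
  rw [ha, hb, ← pow_succ']
  exact Nat.pow_le_pow_right hp.pos hlt

end Cfsg.Agent.Lib.helper45.PearlC

namespace Cfsg.Agent.Lib.helper88.PearlF

open Cfsg.Agent.Lib.helper45.PearlC in
/-- FC: nonabelian pearl of exponent `p` (helper88's Skel statement, prefixed racer name). -/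
theorem h45_pearl_x_nonab {G : Type*} [Group G] [Finite G] (p : ℕ) [Fact p.Prime] (n : ℕ)
    (hG : Nat.card G = p ^ n) (E : Subgroup G) (hE : Nat.card E = p ^ 3)
    (hna : ¬ IsMulCommutative E) (hexp : ∀ x ∈ E, x ^ p = 1)
    (hC : Subgroup.centralizer (E : Set G) ≤ E) :
    ∃ x : G, x ^ p = 1 ∧ Nat.card (Subgroup.centralizer ({x} : Set G)) = p ^ 2 := by
  have hstrict := h45_strict p n hG
  have hstep : ∀ A B C : Subgroup G, C ≤ B →
      Nat.card ↥(A ⊓ B) * Nat.card ↥C ≤ Nat.card ↥(A ⊓ C) * Nat.card ↥B :=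
    fun A B C h => h16_inf_step A B C h
  have hcg : ∀ (D : Subgroup G), D ≤ E → Nat.card ↥E ≤ p * Nat.card ↥D → ∀ e ∈ E, e ∉ D →
      ∀ g : G, (∀ d ∈ D, d * g = g * d) → e * g = g * e →
        g ∈ Subgroup.centralizer (E : Set G) :=
    fun D hDE hidx e he heD g hgD hge => cg_centralizer p hstrict E D hDE hidx e he heD g hgD hge
  obtain ⟨hCp, hZ⟩ := h45_center_card p n hG E hE hna hC hcg
  have hZp : Nat.card ↥(Subgroup.center G) = p := by rw [hZ]; exact hCp
  have hne : Subgroup.center G ≠ ⊤ := by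
    intro htop
    apply hna
    refine ⟨⟨fun a b => ?_⟩⟩
    have hb : (b : G) ∈ Subgroup.center G := by rw [htop]; exact Subgroup.mem_top _
    exact Subtype.ext (Subgroup.mem_center_iff.mp hb a)
  obtain ⟨w, hwZ, hw⟩ := h6_second_center p n hG hne
  have hidx := h10_class_bound p hZp w hw
  have hwE : w ∈ E := h45_in_E p n hG E hE hna hC hCp hZ w hw hidx hstep hcg
    (fun a b ha hb => h10_comm_central p E hE hC hCp a b ha hb)
    (fun c hc hc1 z hz => pow_of_center p hZp c hc hc1 z hz)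
    (fun d e w c k h1 h2 h3 h4 => comm_adjust d e w c k h1 h2 h3 h4)
  obtain ⟨x, hxE, hxw⟩ : ∃ x ∈ E, x * w ≠ w * x := by
    by_contra hcon
    push Not at hcon
    apply hwZ
    rw [hZ]
    exact Subgroup.mem_centralizer_iff.mpr hcon
  exact ⟨x, hexp x hxE,
    final_count p n hG E hE hC hCp hZ w x hwE hxE hxw hidx hstrict hstep hcg⟩

end Cfsg.Agent.Lib.helper88.PearlF
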