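import Mathlib
import Cfsg.Agent.Lib.helper65.PearlBasic

/-!
# S5238L, piece Q (racing copy of helper45), core: `q_claim` with the statements of the pieces
D1 (`rel_dl`), I1 (`rel_dl_mul_const`), S (`s_claim`), U (`u_claim`) as hypotheses.
-/

set_option autoImplicit false

namespace Cfsg.Agent.Lib.helper65.PearlPow

open Cfsg.Agent.Lib.helper68

variable {H : Type*} [Group H]

theorem h45_q_claim_core
    (hD1 : ∀ {u v : ℕ} {s s' : ℕ → H}, PolySeq v s → Rel u s s' → Rel (u + 1) (dl s) (dl s'))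
    (hI1 : ∀ {v j : ℕ} {s : ℕ → H} {y : H}, PolySeq v s → y ∈ gam H j →
      Rel (v + 1 + j) (dl s) (dl (fun n => s n * y)))
    (x g : H) {w : ℕ} (hw : 1 ≤ w) (hg : g ∈ gam H w)
    (hS : ∀ j : ℕ, Rel (w + j + 2) ((ph x)^[j] (dl (tt x g))) (dl ((ph x)^[j] (tt x g))))
    (hU : ∀ j : ℕ, Rel (w + j + 2) (fun n => (ph x)^[j + 1] (tt x g) n * yk x (com x g) j)
      ((ph x)^[j] (dl (tt x g))))
    (k : ℕ) :
    Rel (w + k + 2) (fun n => (ph x)^[k + 1] (tt x g) n * yk x (com x g) k)
      (dl^[k + 1] (tt x g)) := by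
  induction k with
  | zero =>
    apply rel_of_eq
    rw [Function.iterate_one, Function.iterate_one, dl_tt]
    rfl
  | succ k ih =>
    have hph : PolySeq (w + k + 1) ((ph x)^[k + 1] (tt x g)) := by
      have h := polyseq_ph_iter x (tt_polyseq x g hg) (k + 1)
      exact PolySeq.mono (by omega) h
    have hyk : PolySeq (w + k + 1) (fun _ : ℕ => yk x (com x g) k) :=
      PolySeq.mono (by omega) (polyseq_const (yk_mem x g hg k))
    have hA : PolySeq (w + k + 1) (fun n => (ph x)^[k + 1] (tt x g) n * yk x (com x g) k) :=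
      PolySeq.mul hph hyk
    have h1 : Rel (w + k + 1 + 2) (dl (fun n => (ph x)^[k + 1] (tt x g) n * yk x (com x g) k))
        (dl (dl^[k + 1] (tt x g))) := hD1 hA ih
    have h2 : Rel (w + k + 1 + 2) (dl ((ph x)^[k + 1] (tt x g)))
        (dl (fun n => (ph x)^[k + 1] (tt x g) n * yk x (com x g) k)) :=
      rel_mono (by omega) (hI1 hph (yk_mem x g hg k))
    have h3 := hS (k + 1)
    have h4 := hU (k + 1)
    have h5 := rel_trans h4 (rel_trans h3 (rel_trans h2 h1))
    rw [Function.iterate_succ_apply' (f := dl)]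
    exact h5

end Cfsg.Agent.Lib.helper65.PearlPow
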