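import Mathlib
import Cfsg.Agent.Lib.helper45.RUDefs

/-!
# S2279, piece A1: the nilpotent commutator computation
-/

set_option autoImplicit false
set_option linter.unusedSimpArgs false

namespace Cfsg.Agent.Lib.helper45.RU

open Matrix Cfsg.Agent.Lib.helper44

variable {n : ℕ} {F : Type*} [Field F] {S : Set (Matrix (Fin n) (Fin n) F)}

theorem h45_rho_mul (A : Matrix (Fin n) (Fin 3) F) (Φ : Matrix (Fin 3) (Fin n) F)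
    (M N : Matrix (Fin 3) (Fin 3) F) :
    (1 + A * M * Φ) * (1 + A * N * Φ) = 1 + A * (M + N + M * (Φ * A) * N) * Φ := by
  simp only [Matrix.mul_add, Matrix.add_mul, Matrix.mul_one, Matrix.one_mul, Matrix.mul_assoc]
  abel

/-- A1 -/
theorem h45_three_comm (hS : MatGrp S) (a₁ a₂ a₃ φ₁ φ₂ φ₃ : Fin n → F) (ε ν c : F)
    (hε : ε * ε = 1)
    (h11 : φ₁ ⬝ᵥ a₁ = 0) (h12 : φ₁ ⬝ᵥ a₂ = 0) (h13 : φ₁ ⬝ᵥ a₃ = 0)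
    (h21 : φ₂ ⬝ᵥ a₁ = ε) (h22 : φ₂ ⬝ᵥ a₂ = 0) (h23 : φ₂ ⬝ᵥ a₃ = 0)
    (h31 : φ₃ ⬝ᵥ a₁ = ν) (h32 : φ₃ ⬝ᵥ a₂ = ε) (h33 : φ₃ ⬝ᵥ a₃ = 0)
    (hD1 : 1 + vecMulVec a₁ (c • φ₁) - vecMulVec a₂ (c • φ₂) ∈ S)
    (hD2 : 1 + vecMulVec a₂ (c • φ₂) - vecMulVec a₃ (c • φ₃) ∈ S) :
    1 + vecMulVec a₃ ((-(c ^ 3)) • φ₁) ∈ S := by
  obtain ⟨A, hA⟩ : ∃ A : Matrix (Fin n) (Fin 3) F, A = Matrix.of (fun i j => ![a₁ i, a₂ i, a₃ i] j) :=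
    ⟨_, rfl⟩
  obtain ⟨Φ, hΦ⟩ : ∃ Φ : Matrix (Fin 3) (Fin n) F, Φ = Matrix.of ![φ₁, φ₂, φ₃] := ⟨_, rfl⟩
  have key : ∀ r s : Fin 3, (Φ * A) r s = (![φ₁, φ₂, φ₃] r) ⬝ᵥ (fun i => ![a₁ i, a₂ i, a₃ i] s) := by
    intro r s
    rw [hA, hΦ]
    rfl
  have hP : Φ * A = !![0, 0, 0; ε, 0, 0; ν, ε, 0] := by
    ext i j
    rw [key]
    fin_cases i <;> fin_cases j <;> simp [h11, h12, h13, h21, h22, h23, h31, h32, h33]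
  have hform : ∀ M : Matrix (Fin 3) (Fin 3) F, ∀ i l : Fin n, (A * M * Φ) i l =
      a₁ i * (M 0 0 * φ₁ l + M 0 1 * φ₂ l + M 0 2 * φ₃ l) +
      a₂ i * (M 1 0 * φ₁ l + M 1 1 * φ₂ l + M 1 2 * φ₃ l) +
      a₃ i * (M 2 0 * φ₁ l + M 2 1 * φ₂ l + M 2 2 * φ₃ l) := by
    intro M i l
    rw [hA, hΦ]
    simp only [Matrix.mul_apply, Fin.sum_univ_three, Matrix.of_apply, Matrix.cons_val_zero,
      Matrix.cons_val_one, Matrix.cons_val_two, Matrix.head_cons, Matrix.tail_cons]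
    ring
  have hD1' : 1 + vecMulVec a₁ (c • φ₁) - vecMulVec a₂ (c • φ₂) =
      1 + A * !![c, 0, 0; 0, -c, 0; 0, 0, 0] * Φ := by
    ext i l
    rw [Matrix.add_apply, Matrix.sub_apply, Matrix.add_apply, hform]
    simp [vecMulVec_apply]
    ring
  have hD2' : 1 + vecMulVec a₂ (c • φ₂) - vecMulVec a₃ (c • φ₃) =
      1 + A * !![0, 0, 0; 0, c, 0; 0, 0, -c] * Φ := by
    ext i l
    rw [Matrix.add_apply, Matrix.sub_apply, Matrix.add_apply, hform]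
    simp [vecMulVec_apply]
    ring
  have hT' : 1 + vecMulVec a₃ ((-(c ^ 3)) • φ₁) =
      1 + A * !![0, 0, 0; 0, 0, 0; -(c ^ 3), 0, 0] * Φ := by
    ext i l
    rw [Matrix.add_apply, Matrix.add_apply, hform]
    simp [vecMulVec_apply]
  rw [hD1'] at hD1
  rw [hD2'] at hD2
  rw [hT']
  have hε2 : ε ^ 2 = 1 := by rw [pow_two]; exact hε
  -- first commutator
  have e1 : (!![c, 0, 0; 0, -c, 0; 0, 0, 0] : Matrix (Fin 3) (Fin 3) F) +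
      !![0, 0, 0; 0, c, 0; 0, 0, -c] +
      !![c, 0, 0; 0, -c, 0; 0, 0, 0] * !![0, 0, 0; ε, 0, 0; ν, ε, 0] *
        !![0, 0, 0; 0, c, 0; 0, 0, -c] =
      !![0, 0, 0; -(c ^ 2 * ε), 0, 0; c ^ 2 * ν + c ^ 3, -(c ^ 2 * ε), 0] +
      (!![0, 0, 0; 0, c, 0; 0, 0, -c] + !![c, 0, 0; 0, -c, 0; 0, 0, 0] +
        !![0, 0, 0; 0, c, 0; 0, 0, -c] * !![0, 0, 0; ε, 0, 0; ν, ε, 0] *
          !![c, 0, 0; 0, -c, 0; 0, 0, 0]) +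
      !![0, 0, 0; -(c ^ 2 * ε), 0, 0; c ^ 2 * ν + c ^ 3, -(c ^ 2 * ε), 0] *
        !![0, 0, 0; ε, 0, 0; ν, ε, 0] *
        (!![0, 0, 0; 0, c, 0; 0, 0, -c] + !![c, 0, 0; 0, -c, 0; 0, 0, 0] +
        !![0, 0, 0; 0, c, 0; 0, 0, -c] * !![0, 0, 0; ε, 0, 0; ν, ε, 0] *
          !![c, 0, 0; 0, -c, 0; 0, 0, 0]) := by
    ext i j
    fin_cases i <;> fin_cases j <;>
      simp [Matrix.mul_apply, Fin.sum_univ_three] <;> ring_nf <;>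
      simp [hε2] <;> ring
  have hC : 1 + A * !![0, 0, 0; -(c ^ 2 * ε), 0, 0; c ^ 2 * ν + c ^ 3, -(c ^ 2 * ε), 0] * Φ ∈ S := by
    apply MatGrp_comm_mem hS hD1 hD2
    rw [h45_rho_mul, h45_rho_mul, h45_rho_mul, hP, e1]
  -- second commutator
  have e2 : (!![0, 0, 0; -(c ^ 2 * ε), 0, 0; c ^ 2 * ν + c ^ 3, -(c ^ 2 * ε), 0] :
        Matrix (Fin 3) (Fin 3) F) + !![c, 0, 0; 0, -c, 0; 0, 0, 0] +
      !![0, 0, 0; -(c ^ 2 * ε), 0, 0; c ^ 2 * ν + c ^ 3, -(c ^ 2 * ε), 0] *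
        !![0, 0, 0; ε, 0, 0; ν, ε, 0] * !![c, 0, 0; 0, -c, 0; 0, 0, 0] =
      !![0, 0, 0; 0, 0, 0; -(c ^ 3), 0, 0] +
      (!![c, 0, 0; 0, -c, 0; 0, 0, 0] +
        !![0, 0, 0; -(c ^ 2 * ε), 0, 0; c ^ 2 * ν + c ^ 3, -(c ^ 2 * ε), 0] +
        !![c, 0, 0; 0, -c, 0; 0, 0, 0] * !![0, 0, 0; ε, 0, 0; ν, ε, 0] *
          !![0, 0, 0; -(c ^ 2 * ε), 0, 0; c ^ 2 * ν + c ^ 3, -(c ^ 2 * ε), 0]) +
      !![0, 0, 0; 0, 0, 0; -(c ^ 3), 0, 0] * !![0, 0, 0; ε, 0, 0; ν, ε, 0] *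
        (!![c, 0, 0; 0, -c, 0; 0, 0, 0] +
        !![0, 0, 0; -(c ^ 2 * ε), 0, 0; c ^ 2 * ν + c ^ 3, -(c ^ 2 * ε), 0] +
        !![c, 0, 0; 0, -c, 0; 0, 0, 0] * !![0, 0, 0; ε, 0, 0; ν, ε, 0] *
          !![0, 0, 0; -(c ^ 2 * ε), 0, 0; c ^ 2 * ν + c ^ 3, -(c ^ 2 * ε), 0]) := by
    ext i j
    fin_cases i <;> fin_cases j <;>
      simp [Matrix.mul_apply, Fin.sum_univ_three] <;> ring_nf <;>
      simp [hε2] <;> ring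
  apply MatGrp_comm_mem hS hC hD1
  rw [h45_rho_mul, h45_rho_mul, h45_rho_mul, hP, e2]

end Cfsg.Agent.Lib.helper45.RU
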