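import Mathlib

/-!
# S2279, piece GC: the `p^e`-th power of the generator
-/

set_option autoImplicit false

namespace Cfsg.Agent.Lib.helper45.RU

variable {F : Type*} [Field F]

/-- GC (abstract): `c * c^(p^e) ∈ Ω 0`, where `p^e` is the exact power of `p` dividing `n`. -/
theorem h45_abs_GC (n : ℕ) (hn : 4 ≤ n) (Ω : ℕ → Set F) (c : F) (p : ℕ) [Fact p.Prime] [CharP F p]
    (e n' : ℕ) (hnp : n = p ^ e * n') (hn' : ¬ p ∣ n')
    (hluc : ¬ p ∣ (n + p ^ e - 1).choose (p ^ e))
    (m : ℕ) (hm : 0 < m) (hcm : c ^ m = 1)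
    (h0 : ∀ k, k + 2 ≤ n → (0 : F) ∈ Ω k)
    (hadd : ∀ k, k + 2 ≤ n → ∀ x y, x ∈ Ω k → y ∈ Ω k → x + y ∈ Ω k)
    (hc0 : c ∈ Ω 0) (hA : c ^ (n - 1) ∈ Ω (n - 2))
    (hB : ∀ y, y ∈ Ω 0 → c ^ n * y ∈ Ω 0)
    (hmul : ∀ x y, c * x ∈ Ω 0 → c * y ∈ Ω 0 → c * (x * y) ∈ Ω 0)
    (hwrap : ∀ i i', i + 2 ≤ n → i' + 2 ≤ n → n ≤ i + i' + 1 →
      ∀ x y, x ∈ Ω i → y ∈ Ω i' → x * y ∈ Ω (i + i' + 1 - n))
    (hshift : ∀ j i', 1 ≤ j → i' + j + 2 ≤ n → ∀ x y, x ∈ Ω 0 → y ∈ Ω i' →
      ((n + j - 2).choose (j - 1) : F) * x * y ∈ Ω (i' + j)) :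
    c * c ^ (p ^ e) ∈ Ω 0 := by
  have hp : p.Prime := Fact.out
  have hp2 : 2 ≤ p := hp.two_le
  by_cases h1 : n' = 1
  · subst h1
    rw [mul_one] at hnp
    rw [← hnp, mul_comm]
    exact hB c hc0
  · obtain ⟨q, hq⟩ : ∃ q, q = p ^ e := ⟨_, rfl⟩
    rw [← hq] at hnp hluc ⊢
    have hq1 : 1 ≤ q := by rw [hq]; exact Nat.one_le_pow _ _ (by omega)
    have hn'0 : n' ≠ 0 := by
      rintro rfl
      rw [mul_zero] at hnp
      omega
    have hn'2 : 2 ≤ n' := by omega
    have hqn : q + 3 ≤ n := by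
      rcases Nat.lt_or_ge q 3 with h3 | h3
      · interval_cases q
        · omega
        · -- q = 2, so p = 2 and n' is odd
          have he : e ≠ 0 := by
            rintro rfl
            rw [pow_zero] at hq
            omega
          have hpd : p ∣ 2 := by
            rw [hq]; exact dvd_pow_self p he
          have hp2' : p = 2 := by
            have := Nat.le_of_dvd (by norm_num) hpd
            omega
          rw [hp2'] at hn'
          have : 3 ≤ n' := by omega
          nlinarith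
      · nlinarith
    -- the shift rule with `j = q + 1`
    have hsh := hshift (q + 1) 0 (by omega) (by omega) c c hc0 hc0
    have e1 : n + (q + 1) - 2 = n + q - 1 := by omega
    have e2 : q + 1 - 1 = q := by omega
    rw [e1, e2, zero_add] at hsh
    -- closure under multiples
    have hnat : ∀ k, k + 2 ≤ n → ∀ x, x ∈ Ω k → ∀ t : ℕ, (t : F) * x ∈ Ω k := by
      intro k hk x hx t
      induction t with
      | zero => rw [Nat.cast_zero, zero_mul]; exact h0 k hk
      | succ t ih =>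
        rw [Nat.cast_succ, add_mul, one_mul]
        exact hadd k hk _ _ ih hx
    have hcop : Nat.Coprime ((n + q - 1).choose q) p :=
      (Nat.Coprime.symm ((Nat.Prime.coprime_iff_not_dvd hp).2 hluc))
    obtain ⟨b', -, hb'⟩ := Nat.exists_mul_mod_eq_one_of_coprime hcop (by omega)
    have hb1 : (((n + q - 1).choose q : ℕ) : F) * (b' : F) = 1 := by
      have h2 := Nat.div_add_mod ((n + q - 1).choose q * b') p
      rw [hb'] at h2
      have h3 := congrArg (Nat.cast : ℕ → F) h2
      rw [Nat.cast_add, Nat.cast_mul, Nat.cast_mul, CharP.cast_eq_zero F p, zero_mul, zero_add,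
        Nat.cast_one] at h3
      exact h3.symm
    have hcc : c * c ∈ Ω (q + 1) := by
      have h4 := hnat (q + 1) (by omega) _ hsh b'
      have e3 : (b' : F) * (((n + q - 1).choose q : ℕ) * c * c) = c * c := by
        rw [← mul_assoc, ← mul_assoc, mul_comm (b' : F), hb1, one_mul]
      rwa [e3] at h4
    -- wrap down
    have hdown : ∀ t, t ≤ q + 1 → c ^ (t * (n - 1)) * (c * c) ∈ Ω (q + 1 - t) := by
      intro t
      induction t with
      | zero => intro _; rw [zero_mul, pow_zero, one_mul]; exact hcc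
      | succ t ih =>
        intro ht
        have h5 := hwrap (n - 2) (q + 1 - t) (by omega) (by omega) (by omega) _ _ hA
          (ih (by omega))
        have e4 : n - 2 + (q + 1 - t) + 1 - n = q + 1 - (t + 1) := by omega
        rw [e4] at h5
        have e5 : c ^ (n - 1) * (c ^ (t * (n - 1)) * (c * c)) =
            c ^ ((t + 1) * (n - 1)) * (c * c) := by
          rw [← mul_assoc, ← pow_add]
          congr 2
          ring
        rwa [e5] at h5
    have hz0 := hdown (q + 1) le_rfl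
    rw [Nat.sub_self] at hz0
    obtain ⟨n1, hn1⟩ : ∃ n1, n = n1 + 1 := ⟨n - 1, by omega⟩
    obtain ⟨m', rfl⟩ : ∃ m', m = m' + 1 := ⟨m - 1, by omega⟩
    have e6 : n - 1 = n1 := by omega
    rw [e6] at hz0
    -- `w = c ^ N`, `N = (q + 1) * n1 + 1`
    have hw : c * c ^ ((q + 1) * n1 + 1) ∈ Ω 0 := by
      have e7 : c * c ^ ((q + 1) * n1 + 1) = c ^ ((q + 1) * n1) * (c * c) := by
        rw [pow_succ]; ring
      rw [e7]; exact hz0
    have hpow : ∀ t : ℕ, c * (c ^ ((q + 1) * n1 + 1)) ^ t ∈ Ω 0 := by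
      intro t
      induction t with
      | zero => rw [pow_zero, mul_one]; exact hc0
      | succ t ih => rw [pow_succ]; exact hmul _ _ ih hw
    have hBt : ∀ t : ℕ, ∀ y, y ∈ Ω 0 → (c ^ n) ^ t * y ∈ Ω 0 := by
      intro t
      induction t with
      | zero => intro y hy; rw [pow_zero, one_mul]; exact hy
      | succ t ih =>
        intro y hy
        have := hB _ (ih y hy)
        rwa [← mul_assoc, ← pow_succ'] at this
    have hfin := hBt (q + 1) _ (hpow m')
    have e8 : (c ^ n) ^ (q + 1) * (c * (c ^ ((q + 1) * n1 + 1)) ^ m') = c * c ^ q := by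
      have e9 : (c ^ n) ^ (q + 1) * (c * (c ^ ((q + 1) * n1 + 1)) ^ m') =
          c * (c ^ (n * (q + 1) + ((q + 1) * n1 + 1) * m')) := by
        rw [← pow_mul, ← pow_mul, pow_add]; ring
      have e10 : n * (q + 1) + ((q + 1) * n1 + 1) * m' =
          ((q + 1) * n1 + 1) * (m' + 1) + q := by
        rw [hn1]; ring
      rw [e9, e10, pow_add, pow_mul', hcm, one_pow, one_mul]
    rwa [e8] at hfin

end Cfsg.Agent.Lib.helper45.RU
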