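import Mathlib
import Cfsg.Agent.Lib.helper45.RUDefs
import Cfsg.Agent.Lib.helper45.RU_A1
import Cfsg.Agent.Lib.helper45.RU_GC
import Cfsg.Agent.Lib.helper61.RU_A3
import Cfsg.Agent.Lib.helper61.RU_B
import Cfsg.Agent.Lib.helper43.RU_C
import Cfsg.Agent.Lib.helper48.RU_D
import Cfsg.Agent.Lib.helper30.RU_D0
import Cfsg.Agent.Lib.helper53.RU_DM
import Cfsg.Agent.Lib.helper82.RU_E
import Cfsg.Agent.Lib.helper78.RU_GA
import Cfsg.Agent.Lib.helper78.RU_GB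
import Cfsg.Agent.Lib.helper82.RU_GD
import Cfsg.Agent.Lib.helper25.RU_I
import Cfsg.Agent.Lib.helper48.RU_L
import Cfsg.Agent.Lib.helper25.RU_M
import Cfsg.Agent.Lib.helper77.RU_N
import Cfsg.Agent.Lib.helper83.RU_PM

/-!
# S2279: a `MatGrp` containing `J` and `g J g⁻¹` (`g = 1 + c E_{n,1}`, `c` a generator of `Fˣ`,
`n ≥ 4`) contains all elementary transvections.  Assembly of the pieces of the split.
-/

set_option autoImplicit false

namespace Cfsg.Agent.Lib.helper45.RU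

open Matrix Cfsg.Agent.Lib.helper44

variable {n : ℕ} {F : Type*} [Field F] {S : Set (Matrix (Fin n) (Fin n) F)}

/-- `c³ ∈ Ω_2`. -/
theorem Om_two (hn : 4 ≤ n) (hS : MatGrp S) (hJ : jm F n ∈ S) (c : F) (z o l' l : Fin n)
    (hz : z.val = 0) (ho : o.val = 1) (hl' : l'.val + 2 = n) (hl : l.val + 1 = n)
    (hv : vmat c z o l' l ∈ S) : c ^ 3 ∈ Om S l 2 := by
  obtain ⟨⟨h11, h12, h13⟩, ⟨h21, h22, h23⟩, ⟨h31, h32, h33⟩⟩ :=
    pairings (F := F) hn z o l' l hz ho hl' hl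
  have hD1 := dm_mem (by omega) hS hJ c z o l' l hz ho hl' hl hv
  have hD2 := d0_mem (by omega) hS hJ c z o l' l hz ho hl' hl hv
  have hε : ((-1 : F) ^ (n - 1)) * ((-1) ^ (n - 1)) = 1 := by rw [← mul_pow]; simp
  have hT := h45_three_comm hS (((-1 : F) ^ (n - 1)) • altVec F n) (Pi.single l 1)
    (Pi.single l 1 + Pi.single l' 1) (rowv F n 1) (Pi.single z 1) (altVec F n)
    ((-1) ^ (n - 1)) ((-1) ^ (n - 1) * (n : F)) c hε
    h11 h12 h13 h21 h22 h23 h31 h32 h33 hD1 hD2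
  exact Om_two_of hn hS hJ c l' l hl' hl hT

/-- The abstract parameter argument: `Ω 0` is everything. -/
theorem Om_abs [Fintype F] (n : ℕ) (hn : 4 ≤ n) (Ω : ℕ → Set F) (c : F)
    (hc : ∀ a : F, a ≠ 0 → ∃ m : ℕ, 0 < m ∧ c ^ m = a)
    (h0 : ∀ k, k + 2 ≤ n → (0 : F) ∈ Ω k)
    (hadd : ∀ k, k + 2 ≤ n → ∀ x y, x ∈ Ω k → y ∈ Ω k → x + y ∈ Ω k)
    (h2 : c ^ 3 ∈ Ω 2)
    (hraise : ∀ k, k + 3 ≤ n → ∀ y, y ∈ Ω k → c * y ∈ Ω (k + 1))
    (hwrap : ∀ i i', i + 2 ≤ n → i' + 2 ≤ n → n ≤ i + i' + 1 →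
      ∀ x y, x ∈ Ω i → y ∈ Ω i' → x * y ∈ Ω (i + i' + 1 - n))
    (hshift : ∀ j i', 1 ≤ j → i' + j + 2 ≤ n → ∀ x y, x ∈ Ω 0 → y ∈ Ω i' →
      ((n + j - 2).choose (j - 1) : F) * x * y ∈ Ω (i' + j)) :
    ∀ x : F, x ∈ Ω 0 := by
  obtain ⟨m, hm, hcm⟩ := hc 1 one_ne_zero
  have hc0' : c ≠ 0 := by
    rintro rfl
    rw [zero_pow (by omega)] at hcm
    exact zero_ne_one hcm
  obtain ⟨hc0, hA, hB⟩ := abs_GA n hn Ω c m hm hcm h2 hraise hwrap
  have hshift1 : ∀ x y, x ∈ Ω 0 → y ∈ Ω 0 → x * y ∈ Ω 1 := by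
    intro x y hx hy
    have h := hshift 1 0 le_rfl (by omega) x y hx hy
    simpa using h
  have hmul := abs_GB n hn Ω c m hm hcm hA hB hwrap hshift1
  obtain ⟨p, hp⟩ := CharP.exists F
  have hpp : Fact p.Prime := ⟨CharP.char_is_prime F p⟩
  obtain ⟨e, n', hn', hnp⟩ :=
    Nat.exists_eq_pow_mul_and_not_dvd (n := n) (by omega) p (Fact.out : p.Prime).ne_one
  have hluc : ¬ p ∣ (n + p ^ e - 1).choose (p ^ e) := by
    rw [hnp]; exact h82_choose_not_dvd p Fact.out e n' hn'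
  have hw := h45_abs_GC n hn Ω c p e n' hnp hn' hluc m hm hcm h0 hadd hc0 hA hB hmul hwrap hshift
  have hall := h82_abs_GD c hc p e {x | c * x ∈ Ω 0}
    (by show c * 0 ∈ Ω 0; rw [mul_zero]; exact h0 0 (by omega))
    (fun x y hx hy => hmul x y hx hy) hw
  intro x
  have h := hall (c⁻¹ * x)
  have e1 : c * (c⁻¹ * x) = x := by rw [← mul_assoc, mul_inv_cancel₀ hc0', one_mul]
  change c * (c⁻¹ * x) ∈ Ω 0 at h
  rwa [e1] at h

/-- The core: a `MatGrp` containing `J` and `g J g⁻¹` contains all elementary transvections. -/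
theorem core [Fintype F] (hn : 4 ≤ n) (S : Set (Matrix (Fin n) (Fin n) F)) (c : F)
    (z o l' l : Fin n) (hS : MatGrp S)
    (hc : ∀ a : F, a ≠ 0 → ∃ m : ℕ, 0 < m ∧ c ^ m = a)
    (hz : z.val = 0) (ho : o.val = 1) (hl' : l'.val + 2 = n) (hl : l.val + 1 = n)
    (hJ : jm F n ∈ S) (hv : vmat c z o l' l ∈ S) :
    ∀ i j : Fin n, i ≠ j → ∀ x : F, 1 + Matrix.single i j x ∈ S := by
  have hD0 := d0_mem (by omega) hS hJ c z o l' l hz ho hl' hl hv
  have h0all : ∀ x : F, x ∈ Om S l 0 := by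
    apply Om_abs n hn (Om S l) c hc
    · intro k hk; exact Om_zero_mem hS hJ l k
    · intro k hk x y hx hy; exact Om_add hS l hl k hk hx hy
    · exact Om_two hn hS hJ c z o l' l hz ho hl' hl hv
    · intro k hk y hy; exact Om_raise_of hn hS hJ c z l' l hz hl' hl hD0 k hk hy
    · intro i i' hi hi' h x y hx hy; exact h43_Om_wrap hS hJ l hl i i' hi hi' h hx hy
    · intro j i' hj hij x y hx hy; exact Om_shift hS hJ z l hz hl j i' hj hij hx hy
  have hall : ∀ k, k + 2 ≤ n → ∀ x : F, x ∈ Om S l k := by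
    intro k
    induction k with
    | zero => intro _; exact h0all
    | succ k ih =>
      intro hk x
      have h := Om_shift hS hJ z l hz hl 1 k le_rfl (by omega) (h0all x) (ih (by omega) 1)
      simpa using h
  have hrow := last_row hS l hl hall
  have hlow : ∀ (x : F) (j k : Fin n), j < k → 1 + Matrix.single k j x ∈ S := fun x =>
    lower_of_last_row hS hJ l hl x (fun j hj => hrow j hj x)
  have hL := jmT_mem (by omega) hS (hlow 1)
  have hzl : z ≠ l := by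
    intro e
    rw [e] at hz
    omega
  exact all_single (by omega) hS hJ hL z l hz hl (fun x => hrow z hzl x)

end Cfsg.Agent.Lib.helper45.RU
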