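import Mathlib
import Cfsg.Agent.Lib.helper45.SLGen

/-!
# `SL_3(F)`: unitriangular elements, and a triangular generation criterion

`uu a b e` / `ll a b e` are the upper / lower unitriangular elements of `SL_3(F)`,
`dg α` is `diag(α, α⁻², α)`.  If a subgroup `H` contains an upper unitriangular element with
nonzero superdiagonal, a lower one with nonzero subdiagonal, and an upper triangular element
`dg α * uu x y z`, where `α³ ≠ α⁻³` and `α³ + α⁻³` lies in no proper subfield, then `H = ⊤`
(`eq_top_of_triangular`).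
-/

set_option autoImplicit false

namespace Cfsg.Agent.Lib.helper45

open Matrix

variable {F : Type*} [Field F]

/-- Upper unitriangular `3 × 3` matrix. -/
def uuM (a b e : F) : Matrix (Fin 3) (Fin 3) F := !![1, a, e; 0, 1, b; 0, 0, 1]

/-- Lower unitriangular `3 × 3` matrix. -/
def llM (a b e : F) : Matrix (Fin 3) (Fin 3) F := !![1, 0, 0; a, 1, 0; e, b, 1]

/-- The diagonal matrix `diag(α, β², α)`. -/
def dgM (α β : F) : Matrix (Fin 3) (Fin 3) F := !![α, 0, 0; 0, β ^ 2, 0; 0, 0, α]

theorem det_uuM (a b e : F) : (uuM a b e).det = 1 := by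
  simp [uuM, Matrix.det_fin_three]

theorem det_llM (a b e : F) : (llM a b e).det = 1 := by
  simp [llM, Matrix.det_fin_three]

theorem det_dgM (α β : F) (h : α * β = 1) : (dgM α β).det = 1 := by
  simp only [dgM, Matrix.det_fin_three, Matrix.of_apply, Matrix.cons_val', Matrix.cons_val_zero,
    Matrix.cons_val_one, Matrix.cons_val_two, Matrix.head_cons, Matrix.tail_cons,
    Matrix.empty_val', Matrix.cons_val_fin_one, Matrix.head_fin_const]
  linear_combination (α * β + 1) * h

/-- Upper unitriangular element of `SL_3`. -/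
def uu (a b e : F) : Matrix.SpecialLinearGroup (Fin 3) F := ⟨uuM a b e, det_uuM a b e⟩

/-- Lower unitriangular element of `SL_3`. -/
def ll (a b e : F) : Matrix.SpecialLinearGroup (Fin 3) F := ⟨llM a b e, det_llM a b e⟩

/-- `diag(α, β², α)` as an element of `SL_3` (when `α β = 1`). -/
def dg (α β : F) (h : α * β = 1) : Matrix.SpecialLinearGroup (Fin 3) F :=
  ⟨dgM α β, det_dgM α β h⟩

theorem uuM_mul (a b e a' b' e' : F) :
    uuM a b e * uuM a' b' e' = uuM (a + a') (b + b') (e + e' + a * b') := by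
  unfold uuM
  rw [Matrix.mul_fin_three]
  congr 1
  simp only [mul_one, mul_zero, one_mul, zero_mul, add_zero, zero_add]
  congr 2 <;> ring_nf

theorem llM_mul (a b e a' b' e' : F) :
    llM a b e * llM a' b' e' = llM (a + a') (b + b') (e + e' + b * a') := by
  unfold llM
  rw [Matrix.mul_fin_three]
  congr 1
  simp only [mul_one, mul_zero, one_mul, zero_mul, add_zero, zero_add]
  congr 2 <;> ring_nf

theorem uu_mul (a b e a' b' e' : F) :
    uu a b e * uu a' b' e' = uu (a + a') (b + b') (e + e' + a * b') :=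
  Subtype.ext (uuM_mul a b e a' b' e')

theorem ll_mul (a b e a' b' e' : F) :
    ll a b e * ll a' b' e' = ll (a + a') (b + b') (e + e' + b * a') :=
  Subtype.ext (llM_mul a b e a' b' e')

theorem uuM_zero : uuM (0 : F) 0 0 = 1 := by
  unfold uuM
  ext i j; fin_cases i <;> fin_cases j <;> simp

theorem llM_zero : llM (0 : F) 0 0 = 1 := by
  unfold llM
  ext i j; fin_cases i <;> fin_cases j <;> simp

theorem uu_zero : uu (0 : F) 0 0 = 1 := Subtype.ext uuM_zero

theorem ll_zero : ll (0 : F) 0 0 = 1 := Subtype.ext llM_zero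

theorem uu_inv (a b e : F) : (uu a b e)⁻¹ = uu (-a) (-b) (a * b - e) := by
  apply inv_eq_of_mul_eq_one_right
  rw [uu_mul]
  have h1 : a + -a = 0 := by ring
  have h2 : b + -b = 0 := by ring
  have h3 : e + (a * b - e) + a * -b = 0 := by ring
  rw [h1, h2, h3, uu_zero]

theorem ll_inv (a b e : F) : (ll a b e)⁻¹ = ll (-a) (-b) (a * b - e) := by
  apply inv_eq_of_mul_eq_one_right
  rw [ll_mul]
  have h1 : a + -a = 0 := by ring
  have h2 : b + -b = 0 := by ring
  have h3 : e + (a * b - e) + b * -a = 0 := by ring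
  rw [h1, h2, h3, ll_zero]

theorem uu_conj (x y z a b e : F) :
    uu x y z * uu a b e * (uu x y z)⁻¹ = uu a b (e + x * b - a * y) := by
  rw [uu_inv, uu_mul, uu_mul]
  congr 1 <;> ring

theorem uu_conj' (x y z a b e : F) :
    (uu x y z)⁻¹ * uu a b e * uu x y z = uu a b (e - x * b + a * y) := by
  rw [uu_inv, uu_mul, uu_mul]
  congr 1 <;> ring

theorem uu_comm (a b e a' b' e' : F) :
    uu a b e * uu a' b' e' * (uu a b e)⁻¹ * (uu a' b' e')⁻¹ = uu 0 0 (a * b' - a' * b) := by
  rw [uu_inv, uu_inv, uu_mul, uu_mul, uu_mul]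
  congr 1 <;> ring

theorem ll_comm (a b e a' b' e' : F) :
    ll a b e * ll a' b' e' * (ll a b e)⁻¹ * (ll a' b' e')⁻¹ = ll 0 0 (b * a' - b' * a) := by
  rw [ll_inv, ll_inv, ll_mul, ll_mul, ll_mul]
  congr 1 <;> ring

theorem dg_mul_uu (α β : F) (h : α * β = 1) (a b e : F) :
    dg α β h * uu a b e = uu (α ^ 3 * a) (β ^ 3 * b) e * dg α β h := by
  apply Subtype.ext
  show dgM α β * uuM a b e = uuM (α ^ 3 * a) (β ^ 3 * b) e * dgM α β
  unfold dgM uuM
  rw [Matrix.mul_fin_three, Matrix.mul_fin_three]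
  congr 1
  simp only [mul_one, mul_zero, one_mul, zero_mul, add_zero, zero_add]
  have e1 : α * a = α ^ 3 * a * β ^ 2 := by linear_combination (-(α * a) * (α * β + 1)) * h
  have e2 : β ^ 2 * b = β ^ 3 * b * α := by linear_combination (-(β ^ 2 * b)) * h
  rw [← e1, ← e2, mul_comm e α]

theorem dg_mul_ll (α β : F) (h : α * β = 1) (a b e : F) :
    dg α β h * ll a b e = ll (β ^ 3 * a) (α ^ 3 * b) e * dg α β h := by
  apply Subtype.ext
  show dgM α β * llM a b e = llM (β ^ 3 * a) (α ^ 3 * b) e * dgM α β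
  unfold dgM llM
  rw [Matrix.mul_fin_three, Matrix.mul_fin_three]
  congr 1
  simp only [mul_one, mul_zero, one_mul, zero_mul, add_zero, zero_add]
  have e1 : β ^ 2 * a = β ^ 3 * a * α := by linear_combination (-(β ^ 2 * a)) * h
  have e2 : α * b = α ^ 3 * b * β ^ 2 := by linear_combination (-(α * b) * (α * β + 1)) * h
  rw [← e1, ← e2, mul_comm e α]

theorem dg_conj_uu (α β : F) (h : α * β = 1) (a b e : F) :
    dg α β h * uu a b e * (dg α β h)⁻¹ = uu (α ^ 3 * a) (β ^ 3 * b) e := by
  rw [dg_mul_uu, mul_inv_cancel_right]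

theorem dg_conj_uu' (α β : F) (h : α * β = 1) (a b e : F) :
    (dg α β h)⁻¹ * uu a b e * dg α β h = uu (β ^ 3 * a) (α ^ 3 * b) e := by
  have h3 : α ^ 3 * β ^ 3 = 1 := by rw [← mul_pow, h, one_pow]
  have key := dg_mul_uu α β h (β ^ 3 * a) (α ^ 3 * b) e
  have e1 : α ^ 3 * (β ^ 3 * a) = a := by rw [← mul_assoc, h3, one_mul]
  have e2 : β ^ 3 * (α ^ 3 * b) = b := by rw [← mul_assoc, mul_comm (β ^ 3), h3, one_mul]
  rw [e1, e2] at key
  rw [mul_assoc, ← key, ← mul_assoc, inv_mul_cancel, one_mul]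

theorem dg_conj_ll (α β : F) (h : α * β = 1) (a b e : F) :
    dg α β h * ll a b e * (dg α β h)⁻¹ = ll (β ^ 3 * a) (α ^ 3 * b) e := by
  rw [dg_mul_ll, mul_inv_cancel_right]

theorem dg_conj_ll' (α β : F) (h : α * β = 1) (a b e : F) :
    (dg α β h)⁻¹ * ll a b e * dg α β h = ll (α ^ 3 * a) (β ^ 3 * b) e := by
  have h3 : α ^ 3 * β ^ 3 = 1 := by rw [← mul_pow, h, one_pow]
  have key := dg_mul_ll α β h (α ^ 3 * a) (β ^ 3 * b) e
  have e1 : β ^ 3 * (α ^ 3 * a) = a := by rw [← mul_assoc, mul_comm (β ^ 3), h3, one_mul]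
  have e2 : α ^ 3 * (β ^ 3 * b) = b := by rw [← mul_assoc, h3, one_mul]
  rw [e1, e2] at key
  rw [mul_assoc, ← key, ← mul_assoc, inv_mul_cancel, one_mul]

/-! ### The additive lemma -/

/-- An additive subgroup of `F × F` stable under `(a, b) ↦ (ρ a, σ b)` and `(σ a, ρ b)`
(`ρ σ = 1`, `ρ ≠ σ`), containing a pair with nonzero entries, is everything, provided `ρ + σ`
lies in no proper subfield. -/
theorem addSubgroup_eq_top [Fintype F] (S : AddSubgroup (F × F)) (ρ σ : F) (hρσ : ρ * σ = 1)
    (hne : ρ ≠ σ)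
    (hcl : ∀ a b : F, (a, b) ∈ S → (ρ * a, σ * b) ∈ S)
    (hcl' : ∀ a b : F, (a, b) ∈ S → (σ * a, ρ * b) ∈ S)
    (a0 b0 : F) (ha0 : a0 ≠ 0) (hb0 : b0 ≠ 0) (h0 : (a0, b0) ∈ S)
    (hgen : ∀ K : Subfield F, ρ + σ ∈ K → K = ⊤) : ∀ a b : F, (a, b) ∈ S := by
  classical
  have hcard : 2 ≤ Fintype.card F := Fintype.one_lt_card
  let R : Subring F :=
    { carrier := {x | ∀ a b : F, (a, b) ∈ S → (x * a, x * b) ∈ S}
      mul_mem' := by
        intro x y hx hy a b hab
        have := hx _ _ (hy a b hab)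
        simpa [mul_assoc] using this
      one_mem' := by
        intro a b hab
        simpa using hab
      add_mem' := by
        intro x y hx hy a b hab
        have := S.add_mem (hx a b hab) (hy a b hab)
        simpa [add_mul] using this
      zero_mem' := by
        intro a b _
        rw [zero_mul, zero_mul, Prod.mk_zero_zero]
        exact S.zero_mem
      neg_mem' := by
        intro x hx a b hab
        have := S.neg_mem (hx a b hab)
        simpa using this }
  let K : Subfield F :=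
    { R with
      inv_mem' := by
        intro x hx
        by_cases hx0 : x = 0
        · subst hx0
          simpa using R.zero_mem
        · have h1 : x ^ (Fintype.card F - 1) = 1 := FiniteField.pow_card_sub_one_eq_one x hx0
          have h2 : x⁻¹ = x ^ (Fintype.card F - 2) := by
            apply inv_eq_of_mul_eq_one_right
            rw [← pow_succ']
            have : Fintype.card F - 2 + 1 = Fintype.card F - 1 := by omega
            rw [this, h1]
          show x⁻¹ ∈ R
          rw [h2]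
          exact R.pow_mem hx _ }
  have hK : ρ + σ ∈ K := by
    show ρ + σ ∈ R
    intro a b hab
    have := S.add_mem (hcl a b hab) (hcl' a b hab)
    have e : ((ρ + σ) * a, (ρ + σ) * b) = (ρ * a, σ * b) + (σ * a, ρ * b) := by
      rw [Prod.mk_add_mk]
      congr 1 <;> ring
    rw [e]
    exact this
  have hKtop := hgen K hK
  have hall : ∀ x : F, ∀ a b : F, (a, b) ∈ S → (x * a, x * b) ∈ S := by
    intro x
    have : x ∈ K := by rw [hKtop]; trivial
    exact this
  intro a b
  have hd : ρ - σ ≠ 0 := sub_ne_zero.mpr hne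
  set y : F := (a / a0 - b / b0) / (ρ - σ) with hy
  set x : F := a / a0 - y * ρ with hx
  have h1 := hall x a0 b0 h0
  have h2 := hall y _ _ (hcl a0 b0 h0)
  have h3 := S.add_mem h1 h2
  have e1 : x * a0 + y * (ρ * a0) = a := by
    rw [hx]; field_simp; ring
  have e2 : x * b0 + y * (σ * b0) = b := by
    rw [hx, hy]; field_simp; ring
  have e3 : (x * a0, x * b0) + (y * (ρ * a0), y * (σ * b0)) = (a, b) := by
    rw [Prod.mk_add_mk, e1, e2]
  rw [e3] at h3
  exact h3

/-! ### The triangular criterion -/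

theorem eq_top_of_uu_ll (H : Subgroup (Matrix.SpecialLinearGroup (Fin 3) F))
    (hU : ∀ a b e : F, uu a b e ∈ H) (hL : ∀ a b e : F, ll a b e ∈ H) : H = ⊤ := by
  apply eq_top_of_transvection_mem
  intro i j hij a
  fin_cases i <;> fin_cases j
  · exact absurd rfl hij
  · have : Matrix.SpecialLinearGroup.transvection hij a = uu a 0 0 := by
      apply Subtype.ext
      show Matrix.transvection _ _ a = uuM a 0 0
      ext i j; fin_cases i <;> fin_cases j <;> simp [Matrix.transvection, uuM, Matrix.single]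
    rw [this]; exact hU _ _ _
  · have : Matrix.SpecialLinearGroup.transvection hij a = uu 0 0 a := by
      apply Subtype.ext
      show Matrix.transvection _ _ a = uuM 0 0 a
      ext i j; fin_cases i <;> fin_cases j <;> simp [Matrix.transvection, uuM, Matrix.single]
    rw [this]; exact hU _ _ _
  · have : Matrix.SpecialLinearGroup.transvection hij a = ll a 0 0 := by
      apply Subtype.ext
      show Matrix.transvection _ _ a = llM a 0 0
      ext i j; fin_cases i <;> fin_cases j <;> simp [Matrix.transvection, llM, Matrix.single]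
    rw [this]; exact hL _ _ _
  · exact absurd rfl hij
  · have : Matrix.SpecialLinearGroup.transvection hij a = uu 0 a 0 := by
      apply Subtype.ext
      show Matrix.transvection _ _ a = uuM 0 a 0
      ext i j; fin_cases i <;> fin_cases j <;> simp [Matrix.transvection, uuM, Matrix.single]
    rw [this]; exact hU _ _ _
  · have : Matrix.SpecialLinearGroup.transvection hij a = ll 0 0 a := by
      apply Subtype.ext
      show Matrix.transvection _ _ a = llM 0 0 a
      ext i j; fin_cases i <;> fin_cases j <;> simp [Matrix.transvection, llM, Matrix.single]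
    rw [this]; exact hL _ _ _
  · have : Matrix.SpecialLinearGroup.transvection hij a = ll 0 a 0 := by
      apply Subtype.ext
      show Matrix.transvection _ _ a = llM 0 a 0
      ext i j; fin_cases i <;> fin_cases j <;> simp [Matrix.transvection, llM, Matrix.single]
    rw [this]; exact hL _ _ _
  · exact absurd rfl hij

/-- **Triangular generation criterion** for `SL_3(F)`. -/
theorem eq_top_of_triangular [Fintype F] (H : Subgroup (Matrix.SpecialLinearGroup (Fin 3) F))
    (α β : F) (hαβ : α * β = 1) (hne : α ^ 3 ≠ β ^ 3)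
    (hgen : ∀ K : Subfield F, α ^ 3 + β ^ 3 ∈ K → K = ⊤)
    (a0 b0 e0 : F) (ha0 : a0 ≠ 0) (hb0 : b0 ≠ 0) (hu : uu a0 b0 e0 ∈ H)
    (a1 b1 e1 : F) (ha1 : a1 ≠ 0) (hb1 : b1 ≠ 0) (hv : ll a1 b1 e1 ∈ H)
    (x y z : F) (hh : dg α β hαβ * uu x y z ∈ H) : H = ⊤ := by
  have h3 : α ^ 3 * β ^ 3 = 1 := by rw [← mul_pow, hαβ, one_pow]
  have h3' : β ^ 3 * α ^ 3 = 1 := by rw [mul_comm]; exact h3
  -- the upper part
  let SU : AddSubgroup (F × F) :=
    { carrier := {p | ∃ e, uu p.1 p.2 e ∈ H}
      add_mem' := by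
        rintro ⟨a, b⟩ ⟨a', b'⟩ ⟨e, he⟩ ⟨e', he'⟩
        refine ⟨e + e' + a * b', ?_⟩
        have := H.mul_mem he he'
        rwa [uu_mul] at this
      zero_mem' := by
        refine ⟨0, ?_⟩
        show uu 0 0 0 ∈ H
        rw [uu_zero]
        exact H.one_mem
      neg_mem' := by
        rintro ⟨a, b⟩ ⟨e, he⟩
        refine ⟨a * b - e, ?_⟩
        have := H.inv_mem he
        rwa [uu_inv] at this }
  have hSU : ∀ a b : F, (a, b) ∈ SU := by
    apply addSubgroup_eq_top SU (α ^ 3) (β ^ 3) h3 hne _ _ a0 b0 ha0 hb0 ⟨e0, hu⟩ hgen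
    · rintro a b ⟨e, he⟩
      refine ⟨e + x * b - a * y, ?_⟩
      have h1 : dg α β hαβ * uu x y z * uu a b e * (dg α β hαβ * uu x y z)⁻¹ ∈ H :=
        H.mul_mem (H.mul_mem hh he) (H.inv_mem hh)
      have h2 : dg α β hαβ * uu x y z * uu a b e * (dg α β hαβ * uu x y z)⁻¹ =
          uu (α ^ 3 * a) (β ^ 3 * b) (e + x * b - a * y) := by
        rw [_root_.mul_inv_rev, ← dg_conj_uu α β hαβ a b (e + x * b - a * y), ← uu_conj x y z a b e]
        group
      rw [h2] at h1
      exact h1
    · rintro a b ⟨e, he⟩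
      refine ⟨e - x * (α ^ 3 * b) + β ^ 3 * a * y, ?_⟩
      have h1 : (dg α β hαβ * uu x y z)⁻¹ * uu a b e * (dg α β hαβ * uu x y z) ∈ H :=
        H.mul_mem (H.mul_mem (H.inv_mem hh) he) hh
      have h2 : (dg α β hαβ * uu x y z)⁻¹ * uu a b e * (dg α β hαβ * uu x y z) =
          uu (β ^ 3 * a) (α ^ 3 * b) (e - x * (α ^ 3 * b) + β ^ 3 * a * y) := by
        rw [_root_.mul_inv_rev, ← uu_conj' x y z (β ^ 3 * a) (α ^ 3 * b) e, ← dg_conj_uu' α β hαβ a b e]
        group
      rw [h2] at h1
      exact h1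
  have hroot : ∀ c : F, uu 0 0 c ∈ H := by
    intro c
    obtain ⟨e, he⟩ := hSU c 0
    obtain ⟨e', he'⟩ := hSU 0 1
    have h1 := H.mul_mem (H.mul_mem (H.mul_mem he he') (H.inv_mem he)) (H.inv_mem he')
    rw [uu_comm] at h1
    simpa using h1
  have hU : ∀ a b e : F, uu a b e ∈ H := by
    intro a b e
    obtain ⟨e', he'⟩ := hSU a b
    have h1 := H.mul_mem he' (hroot (e - e'))
    rw [uu_mul] at h1
    have e1 : uu (a + 0) (b + 0) (e' + (e - e') + a * 0) = uu a b e := by
      congr 1 <;> ring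
    rw [e1] at h1
    exact h1
  have hd : dg α β hαβ ∈ H := by
    have h1 := H.mul_mem hh (H.inv_mem (hU x y z))
    rwa [mul_inv_cancel_right] at h1
  -- the lower part
  let SL : AddSubgroup (F × F) :=
    { carrier := {p | ∃ e, ll p.1 p.2 e ∈ H}
      add_mem' := by
        rintro ⟨a, b⟩ ⟨a', b'⟩ ⟨e, he⟩ ⟨e', he'⟩
        refine ⟨e + e' + b * a', ?_⟩
        have := H.mul_mem he he'
        rwa [ll_mul] at this
      zero_mem' := by
        refine ⟨0, ?_⟩
        show ll 0 0 0 ∈ H
        rw [ll_zero]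
        exact H.one_mem
      neg_mem' := by
        rintro ⟨a, b⟩ ⟨e, he⟩
        refine ⟨a * b - e, ?_⟩
        have := H.inv_mem he
        rwa [ll_inv] at this }
  have hSL : ∀ a b : F, (a, b) ∈ SL := by
    apply addSubgroup_eq_top SL (β ^ 3) (α ^ 3) h3' (Ne.symm hne) _ _ a1 b1 ha1 hb1 ⟨e1, hv⟩
    · intro K hK
      apply hgen K
      rwa [add_comm]
    · rintro a b ⟨e, he⟩
      refine ⟨e, ?_⟩
      have h1 := H.mul_mem (H.mul_mem hd he) (H.inv_mem hd)
      rwa [dg_conj_ll] at h1
    · rintro a b ⟨e, he⟩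
      refine ⟨e, ?_⟩
      have h1 := H.mul_mem (H.mul_mem (H.inv_mem hd) he) hd
      rwa [dg_conj_ll'] at h1
  have hrootL : ∀ c : F, ll 0 0 c ∈ H := by
    intro c
    obtain ⟨e, he⟩ := hSL 0 c
    obtain ⟨e', he'⟩ := hSL 1 0
    have h1 := H.mul_mem (H.mul_mem (H.mul_mem he he') (H.inv_mem he)) (H.inv_mem he')
    rw [ll_comm] at h1
    simpa using h1
  have hL : ∀ a b e : F, ll a b e ∈ H := by
    intro a b e
    obtain ⟨e', he'⟩ := hSL a b
    have h1 := H.mul_mem he' (hrootL (e - e'))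
    rw [ll_mul] at h1
    have e1 : ll (a + 0) (b + 0) (e' + (e - e') + b * 0) = ll a b e := by
      congr 1 <;> ring
    rw [e1] at h1
    exact h1
  exact eq_top_of_uu_ll H hU hL

end Cfsg.Agent.Lib.helper45
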