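import Mathlib
import Cfsg.Agent.Lib.helper45.SL3Tri

/-!
# Two conjugate regular unipotent generators of `SL_3(F)`, odd characteristic, `#F ∉ {3, 7}`

For `α` a generator of `Fˣ`, `A = 1 + α`, the regular unipotent elements
`u = uu A² A (2α²+α+1)` and `v = ll (-α⁻¹) (-α⁻¹A) α⁻¹` are conjugate in `SL_3(F)` and
`v u v` is upper triangular with diagonal `(α, α⁻², α)`.
-/

set_option autoImplicit false

namespace Cfsg.Agent.Lib.helper45

open Matrix

variable {F : Type*} [Field F]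

/-- `α³ + α⁻³` lies in no proper subfield when `α` generates `Fˣ` (odd characteristic). -/
theorem subfield_eq_top_of_gen [Fintype F] (p : ℕ) [Fact p.Prime] [CharP F p] (hp2 : p ≠ 2)
    (g : Fˣ) (hg : orderOf g = Fintype.card F - 1) (K : Subfield F)
    (hK : (g : F) ^ 3 + ((g⁻¹ : Fˣ) : F) ^ 3 ∈ K) : K = ⊤ := by
  classical
  by_contra hne
  haveI : Fintype K := Fintype.ofFinite K
  obtain ⟨n, -, hF⟩ := FiniteField.card F p
  obtain ⟨m, -, hKc⟩ := FiniteField.card K p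
  have hp := (Fact.out : p.Prime)
  have hp3 : 3 ≤ p := by have := hp.two_le; omega
  have hlt : Fintype.card K < Fintype.card F := by
    obtain ⟨x, hx⟩ : ∃ x : F, x ∉ K := by
      by_contra hcon
      push_neg at hcon
      apply hne
      ext x
      simp [hcon x]
    exact Fintype.card_subtype_lt hx
  have hmn : (m : ℕ) < n := by
    rw [hKc, hF] at hlt
    exact (Nat.pow_lt_pow_iff_right hp.one_lt).mp hlt
  have hpQ : p * p ^ (m : ℕ) ≤ Fintype.card F := by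
    rw [hF, ← pow_succ']
    exact Nat.pow_le_pow_right hp.pos hmn
  have hQp : p ≤ p ^ (m : ℕ) := by
    calc p = p ^ 1 := (pow_one p).symm
      _ ≤ p ^ (m : ℕ) := Nat.pow_le_pow_right hp.pos m.pos
  have hρσ : (g : F) ^ 3 * ((g⁻¹ : Fˣ) : F) ^ 3 = 1 := by
    rw [← mul_pow, ← Units.val_mul, mul_inv_cancel, Units.val_one, one_pow]
  have h1 : ((g : F) ^ 3 + ((g⁻¹ : Fˣ) : F) ^ 3) ^ (p ^ (m : ℕ)) =
      (g : F) ^ 3 + ((g⁻¹ : Fˣ) : F) ^ 3 := by
    have := FiniteField.pow_card (⟨(g : F) ^ 3 + ((g⁻¹ : Fˣ) : F) ^ 3, hK⟩ : K)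
    rw [hKc] at this
    exact congrArg Subtype.val this
  have h2 : ((g : F) ^ 3) ^ (p ^ (m : ℕ)) + (((g⁻¹ : Fˣ) : F) ^ 3) ^ (p ^ (m : ℕ)) =
      (g : F) ^ 3 + ((g⁻¹ : Fˣ) : F) ^ 3 := by
    rw [← add_pow_char_pow]; exact h1
  have hXY : ((g : F) ^ 3) ^ (p ^ (m : ℕ)) * (((g⁻¹ : Fˣ) : F) ^ 3) ^ (p ^ (m : ℕ)) = 1 := by
    rw [← mul_pow, hρσ, one_pow]
  have h3 : (((g : F) ^ 3) ^ (p ^ (m : ℕ)) - (g : F) ^ 3) *
      (((g : F) ^ 3) ^ (p ^ (m : ℕ)) - ((g⁻¹ : Fˣ) : F) ^ 3) = 0 := by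
    linear_combination (((g : F) ^ 3) ^ (p ^ (m : ℕ))) * h2 - hXY + hρσ
  have hord : ∀ k : ℕ, g ^ k = 1 → (Fintype.card F - 1) ∣ k := fun k hk =>
    hg ▸ orderOf_dvd_of_pow_eq_one hk
  have hq2 : 2 ≤ Fintype.card F := Fintype.one_lt_card
  rcases mul_eq_zero.mp h3 with h4 | h4
  · have h6 : (g ^ 3) ^ (p ^ (m : ℕ)) = g ^ 3 := by
      apply Units.ext
      rw [Units.val_pow_eq_pow_val, Units.val_pow_eq_pow_val]
      exact sub_eq_zero.mp h4
    have h5 : g ^ (3 * p ^ (m : ℕ) - 3) = 1 := by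
      have e : g ^ (3 * p ^ (m : ℕ) - 3) * g ^ 3 = 1 * g ^ 3 := by
        rw [← pow_add, Nat.sub_add_cancel (by omega), pow_mul, h6, one_mul]
      exact mul_right_cancel e
    have h7 := hord _ h5
    have h8 := Nat.le_of_dvd (by omega) h7
    have h9 : 3 * p ^ (m : ℕ) ≤ p * p ^ (m : ℕ) := Nat.mul_le_mul_right _ hp3
    omega
  · have h6 : (g ^ 3) ^ (p ^ (m : ℕ)) = g⁻¹ ^ 3 := by
      apply Units.ext
      rw [Units.val_pow_eq_pow_val, Units.val_pow_eq_pow_val, Units.val_pow_eq_pow_val]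
      exact sub_eq_zero.mp h4
    have h5 : g ^ (3 * p ^ (m : ℕ) + 3) = 1 := by
      rw [pow_add, pow_mul, h6, ← mul_pow, inv_mul_cancel, one_pow]
    have h7 := hord _ h5
    have h8 := Nat.le_of_dvd (by omega) h7
    by_cases hp5 : 5 ≤ p
    · have h9 : 5 * p ^ (m : ℕ) ≤ p * p ^ (m : ℕ) := Nat.mul_le_mul_right _ hp5
      omega
    · have hp4 : p ≠ 4 := by
        intro h
        rw [h] at hp
        exact absurd hp (by decide)
      have hp3' : p = 3 := by omega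
      subst hp3'
      have h3q : 3 ∣ Fintype.card F := by
        rw [hF]; exact dvd_pow_self 3 n.pos.ne'
      have hcop : Nat.Coprime (Fintype.card F - 1) 3 := by
        rw [Nat.coprime_comm, Nat.Prime.coprime_iff_not_dvd Nat.prime_three]
        intro h
        omega
      have h10 : (Fintype.card F - 1) ∣ (3 ^ (m : ℕ) + 1) := by
        apply hcop.dvd_of_dvd_mul_left
        have e : 3 * (3 ^ (m : ℕ) + 1) = 3 * 3 ^ (m : ℕ) + 3 := by ring
        rw [e]; exact h7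
      have h11 := Nat.le_of_dvd (by omega) h10
      omega

/-! ### The explicit family -/

theorem uuM_sub_one_nilpotent (a b e : F) : IsNilpotent (uuM a b e - 1) := by
  refine ⟨3, ?_⟩
  ext i j
  fin_cases i <;> fin_cases j <;>
    simp [uuM, pow_succ, Matrix.mul_apply, Fin.sum_univ_three, Matrix.one_apply]

theorem uuM_sub_one_sq_ne (a b e : F) (ha : a ≠ 0) (hb : b ≠ 0) : (uuM a b e - 1) ^ 2 ≠ 0 := by
  intro h
  have h1 := congrFun (congrFun h 0) 2
  simp [uuM, pow_succ, Matrix.mul_apply, Fin.sum_univ_three, Matrix.one_apply] at h1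
  rcases h1 with h1 | h1
  · exact ha h1
  · exact hb h1

/-- The conjugating matrix. -/
def famG (α : F) : Matrix (Fin 3) (Fin 3) F :=
  !![0, 0, (1 + α) * α; 0, -1, 0;
    α⁻¹ * (1 + α)⁻¹, 1 - (2 * α ^ 2 + α + 1) * α⁻¹ * ((1 + α)⁻¹) ^ 2, 0]

theorem det_famG (α : F) (hα : α ≠ 0) (hA : 1 + α ≠ 0) : (famG α).det = 1 := by
  simp only [famG, Matrix.det_fin_three, Matrix.of_apply, Matrix.cons_val', Matrix.cons_val_zero,
    Matrix.cons_val_one, Matrix.cons_val_two, Matrix.head_cons, Matrix.tail_cons,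
    Matrix.empty_val', Matrix.cons_val_fin_one, Matrix.head_fin_const]
  field_simp
  ring

theorem famG_mul (α : F) (hα : α ≠ 0) (hA : 1 + α ≠ 0) :
    famG α * uuM ((1 + α) ^ 2) (1 + α) (2 * α ^ 2 + α + 1) =
      llM (-α⁻¹) (-α⁻¹ * (1 + α)) α⁻¹ * famG α := by
  unfold famG uuM llM
  rw [Matrix.mul_fin_three, Matrix.mul_fin_three]
  ext i j
  fin_cases i <;> fin_cases j <;> simp <;> field_simp <;> ring

theorem fam_word (α : F) (hα : α ≠ 0) (hA : 1 + α ≠ 0) :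
    llM (-α⁻¹) (-α⁻¹ * (1 + α)) α⁻¹ * uuM ((1 + α) ^ 2) (1 + α) (2 * α ^ 2 + α + 1) *
      llM (-α⁻¹) (-α⁻¹ * (1 + α)) α⁻¹ =
    dgM α α⁻¹ * uuM (-(1 + α) * (1 + α ^ 2) * (α⁻¹) ^ 2) (-(1 + α ^ 2) * α)
      ((2 * α ^ 2 + α + 1) * α⁻¹) := by
  unfold uuM llM dgM
  rw [Matrix.mul_fin_three, Matrix.mul_fin_three, Matrix.mul_fin_three]
  ext i j
  fin_cases i <;> fin_cases j <;> simp <;> field_simp <;> ring

theorem exists_two_gen_family [Fintype F] (p : ℕ) [Fact p.Prime] [CharP F p] (hp2 : p ≠ 2)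
    (h3 : Fintype.card F ≠ 3) (h7 : Fintype.card F ≠ 7) :
    ∃ u g : Matrix.SpecialLinearGroup (Fin 3) F,
      IsNilpotent ((u : Matrix (Fin 3) (Fin 3) F) - 1) ∧
      ((u : Matrix (Fin 3) (Fin 3) F) - 1) ^ 2 ≠ 0 ∧
      Subgroup.closure ({u, g * u * g⁻¹} : Set (Matrix.SpecialLinearGroup (Fin 3) F)) = ⊤ := by
  classical
  have hp := (Fact.out : p.Prime)
  obtain ⟨n, -, hF⟩ := FiniteField.card F p
  obtain ⟨γ, hγ⟩ := IsCyclic.exists_generator (α := Fˣ)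
  have hord : orderOf γ = Fintype.card F - 1 := by
    rw [orderOf_eq_card_of_forall_mem_zpowers hγ, Nat.card_eq_fintype_card, Fintype.card_units]
  have hq2 : 2 ≤ Fintype.card F := Fintype.one_lt_card
  have hpdvd : p ∣ Fintype.card F := by rw [hF]; exact dvd_pow_self p n.pos.ne'
  have hq_ne2 : Fintype.card F ≠ 2 := by
    intro h
    rw [h] at hpdvd
    exact hp2 ((Nat.prime_dvd_prime_iff_eq hp Nat.prime_two).mp hpdvd)
  have hq_ne4 : Fintype.card F ≠ 4 := by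
    intro h
    rw [h] at hpdvd
    have : p ∣ 2 := by
      have h4 : (4 : ℕ) = 2 ^ 2 := by norm_num
      rw [h4] at hpdvd
      exact hp.dvd_of_dvd_pow hpdvd
    exact hp2 ((Nat.prime_dvd_prime_iff_eq hp Nat.prime_two).mp this)
  have hdiv : ∀ k : ℕ, γ ^ k = 1 → (Fintype.card F - 1) ∣ k := fun k hk =>
    hord ▸ orderOf_dvd_of_pow_eq_one hk
  set α : F := (γ : F) with hαdef
  have hα : α ≠ 0 := γ.ne_zero
  have hβ : ((γ⁻¹ : Fˣ) : F) = α⁻¹ := Units.val_inv_eq_inv_val γ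
  have hαβ : α * α⁻¹ = 1 := mul_inv_cancel₀ hα
  have hA : 1 + α ≠ 0 := by
    intro h
    have h1 : α ^ 2 = 1 := by
      have : α = -1 := by linear_combination h
      rw [this]; ring
    have h2 : γ ^ 2 = 1 := Units.ext (by rw [Units.val_pow_eq_pow_val]; exact h1)
    have h4 := Nat.le_of_dvd (by norm_num) (hdiv 2 h2)
    omega
  have hne : α ^ 3 ≠ α⁻¹ ^ 3 := by
    intro h
    have h1 : α ^ 6 = 1 := by
      have e : α ^ 6 = α ^ 3 * α ^ 3 := by ring
      rw [e]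
      nth_rewrite 2 [h]
      rw [← mul_pow, hαβ, one_pow]
    have h2 : γ ^ 6 = 1 := Units.ext (by rw [Units.val_pow_eq_pow_val]; exact h1)
    have h4 := hdiv 6 h2
    have h5 := Nat.le_of_dvd (by norm_num) h4
    have h6 : Fintype.card F - 1 = 1 ∨ Fintype.card F - 1 = 2 ∨ Fintype.card F - 1 = 3 ∨
        Fintype.card F - 1 = 6 := by
      have : Fintype.card F - 1 ∈ Nat.divisors 6 := Nat.mem_divisors.mpr ⟨h4, by norm_num⟩
      have hd : Nat.divisors 6 = {1, 2, 3, 6} := by decide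
      rw [hd] at this
      simpa using this
    omega
  have hgen : ∀ K : Subfield F, α ^ 3 + α⁻¹ ^ 3 ∈ K → K = ⊤ := by
    intro K hK
    apply subfield_eq_top_of_gen p hp2 γ hord K
    rw [hβ]
    exact hK
  -- the elements
  set A : F := 1 + α with hAdef
  let u : Matrix.SpecialLinearGroup (Fin 3) F := uu (A ^ 2) A (2 * α ^ 2 + α + 1)
  let v : Matrix.SpecialLinearGroup (Fin 3) F := ll (-α⁻¹) (-α⁻¹ * A) α⁻¹
  let g : Matrix.SpecialLinearGroup (Fin 3) F := ⟨famG α, det_famG α hα hA⟩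
  have hconj : g * u * g⁻¹ = v := by
    rw [mul_inv_eq_iff_eq_mul]
    apply Subtype.ext
    exact famG_mul α hα hA
  have hword : v * u * v = dg α α⁻¹ hαβ *
      uu (-(1 + α) * (1 + α ^ 2) * (α⁻¹) ^ 2) (-(1 + α ^ 2) * α) ((2 * α ^ 2 + α + 1) * α⁻¹) := by
    apply Subtype.ext
    exact fam_word α hα hA
  refine ⟨u, g, uuM_sub_one_nilpotent _ _ _, uuM_sub_one_sq_ne _ _ _ (pow_ne_zero 2 hA) hA, ?_⟩
  rw [hconj]
  set H := Subgroup.closure ({u, v} : Set (Matrix.SpecialLinearGroup (Fin 3) F)) with hH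
  have hu : u ∈ H := Subgroup.subset_closure (by simp)
  have hv : v ∈ H := Subgroup.subset_closure (by simp)
  have hh := H.mul_mem (H.mul_mem hv hu) hv
  rw [hword] at hh
  exact eq_top_of_triangular H α α⁻¹ hαβ hne hgen (A ^ 2) A _ (pow_ne_zero 2 hA) hA hu
    (-α⁻¹) (-α⁻¹ * A) α⁻¹ (neg_ne_zero.mpr (inv_ne_zero hα))
    (mul_ne_zero (neg_ne_zero.mpr (inv_ne_zero hα)) hA) hv _ _ _ hh

end Cfsg.Agent.Lib.helper45
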