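import Mathlib
import Cfsg.Agent.Lib.helper45.SL3Family
import Cfsg.Agent.Lib.helper44.JordanGen

/-!
# Two conjugate regular unipotent generators of `SL_3(F)`: characteristic 2, `#F = 3`, `#F = 7`
-/

set_option autoImplicit false

namespace Cfsg.Agent.Lib.helper45

open Matrix

variable {F : Type*} [Field F]

theorem jm_eq_uuM : Cfsg.Agent.Lib.helper44.jm F 3 = uuM 1 1 0 := by
  ext i j
  fin_cases i <;> fin_cases j <;>
    simp [Cfsg.Agent.Lib.helper44.jm, Cfsg.Agent.Lib.helper44.shiftMat_apply, uuM,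
      Matrix.one_apply]

theorem jmT_eq_llM : (Cfsg.Agent.Lib.helper44.jm F 3)ᵀ = llM 1 1 0 := by
  rw [jm_eq_uuM]
  ext i j
  fin_cases i <;> fin_cases j <;> simp [uuM, llM, Matrix.transpose_apply]

theorem root_eq_uuM (s : F) : 1 + Matrix.single (0 : Fin 3) (2 : Fin 3) s = uuM 0 0 s := by
  ext i j
  fin_cases i <;> fin_cases j <;> simp [uuM, Matrix.one_apply, Matrix.single]

/-- A subgroup of `SL_3(F)` containing the Jordan block, its transpose and a corner root element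
with generator parameter is everything. -/
theorem eq_top_of_J_JT_root (H : Subgroup (Matrix.SpecialLinearGroup (Fin 3) F))
    (hJ : uu 1 1 0 ∈ H) (hL : ll 1 1 0 ∈ H) (s : F)
    (hs : ∀ a : F, a ≠ 0 → ∃ m : ℕ, 0 < m ∧ s ^ m = a) (hroot : uu 0 0 s ∈ H) : H = ⊤ := by
  apply Cfsg.Agent.Lib.helper44.eq_top_of_jm_root (by norm_num) H _ _ s hs (0 : Fin 3) (2 : Fin 3)
    rfl rfl _
  · exact ⟨uu 1 1 0, hJ, jm_eq_uuM.symm⟩
  · exact ⟨ll 1 1 0, hL, jmT_eq_llM.symm⟩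
  · exact ⟨uu 0 0 s, hroot, (root_eq_uuM s).symm⟩

/-! ### Characteristic 2 -/

/-- The conjugator in characteristic 2. -/
def twoG (r : F) : Matrix (Fin 3) (Fin 3) F := !![0, 0, 1; 0, 1, 0; 1, r, 0]

/-- The swap of the first and third basis vectors. -/
def swapM : Matrix (Fin 3) (Fin 3) F := !![0, 0, 1; 0, 1, 0; 1, 0, 0]

theorem exists_two_gen_char_two [Fintype F] [CharP F 2] :
    ∃ u g : Matrix.SpecialLinearGroup (Fin 3) F,
      IsNilpotent ((u : Matrix (Fin 3) (Fin 3) F) - 1) ∧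
      ((u : Matrix (Fin 3) (Fin 3) F) - 1) ^ 2 ≠ 0 ∧
      Subgroup.closure ({u, g * u * g⁻¹} : Set (Matrix.SpecialLinearGroup (Fin 3) F)) = ⊤ := by
  obtain ⟨r, hr⟩ := Cfsg.Agent.Lib.helper44.exists_pow_generator (F := F)
  have h2 : (1 : F) + 1 = 0 := CharTwo.add_self_eq_zero 1
  have hneg : (-1 : F) = 1 := by linear_combination -h2
  have hdetG : (twoG r).det = 1 := by
    simp [twoG, Matrix.det_fin_three, hneg]
  have hdetW : (swapM : Matrix (Fin 3) (Fin 3) F).det = 1 := by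
    simp [swapM, Matrix.det_fin_three, hneg]
  let u : Matrix.SpecialLinearGroup (Fin 3) F := uu 1 1 0
  let g : Matrix.SpecialLinearGroup (Fin 3) F := ⟨twoG r, hdetG⟩
  let w : Matrix.SpecialLinearGroup (Fin 3) F := ⟨swapM, hdetW⟩
  have hconj : g * u * g⁻¹ = ll 1 1 r := by
    rw [mul_inv_eq_iff_eq_mul]
    apply Subtype.ext
    show twoG r * uuM 1 1 0 = llM 1 1 r * twoG r
    unfold twoG uuM llM
    rw [Matrix.mul_fin_three, Matrix.mul_fin_three]
    ext i j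
    fin_cases i <;> fin_cases j <;> simp
  refine ⟨u, g, uuM_sub_one_nilpotent _ _ _, uuM_sub_one_sq_ne _ _ _ one_ne_zero one_ne_zero, ?_⟩
  rw [hconj]
  set H := Subgroup.closure ({u, ll 1 1 r} : Set (Matrix.SpecialLinearGroup (Fin 3) F)) with hH
  have hu : u ∈ H := Subgroup.subset_closure (by simp)
  have hv : ll 1 1 r ∈ H := Subgroup.subset_closure (by simp)
  have hx13 : uu (0 : F) 0 1 ∈ H := by
    have h1 := H.mul_mem hu hu
    have e : u * u = uu (0 : F) 0 1 := by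
      show uu (1 : F) 1 0 * uu 1 1 0 = uu 0 0 1
      rw [uu_mul]
      congr 1
      · linear_combination (0 : F) * h2
    rw [e] at h1
    exact h1
  have hx31 : ll (0 : F) 0 1 ∈ H := by
    have h1 := H.mul_mem hv hv
    have e : ll (1 : F) 1 r * ll 1 1 r = ll 0 0 1 := by
      rw [ll_mul]
      congr 1
      · linear_combination (r) * h2
    rw [e] at h1
    exact h1
  have hw : w ∈ H := by
    have h1 := H.mul_mem (H.mul_mem hx13 hx31) hx13
    have e : uu (0 : F) 0 1 * ll 0 0 1 * uu 0 0 1 = w := by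
      apply Subtype.ext
      show uuM (0 : F) 0 1 * llM 0 0 1 * uuM 0 0 1 = swapM
      unfold uuM llM swapM
      rw [Matrix.mul_fin_three, Matrix.mul_fin_three]
      ext i j
      fin_cases i <;> fin_cases j <;> simp [h2]
    rw [e] at h1
    exact h1
  have hL : ll (1 : F) 1 0 ∈ H := by
    have h1 := H.mul_mem (H.mul_mem hw hu) (H.inv_mem hw)
    have e : w * u * w⁻¹ = ll 1 1 0 := by
      rw [mul_inv_eq_iff_eq_mul]
      apply Subtype.ext
      show swapM * uuM (1 : F) 1 0 = llM 1 1 0 * swapM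
      unfold uuM llM swapM
      rw [Matrix.mul_fin_three, Matrix.mul_fin_three]
      ext i j
      fin_cases i <;> fin_cases j <;> simp
    rw [e] at h1
    exact h1
  have hr31 : ll (0 : F) 0 r ∈ H := by
    have h1 := H.mul_mem (H.inv_mem hL) hv
    have e : (ll (1 : F) 1 0)⁻¹ * ll 1 1 r = ll 0 0 r := by
      rw [ll_inv, ll_mul]
      congr 1 <;> ring
    rw [e] at h1
    exact h1
  have hr13 : uu (0 : F) 0 r ∈ H := by
    have h1 := H.mul_mem (H.mul_mem hw hr31) (H.inv_mem hw)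
    have e : w * ll (0 : F) 0 r * w⁻¹ = uu 0 0 r := by
      rw [mul_inv_eq_iff_eq_mul]
      apply Subtype.ext
      show swapM * llM (0 : F) 0 r = uuM 0 0 r * swapM
      unfold uuM llM swapM
      rw [Matrix.mul_fin_three, Matrix.mul_fin_three]
      ext i j
      fin_cases i <;> fin_cases j <;> simp
    rw [e] at h1
    exact h1
  exact eq_top_of_J_JT_root H hu hL r hr hr13

/-! ### Prime fields with a word certificate -/

theorem uu_root_pow (c : F) (k : ℕ) : (uu (0 : F) 0 c) ^ k = uu 0 0 (k * c) := by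
  induction k with
  | zero => simp [uu_zero]
  | succ k ih =>
    rw [pow_succ, ih, uu_mul]
    congr 1
    · simp
    · simp
    · push_cast; ring

theorem exists_natCast_eq [Fintype F] (p : ℕ) [Fact p.Prime] [CharP F p]
    (hF : Fintype.card F = p) (s : F) : ∃ k : ℕ, (k : F) = s := by
  have hinj : Function.Injective (ZMod.castHom (dvd_refl p) F) := RingHom.injective _
  have hbij : Function.Bijective (ZMod.castHom (dvd_refl p) F) := by
    rw [Fintype.bijective_iff_injective_and_card]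
    exact ⟨hinj, by rw [ZMod.card, hF]⟩
  obtain ⟨z, hz⟩ := hbij.2 s
  refine ⟨z.val, ?_⟩
  rw [← hz]
  conv_rhs => rw [← ZMod.natCast_zmod_val z]
  rw [map_natCast]

/-- Prime field: Jordan block, its transpose and the corner root element `x₁₃(1)`. -/
theorem eq_top_of_prime_field [Fintype F] (p : ℕ) [Fact p.Prime] [CharP F p]
    (hF : Fintype.card F = p) (H : Subgroup (Matrix.SpecialLinearGroup (Fin 3) F))
    (hJ : uu 1 1 0 ∈ H) (hL : ll 1 1 0 ∈ H) (hroot : uu (0 : F) 0 1 ∈ H) : H = ⊤ := by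
  obtain ⟨s, hs⟩ := Cfsg.Agent.Lib.helper44.exists_pow_generator (F := F)
  obtain ⟨k, hk⟩ := exists_natCast_eq p hF s
  apply eq_top_of_J_JT_root H hJ hL s hs
  have h1 := H.pow_mem hroot k
  rw [uu_root_pow, mul_one, hk] at h1
  exact h1

/-- The conjugator `J ↦ (Jᵀ)⁻¹`. -/
def primeG : Matrix (Fin 3) (Fin 3) F := !![0, 0, 1; 0, -1, 0; 1, 1, 0]

theorem det_primeG : (primeG : Matrix (Fin 3) (Fin 3) F).det = 1 := by
  simp [primeG, Matrix.det_fin_three]

/-- The conjugator as an element of `SL_3`. -/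
def primeGS : Matrix.SpecialLinearGroup (Fin 3) F := ⟨primeG, det_primeG⟩

theorem primeG_conj :
    (primeGS : Matrix.SpecialLinearGroup (Fin 3) F) * uu 1 1 0 * primeGS⁻¹ = ll (-1) (-1) 1 := by
  rw [mul_inv_eq_iff_eq_mul]
  apply Subtype.ext
  show primeG * uuM (1 : F) 1 0 = llM (-1) (-1) 1 * primeG
  unfold uuM llM primeG
  rw [Matrix.mul_fin_three, Matrix.mul_fin_three]
  ext i j
  fin_cases i <;> fin_cases j <;> simp

/-- The four letters over `ZMod p`. -/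
def aZ (p : ℕ) : Matrix (Fin 3) (Fin 3) (ZMod p) := !![1, 1, 0; 0, 1, 1; 0, 0, 1]
def aZi (p : ℕ) : Matrix (Fin 3) (Fin 3) (ZMod p) := !![1, -1, 1; 0, 1, -1; 0, 0, 1]
def bZ (p : ℕ) : Matrix (Fin 3) (Fin 3) (ZMod p) := !![1, 0, 0; -1, 1, 0; 1, -1, 1]
def bZi (p : ℕ) : Matrix (Fin 3) (Fin 3) (ZMod p) := !![1, 0, 0; 1, 1, 0; 0, 1, 1]
def rZ (p : ℕ) : Matrix (Fin 3) (Fin 3) (ZMod p) := !![1, 0, 1; 0, 1, 0; 0, 0, 1]

set_option maxRecDepth 100000 in
theorem cert3 : aZi 3 * bZ 3 * aZi 3 * bZ 3 * aZi 3 * bZi 3 * aZ 3 * bZi 3 * aZ 3 * bZi 3 *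
    aZi 3 * bZ 3 * aZi 3 * bZ 3 = rZ 3 := by
  decide

set_option maxRecDepth 100000 in
theorem cert7 : aZi 7 * aZi 7 * aZi 7 * bZ 7 * aZi 7 * aZi 7 * bZi 7 * aZi 7 * bZi 7 * aZ 7 *
    bZ 7 * aZ 7 * bZ 7 * aZi 7 * bZ 7 = rZ 7 := by
  decide

section maps

variable (p : ℕ) [CharP F p]

theorem map_aZ : (ZMod.castHom (dvd_refl p) F).mapMatrix (aZ p) = uuM 1 1 0 := by
  ext i j
  fin_cases i <;> fin_cases j <;> simp [aZ, uuM]

theorem map_aZi : (ZMod.castHom (dvd_refl p) F).mapMatrix (aZi p) = uuM (-1) (-1) 1 := by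
  ext i j
  fin_cases i <;> fin_cases j <;> simp [aZi, uuM]

theorem map_bZ : (ZMod.castHom (dvd_refl p) F).mapMatrix (bZ p) = llM (-1) (-1) 1 := by
  ext i j
  fin_cases i <;> fin_cases j <;> simp [bZ, llM]

theorem map_bZi : (ZMod.castHom (dvd_refl p) F).mapMatrix (bZi p) = llM 1 1 0 := by
  ext i j
  fin_cases i <;> fin_cases j <;> simp [bZi, llM]

theorem map_rZ : (ZMod.castHom (dvd_refl p) F).mapMatrix (rZ p) = uuM 0 0 1 := by
  ext i j
  fin_cases i <;> fin_cases j <;> simp [rZ, uuM]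

end maps

theorem word3 [CharP F 3] :
    uu (-1 : F) (-1) 1 * ll (-1) (-1) 1 * uu (-1) (-1) 1 * ll (-1) (-1) 1 * uu (-1) (-1) 1 *
      ll 1 1 0 * uu 1 1 0 * ll 1 1 0 * uu 1 1 0 * ll 1 1 0 * uu (-1) (-1) 1 * ll (-1) (-1) 1 *
      uu (-1) (-1) 1 * ll (-1) (-1) 1 = uu 0 0 1 := by
  haveI : Fact (Nat.Prime 3) := ⟨Nat.prime_three⟩
  apply Subtype.ext
  simp only [Matrix.SpecialLinearGroup.coe_mul]
  show uuM (-1 : F) (-1) 1 * llM (-1) (-1) 1 * uuM (-1) (-1) 1 * llM (-1) (-1) 1 *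
      uuM (-1) (-1) 1 * llM 1 1 0 * uuM 1 1 0 * llM 1 1 0 * uuM 1 1 0 * llM 1 1 0 *
      uuM (-1) (-1) 1 * llM (-1) (-1) 1 * uuM (-1) (-1) 1 * llM (-1) (-1) 1 = uuM 0 0 1
  rw [← map_aZ (F := F) 3, ← map_aZi (F := F) 3, ← map_bZ (F := F) 3, ← map_bZi (F := F) 3,
    ← map_rZ (F := F) 3]
  simp only [← map_mul]
  rw [cert3]

theorem word7 [CharP F 7] :
    uu (-1 : F) (-1) 1 * uu (-1) (-1) 1 * uu (-1) (-1) 1 * ll (-1) (-1) 1 * uu (-1) (-1) 1 *
      uu (-1) (-1) 1 * ll 1 1 0 * uu (-1) (-1) 1 * ll 1 1 0 * uu 1 1 0 * ll (-1) (-1) 1 *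
      uu 1 1 0 * ll (-1) (-1) 1 * uu (-1) (-1) 1 * ll (-1) (-1) 1 = uu 0 0 1 := by
  haveI : Fact (Nat.Prime 7) := ⟨by norm_num⟩
  apply Subtype.ext
  simp only [Matrix.SpecialLinearGroup.coe_mul]
  show uuM (-1 : F) (-1) 1 * uuM (-1) (-1) 1 * uuM (-1) (-1) 1 * llM (-1) (-1) 1 *
      uuM (-1) (-1) 1 * uuM (-1) (-1) 1 * llM 1 1 0 * uuM (-1) (-1) 1 * llM 1 1 0 * uuM 1 1 0 *
      llM (-1) (-1) 1 * uuM 1 1 0 * llM (-1) (-1) 1 * uuM (-1) (-1) 1 * llM (-1) (-1) 1 =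
      uuM 0 0 1
  rw [← map_aZ (F := F) 7, ← map_aZi (F := F) 7, ← map_bZ (F := F) 7, ← map_bZi (F := F) 7,
    ← map_rZ (F := F) 7]
  simp only [← map_mul]
  rw [cert7]

theorem exists_two_gen_prime [Fintype F] (p : ℕ) [Fact p.Prime] [CharP F p]
    (hF : Fintype.card F = p)
    (hword : ∀ H : Subgroup (Matrix.SpecialLinearGroup (Fin 3) F),
      uu 1 1 0 ∈ H → uu (-1 : F) (-1) 1 ∈ H → ll (-1 : F) (-1) 1 ∈ H → ll 1 1 0 ∈ H →
      uu (0 : F) 0 1 ∈ H) :
    ∃ u g : Matrix.SpecialLinearGroup (Fin 3) F,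
      IsNilpotent ((u : Matrix (Fin 3) (Fin 3) F) - 1) ∧
      ((u : Matrix (Fin 3) (Fin 3) F) - 1) ^ 2 ≠ 0 ∧
      Subgroup.closure ({u, g * u * g⁻¹} : Set (Matrix.SpecialLinearGroup (Fin 3) F)) = ⊤ := by
  refine ⟨uu 1 1 0, primeGS, uuM_sub_one_nilpotent _ _ _,
    uuM_sub_one_sq_ne _ _ _ one_ne_zero one_ne_zero, ?_⟩
  rw [primeG_conj]
  set H := Subgroup.closure ({uu 1 1 0, ll (-1) (-1) 1} :
    Set (Matrix.SpecialLinearGroup (Fin 3) F)) with hH
  have hu : uu (1 : F) 1 0 ∈ H := Subgroup.subset_closure (by simp)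
  have hv : ll (-1 : F) (-1) 1 ∈ H := Subgroup.subset_closure (by simp)
  have hui : uu (-1 : F) (-1) 1 ∈ H := by
    have h1 := H.inv_mem hu
    rw [uu_inv] at h1
    have e : uu (-1 : F) (-1) (1 * 1 - 0) = uu (-1) (-1) 1 := by congr 1; ring
    rw [e] at h1
    exact h1
  have hvi : ll (1 : F) 1 0 ∈ H := by
    have h1 := H.inv_mem hv
    rw [ll_inv] at h1
    have e : ll (- -1 : F) (- -1) (-1 * -1 - 1) = ll 1 1 0 := by congr 1 <;> ring
    rw [e] at h1
    exact h1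
  exact eq_top_of_prime_field p hF H hu hvi (hword H hu hui hv hvi)

theorem exists_two_gen_three [Fintype F] (hF : Fintype.card F = 3) :
    ∃ u g : Matrix.SpecialLinearGroup (Fin 3) F,
      IsNilpotent ((u : Matrix (Fin 3) (Fin 3) F) - 1) ∧
      ((u : Matrix (Fin 3) (Fin 3) F) - 1) ^ 2 ≠ 0 ∧
      Subgroup.closure ({u, g * u * g⁻¹} : Set (Matrix.SpecialLinearGroup (Fin 3) F)) = ⊤ := by
  haveI : Fact (Nat.Prime 3) := ⟨Nat.prime_three⟩
  haveI : CharP F 3 := charP_of_card_eq_prime hF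
  apply exists_two_gen_prime 3 hF
  intro H ha hA hb hB
  rw [← word3]
  exact H.mul_mem (H.mul_mem (H.mul_mem (H.mul_mem (H.mul_mem (H.mul_mem (H.mul_mem (H.mul_mem
    (H.mul_mem (H.mul_mem (H.mul_mem (H.mul_mem (H.mul_mem hA hb) hA) hb) hA) hB) ha) hB) ha) hB)
    hA) hb) hA) hb

theorem exists_two_gen_seven [Fintype F] (hF : Fintype.card F = 7) :
    ∃ u g : Matrix.SpecialLinearGroup (Fin 3) F,
      IsNilpotent ((u : Matrix (Fin 3) (Fin 3) F) - 1) ∧
      ((u : Matrix (Fin 3) (Fin 3) F) - 1) ^ 2 ≠ 0 ∧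
      Subgroup.closure ({u, g * u * g⁻¹} : Set (Matrix.SpecialLinearGroup (Fin 3) F)) = ⊤ := by
  haveI : Fact (Nat.Prime 7) := ⟨by norm_num⟩
  haveI : CharP F 7 := charP_of_card_eq_prime hF
  apply exists_two_gen_prime 7 hF
  intro H ha hA hb hB
  rw [← word7]
  exact H.mul_mem (H.mul_mem (H.mul_mem (H.mul_mem (H.mul_mem (H.mul_mem (H.mul_mem (H.mul_mem
    (H.mul_mem (H.mul_mem (H.mul_mem (H.mul_mem (H.mul_mem (H.mul_mem hA hA) hA) hb) hA) hA) hB)
    hA) hB) ha) hb) ha) hb) hA) hb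

/-- **`SL_3(F)` is generated by two conjugate regular unipotent elements.** -/
theorem exists_two_conj_regular_unipotent_gen [Fintype F] :
    ∃ u g : Matrix.SpecialLinearGroup (Fin 3) F,
      IsNilpotent ((u : Matrix (Fin 3) (Fin 3) F) - 1) ∧
      ((u : Matrix (Fin 3) (Fin 3) F) - 1) ^ 2 ≠ 0 ∧
      Subgroup.closure ({u, g * u * g⁻¹} : Set (Matrix.SpecialLinearGroup (Fin 3) F)) = ⊤ := by
  obtain ⟨p, hchar⟩ := CharP.exists F
  haveI := hchar
  haveI : Fact p.Prime := ⟨CharP.char_is_prime F p⟩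
  by_cases hp2 : p = 2
  · subst hp2
    exact exists_two_gen_char_two
  by_cases h3 : Fintype.card F = 3
  · exact exists_two_gen_three h3
  by_cases h7 : Fintype.card F = 7
  · exact exists_two_gen_seven h7
  exact exists_two_gen_family p hp2 h3 h7

end Cfsg.Agent.Lib.helper45
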