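import Mathlib
import Cfsg.Agent.Lib.helper45.SLGen

set_option autoImplicit false
set_option linter.unusedSimpArgs false

namespace Cfsg.Agent.Lib.helper45

open Matrix

section diag

variable {ι K : Type*} [DecidableEq ι] [Fintype ι] [Field K]

/-- Moving a diagonal matrix past an elementary transvection. -/
theorem diag_mul_transvection (δ : Matrix.SpecialLinearGroup ι K) (d : ι → K)
    (hδ : (δ : Matrix ι ι K) = Matrix.diagonal d) {i j : ι} (hij : i ≠ j) (c c' : K)
    (hc : d i * c = c' * d j) :
    δ * Matrix.SpecialLinearGroup.transvection hij c =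
      Matrix.SpecialLinearGroup.transvection hij c' * δ := by
  apply Subtype.ext
  simp only [Matrix.SpecialLinearGroup.coe_mul, Matrix.SpecialLinearGroup.transvection_coe, hδ]
  rw [mul_add, add_mul, mul_one, one_mul]
  congr 1
  ext a b
  rw [Matrix.diagonal_mul, Matrix.mul_diagonal, Matrix.single_apply, Matrix.single_apply]
  by_cases h : i = a ∧ j = b
  · obtain ⟨rfl, rfl⟩ := h
    simp [hc]
  · simp [h]

end diag

section subfield

variable {K : Type*} [Field K] [Fintype K]

/-- A subfield of a finite field with more than three elements containing the square of a generator of the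
multiplicative group is the whole field. -/
theorem subfield_eq_top_of_gen_sq_mem (hK : 3 < Fintype.card K) (k : Kˣ)
    (hk : ∀ u : Kˣ, u ∈ Subgroup.zpowers k) (B : Subfield K) (hB : (k : K) ^ 2 ∈ B) : B = ⊤ := by
  classical
  have : Fintype ↥B := Fintype.ofFinite _
  have hord : orderOf k = Fintype.card K - 1 := by
    rw [orderOf_eq_card_of_forall_mem_zpowers hk, Nat.card_eq_fintype_card, Fintype.card_units]
  have hcard : Fintype.card K = Fintype.card ↥B ^ Module.finrank ↥B K := Module.card_eq_pow_finrank
  have hb2 : 2 ≤ Fintype.card ↥B := Fintype.one_lt_card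
  -- `k ^ (2 * (b - 1)) = 1`
  have hpow : k ^ (2 * (Fintype.card ↥B - 1)) = 1 := by
    have hne : (⟨(k : K) ^ 2, hB⟩ : ↥B) ≠ 0 := by
      intro h
      have := congrArg (fun z : ↥B => (z : K)) h
      simp at this
    have h1 := FiniteField.pow_card_sub_one_eq_one (⟨(k : K) ^ 2, hB⟩ : ↥B) hne
    have h2 := congrArg (fun z : ↥B => (z : K)) h1
    simp only [SubmonoidClass.coe_pow, Subfield.coe_one] at h2
    apply Units.ext
    rw [Units.val_pow_eq_pow_val, Units.val_one, pow_mul]
    exact h2
  have hdvd : Fintype.card K - 1 ∣ 2 * (Fintype.card ↥B - 1) := by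
    rw [← hord]
    exact orderOf_dvd_of_pow_eq_one hpow
  have hle : Fintype.card K - 1 ≤ 2 * (Fintype.card ↥B - 1) := Nat.le_of_dvd (by omega) hdvd
  -- the degree is one
  have hdeg : Module.finrank ↥B K = 1 := by
    by_contra hne
    rcases Nat.lt_or_ge (Module.finrank ↥B K) 1 with h0 | h2
    · have : Module.finrank ↥B K = 0 := by omega
      rw [this, pow_zero] at hcard
      omega
    · have h2' : 2 ≤ Module.finrank ↥B K := by omega
      have : Fintype.card ↥B ^ 2 ≤ Fintype.card K := by
        rw [hcard]
        exact Nat.pow_le_pow_right (by omega) h2'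
      have h3 : Fintype.card K + 1 ≤ 2 * Fintype.card ↥B := by omega
      nlinarith [this, h3, hb2]
  rw [hdeg, pow_one] at hcard
  rw [eq_top_iff]
  intro t _
  have hinj : Function.Injective (fun z : ↥B => (z : K)) := Subtype.val_injective
  have hbij : Function.Bijective (fun z : ↥B => (z : K)) :=
    (Fintype.bijective_iff_injective_and_card _).mpr ⟨hinj, hcard.symm⟩
  obtain ⟨z, hz⟩ := hbij.2 t
  rw [← hz]
  exact z.2

end subfield

section fill

variable {ι K : Type*} [DecidableEq ι] [Fintype ι] [Field K] [Fintype K]

/-- If a subgroup meets a root subgroup nontrivially and the intersection is stable under scaling by the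
square of a generator of the multiplicative group, it contains the root subgroup. -/
theorem forall_transvection_mem_of_scaling (hK : 3 < Fintype.card K) (k : Kˣ)
    (hk : ∀ u : Kˣ, u ∈ Subgroup.zpowers k) (H : Subgroup (Matrix.SpecialLinearGroup ι K))
    {i j : ι} (hij : i ≠ j)
    (hscale : ∀ a : K, Matrix.SpecialLinearGroup.transvection hij a ∈ H →
      Matrix.SpecialLinearGroup.transvection hij ((k : K) ^ 2 * a) ∈ H)
    (a0 : K) (ha0 : a0 ≠ 0) (hmem : Matrix.SpecialLinearGroup.transvection hij a0 ∈ H) (t : K) :
    Matrix.SpecialLinearGroup.transvection hij t ∈ H := by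
  classical
  -- the subring of scalars stabilising the intersection
  let R : Subring K :=
    { carrier := {b | ∀ a : K, Matrix.SpecialLinearGroup.transvection hij a ∈ H →
        Matrix.SpecialLinearGroup.transvection hij (b * a) ∈ H}
      mul_mem' := by
        intro b1 b2 h1 h2 a ha
        rw [mul_assoc]
        exact h1 _ (h2 _ ha)
      one_mem' := by
        intro a ha
        rwa [one_mul]
      add_mem' := by
        intro b1 b2 h1 h2 a ha
        rw [add_mul, Matrix.SpecialLinearGroup.transvection_add]
        exact H.mul_mem (h1 _ ha) (h2 _ ha)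
      zero_mem' := by
        intro a _
        rw [zero_mul, Matrix.SpecialLinearGroup.transvection_coeff_zero]
        exact H.one_mem
      neg_mem' := by
        intro b hb a ha
        rw [neg_mul, ← Matrix.SpecialLinearGroup.transvection_inv]
        exact H.inv_mem (hb _ ha) }
  let B : Subfield K :=
    { R with
      inv_mem' := by
        intro b hb
        by_cases hb0 : b = 0
        · rw [hb0, _root_.inv_zero]
          exact R.zero_mem
        · have h1 := FiniteField.pow_card_sub_one_eq_one b hb0
          have h2 : b⁻¹ = b ^ (Fintype.card K - 2) := by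
            apply inv_eq_of_mul_eq_one_right
            rw [← pow_succ']
            have : Fintype.card K - 2 + 1 = Fintype.card K - 1 := by omega
            rw [this]
            exact h1
          rw [h2]
          exact R.pow_mem hb _ }
  have hkB : (k : K) ^ 2 ∈ B := fun a ha => hscale a ha
  have hB := subfield_eq_top_of_gen_sq_mem hK k hk B hkB
  have ht : t / a0 ∈ B := by rw [hB]; exact Subfield.mem_top _
  have := ht a0 hmem
  rwa [div_mul_cancel₀ _ ha0] at this

end fill

section cycdiag

variable {K : Type*} [Field K] {n : ℕ}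

theorem cyc_mul_diagonal (ε : Fin (n + 1) → K)
    (w : Matrix.SpecialLinearGroup (Fin (n + 1)) K)
    (hw : ∀ i j, (w : Matrix (Fin (n + 1)) (Fin (n + 1)) K) i j = if j = i + 1 then ε i else 0)
    (d : Fin (n + 1) → K) :
    (w : Matrix (Fin (n + 1)) (Fin (n + 1)) K) * Matrix.diagonal d =
      Matrix.diagonal (fun a => d (a + 1)) * (w : Matrix (Fin (n + 1)) (Fin (n + 1)) K) := by
  ext a b
  rw [Matrix.mul_diagonal, Matrix.diagonal_mul, hw]
  split_ifs with h
  · rw [h, mul_comm]
  · simp

/-- Conjugating a diagonal matrix by the cyclic monomial matrix shifts the diagonal. -/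
theorem cyc_conj_diagonal (ε : Fin (n + 1) → K)
    (w : Matrix.SpecialLinearGroup (Fin (n + 1)) K)
    (hw : ∀ i j, (w : Matrix (Fin (n + 1)) (Fin (n + 1)) K) i j = if j = i + 1 then ε i else 0)
    (δ : Matrix.SpecialLinearGroup (Fin (n + 1)) K) (d : Fin (n + 1) → K)
    (hδ : (δ : Matrix (Fin (n + 1)) (Fin (n + 1)) K) = Matrix.diagonal d) :
    ((w * δ * w⁻¹ : Matrix.SpecialLinearGroup (Fin (n + 1)) K) :
      Matrix (Fin (n + 1)) (Fin (n + 1)) K) = Matrix.diagonal (fun a => d (a + 1)) := by
  have e : w * δ * w⁻¹ * w = w * δ := by group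
  have e1 := congrArg (fun z : Matrix.SpecialLinearGroup (Fin (n + 1)) K =>
    (z : Matrix (Fin (n + 1)) (Fin (n + 1)) K)) e
  simp only [Matrix.SpecialLinearGroup.coe_mul] at e1
  have e2 : (w : Matrix (Fin (n + 1)) (Fin (n + 1)) K) *
      ((w⁻¹ : Matrix.SpecialLinearGroup (Fin (n + 1)) K) : Matrix (Fin (n + 1)) (Fin (n + 1)) K) = 1 := by
    rw [← Matrix.SpecialLinearGroup.coe_mul, mul_inv_cancel, Matrix.SpecialLinearGroup.coe_one]
  rw [Matrix.SpecialLinearGroup.coe_mul, Matrix.SpecialLinearGroup.coe_mul, hδ,
    cyc_mul_diagonal ε w hw d, Matrix.mul_assoc, e2, Matrix.mul_one]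

end cycdiag

end Cfsg.Agent.Lib.helper45
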