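import Mathlib
import Cfsg.Agent.Lib.helper45.SL3Tri
import Cfsg.Agent.Lib.helper47.UFusA

/-!
# `SU_3` in the antidiagonal model: unitriangular elements and a triangular criterion

`UG 3 σ` is the special unitary group of the antidiagonal Hermitian form.  We record when the
unitriangular elements `uu a b e`, `ll a b e`, the diagonal elements `dT d1 d2 d3` and the Weyl
element `w0` lie in it, and prove: if a subgroup `H ≤ UG 3 σ` contains some `uu a0 b0 e0` with
`a0 ≠ 0` and an element `D * uu a1 b1 e1` where conjugation by `D` scales the first coordinate of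
`uu` by `ρ`, `ρ` in no proper subfield, then `H` contains every `uu a b e ∈ UG 3 σ`
(`uu_mem_of_torus`).
-/

set_option autoImplicit false

namespace Cfsg.Agent.Lib.helper45

open Matrix Cfsg.Agent.Lib.helper47.UFus

variable {F : Type*} [Field F]

theorem sharp_uuM (σ : F →+* F) (a b e : F) :
    sharp σ (uuM a b e) = uuM (σ b) (σ a) (σ e) := by
  ext i j
  fin_cases i <;> fin_cases j <;> simp [sharp_apply, uuM, Fin.rev]

theorem sharp_llM (σ : F →+* F) (a b e : F) :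
    sharp σ (llM a b e) = llM (σ b) (σ a) (σ e) := by
  ext i j
  fin_cases i <;> fin_cases j <;> simp [sharp_apply, llM, Fin.rev]

theorem uuM_inj {a b e a' b' e' : F} (h : uuM a b e = uuM a' b' e') :
    a = a' ∧ b = b' ∧ e = e' := by
  have h1 := congrFun (congrFun h 0) 1
  have h2 := congrFun (congrFun h 1) 2
  have h3 := congrFun (congrFun h 0) 2
  simp [uuM] at h1 h2 h3
  exact ⟨h1, h2, h3⟩

theorem llM_inj {a b e a' b' e' : F} (h : llM a b e = llM a' b' e') :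
    a = a' ∧ b = b' ∧ e = e' := by
  have h1 := congrFun (congrFun h 1) 0
  have h2 := congrFun (congrFun h 2) 1
  have h3 := congrFun (congrFun h 2) 0
  simp [llM] at h1 h2 h3
  exact ⟨h1, h2, h3⟩

theorem uu_mem_UG_iff (σ : F →+* F) (a b e : F) :
    uu a b e ∈ UG 3 σ ↔ σ b + a = 0 ∧ σ a + b = 0 ∧ σ e + e + σ b * b = 0 := by
  rw [mem_UG]
  show sharp σ (uuM a b e) * uuM a b e = 1 ↔ _
  rw [sharp_uuM, uuM_mul, ← uuM_zero]
  constructor
  · intro h
    exact uuM_inj h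
  · rintro ⟨h1, h2, h3⟩
    rw [h1, h2, h3]

theorem ll_mem_UG_iff (σ : F →+* F) (a b e : F) :
    ll a b e ∈ UG 3 σ ↔ σ b + a = 0 ∧ σ a + b = 0 ∧ σ e + e + σ a * a = 0 := by
  rw [mem_UG]
  show sharp σ (llM a b e) * llM a b e = 1 ↔ _
  rw [sharp_llM, llM_mul, ← llM_zero]
  constructor
  · intro h
    exact llM_inj h
  · rintro ⟨h1, h2, h3⟩
    rw [h1, h2, h3]

/-- `uu a b e ∈ UG` from the two essential relations. -/
theorem uu_mem_UG (σ : F →+* F) (hσ2 : ∀ x, σ (σ x) = x) (a b e : F) (h1 : σ b + a = 0)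
    (h2 : σ e + e + σ b * b = 0) : uu a b e ∈ UG 3 σ := by
  rw [uu_mem_UG_iff]
  refine ⟨h1, ?_, h2⟩
  have h3 : σ (σ b + a) = 0 := by rw [h1, map_zero]
  rw [map_add, hσ2] at h3
  linear_combination h3

theorem ll_mem_UG (σ : F →+* F) (hσ2 : ∀ x, σ (σ x) = x) (a b e : F) (h1 : σ b + a = 0)
    (h2 : σ e + e + σ a * a = 0) : ll a b e ∈ UG 3 σ := by
  rw [ll_mem_UG_iff]
  refine ⟨h1, ?_, h2⟩
  have h3 : σ (σ b + a) = 0 := by rw [h1, map_zero]
  rw [map_add, hσ2] at h3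
  linear_combination h3

/-! ### Diagonal elements -/

/-- The diagonal matrix `diag(d1, d2, d3)`. -/
def dTM (d1 d2 d3 : F) : Matrix (Fin 3) (Fin 3) F := !![d1, 0, 0; 0, d2, 0; 0, 0, d3]

theorem det_dTM (d1 d2 d3 : F) (h : d1 * d2 * d3 = 1) : (dTM d1 d2 d3).det = 1 := by
  simp only [dTM, Matrix.det_fin_three, Matrix.of_apply, Matrix.cons_val', Matrix.cons_val_zero,
    Matrix.cons_val_one, Matrix.cons_val_two, Matrix.head_cons, Matrix.tail_cons,
    Matrix.empty_val', Matrix.cons_val_fin_one, Matrix.head_fin_const]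
  linear_combination h

/-- `diag(d1, d2, d3)` as an element of `SL_3`. -/
def dT (d1 d2 d3 : F) (h : d1 * d2 * d3 = 1) : Matrix.SpecialLinearGroup (Fin 3) F :=
  ⟨dTM d1 d2 d3, det_dTM d1 d2 d3 h⟩

theorem sharp_dTM (σ : F →+* F) (d1 d2 d3 : F) :
    sharp σ (dTM d1 d2 d3) = dTM (σ d3) (σ d2) (σ d1) := by
  ext i j
  fin_cases i <;> fin_cases j <;> simp [sharp_apply, dTM, Fin.rev]

theorem dTM_mul_dTM (d1 d2 d3 c1 c2 c3 : F) :
    dTM d1 d2 d3 * dTM c1 c2 c3 = dTM (d1 * c1) (d2 * c2) (d3 * c3) := by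
  unfold dTM
  rw [Matrix.mul_fin_three]
  ext i j
  fin_cases i <;> fin_cases j <;> simp

theorem dTM_one : dTM (1 : F) 1 1 = 1 := by
  unfold dTM
  ext i j; fin_cases i <;> fin_cases j <;> simp

theorem dT_mem_UG (σ : F →+* F) (d1 d2 d3 : F) (h : d1 * d2 * d3 = 1) (h1 : σ d3 * d1 = 1)
    (h2 : σ d2 * d2 = 1) (h3 : σ d1 * d3 = 1) : dT d1 d2 d3 h ∈ UG 3 σ := by
  rw [mem_UG]
  show sharp σ (dTM d1 d2 d3) * dTM d1 d2 d3 = 1
  rw [sharp_dTM, dTM_mul_dTM, h1, h2, h3, dTM_one]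

theorem dTM_mul_uuM (ρ ρ' d3 a b e : F) :
    dTM (ρ * (ρ' * d3)) (ρ' * d3) d3 * uuM a b e =
      uuM (ρ * a) (ρ' * b) (ρ * ρ' * e) * dTM (ρ * (ρ' * d3)) (ρ' * d3) d3 := by
  unfold dTM uuM
  rw [Matrix.mul_fin_three, Matrix.mul_fin_three]
  ext i j
  fin_cases i <;> fin_cases j <;> simp <;> ring

theorem dT_mul_uu (d1 d2 d3 : F) (h : d1 * d2 * d3 = 1) (ρ ρ' : F) (h1 : d1 = ρ * d2)
    (h2 : d2 = ρ' * d3) (a b e : F) :
    dT d1 d2 d3 h * uu a b e = uu (ρ * a) (ρ' * b) (ρ * ρ' * e) * dT d1 d2 d3 h := by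
  subst h2
  subst h1
  apply Subtype.ext
  exact dTM_mul_uuM ρ ρ' d3 a b e

theorem dT_conj_uu (d1 d2 d3 : F) (h : d1 * d2 * d3 = 1) (ρ ρ' : F) (h1 : d1 = ρ * d2)
    (h2 : d2 = ρ' * d3) (a b e : F) :
    dT d1 d2 d3 h * uu a b e * (dT d1 d2 d3 h)⁻¹ = uu (ρ * a) (ρ' * b) (ρ * ρ' * e) := by
  rw [dT_mul_uu d1 d2 d3 h ρ ρ' h1 h2, mul_inv_cancel_right]

theorem dTM_mul_llM (κ κ' d1 a b e : F) :
    dTM d1 (κ * d1) (κ' * (κ * d1)) * llM a b e =
      llM (κ * a) (κ' * b) (κ * κ' * e) * dTM d1 (κ * d1) (κ' * (κ * d1)) := by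
  unfold dTM llM
  rw [Matrix.mul_fin_three, Matrix.mul_fin_three]
  ext i j
  fin_cases i <;> fin_cases j <;> simp <;> ring

theorem dT_conj_ll (d1 d2 d3 : F) (h : d1 * d2 * d3 = 1) (κ κ' : F) (h1 : d2 = κ * d1)
    (h2 : d3 = κ' * d2) (a b e : F) :
    dT d1 d2 d3 h * ll a b e * (dT d1 d2 d3 h)⁻¹ = ll (κ * a) (κ' * b) (κ * κ' * e) := by
  subst h2
  subst h1
  have key : dT d1 (κ * d1) (κ' * (κ * d1)) h * ll a b e =
      ll (κ * a) (κ' * b) (κ * κ' * e) * dT d1 (κ * d1) (κ' * (κ * d1)) h := by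
    apply Subtype.ext
    exact dTM_mul_llM κ κ' d1 a b e
  rw [key, mul_inv_cancel_right]

/-! ### The Weyl element -/

/-- The antidiagonal matrix `antidiag(1, -1, 1)`. -/
def w0M : Matrix (Fin 3) (Fin 3) F := !![0, 0, 1; 0, -1, 0; 1, 0, 0]

theorem det_w0M : (w0M : Matrix (Fin 3) (Fin 3) F).det = 1 := by
  simp [w0M, Matrix.det_fin_three]

/-- `antidiag(1, -1, 1)` as an element of `SL_3`. -/
def w0 : Matrix.SpecialLinearGroup (Fin 3) F := ⟨w0M, det_w0M⟩

theorem sharp_w0M (σ : F →+* F) : sharp σ (w0M : Matrix (Fin 3) (Fin 3) F) = w0M := by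
  ext i j
  fin_cases i <;> fin_cases j <;> simp [sharp_apply, w0M, Fin.rev]

theorem w0M_mul_w0M : (w0M : Matrix (Fin 3) (Fin 3) F) * w0M = 1 := by
  unfold w0M
  rw [Matrix.mul_fin_three]
  ext i j
  fin_cases i <;> fin_cases j <;> simp

theorem w0_mem_UG (σ : F →+* F) : (w0 : Matrix.SpecialLinearGroup (Fin 3) F) ∈ UG 3 σ := by
  rw [mem_UG]
  show sharp σ w0M * w0M = 1
  rw [sharp_w0M, w0M_mul_w0M]

theorem w0M_mul_uuM (a b e : F) : w0M * uuM a b e = llM (-b) (-a) e * w0M := by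
  unfold w0M uuM llM
  rw [Matrix.mul_fin_three, Matrix.mul_fin_three]
  ext i j
  fin_cases i <;> fin_cases j <;> simp

theorem w0_conj_uu (a b e : F) : w0 * uu a b e * w0⁻¹ = ll (-b) (-a) e := by
  have key : w0 * uu a b e = ll (-b) (-a) e * w0 := by
    apply Subtype.ext
    exact w0M_mul_uuM a b e
  rw [key, mul_inv_cancel_right]

theorem ll_conj (x y z a b e : F) :
    ll x y z * ll a b e * (ll x y z)⁻¹ = ll a b (e + y * a - b * x) := by
  rw [ll_inv, ll_mul, ll_mul]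
  congr 1 <;> ring

/-! ### Additive subgroups stable under a field generator -/

theorem addSubgroup_eq_top_of_mul [Fintype F] (S : AddSubgroup F) (ρ : F)
    (hcl : ∀ a : F, a ∈ S → ρ * a ∈ S) (a0 : F) (ha0 : a0 ≠ 0) (h0 : a0 ∈ S)
    (hgen : ∀ K : Subfield F, ρ ∈ K → K = ⊤) : ∀ a : F, a ∈ S := by
  classical
  have hcard : 2 ≤ Fintype.card F := Fintype.one_lt_card
  let R : Subring F :=
    { carrier := {x | ∀ a : F, a ∈ S → x * a ∈ S}
      mul_mem' := by
        intro x y hx hy a ha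
        have := hx _ (hy a ha)
        simpa [mul_assoc] using this
      one_mem' := by
        intro a ha
        simpa using ha
      add_mem' := by
        intro x y hx hy a ha
        have := S.add_mem (hx a ha) (hy a ha)
        simpa [add_mul] using this
      zero_mem' := by
        intro a _
        rw [zero_mul]
        exact S.zero_mem
      neg_mem' := by
        intro x hx a ha
        have := S.neg_mem (hx a ha)
        simpa using this }
  let K : Subfield F :=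
    { R with
      inv_mem' := by
        intro x hx
        by_cases hx0 : x = 0
        · subst hx0
          rw [_root_.inv_zero]
          exact R.zero_mem
        · have h1 : x ^ (Fintype.card F - 1) = 1 := FiniteField.pow_card_sub_one_eq_one x hx0
          have h2 : x⁻¹ = x ^ (Fintype.card F - 2) := by
            apply inv_eq_of_mul_eq_one_right
            rw [← pow_succ']
            have : Fintype.card F - 2 + 1 = Fintype.card F - 1 := by omega
            rw [this, h1]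
          show x⁻¹ ∈ R
          rw [h2]
          exact R.pow_mem hx _ }
  have hK : ρ ∈ K := by
    show ρ ∈ R
    intro a ha
    exact hcl a ha
  have hKtop := hgen K hK
  intro a
  have : a / a0 ∈ K := by rw [hKtop]; trivial
  have h2 : a / a0 * a0 ∈ S := this a0 h0
  rwa [div_mul_cancel₀ a ha0] at h2

/-! ### The triangular criterion -/

/-- If `H ≤ UG 3 σ` contains `uu a0 b0 e0` with `a0 ≠ 0` and `D * uu a1 b1 e1`, where conjugation
by `D` multiplies the first coordinate of `uu` by `ρ` and `ρ` lies in no proper subfield, then `H`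
contains all `uu a b e ∈ UG 3 σ`. -/
theorem uu_mem_of_torus [Fintype F] (σ : F →+* F) (θ : F) (hθ : θ + σ θ = 1)
    (H : Subgroup (Matrix.SpecialLinearGroup (Fin 3) F)) (hH : H ≤ UG 3 σ)
    (ρ ρ' κ : F) (hgen : ∀ K : Subfield F, ρ ∈ K → K = ⊤)
    (D : Matrix.SpecialLinearGroup (Fin 3) F)
    (hD : ∀ a b e : F, D * uu a b e * D⁻¹ = uu (ρ * a) (ρ' * b) (κ * e))
    (a1 b1 e1 : F) (hb : D * uu a1 b1 e1 ∈ H)
    (a0 b0 e0 : F) (ha0 : a0 ≠ 0) (hu : uu a0 b0 e0 ∈ H) :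
    ∀ a b e : F, uu a b e ∈ UG 3 σ → uu a b e ∈ H := by
  classical
  let S : AddSubgroup F :=
    { carrier := {a | ∃ b e : F, uu a b e ∈ H}
      add_mem' := by
        rintro a a' ⟨b, e, h⟩ ⟨b', e', h'⟩
        refine ⟨b + b', e + e' + a * b', ?_⟩
        rw [← uu_mul]
        exact H.mul_mem h h'
      zero_mem' := ⟨0, 0, by rw [uu_zero]; exact H.one_mem⟩
      neg_mem' := by
        rintro a ⟨b, e, h⟩
        refine ⟨-b, a * b - e, ?_⟩
        rw [← uu_inv]
        exact H.inv_mem h }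
  have hS : ∀ a : F, a ∈ S ↔ ∃ b e : F, uu a b e ∈ H := fun a => Iff.rfl
  have hcl : ∀ a : F, a ∈ S → ρ * a ∈ S := by
    rintro a ⟨b, e, h⟩
    have h1 : (D * uu a1 b1 e1) * uu a b e * (D * uu a1 b1 e1)⁻¹ ∈ H :=
      H.mul_mem (H.mul_mem hb h) (H.inv_mem hb)
    have h2 : (D * uu a1 b1 e1) * uu a b e * (D * uu a1 b1 e1)⁻¹ =
        D * (uu a1 b1 e1 * uu a b e * (uu a1 b1 e1)⁻¹) * D⁻¹ := by
      rw [_root_.mul_inv_rev]
      simp only [mul_assoc]
    rw [h2, uu_conj, hD] at h1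
    exact ⟨_, _, h1⟩
  have hall := addSubgroup_eq_top_of_mul S ρ hcl a0 ha0 ⟨b0, e0, hu⟩ hgen
  -- the centre
  have hcen : ∀ c : F, σ c + c = 0 → uu 0 0 c ∈ H := by
    intro c hc
    obtain ⟨b2, e2, h2⟩ := hall 1
    obtain ⟨b3, e3, h3⟩ := hall (θ * c)
    have hb2 := ((uu_mem_UG_iff σ _ _ _).mp (hH h2)).2.1
    have hb3 := ((uu_mem_UG_iff σ _ _ _).mp (hH h3)).2.1
    have hcomm := H.mul_mem (H.mul_mem (H.mul_mem h2 h3) (H.inv_mem h2)) (H.inv_mem h3)
    rw [uu_comm] at hcomm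
    have e : 1 * b3 - θ * c * b2 = c := by
      rw [map_one] at hb2
      rw [map_mul] at hb3
      linear_combination hb3 - θ * c * hb2 - σ θ * hc + c * hθ
    rwa [e] at hcomm
  intro a b e habe
  obtain ⟨b', e', h'⟩ := hall a
  have hm := (uu_mem_UG_iff σ _ _ _).mp habe
  have hm' := (uu_mem_UG_iff σ _ _ _).mp (hH h')
  have hbb : b' = b := by linear_combination hm'.2.1 - hm.2.1
  subst hbb
  have hc : σ (e - e') + (e - e') = 0 := by
    rw [map_sub]
    linear_combination hm.2.2 - hm'.2.2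
  have h3 := H.mul_mem h' (hcen _ hc)
  rw [uu_mul] at h3
  have e1 : a + 0 = a := add_zero a
  have e2 : b' + 0 = b' := add_zero b'
  have e3 : e' + (e - e') + a * 0 = e := by ring
  rwa [e1, e2, e3] at h3

end Cfsg.Agent.Lib.helper45
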