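import Mathlib
import Cfsg.Agent.Lib.helper45.SU3Tri
import Cfsg.Agent.Lib.helper47.UFusM
import Cfsg.Agent.S0780

/-!
# Generating `SU_3` in the antidiagonal model

If a subgroup `H` contains every upper unitriangular element `uu a b e` of `UG 3 σ` and one more
element of `UG 3 σ` whose `(3,1)` entry is nonzero, then `UG 3 σ ≤ H` (`UG_le_of_uu`).  The proof
transports the generation of `SU_3(q)` by unitary transvections (`S0780`) along the base change
`bcHom` and conjugates the central elements `uu 0 0 c` around.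
-/

set_option autoImplicit false

namespace Cfsg.Agent.Lib.helper45

open Matrix Cfsg Cfsg.Agent.Lib.helper47.UFus

variable {F : Type*} [Field F]

theorem conj_uuM_center (σ : F →+* F) (M : Matrix (Fin 3) (Fin 3) F) (c : F) :
    M * uuM 0 0 c * sharp σ M =
      M * sharp σ M + c • Matrix.vecMulVec (fun i => M i 0) (fun j => σ (M (Fin.rev j) 0)) := by
  ext i j
  fin_cases i <;> fin_cases j <;>
    simp [Matrix.mul_apply, Fin.sum_univ_three, uuM, sharp_apply, Matrix.vecMulVec_apply,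
      Fin.rev] <;> ring

/-- If `x` is proportional to the first column of some `m ∈ H ∩ UG`, the transvection along `x`
lies in `H`. -/
theorem transv_mem_of_col (σ : F →+* F)
    (H : Subgroup (Matrix.SpecialLinearGroup (Fin 3) F))
    (hU : ∀ a b e : F, uu a b e ∈ UG 3 σ → uu a b e ∈ H)
    (B : Matrix.SpecialLinearGroup (Fin 3) F) (hB : B ∈ UG 3 σ) (x : Fin 3 → F) (c : F)
    (hBx : B.1 = 1 + c • Matrix.vecMulVec x (fun j => σ (x (Fin.rev j))))
    (m : Matrix.SpecialLinearGroup (Fin 3) F) (hm : m ∈ H) (hmU : m ∈ UG 3 σ) (s : F)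
    (hx : ∀ i, x i = s * m.1 i 0) : B ∈ H := by
  have hmm : m.1 * sharp σ m.1 = 1 := mul_eq_one_comm.mp ((mem_UG m).mp hmU)
  have e : B = m * uu 0 0 (c * s * σ s) * m⁻¹ := by
    apply Subtype.ext
    rw [Matrix.SpecialLinearGroup.coe_mul, Matrix.SpecialLinearGroup.coe_mul, UG_inv_coe m hmU]
    show B.1 = m.1 * uuM 0 0 (c * s * σ s) * sharp σ m.1
    rw [conj_uuM_center, hmm, hBx]
    congr 1
    ext i j
    simp only [Matrix.smul_apply, Matrix.vecMulVec_apply, smul_eq_mul, hx, map_mul]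
    ring
  have huu : uu 0 0 (c * s * σ s) = m⁻¹ * B * m := by rw [e]; group
  have hin : uu 0 0 (c * s * σ s) ∈ UG 3 σ := by
    rw [huu]
    exact (UG 3 σ).mul_mem ((UG 3 σ).mul_mem ((UG 3 σ).inv_mem hmU) hB) hmU
  rw [e]
  exact H.mul_mem (H.mul_mem hm (hU _ _ _ hin)) (H.inv_mem hm)

theorem col_iso (σ : F →+* F) (h : Matrix.SpecialLinearGroup (Fin 3) F) (hh : h ∈ UG 3 σ) :
    σ (h.1 2 0) * h.1 0 0 + σ (h.1 1 0) * h.1 1 0 + σ (h.1 0 0) * h.1 2 0 = 0 := by
  have h1 := congrFun (congrFun ((mem_UG h).mp hh) 2) 0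
  simp [Matrix.mul_apply, Fin.sum_univ_three, sharp_apply, Fin.rev] at h1
  linear_combination h1

theorem transv_mem (σ : F →+* F) (hσ2 : ∀ x, σ (σ x) = x)
    (H : Subgroup (Matrix.SpecialLinearGroup (Fin 3) F))
    (hU : ∀ a b e : F, uu a b e ∈ UG 3 σ → uu a b e ∈ H)
    (h : Matrix.SpecialLinearGroup (Fin 3) F) (hh : h ∈ H) (hhU : h ∈ UG 3 σ)
    (h31 : h.1 2 0 ≠ 0)
    (B : Matrix.SpecialLinearGroup (Fin 3) F) (hB : B ∈ UG 3 σ) (x : Fin 3 → F) (c : F)
    (hiso : x 0 * σ (x 2) + x 1 * σ (x 1) + x 2 * σ (x 0) = 0)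
    (hBx : B.1 = 1 + c • Matrix.vecMulVec x (fun j => σ (x (Fin.rev j)))) : B ∈ H := by
  by_cases hx2 : x 2 = 0
  · have hx1 : x 1 = 0 := by
      rw [hx2, map_zero, mul_zero, zero_mul, zero_add, add_zero] at hiso
      rcases mul_eq_zero.mp hiso with h1 | h1
      · exact h1
      · exact (map_eq_zero σ).mp h1
    refine transv_mem_of_col σ H hU B hB x c hBx 1 H.one_mem (UG 3 σ).one_mem (x 0) ?_
    intro i
    fin_cases i
    · simp
    · simp [hx1]
    · simp [hx2]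
  · have hσh : σ (h.1 2 0) ≠ 0 := fun h0 => h31 ((map_eq_zero σ).mp h0)
    have hσx : σ (x 2) ≠ 0 := fun h0 => hx2 ((map_eq_zero σ).mp h0)
    have hcol := col_iso σ h hhU
    -- `n1` maps `e₃` to the normalised first column of `h`
    have hn1 : uu (-σ (h.1 1 0 / h.1 2 0)) (h.1 1 0 / h.1 2 0) (h.1 0 0 / h.1 2 0) ∈ UG 3 σ := by
      apply uu_mem_UG σ hσ2
      · ring
      · rw [map_div₀, map_div₀]
        field_simp
        linear_combination hcol
    have hn2 : uu (-σ (x 1 / x 2)) (x 1 / x 2) (x 0 / x 2) ∈ UG 3 σ := by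
      apply uu_mem_UG σ hσ2
      · ring
      · rw [map_div₀, map_div₀]
        field_simp
        linear_combination hiso
    have hm : uu (-σ (x 1 / x 2)) (x 1 / x 2) (x 0 / x 2) *
        (uu (-σ (h.1 1 0 / h.1 2 0)) (h.1 1 0 / h.1 2 0) (h.1 0 0 / h.1 2 0))⁻¹ * h ∈ H :=
      H.mul_mem (H.mul_mem (hU _ _ _ hn2) (H.inv_mem (hU _ _ _ hn1))) hh
    have hmU : uu (-σ (x 1 / x 2)) (x 1 / x 2) (x 0 / x 2) *
        (uu (-σ (h.1 1 0 / h.1 2 0)) (h.1 1 0 / h.1 2 0) (h.1 0 0 / h.1 2 0))⁻¹ * h ∈ UG 3 σ :=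
      (UG 3 σ).mul_mem ((UG 3 σ).mul_mem hn2 ((UG 3 σ).inv_mem hn1)) hhU
    refine transv_mem_of_col σ H hU B hB x c hBx _ hm hmU (x 2 / h.1 2 0) ?_
    intro i
    rw [uu_inv, uu_mul]
    show x i = x 2 / h.1 2 0 * ((uuM _ _ _ * h.1 : Matrix (Fin 3) (Fin 3) F)) i 0
    rw [map_div₀] at *
    fin_cases i
    · simp [Matrix.mul_apply, Fin.sum_univ_three, uuM]
      field_simp
      ring
    · simp [Matrix.mul_apply, Fin.sum_univ_three, uuM]
      field_simp
      ring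
    · simp [Matrix.mul_apply, Fin.sum_univ_three, uuM]
      field_simp

/-- **Generation criterion**: all upper unitriangular elements plus one element off the Borel. -/
theorem UG_le_of_uu [Fintype F] {q : ℕ} (hF : Fintype.card F = q ^ 2) (hq3 : 3 ≤ q)
    (σ : F →+* F) (hσ : ∀ x, σ x = x ^ q) (hFF : FF σ)
    (H : Subgroup (Matrix.SpecialLinearGroup (Fin 3) F))
    (hU : ∀ a b e : F, uu a b e ∈ UG 3 σ → uu a b e ∈ H)
    (h : Matrix.SpecialLinearGroup (Fin 3) F) (hh : h ∈ H) (hhU : h ∈ UG 3 σ)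
    (h31 : h.1 2 0 ≠ 0) : UG 3 σ ≤ H := by
  have hq0 : q ≠ 0 := by omega
  obtain ⟨P, Q, hP, hQ⟩ := exists_P (n := 3) σ hFF
  have hQP := QP_one σ P Q hP hQ
  have hPQ := PQ_one σ P Q hP hQ
  obtain ⟨φ, hφ⟩ : ∃ φ, φ = bcHom σ P Q hσ hq0 hFF.inv hP hQ := ⟨_, rfl⟩
  have hinj : Function.Injective φ := by rw [hφ]; exact bcHom_inj σ P Q hσ hq0 hFF.inv hP hQ
  have hsurj : Function.Surjective φ := by rw [hφ]; exact bcHom_surj σ P Q hσ hq0 hFF.inv hP hQ
  have htop := Cfsg.Agent.S0780.result hF 3 (le_refl 3) (by omega)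
  have hle : Subgroup.closure {A : ↥(Cfsg.SU 3 F q) | ∃ (v : Fin 3 → F) (c : F),
      Cfsg.hermForm 3 F q v v = 0 ∧
      ((A : Matrix.SpecialLinearGroup (Fin 3) F) : Matrix (Fin 3) (Fin 3) F) =
        Cfsg.unitaryTransvection 3 q v c} ≤ (H.subgroupOf (UG 3 σ)).map φ := by
    rw [Subgroup.closure_le]
    rintro T ⟨v, c, hv, hT⟩
    obtain ⟨B, rfl⟩ := hsurj T
    refine ⟨B, ?_, rfl⟩
    show B.1 ∈ H
    have hB1 : B.1.1 = Q * (φ B).1.1 * P := by
      rw [hφ, bcHom_coe]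
      calc B.1.1 = (Q * P) * B.1.1 * (Q * P) := by rw [hQP, Matrix.one_mul, Matrix.mul_one]
        _ = Q * (P * B.1.1 * Q) * P := by simp only [Matrix.mul_assoc]
    rw [hT] at hB1
    -- the key vector identity
    have hvec : (fun j => v j ^ q) ᵥ* P = fun j => σ ((Q *ᵥ v) (Fin.rev j)) := by
      ext k
      simp only [Matrix.vecMul, Matrix.mulVec, dotProduct, map_sum, map_mul]
      apply Finset.sum_congr rfl
      intro j _
      rw [hQ, Jm_mul_apply, Fin.rev_rev, cst_apply, hFF.inv, hσ (v j), mul_comm]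
    apply transv_mem σ hFF.inv H hU h hh hhU h31 B.1 B.2 (Q *ᵥ v) c
    · have h1 : (Q *ᵥ v) ⬝ᵥ ((fun j => v j ^ q) ᵥ* P) = 0 := by
        rw [dotProduct_comm, ← Matrix.dotProduct_mulVec, Matrix.mulVec_mulVec, hPQ,
          Matrix.one_mulVec]
        unfold Cfsg.hermForm at hv
        rw [← hv]
        simp only [dotProduct]
        exact Finset.sum_congr rfl (fun i _ => mul_comm _ _)
      rw [hvec] at h1
      simp only [dotProduct, Fin.sum_univ_three] at h1
      have r0 : Fin.rev (0 : Fin 3) = 2 := rfl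
      have r1 : Fin.rev (1 : Fin 3) = 1 := rfl
      have r2 : Fin.rev (2 : Fin 3) = 0 := rfl
      rw [r0, r1, r2] at h1
      exact h1
    · rw [hB1]
      unfold Cfsg.unitaryTransvection
      rw [Matrix.mul_add, Matrix.add_mul, Matrix.mul_one, hQP, Matrix.mul_smul, Matrix.smul_mul,
        Matrix.mul_vecMulVec, Matrix.vecMulVec_mul, hvec]
  intro A hA
  have h1 : φ ⟨A, hA⟩ ∈ (H.subgroupOf (UG 3 σ)).map φ := hle (by rw [htop]; trivial)
  obtain ⟨B, hB, hBA⟩ := h1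
  have h2 : B = ⟨A, hA⟩ := hinj hBA
  have h3 : B.1 ∈ H := hB
  rw [h2] at h3
  exact h3

end Cfsg.Agent.Lib.helper45
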