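import Mathlib
import Cfsg.Agent.Lib.helper45.SU3Gen
import Cfsg.Agent.Lib.helper45.SL3Family

/-!
# Two conjugate regular unipotent generators of `SU_3(q)`, `q ∉ {2, 5, 8}` (antidiagonal model)

For `α` of order `q + 1` in `F` (`|F| = q²`), `A = 1 + α`, the regular unipotent elements
`u = uu A² (-A²α⁻²) (-A(2α²+α+1)α⁻²)` and `v = ll (-α⁻¹) α (-α/A)` of `UG 3 σ` are conjugate in
`UG 3 σ`, and `v u v` is upper triangular with diagonal `(α, α⁻², α)`.  Since `α³` lies in no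
proper subfield unless `q ∈ {2, 5, 8}`, the criterion `closure_eq_UG` applies.
-/

set_option autoImplicit false

namespace Cfsg.Agent.Lib.helper45

open Matrix Cfsg Cfsg.Agent.Lib.helper47.UFus

variable {F : Type*} [Field F]

/-- A proper subfield `K` of a finite field `F` has `|F| = |K|^k` with `k ≥ 2`. -/
theorem subfield_card_pow [Fintype F] (K : Subfield F) (hK : K ≠ ⊤) :
    ∃ m k : ℕ, 2 ≤ m ∧ 2 ≤ k ∧ Fintype.card F = m ^ k ∧ ∀ x : F, x ∈ K → x ^ m = x := by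
  classical
  haveI : Fintype K := Fintype.ofFinite K
  have hcard : Fintype.card F = Fintype.card K ^ Module.finrank K F :=
    Module.card_eq_pow_finrank (K := K) (V := F)
  have hm2 : 2 ≤ Fintype.card K := Fintype.one_lt_card
  refine ⟨Fintype.card K, Module.finrank K F, hm2, ?_, hcard, ?_⟩
  · by_contra hlt
    have hle : Fintype.card F ≤ Fintype.card K := by
      rw [hcard]
      calc Fintype.card K ^ Module.finrank K F ≤ Fintype.card K ^ 1 :=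
            Nat.pow_le_pow_right (by omega) (by omega)
        _ = Fintype.card K := pow_one _
    obtain ⟨x, hx⟩ : ∃ x : F, x ∉ K := by
      by_contra hcon
      push_neg at hcon
      apply hK
      ext x
      simp [hcon x]
    exact absurd (Fintype.card_subtype_lt hx) (not_lt.mpr hle)
  · intro x hx
    have := FiniteField.pow_card (⟨x, hx⟩ : K)
    exact congrArg Subtype.val this

/-- The combined criterion. -/
theorem closure_eq_UG [Fintype F] {q : ℕ} (hF : Fintype.card F = q ^ 2) (hq3 : 3 ≤ q)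
    (σ : F →+* F) (hσ : ∀ x, σ x = x ^ q) (hFF : FF σ)
    (H : Subgroup (Matrix.SpecialLinearGroup (Fin 3) F)) (hH : H ≤ UG 3 σ)
    (ρ ρ' κ : F) (hgen : ∀ K : Subfield F, ρ ∈ K → K = ⊤)
    (D : Matrix.SpecialLinearGroup (Fin 3) F)
    (hD : ∀ a b e : F, D * uu a b e * D⁻¹ = uu (ρ * a) (ρ' * b) (κ * e))
    (a1 b1 e1 : F) (hb : D * uu a1 b1 e1 ∈ H)
    (a0 b0 e0 : F) (ha0 : a0 ≠ 0) (hu : uu a0 b0 e0 ∈ H)
    (h : Matrix.SpecialLinearGroup (Fin 3) F) (hh : h ∈ H) (h31 : h.1 2 0 ≠ 0) :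
    H = UG 3 σ := by
  obtain ⟨θ, hθ⟩ := hFF.tr 1 (map_one σ)
  exact le_antisymm hH (UG_le_of_uu hF hq3 σ hσ hFF H
    (uu_mem_of_torus σ θ hθ H hH ρ ρ' κ hgen D hD a1 b1 e1 hb a0 b0 e0 ha0 hu) h hh (hH hh) h31)

theorem fam_word_U (α : F) (hα : α ≠ 0) (hA : 1 + α ≠ 0) :
    llM (-α⁻¹) α (-α / (1 + α)) *
        uuM ((1 + α) ^ 2) (-(1 + α) ^ 2 * α⁻¹ ^ 2) (-(1 + α) * (2 * α ^ 2 + α + 1) * α⁻¹ ^ 2) *
      llM (-α⁻¹) α (-α / (1 + α)) =
    dTM α (α⁻¹ ^ 2) α * uuM (-(1 + α) * (1 + α ^ 2) * α⁻¹ ^ 2) ((1 + α) * α⁻¹ * (1 + α ^ 2))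
      (-(1 + α) * (2 * α ^ 2 + α + 1) * α⁻¹ ^ 3) := by
  unfold uuM llM dTM
  rw [Matrix.mul_fin_three, Matrix.mul_fin_three, Matrix.mul_fin_three]
  ext i j
  fin_cases i <;> fin_cases j <;> simp <;> field_simp <;> ring

/-- Number theory: `(q+4)³ ≤ 27 q²` forces `q = 8`. -/
theorem eq_eight_of_cube_le (q : ℕ) (h : (q + 4) ^ 3 ≤ 27 * q ^ 2) : q = 8 := by
  have h' : ((q : ℤ) + 4) ^ 3 ≤ 27 * (q : ℤ) ^ 2 := by exact_mod_cast h
  have h1 : ((q : ℤ) - 8) ^ 2 * ((q : ℤ) + 1) ≤ 0 := by nlinarith [h']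
  have hq0 : (0 : ℤ) ≤ q := Int.natCast_nonneg q
  have h2 : ((q : ℤ) - 8) ^ 2 ≤ 0 := by
    by_contra hc
    push_neg at hc
    nlinarith
  have h3 : (q : ℤ) - 8 = 0 := by
    have := sq_nonneg ((q : ℤ) - 8)
    have h4 : ((q : ℤ) - 8) ^ 2 = 0 := le_antisymm h2 this
    exact pow_eq_zero_iff (by norm_num) |>.mp h4
  omega

/-- `α³` lies in no proper subfield, for `α = γ^(q-1)`, `γ` a generator, `q ∉ {2, 5, 8}`. -/
theorem subfield_eq_top_of_norm_one [Fintype F] {q : ℕ} (hF : Fintype.card F = q ^ 2)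
    (hq3 : 3 ≤ q) (hq5 : q ≠ 5) (hq8 : q ≠ 8) (γ : Fˣ) (hγ : orderOf γ = q ^ 2 - 1)
    (K : Subfield F) (hK : ((γ : F) ^ (q - 1)) ^ 3 ∈ K) : K = ⊤ := by
  by_contra hne
  obtain ⟨m, k, hm2, hk2, hcard, hpow⟩ := subfield_card_pow K hne
  obtain ⟨r, rfl⟩ : ∃ r, q = r + 1 := ⟨q - 1, by omega⟩
  have hr : r + 1 - 1 = r := by omega
  rw [hr] at hK
  have hqq : (r + 1) ^ 2 - 1 = r * (r + 2) := by
    have : (r + 1) ^ 2 = r * (r + 2) + 1 := by ring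
    rw [this, Nat.add_sub_cancel]
  rw [hqq] at hγ
  have h1 := hpow _ hK
  -- `γ ^ (r * 3 * (m - 1)) = 1`
  have h2 : γ ^ (r * (3 * (m - 1))) = 1 := by
    apply Units.ext
    rw [Units.val_pow_eq_pow_val, Units.val_one]
    have h3 : (((γ : F) ^ r) ^ 3) ^ (m - 1) * ((γ : F) ^ r) ^ 3 = 1 * ((γ : F) ^ r) ^ 3 := by
      rw [← pow_succ, Nat.sub_add_cancel (by omega), h1, one_mul]
    have h4 : ((γ : F) ^ r) ^ 3 ≠ 0 := pow_ne_zero _ (pow_ne_zero _ γ.ne_zero)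
    have h5 := mul_right_cancel₀ h4 h3
    rw [pow_mul, pow_mul]
    exact h5
  have h3 : r * (r + 2) ∣ r * (3 * (m - 1)) := hγ ▸ orderOf_dvd_of_pow_eq_one h2
  have h4 : r + 2 ∣ 3 * (m - 1) := Nat.dvd_of_mul_dvd_mul_left (by omega) h3
  rw [hF] at hcard
  rcases Nat.lt_or_ge 2 k with hk | hk
  · -- `k ≥ 3`
    have h5 : r + 2 ≤ 3 * (m - 1) := Nat.le_of_dvd (by omega) h4
    have h6 : m ^ 3 ≤ (r + 1) ^ 2 := by
      rw [hcard]
      exact Nat.pow_le_pow_right (by omega) hk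
    have h7 : (r + 1 + 4) ^ 3 ≤ 27 * (r + 1) ^ 2 := by
      calc (r + 1 + 4) ^ 3 ≤ (3 * m) ^ 3 := Nat.pow_le_pow_left (by omega) 3
        _ = 27 * m ^ 3 := by ring
        _ ≤ 27 * (r + 1) ^ 2 := Nat.mul_le_mul_left 27 h6
    exact hq8 (eq_eight_of_cube_le _ h7)
  · have hk' : k = 2 := by omega
    subst hk'
    have h5 : r + 1 = m := Nat.pow_left_injective (by norm_num : (2 : ℕ) ≠ 0) hcard
    subst h5
    rw [Nat.add_sub_cancel] at h4
    have h6 : r + 2 ∣ 6 := by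
      have h7 : r + 2 ∣ 3 * (r + 2) := Dvd.intro_left 3 rfl
      have h8 : 3 * (r + 2) - 3 * r = 6 := by omega
      rw [← h8]
      exact Nat.dvd_sub h7 h4
    have h7 : r + 2 ≤ 6 := Nat.le_of_dvd (by norm_num) h6
    have h8 : r ≠ 4 := fun h => hq5 (by omega)
    have h9 : r ≤ 4 := by omega
    interval_cases r <;> simp_all <;> omega

theorem exists_two_gen_UG_family [Fintype F] {q : ℕ} (hF : Fintype.card F = q ^ 2)
    (hq3 : 3 ≤ q) (hq5 : q ≠ 5) (hq8 : q ≠ 8)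
    (σ : F →+* F) (hσ : ∀ x, σ x = x ^ q) (hFF : FF σ) :
    ∃ u g : Matrix.SpecialLinearGroup (Fin 3) F, u ∈ UG 3 σ ∧ g ∈ UG 3 σ ∧
      IsNilpotent ((u : Matrix (Fin 3) (Fin 3) F) - 1) ∧
      ((u : Matrix (Fin 3) (Fin 3) F) - 1) ^ 2 ≠ 0 ∧
      Subgroup.closure ({u, g * u * g⁻¹} : Set (Matrix.SpecialLinearGroup (Fin 3) F)) =
        UG 3 σ := by
  classical
  have hσ2 := hFF.inv
  obtain ⟨γ, hγ⟩ := IsCyclic.exists_generator (α := Fˣ)
  have hord : orderOf γ = q ^ 2 - 1 := by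
    rw [orderOf_eq_card_of_forall_mem_zpowers hγ, Nat.card_eq_fintype_card, Fintype.card_units, hF]
  have hgen : ∀ K : Subfield F, ((γ : F) ^ (q - 1)) ^ 3 ∈ K → K = ⊤ :=
    fun K hK => subfield_eq_top_of_norm_one hF hq3 hq5 hq8 γ hord K hK
  obtain ⟨α, hαdef⟩ : ∃ α : F, α = (γ : F) ^ (q - 1) := ⟨_, rfl⟩
  rw [← hαdef] at hgen
  have hα : α ≠ 0 := by rw [hαdef]; exact pow_ne_zero _ γ.ne_zero
  have hq1 : q - 1 + 1 = q := by omega
  have hαq : α ^ q * α = 1 := by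
    rw [← pow_succ, hαdef, ← pow_mul]
    have e : (q - 1) * (q + 1) = q ^ 2 - 1 := by
      obtain ⟨r, rfl⟩ : ∃ r, q = r + 1 := ⟨q - 1, by omega⟩
      have : (r + 1) ^ 2 = r * (r + 1 + 1) + 1 := by ring
      rw [this, Nat.add_sub_cancel, Nat.add_sub_cancel]
    rw [e, ← hord, ← Units.val_pow_eq_pow_val, pow_orderOf_eq_one, Units.val_one]
  have hσα : σ α = α⁻¹ := by
    rw [hσ]
    exact eq_inv_of_mul_eq_one_left hαq
  have hσβ : σ α⁻¹ = α := by rw [map_inv₀, hσα, inv_inv]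
  have hA : 1 + α ≠ 0 := by
    intro h0
    have h1 : α ^ 2 = 1 := by
      have : α = -1 := by linear_combination h0
      rw [this]; ring
    have h2 : γ ^ ((q - 1) * 2) = 1 := by
      apply Units.ext
      rw [Units.val_pow_eq_pow_val, Units.val_one, pow_mul, ← hαdef, h1]
    have h3 := orderOf_dvd_of_pow_eq_one h2
    rw [hord] at h3
    have h4 := Nat.le_of_dvd (by omega) h3
    obtain ⟨r, rfl⟩ : ∃ r, q = r + 3 := ⟨q - 3, by omega⟩
    have h5 : (r + 3) ^ 2 = r * r + 6 * r + 9 := by ring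
    rw [h5] at h4
    have h6 : r + 3 - 1 = r + 2 := by omega
    rw [h6] at h4
    have h7 : (r + 2) * 2 = 2 * r + 4 := by ring
    rw [h7] at h4
    have : 0 ≤ r * r := Nat.zero_le _
    omega
  have hσA : σ (1 + α) = (1 + α) / α := by
    rw [map_add, map_one, hσα]
    field_simp
    ring
  have hσ2' : σ 2 = 2 := map_ofNat σ 2
  -- the elements
  obtain ⟨u, hu⟩ : ∃ u, u = uu ((1 + α) ^ 2) (-(1 + α) ^ 2 * α⁻¹ ^ 2)
      (-(1 + α) * (2 * α ^ 2 + α + 1) * α⁻¹ ^ 2) := ⟨_, rfl⟩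
  obtain ⟨v, hv⟩ : ∃ v, v = ll (-α⁻¹) α (-α / (1 + α)) := ⟨_, rfl⟩
  obtain ⟨L, hL⟩ : ∃ L, L = ll (α ^ 2 / (1 + α) ^ 3) (-α / (1 + α) ^ 3)
      (-α ^ 3 / (1 + α) ^ 7) := ⟨_, rfl⟩
  have hdet1 : -(1 + α) ^ 2 * α⁻¹ * 1 * (-α / (1 + α) ^ 2) = 1 := by field_simp
  obtain ⟨Dg, hDg⟩ : ∃ Dg, Dg = dT (-(1 + α) ^ 2 * α⁻¹) 1 (-α / (1 + α) ^ 2) hdet1 := ⟨_, rfl⟩
  have huU : u ∈ UG 3 σ := by
    rw [hu]
    apply uu_mem_UG σ hσ2
    · simp only [map_neg, map_mul, map_pow, hσA, hσβ]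
      field_simp
      ring
    · simp only [map_neg, map_mul, map_pow, map_add, map_one, hσA, hσβ, hσα, hσ2']
      field_simp
      ring
  have hvU : v ∈ UG 3 σ := by
    rw [hv]
    apply ll_mem_UG σ hσ2
    · rw [hσα]; ring
    · simp only [map_neg, map_div₀, hσA, hσβ, hσα]
      field_simp
      ring
  have hLU : L ∈ UG 3 σ := by
    rw [hL]
    apply ll_mem_UG σ hσ2
    · simp only [map_neg, map_div₀, map_pow, hσA, hσα]
      field_simp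
      ring
    · simp only [map_neg, map_div₀, map_pow, hσA, hσα]
      field_simp
      ring
  have hDU : Dg ∈ UG 3 σ := by
    rw [hDg]
    apply dT_mem_UG
    · simp only [map_neg, map_div₀, map_pow, hσA, hσα]
      field_simp
    · rw [map_one, mul_one]
    · simp only [map_neg, map_mul, map_pow, hσA, hσβ]
      field_simp
  have hgU : L * Dg * w0 ∈ UG 3 σ :=
    (UG 3 σ).mul_mem ((UG 3 σ).mul_mem hLU hDU) (w0_mem_UG σ)
  have hconj : (L * Dg * w0) * u * (L * Dg * w0)⁻¹ = v := by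
    have e1 : (L * Dg * w0) * u * (L * Dg * w0)⁻¹ =
        L * (Dg * (w0 * u * w0⁻¹) * Dg⁻¹) * L⁻¹ := by
      rw [_root_.mul_inv_rev, _root_.mul_inv_rev]
      simp only [mul_assoc]
    rw [e1, hu, w0_conj_uu, hDg,
      dT_conj_ll _ _ _ hdet1 (-α / (1 + α) ^ 2) (-α / (1 + α) ^ 2) (by field_simp)
        (by field_simp),
      hL, ll_conj, hv]
    congr 1 <;> field_simp <;> ring
  have hdet2 : α * α⁻¹ ^ 2 * α = 1 := by field_simp
  have hword : v * u * v = dT α (α⁻¹ ^ 2) α hdet2 *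
      uu (-(1 + α) * (1 + α ^ 2) * α⁻¹ ^ 2) ((1 + α) * α⁻¹ * (1 + α ^ 2))
        (-(1 + α) * (2 * α ^ 2 + α + 1) * α⁻¹ ^ 3) := by
    rw [hu, hv]
    apply Subtype.ext
    exact fam_word_U α hα hA
  refine ⟨u, L * Dg * w0, huU, hgU, ?_, ?_, ?_⟩
  · rw [hu]; exact uuM_sub_one_nilpotent _ _ _
  · rw [hu]
    exact uuM_sub_one_sq_ne _ _ _ (pow_ne_zero 2 hA)
      (mul_ne_zero (neg_ne_zero.mpr (pow_ne_zero 2 hA)) (pow_ne_zero 2 (inv_ne_zero hα)))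
  rw [hconj]
  obtain ⟨H, hH⟩ : ∃ H, H = Subgroup.closure
    ({u, v} : Set (Matrix.SpecialLinearGroup (Fin 3) F)) := ⟨_, rfl⟩
  rw [← hH]
  have huH : u ∈ H := by rw [hH]; exact Subgroup.subset_closure (by simp)
  have hvH : v ∈ H := by rw [hH]; exact Subgroup.subset_closure (by simp)
  have hHU : H ≤ UG 3 σ := by
    rw [hH, Subgroup.closure_le]
    rintro x hx
    rcases hx with rfl | rfl
    · exact huU
    · exact hvU
  have hh := H.mul_mem (H.mul_mem hvH huH) hvH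
  rw [hword] at hh
  have hv31 : v.1 2 0 ≠ 0 := by
    rw [hv]
    show llM (-α⁻¹) α (-α / (1 + α)) 2 0 ≠ 0
    simp [llM, hα, hA]
  rw [hu] at huH
  exact closure_eq_UG hF hq3 σ hσ hFF H hHU (α ^ 3) (α⁻¹ ^ 3) (α ^ 3 * α⁻¹ ^ 3) hgen
    (dT α (α⁻¹ ^ 2) α hdet2)
    (fun a b e => dT_conj_uu α (α⁻¹ ^ 2) α hdet2 (α ^ 3) (α⁻¹ ^ 3) (by field_simp)
      (by field_simp) a b e)
    _ _ _ hh _ _ _ (pow_ne_zero 2 hA) huH v hvH hv31

end Cfsg.Agent.Lib.helper45
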