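import Mathlib

/-!
# Concrete computable models of small quadratic / cubic ring extensions

`Q2 R a b = R[x]/(x² = a + b x)` and `C3 R c = R[y]/(y³ = c)` as structures with decidable
equality, so that identities between explicit matrices over `F₂₅ = Q2 (ZMod 5) 2 0` and
`F₆₄ = C3 (Q2 (ZMod 2) 1 1) ω` can be checked by `decide`.  Ring homomorphisms out of them
(`Q2.lift`, `C3.lift`) and their existence into fields with 25 and 64 elements.
-/

set_option autoImplicit false

namespace Cfsg.Agent.Lib.helper45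

/-- `R[x]/(x² = a + b x)`. -/
@[ext] structure Q2 (R : Type*) (a b : R) where
  /-- constant coefficient -/
  re : R
  /-- coefficient of `x` -/
  im : R
deriving DecidableEq

namespace Q2

variable {R : Type*} [CommRing R] {a b : R}

instance : Zero (Q2 R a b) := ⟨⟨0, 0⟩⟩
instance : One (Q2 R a b) := ⟨⟨1, 0⟩⟩
instance : Add (Q2 R a b) := ⟨fun x y => ⟨x.re + y.re, x.im + y.im⟩⟩
instance : Neg (Q2 R a b) := ⟨fun x => ⟨-x.re, -x.im⟩⟩
instance : Mul (Q2 R a b) :=
  ⟨fun x y => ⟨x.re * y.re + a * (x.im * y.im),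
    x.re * y.im + x.im * y.re + b * (x.im * y.im)⟩⟩

@[simp] theorem zero_re : (0 : Q2 R a b).re = 0 := rfl
@[simp] theorem zero_im : (0 : Q2 R a b).im = 0 := rfl
@[simp] theorem one_re : (1 : Q2 R a b).re = 1 := rfl
@[simp] theorem one_im : (1 : Q2 R a b).im = 0 := rfl
@[simp] theorem add_re (x y : Q2 R a b) : (x + y).re = x.re + y.re := rfl
@[simp] theorem add_im (x y : Q2 R a b) : (x + y).im = x.im + y.im := rfl
@[simp] theorem neg_re (x : Q2 R a b) : (-x).re = -x.re := rfl
@[simp] theorem neg_im (x : Q2 R a b) : (-x).im = -x.im := rfl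
@[simp] theorem mul_re (x y : Q2 R a b) : (x * y).re = x.re * y.re + a * (x.im * y.im) := rfl
@[simp] theorem mul_im (x y : Q2 R a b) :
    (x * y).im = x.re * y.im + x.im * y.re + b * (x.im * y.im) := rfl

instance : CommRing (Q2 R a b) where
  add_assoc x y z := by ext <;> simp [add_assoc]
  zero_add x := by ext <;> simp
  add_zero x := by ext <;> simp
  nsmul := nsmulRec
  zsmul := zsmulRec
  neg_add_cancel x := by ext <;> simp
  add_comm x y := by ext <;> simp [add_comm]
  left_distrib x y z := by ext <;> simp <;> ring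
  right_distrib x y z := by ext <;> simp <;> ring
  zero_mul x := by ext <;> simp
  mul_zero x := by ext <;> simp
  mul_assoc x y z := by ext <;> simp <;> ring
  one_mul x := by ext <;> simp
  mul_one x := by ext <;> simp
  mul_comm x y := by ext <;> simp <;> ring

/-- The ring homomorphism sending `x` to a root `s` of `x² = a + b x`. -/
def lift {S : Type*} [CommRing S] (f : R →+* S) (s : S) (hs : s * s = f a + f b * s) :
    Q2 R a b →+* S where
  toFun x := f x.re + f x.im * s
  map_one' := by simp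
  map_mul' x y := by
    simp only [mul_re, mul_im, map_add, map_mul]
    linear_combination (-(f x.im * f y.im)) * hs
  map_zero' := by simp
  map_add' x y := by
    simp only [add_re, add_im, map_add]
    ring

theorem lift_apply {S : Type*} [CommRing S] (f : R →+* S) (s : S)
    (hs : s * s = f a + f b * s) (x : Q2 R a b) : lift f s hs x = f x.re + f x.im * s := rfl

end Q2

/-- `R[y]/(y³ = c)`. -/
@[ext] structure C3 (R : Type*) (c : R) where
  /-- constant coefficient -/
  x0 : R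
  /-- coefficient of `y` -/
  x1 : R
  /-- coefficient of `y²` -/
  x2 : R
deriving DecidableEq

namespace C3

variable {R : Type*} [CommRing R] {c : R}

instance : Zero (C3 R c) := ⟨⟨0, 0, 0⟩⟩
instance : One (C3 R c) := ⟨⟨1, 0, 0⟩⟩
instance : Add (C3 R c) := ⟨fun x y => ⟨x.x0 + y.x0, x.x1 + y.x1, x.x2 + y.x2⟩⟩
instance : Neg (C3 R c) := ⟨fun x => ⟨-x.x0, -x.x1, -x.x2⟩⟩
instance : Mul (C3 R c) :=
  ⟨fun x y => ⟨x.x0 * y.x0 + c * (x.x1 * y.x2 + x.x2 * y.x1),
    x.x0 * y.x1 + x.x1 * y.x0 + c * (x.x2 * y.x2),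
    x.x0 * y.x2 + x.x1 * y.x1 + x.x2 * y.x0⟩⟩

@[simp] theorem zero_x0 : (0 : C3 R c).x0 = 0 := rfl
@[simp] theorem zero_x1 : (0 : C3 R c).x1 = 0 := rfl
@[simp] theorem zero_x2 : (0 : C3 R c).x2 = 0 := rfl
@[simp] theorem one_x0 : (1 : C3 R c).x0 = 1 := rfl
@[simp] theorem one_x1 : (1 : C3 R c).x1 = 0 := rfl
@[simp] theorem one_x2 : (1 : C3 R c).x2 = 0 := rfl
@[simp] theorem add_x0 (x y : C3 R c) : (x + y).x0 = x.x0 + y.x0 := rfl
@[simp] theorem add_x1 (x y : C3 R c) : (x + y).x1 = x.x1 + y.x1 := rfl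
@[simp] theorem add_x2 (x y : C3 R c) : (x + y).x2 = x.x2 + y.x2 := rfl
@[simp] theorem neg_x0 (x : C3 R c) : (-x).x0 = -x.x0 := rfl
@[simp] theorem neg_x1 (x : C3 R c) : (-x).x1 = -x.x1 := rfl
@[simp] theorem neg_x2 (x : C3 R c) : (-x).x2 = -x.x2 := rfl
@[simp] theorem mul_x0 (x y : C3 R c) :
    (x * y).x0 = x.x0 * y.x0 + c * (x.x1 * y.x2 + x.x2 * y.x1) := rfl
@[simp] theorem mul_x1 (x y : C3 R c) :
    (x * y).x1 = x.x0 * y.x1 + x.x1 * y.x0 + c * (x.x2 * y.x2) := rfl
@[simp] theorem mul_x2 (x y : C3 R c) :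
    (x * y).x2 = x.x0 * y.x2 + x.x1 * y.x1 + x.x2 * y.x0 := rfl

instance : CommRing (C3 R c) where
  add_assoc x y z := by ext <;> simp [add_assoc]
  zero_add x := by ext <;> simp
  add_zero x := by ext <;> simp
  nsmul := nsmulRec
  zsmul := zsmulRec
  neg_add_cancel x := by ext <;> simp
  add_comm x y := by ext <;> simp [add_comm]
  left_distrib x y z := by ext <;> simp <;> ring
  right_distrib x y z := by ext <;> simp <;> ring
  zero_mul x := by ext <;> simp
  mul_zero x := by ext <;> simp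
  mul_assoc x y z := by ext <;> simp <;> ring
  one_mul x := by ext <;> simp
  mul_one x := by ext <;> simp
  mul_comm x y := by ext <;> simp <;> ring

/-- The ring homomorphism sending `y` to a cube root `s` of `c`. -/
def lift {S : Type*} [CommRing S] (f : R →+* S) (s : S) (hs : s ^ 3 = f c) : C3 R c →+* S where
  toFun x := f x.x0 + f x.x1 * s + f x.x2 * s ^ 2
  map_one' := by simp
  map_mul' x y := by
    simp only [mul_x0, mul_x1, mul_x2, map_add, map_mul]
    linear_combination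
      (-((f x.x1 * f y.x2 + f x.x2 * f y.x1) + f x.x2 * f y.x2 * s)) * hs
  map_zero' := by simp
  map_add' x y := by
    simp only [add_x0, add_x1, add_x2, map_add]
    ring

end C3

/-- A model of `F₂₅`. -/
abbrev M25 : Type := Q2 (ZMod 5) 2 0

/-- A model of `F₄`. -/
abbrev M4 : Type := Q2 (ZMod 2) 1 1

/-- A model of `F₆₄`. -/
abbrev M64 : Type := C3 M4 ⟨0, 1⟩

theorem exists_hom25 {F : Type*} [Field F] [Fintype F] (hF : Fintype.card F = 25) :
    Nonempty (M25 →+* F) := by
  haveI : Fact (Nat.Prime 5) := ⟨by norm_num⟩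
  haveI : CharP F 5 := charP_of_card_eq_prime_pow (f := 2) (by rw [hF]; norm_num)
  have h2 : (2 : F) ≠ 0 := by
    have h := (CharP.cast_eq_zero_iff F 5 2).not.mpr (by norm_num)
    exact_mod_cast h
  have hc : ringChar F ≠ 2 := by
    rw [ringChar.eq F 5]
    norm_num
  have hsq : IsSquare (2 : F) := by
    rw [FiniteField.isSquare_iff hc h2, hF]
    have h0 : ((4095 : ℕ) : F) = 0 := (CharP.cast_eq_zero_iff F 5 4095).mpr (by norm_num)
    have e : (2 : F) ^ (25 / 2) = ((4095 : ℕ) : F) + 1 := by norm_num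
    rw [e, h0, zero_add]
  obtain ⟨i, hi⟩ := hsq
  refine ⟨Q2.lift (ZMod.castHom (dvd_refl 5) F) i ?_⟩
  rw [map_zero, zero_mul, add_zero, map_ofNat]
  exact hi.symm

theorem exists_hom64 {F : Type*} [Field F] [Fintype F] (hF : Fintype.card F = 64) :
    Nonempty (M64 →+* F) := by
  classical
  haveI : Fact (Nat.Prime 2) := ⟨by norm_num⟩
  haveI : CharP F 2 := charP_of_card_eq_prime_pow (f := 6) (by rw [hF]; norm_num)
  have h2 : (2 : F) = 0 := by
    have h := (CharP.cast_eq_zero_iff F 2 2).mpr (dvd_refl 2)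
    exact_mod_cast h
  obtain ⟨γ, hγ⟩ := IsCyclic.exists_generator (α := Fˣ)
  have hord : orderOf γ = 63 := by
    rw [orderOf_eq_card_of_forall_mem_zpowers hγ, Nat.card_eq_fintype_card, Fintype.card_units, hF]
  have hω3 : (((γ : F) ^ 7) ^ 3) ^ 3 = 1 := by
    rw [← pow_mul, ← pow_mul, ← Units.val_pow_eq_pow_val]
    have : γ ^ (7 * 3 * 3) = 1 := by
      have h63 : 7 * 3 * 3 = orderOf γ := by rw [hord]
      rw [h63]; exact pow_orderOf_eq_one γ
    rw [this, Units.val_one]
  have hω1 : ((γ : F) ^ 7) ^ 3 ≠ 1 := by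
    intro h
    have h' : γ ^ 21 = 1 := by
      apply Units.ext
      rw [Units.val_pow_eq_pow_val, Units.val_one, ← h, ← pow_mul]
    have := orderOf_dvd_of_pow_eq_one h'
    rw [hord] at this
    omega
  obtain ⟨ω, hωdef⟩ : ∃ ω : F, ω = ((γ : F) ^ 7) ^ 3 := ⟨_, rfl⟩
  rw [← hωdef] at hω3 hω1
  have hω : ω * ω = 1 + ω := by
    have h3 : (ω - 1) * (ω ^ 2 + ω + 1) = 0 := by linear_combination hω3
    rcases mul_eq_zero.mp h3 with h4 | h4
    · exact absurd (sub_eq_zero.mp h4) hω1
    · linear_combination h4 - (ω + 1) * h2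
  refine ⟨C3.lift (Q2.lift (ZMod.castHom (dvd_refl 2) F) ω ?_) ((γ : F) ^ 7) ?_⟩
  · rw [map_one, one_mul]
    exact hω
  · rw [Q2.lift_apply, map_zero, map_one, zero_add, one_mul, hωdef]

end Cfsg.Agent.Lib.helper45
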