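import Mathlib
import Cfsg.Agent.Lib.helper45.SU3Family
import Cfsg.Agent.Lib.helper45.SU3Models

/-!
# `SU_3(5)` and `SU_3(8)`: two conjugate regular unipotent generators, by certificate

For `q ∈ {5, 8}` the uniform family of `SU3Family` fails.  Here `u = uu a b e`,
`v = w0 u w0⁻¹ = ll (-b) (-a) e` for explicit `a, b, e` in a concrete model of `F_{q²}`, and an
explicit word in `u, v` is upper triangular with diagonal `(r1, r2, r3)`, `r1 / r2` in no proper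
subfield; the word identity is checked by `decide` in the model and transported along a ring
homomorphism.
-/

set_option autoImplicit false

namespace Cfsg.Agent.Lib.helper45

open Matrix Cfsg Cfsg.Agent.Lib.helper47.UFus

/-- Evaluate a word (`true ↦ U`, `false ↦ V`). -/
def wordR {M : Type*} [Monoid M] (U V : M) : List Bool → M
  | [] => 1
  | c :: W => (cond c U V) * wordR U V W

theorem wordR_mem {G : Type*} [Group G] (H : Subgroup G) (u v : G) (hu : u ∈ H) (hv : v ∈ H)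
    (W : List Bool) : wordR u v W ∈ H := by
  induction W with
  | nil => exact H.one_mem
  | cons c W ih =>
    cases c
    · exact H.mul_mem hv ih
    · exact H.mul_mem hu ih

section generic

variable {R : Type*} [CommRing R]

/-- Upper unitriangular matrix over a commutative ring. -/
def uuR (a b e : R) : Matrix (Fin 3) (Fin 3) R := !![1, a, e; 0, 1, b; 0, 0, 1]

/-- Lower unitriangular matrix over a commutative ring. -/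
def llR (a b e : R) : Matrix (Fin 3) (Fin 3) R := !![1, 0, 0; a, 1, 0; e, b, 1]

/-- Diagonal matrix over a commutative ring. -/
def dgR (d1 d2 d3 : R) : Matrix (Fin 3) (Fin 3) R := !![d1, 0, 0; 0, d2, 0; 0, 0, d3]

variable {F : Type*} [Field F]

theorem map_uuR (φ : R →+* F) (a b e : R) :
    φ.mapMatrix (uuR a b e) = uuM (φ a) (φ b) (φ e) := by
  ext i j
  fin_cases i <;> fin_cases j <;> simp [uuR, uuM]

theorem map_llR (φ : R →+* F) (a b e : R) :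
    φ.mapMatrix (llR a b e) = llM (φ a) (φ b) (φ e) := by
  ext i j
  fin_cases i <;> fin_cases j <;> simp [llR, llM]

theorem map_dgR (φ : R →+* F) (d1 d2 d3 : R) :
    φ.mapMatrix (dgR d1 d2 d3) = dTM (φ d1) (φ d2) (φ d3) := by
  ext i j
  fin_cases i <;> fin_cases j <;> simp [dgR, dTM]

theorem map_wordR (φ : R →+* F) (U V : Matrix (Fin 3) (Fin 3) R) (W : List Bool) :
    φ.mapMatrix (wordR U V W) = wordR (φ.mapMatrix U) (φ.mapMatrix V) W := by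
  induction W with
  | nil => exact map_one _
  | cons c W ih =>
    cases c
    · show φ.mapMatrix (V * wordR U V W) = φ.mapMatrix V * wordR (φ.mapMatrix U) (φ.mapMatrix V) W
      rw [map_mul, ih]
    · show φ.mapMatrix (U * wordR U V W) = φ.mapMatrix U * wordR (φ.mapMatrix U) (φ.mapMatrix V) W
      rw [map_mul, ih]

theorem coe_wordR (u v : Matrix.SpecialLinearGroup (Fin 3) F) (W : List Bool) :
    (wordR u v W).1 = wordR u.1 v.1 W := by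
  induction W with
  | nil => rfl
  | cons c W ih =>
    cases c
    · show (v * wordR u v W).1 = v.1 * wordR u.1 v.1 W
      rw [Matrix.SpecialLinearGroup.coe_mul, ih]
    · show (u * wordR u v W).1 = u.1 * wordR u.1 v.1 W
      rw [Matrix.SpecialLinearGroup.coe_mul, ih]

/-- The certificate theorem. -/
theorem exists_two_gen_UG_of_cert [Fintype F] {q : ℕ} (hF : Fintype.card F = q ^ 2)
    (hq3 : 3 ≤ q) (σ : F →+* F) (hσ : ∀ x, σ x = x ^ q) (hFF : FF σ) (φ : R →+* F)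
    (a b e ai bi ei r1 r2 r3 ρ ρ' a1 b1 e1 : R) (W : List Bool)
    (h1 : b ^ q + a = 0) (h2 : e ^ q + e + b ^ q * b = 0)
    (hai : a * ai = 1) (hbi : b * bi = 1) (hei : e * ei = 1)
    (hr : r1 * r2 * r3 = 1) (hρ : r1 = ρ * r2) (hρ' : r2 = ρ' * r3)
    (hW : wordR (uuR a b e) (llR (-b) (-a) e) W = dgR r1 r2 r3 * uuR a1 b1 e1)
    (hgen : ∀ K : Subfield F, φ ρ ∈ K → K = ⊤) :
    ∃ u g : Matrix.SpecialLinearGroup (Fin 3) F, u ∈ UG 3 σ ∧ g ∈ UG 3 σ ∧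
      IsNilpotent ((u : Matrix (Fin 3) (Fin 3) F) - 1) ∧
      ((u : Matrix (Fin 3) (Fin 3) F) - 1) ^ 2 ≠ 0 ∧
      Subgroup.closure ({u, g * u * g⁻¹} : Set (Matrix.SpecialLinearGroup (Fin 3) F)) =
        UG 3 σ := by
  classical
  have hσ2 := hFF.inv
  have hunit : ∀ x y : R, x * y = 1 → φ x ≠ 0 := by
    intro x y hxy h0
    have := congrArg φ hxy
    rw [map_mul, h0, zero_mul, map_one] at this
    exact zero_ne_one this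
  have ha := hunit a ai hai
  have hb := hunit b bi hbi
  have he := hunit e ei hei
  have huU : uu (φ a) (φ b) (φ e) ∈ UG 3 σ := by
    apply uu_mem_UG σ hσ2
    · rw [hσ, ← map_pow, ← map_add, h1, map_zero]
    · rw [hσ (φ e), hσ (φ b), ← map_pow, ← map_pow, ← map_mul, ← map_add, ← map_add, h2, map_zero]
  have hconj : w0 * uu (φ a) (φ b) (φ e) * w0⁻¹ = ll (-φ b) (-φ a) (φ e) := w0_conj_uu _ _ _
  have hvU : ll (-φ b) (-φ a) (φ e) ∈ UG 3 σ := by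
    rw [← hconj]
    exact (UG 3 σ).mul_mem ((UG 3 σ).mul_mem (w0_mem_UG σ) huU) ((UG 3 σ).inv_mem (w0_mem_UG σ))
  have hd : φ r1 * φ r2 * φ r3 = 1 := by rw [← map_mul, ← map_mul, hr, map_one]
  have hword : wordR (uu (φ a) (φ b) (φ e)) (ll (-φ b) (-φ a) (φ e)) W =
      dT (φ r1) (φ r2) (φ r3) hd * uu (φ a1) (φ b1) (φ e1) := by
    apply Subtype.ext
    rw [coe_wordR]
    show wordR (uuM (φ a) (φ b) (φ e)) (llM (-φ b) (-φ a) (φ e)) W =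
      dTM (φ r1) (φ r2) (φ r3) * uuM (φ a1) (φ b1) (φ e1)
    rw [← map_neg, ← map_neg, ← map_uuR, ← map_llR, ← map_wordR, hW, map_mul, map_dgR, map_uuR]
  refine ⟨uu (φ a) (φ b) (φ e), w0, huU, w0_mem_UG σ, uuM_sub_one_nilpotent _ _ _,
    uuM_sub_one_sq_ne _ _ _ ha hb, ?_⟩
  rw [hconj]
  obtain ⟨H, hH⟩ : ∃ H, H = Subgroup.closure
    ({uu (φ a) (φ b) (φ e), ll (-φ b) (-φ a) (φ e)} :
      Set (Matrix.SpecialLinearGroup (Fin 3) F)) := ⟨_, rfl⟩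
  rw [← hH]
  have huH : uu (φ a) (φ b) (φ e) ∈ H := by rw [hH]; exact Subgroup.subset_closure (by simp)
  have hvH : ll (-φ b) (-φ a) (φ e) ∈ H := by rw [hH]; exact Subgroup.subset_closure (by simp)
  have hHU : H ≤ UG 3 σ := by
    rw [hH, Subgroup.closure_le]
    rintro x hx
    rcases hx with rfl | rfl
    · exact huU
    · exact hvU
  have hh := wordR_mem H _ _ huH hvH W
  rw [hword] at hh
  have hv31 : (ll (-φ b) (-φ a) (φ e)).1 2 0 ≠ 0 := by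
    show llM (-φ b) (-φ a) (φ e) 2 0 ≠ 0
    simp [llM, he]
  exact closure_eq_UG hF hq3 σ hσ hFF H hHU (φ ρ) (φ ρ') (φ ρ * φ ρ') hgen
    (dT (φ r1) (φ r2) (φ r3) hd)
    (fun x y z => dT_conj_uu (φ r1) (φ r2) (φ r3) hd (φ ρ) (φ ρ') (by rw [← map_mul, ← hρ])
      (by rw [← map_mul, ← hρ']) x y z)
    _ _ _ hh _ _ _ ha huH _ hvH hv31

end generic

variable {F : Type*} [Field F]

set_option maxRecDepth 100000 in
theorem exists_two_gen_UG_five [Fintype F] (hF : Fintype.card F = 5 ^ 2)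
    (σ : F →+* F) (hσ : ∀ x, σ x = x ^ 5) (hFF : FF σ) :
    ∃ u g : Matrix.SpecialLinearGroup (Fin 3) F, u ∈ UG 3 σ ∧ g ∈ UG 3 σ ∧
      IsNilpotent ((u : Matrix (Fin 3) (Fin 3) F) - 1) ∧
      ((u : Matrix (Fin 3) (Fin 3) F) - 1) ^ 2 ≠ 0 ∧
      Subgroup.closure ({u, g * u * g⁻¹} : Set (Matrix.SpecialLinearGroup (Fin 3) F)) =
        UG 3 σ := by
  obtain ⟨φ⟩ := exists_hom25 (F := F) (by rw [hF]; norm_num)
  refine exists_two_gen_UG_of_cert hF (by norm_num) σ hσ hFF φ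
    (⟨1, 0⟩ : M25) ⟨4, 0⟩ ⟨2, 2⟩ ⟨1, 0⟩ ⟨4, 0⟩ ⟨2, 3⟩ ⟨2, 4⟩ ⟨3, 2⟩ ⟨1, 2⟩ ⟨0, 3⟩ ⟨0, 2⟩
    ⟨4, 4⟩ ⟨1, 4⟩ ⟨3, 0⟩ [false, true, true, true, false, true, true, true, false, false]
    (by decide) (by decide) (by decide) (by decide) (by decide) (by decide) (by decide)
    (by decide) (by decide) ?_
  intro K hK
  by_contra hne
  obtain ⟨m, k, hm2, hk2, hcard, hpow⟩ := subfield_card_pow K hne
  rw [hF] at hcard
  have hmdvd : m ∣ 5 ^ 2 := by rw [hcard]; exact dvd_pow_self m (by omega)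
  have hmle : m ≤ 5 := by
    have : m ^ 2 ≤ 5 ^ 2 := by rw [hcard]; exact Nat.pow_le_pow_right (by omega) hk2
    nlinarith
  have h5 : m = 5 := by
    interval_cases m <;> omega
  subst h5
  have h6 := hpow _ hK
  have hw : ((⟨0, 3⟩ : M25) ^ 5 - ⟨0, 3⟩) * ⟨0, 2⟩ = 1 := by decide
  have h7 := congrArg φ hw
  rw [map_mul, map_sub, map_pow, h6, sub_self, zero_mul, map_one] at h7
  exact zero_ne_one h7

set_option maxRecDepth 100000 in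
theorem exists_two_gen_UG_eight [Fintype F] (hF : Fintype.card F = 8 ^ 2)
    (σ : F →+* F) (hσ : ∀ x, σ x = x ^ 8) (hFF : FF σ) :
    ∃ u g : Matrix.SpecialLinearGroup (Fin 3) F, u ∈ UG 3 σ ∧ g ∈ UG 3 σ ∧
      IsNilpotent ((u : Matrix (Fin 3) (Fin 3) F) - 1) ∧
      ((u : Matrix (Fin 3) (Fin 3) F) - 1) ^ 2 ≠ 0 ∧
      Subgroup.closure ({u, g * u * g⁻¹} : Set (Matrix.SpecialLinearGroup (Fin 3) F)) =
        UG 3 σ := by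
  obtain ⟨φ⟩ := exists_hom64 (F := F) (by rw [hF]; norm_num)
  refine exists_two_gen_UG_of_cert hF (by norm_num) σ hσ hFF φ
    (⟨⟨0, 1⟩, ⟨0, 0⟩, ⟨1, 1⟩⟩ : M64) ⟨⟨1, 1⟩, ⟨1, 0⟩, ⟨0, 0⟩⟩ ⟨⟨1, 0⟩, ⟨1, 1⟩, ⟨1, 1⟩⟩
    ⟨⟨0, 1⟩, ⟨0, 1⟩, ⟨1, 1⟩⟩ ⟨⟨1, 1⟩, ⟨1, 0⟩, ⟨0, 1⟩⟩ ⟨⟨1, 1⟩, ⟨0, 0⟩, ⟨0, 1⟩⟩
    ⟨⟨1, 0⟩, ⟨1, 0⟩, ⟨1, 0⟩⟩ ⟨⟨0, 0⟩, ⟨1, 1⟩, ⟨0, 0⟩⟩ ⟨⟨1, 1⟩, ⟨0, 0⟩, ⟨0, 1⟩⟩
    ⟨⟨0, 1⟩, ⟨0, 1⟩, ⟨1, 0⟩⟩ ⟨⟨1, 1⟩, ⟨1, 1⟩, ⟨0, 1⟩⟩
    ⟨⟨0, 0⟩, ⟨1, 1⟩, ⟨1, 0⟩⟩ ⟨⟨0, 0⟩, ⟨1, 1⟩, ⟨1, 0⟩⟩ ⟨⟨0, 0⟩, ⟨1, 0⟩, ⟨1, 0⟩⟩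
    [false, true, false, false, true, true, false, true, false, true, false, false]
    (by decide) (by decide) (by decide) (by decide) (by decide) (by decide) (by decide)
    (by decide) (by decide) ?_
  intro K hK
  by_contra hne
  obtain ⟨m, k, hm2, hk2, hcard, hpow⟩ := subfield_card_pow K hne
  rw [hF] at hcard
  have hmdvd : m ∣ 8 ^ 2 := by rw [hcard]; exact dvd_pow_self m (by omega)
  have hmle : m ≤ 8 := by
    have : m ^ 2 ≤ 8 ^ 2 := by rw [hcard]; exact Nat.pow_le_pow_right (by omega) hk2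
    nlinarith
  have h6 := hpow _ hK
  have hw2 : ((⟨⟨0, 1⟩, ⟨0, 1⟩, ⟨1, 0⟩⟩ : M64) ^ 2 - ⟨⟨0, 1⟩, ⟨0, 1⟩, ⟨1, 0⟩⟩) *
      ⟨⟨1, 1⟩, ⟨1, 1⟩, ⟨1, 0⟩⟩ = 1 := by decide
  have hw4 : ((⟨⟨0, 1⟩, ⟨0, 1⟩, ⟨1, 0⟩⟩ : M64) ^ 4 - ⟨⟨0, 1⟩, ⟨0, 1⟩, ⟨1, 0⟩⟩) *
      ⟨⟨1, 1⟩, ⟨1, 0⟩, ⟨1, 0⟩⟩ = 1 := by decide
  have hw8 : ((⟨⟨0, 1⟩, ⟨0, 1⟩, ⟨1, 0⟩⟩ : M64) ^ 8 - ⟨⟨0, 1⟩, ⟨0, 1⟩, ⟨1, 0⟩⟩) *
      ⟨⟨0, 0⟩, ⟨0, 1⟩, ⟨0, 1⟩⟩ = 1 := by decide
  have key : ∀ (n : ℕ) (w : M64), φ ⟨⟨0, 1⟩, ⟨0, 1⟩, ⟨1, 0⟩⟩ ^ n = φ ⟨⟨0, 1⟩, ⟨0, 1⟩, ⟨1, 0⟩⟩ →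
      ((⟨⟨0, 1⟩, ⟨0, 1⟩, ⟨1, 0⟩⟩ : M64) ^ n - ⟨⟨0, 1⟩, ⟨0, 1⟩, ⟨1, 0⟩⟩) * w = 1 → False := by
    intro n w hn hw
    have h7 := congrArg φ hw
    rw [map_mul, map_sub, map_pow, hn, sub_self, zero_mul, map_one] at h7
    exact zero_ne_one h7
  interval_cases m
  · exact key 2 _ h6 hw2
  · omega
  · exact key 4 _ h6 hw4
  · omega
  · omega
  · omega
  · exact key 8 _ h6 hw8

end Cfsg.Agent.Lib.helper45
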