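import Mathlib
import Cfsg.Agent.Lib.helper47.UGenH
import Cfsg.Agent.Lib.helper47.UGenE

/-!
Tools for generating the antidiagonal-form special unitary group by conjugate regular unipotent
elements: transvections at a fixed parameter, Siegel elements, the flip, and a rank-one lemma.
-/

set_option autoImplicit false

namespace Cfsg.Agent.Lib.helper45.SUReg

open Matrix Cfsg Cfsg.Agent.Lib.helper47.PSLn Cfsg.Agent.Lib.helper47.UFus
  Cfsg.Agent.Lib.helper47.UGen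

variable {n : ℕ} {K : Type*} [Field K] {σ : K →+* K}

/-! ### transvections at a fixed parameter -/

theorem goodAt_of_zU (hF : FF σ) {H : Subgroup ↥(UG n σ)} (a : Fin n) (s : K)
    (ha : a ≠ Fin.rev a) (hs : s + σ s = 0) (h : zU hF a s ha hs ∈ H) :
    GoodAt H (ev a : Fin n → K) s := by
  intro A hA
  have : A = zU hF a s ha hs := mt_inj (by rw [hA, mt_zU])
  rw [this]; exact h

theorem good_ev_of_skew (hF : FF σ) {H : Subgroup ↥(UG n σ)} (a : Fin n) (ha : a ≠ Fin.rev a)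
    (h : ∀ s, s + σ s = 0 → GoodAt H (ev a : Fin n → K) s) : Good H (ev a : Fin n → K) := by
  intro c A hA
  have hval := valid_of_mem hF A a 0 c ha rfl (by rw [hA, Cfsg.Agent.Lib.helper47.UGen.qM_zero])
  rw [wv_zero, dotProduct_zero, add_zero] at hval
  exact h c hval A hA

theorem root_at (hF : FF σ) {H : Subgroup ↥(UG n σ)} (a l : Fin n) (ha : a ≠ Fin.rev a)
    (hla : l ≠ a) (hla' : l ≠ Fin.rev a) (hl : l ≠ Fin.rev l) (s μ : K) (hs : s + σ s = 0)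
    (hGa : GoodAt H (ev a : Fin n → K) s)
    (hGl : GoodAt H (ev l : Fin n → K) (s * (μ * σ μ)))
    (hP : GoodAt H ((ev a : Fin n → K) + μ • ev l) s) :
    xU hF a (Fin.rev l) (s * σ μ) ha (fun h => hla' (by rw [← h, Fin.rev_rev]))
      (by rw [Fin.rev_rev]; exact Ne.symm hl) ∈ H := by
  have hs' : s * (μ * σ μ) + σ (s * (μ * σ μ)) = 0 := by
    have hσs : σ s = -s := by linear_combination hs
    rw [map_mul, map_mul, hF.inv, hσs]; ring
  have hA : xU hF a (Fin.rev l) (s * σ μ) ha (fun h => hla' (by rw [← h, Fin.rev_rev]))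
      (by rw [Fin.rev_rev]; exact Ne.symm hl) * zU hF a s ha hs *
      zU hF l (s * (μ * σ μ)) hl hs' ∈ H := by
    apply hP
    rw [mt_mul, mt_mul, ← line_matrix hF a l ha hla hla' hl s μ hs, mt_xU, mt_zU', mt_zU']
  have h1 := zU_mem hF a s ha hs hGa
  have h2 := zU_mem hF l (s * (μ * σ μ)) hl hs' hGl
  have := H.mul_mem (H.mul_mem hA (H.inv_mem h2)) (H.inv_mem h1)
  simpa [mul_assoc] using this

theorem point_at (hF : FF σ) {H : Subgroup ↥(UG n σ)} (a l : Fin n) (ha : a ≠ Fin.rev a)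
    (hla : l ≠ a) (hla' : l ≠ Fin.rev a) (hl : l ≠ Fin.rev l) (s μ : K) (hs : s + σ s = 0)
    (hGa : GoodAt H (ev a : Fin n → K) s)
    (hGl : GoodAt H (ev l : Fin n → K) (s * (μ * σ μ)))
    (hX : xU hF a (Fin.rev l) (s * σ μ) ha (fun h => hla' (by rw [← h, Fin.rev_rev]))
      (by rw [Fin.rev_rev]; exact Ne.symm hl) ∈ H) :
    GoodAt H ((ev a : Fin n → K) + μ • ev l) s := by
  have hs' : s * (μ * σ μ) + σ (s * (μ * σ μ)) = 0 := by
    have hσs : σ s = -s := by linear_combination hs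
    rw [map_mul, map_mul, hF.inv, hσs]; ring
  intro A hA
  have : A = xU hF a (Fin.rev l) (s * σ μ) ha (fun h => hla' (by rw [← h, Fin.rev_rev]))
      (by rw [Fin.rev_rev]; exact Ne.symm hl) * zU hF a s ha hs *
      zU hF l (s * (μ * σ μ)) hl hs' := by
    apply mt_inj
    rw [hA, mt_mul, mt_mul, ← line_matrix hF a l ha hla hla' hl s μ hs, mt_xU, mt_zU', mt_zU']
  rw [this]
  exact H.mul_mem (H.mul_mem hX (zU_mem hF a s ha hs hGa)) (zU_mem hF l _ hl hs' hGl)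

/-! ### the hermitian form -/

theorem dot_wv_swap (hF : FF σ) (u z : Fin n → K) : u ⬝ᵥ wv σ z = σ (z ⬝ᵥ wv σ u) := by
  simp only [dotProduct, wv_apply, map_sum, map_mul, hF.inv]
  rw [← Equiv.sum_comp Fin.revPerm]
  refine Finset.sum_congr rfl (fun j _ => ?_)
  rw [Fin.revPerm_apply, Fin.rev_rev, mul_comm]

theorem form_act (g : ↥(UG n σ)) (x z : Fin n → K) :
    wv σ (mt g *ᵥ x) ⬝ᵥ (mt g *ᵥ z) = wv σ x ⬝ᵥ z := by
  rw [wv_mulVec, ← dotProduct_mulVec, mulVec_mulVec, mt_sharp, one_mulVec]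

theorem skew_of_uM (hF : FF σ) (A : ↥(UG n σ)) (u z : Fin n → K) (c : K)
    (hA : mt A = uM σ u c) (hu : u ⬝ᵥ wv σ u = 0) (hz : z ⬝ᵥ wv σ z = 0)
    (huz : wv σ u ⬝ᵥ z = 1) : c + σ c = 0 := by
  have h := iso_act A z
  rw [hA, uM_mulVec, huz, mul_one, hz] at h
  have e1 : z ⬝ᵥ wv σ u = 1 := by rw [dotProduct_comm]; exact huz
  have e2 : u ⬝ᵥ wv σ z = 1 := by rw [dot_wv_swap hF, e1, map_one]
  rw [wv_add, wv_smul, add_dotProduct, dotProduct_add, dotProduct_add, smul_dotProduct,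
    smul_dotProduct, dotProduct_smul, dotProduct_smul, hz, hu, e1, e2] at h
  simp only [smul_eq_mul, mul_one, mul_zero, add_zero, zero_add] at h
  linear_combination h

theorem line_iso (a l : Fin n) (ha : a ≠ Fin.rev a) (hla : l ≠ a) (hla' : l ≠ Fin.rev a)
    (hl : l ≠ Fin.rev l) (μ : K) :
    ((ev a : Fin n → K) + μ • ev l) ⬝ᵥ wv σ ((ev a : Fin n → K) + μ • ev l) = 0 := by
  have h3 : Fin.rev l ≠ a := fun h => hla' (by rw [← h, Fin.rev_rev])
  rw [wv_add, wv_smul, wv_ev, wv_ev, add_dotProduct, dotProduct_add, dotProduct_add,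
    smul_dotProduct, smul_dotProduct, dotProduct_smul, dotProduct_smul, ev_dot_apply,
    ev_dot_apply, ev_dot_apply, ev_dot_apply, ev_apply, ev_apply, ev_apply, ev_apply,
    if_neg ha, if_neg (Ne.symm h3), if_neg hla', if_neg hl]
  simp

theorem good_line_of_skew (hF : FF σ) {H : Subgroup ↥(UG n σ)} (a l : Fin n)
    (ha : a ≠ Fin.rev a) (hla : l ≠ a) (hla' : l ≠ Fin.rev a) (hl : l ≠ Fin.rev l) (μ : K)
    (h : ∀ s, s + σ s = 0 → GoodAt H ((ev a : Fin n → K) + μ • ev l) s) :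
    Good H ((ev a : Fin n → K) + μ • ev l) := by
  intro c A hA
  have hval : c + σ c = 0 := by
    refine skew_of_uM hF A _ (ev (Fin.rev a)) c hA (line_iso a l ha hla hla' hl μ) ?_ ?_
    · rw [wv_ev, Fin.rev_rev, ev_dot_apply, ev_apply, if_neg (Ne.symm ha)]
    · rw [dot_ev_apply, wv_apply, Fin.rev_rev, Pi.add_apply, Pi.smul_apply, ev_apply, ev_apply,
        if_pos rfl, if_neg (Ne.symm hla), smul_eq_mul, mul_zero, add_zero, map_one]
  exact h c hval A hA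

/-! ### Siegel elements -/

/-- the matrix `z ↦ z + a h(y, z) x - σ a h(x, z) y` -/
def sM (σ : K →+* K) (x y : Fin n → K) (a : K) : Matrix (Fin n) (Fin n) K :=
  1 + a • vecMulVec x (wv σ y) - σ a • vecMulVec y (wv σ x)

theorem sM_mulVec (x y z : Fin n → K) (a : K) :
    sM σ x y a *ᵥ z = z + (a * (wv σ y ⬝ᵥ z)) • x - (σ a * (wv σ x ⬝ᵥ z)) • y := by
  unfold sM
  rw [sub_mulVec, add_mulVec, one_mulVec, smul_mulVec, smul_mulVec, vmv_mulVec, vmv_mulVec,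
    smul_smul, smul_smul]

theorem sM_conj (g : ↥(UG n σ)) (x y : Fin n → K) (a : K) :
    mt g * sM σ x y a = sM σ (mt g *ᵥ x) (mt g *ᵥ y) a * mt g := by
  unfold sM
  rw [mul_sub, mul_add, sub_mul, add_mul, mul_one, one_mul, Matrix.mul_smul, Matrix.mul_smul,
    Matrix.smul_mul, Matrix.smul_mul, mul_vecMulVec, mul_vecMulVec, vecMulVec_mul,
    vecMulVec_mul, wv_mulVec, wv_mulVec, vecMul_vecMul, vecMul_vecMul, mt_sharp, vecMul_one,
    vecMul_one]

theorem mt_xU_sM (hF : FF σ) (i j : Fin n) (c : K) (hi : i ≠ Fin.rev i) (hji : j ≠ i)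
    (hj : j ≠ Fin.rev j) :
    mt (xU hF i j c hi hji hj) = sM σ (ev i) (ev (Fin.rev j)) c := by
  apply mat_ext_mulVec
  intro z
  rw [xU_mulVec, sM_mulVec, wv_ev, wv_ev, Fin.rev_rev, ev_dot_apply, ev_dot_apply]

theorem sM_add (x y y' : Fin n → K) (a : K) (hxx : wv σ x ⬝ᵥ x = 0) (hxy' : wv σ x ⬝ᵥ y' = 0)
    (hyx : wv σ y ⬝ᵥ x = 0) (hyy' : wv σ y ⬝ᵥ y' = 0) :
    sM σ x (y + y') a = sM σ x y a * sM σ x y' a := by
  apply mat_ext_mulVec
  intro z
  rw [← mulVec_mulVec, sM_mulVec, sM_mulVec, sM_mulVec]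
  simp only [wv_add, add_dotProduct, dotProduct_add, dotProduct_sub, dotProduct_smul, hxx, hxy',
    hyx, hyy', smul_eq_mul, mul_zero, add_zero, sub_zero]
  module

theorem sM_add_self (x y : Fin n → K) (a : K) (hxx : wv σ x ⬝ᵥ x = 0)
    (hyx : wv σ y ⬝ᵥ x = 0) :
    sM σ x (y + x) a = sM σ x y a * uM σ x (a - σ a) := by
  apply mat_ext_mulVec
  intro z
  rw [← mulVec_mulVec, sM_mulVec, sM_mulVec, uM_mulVec]
  simp only [wv_add, add_dotProduct, dotProduct_add, dotProduct_smul, hxx, hyx, smul_eq_mul,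
    mul_zero, add_zero]
  module

/-! ### the flip -/

/-- the sign of the reversal permutation as a field element -/
def sgn (n : ℕ) (K : Type*) [Field K] : K :=
  (((Equiv.Perm.sign (Fin.revPerm : Equiv.Perm (Fin n)) : ℤˣ) : ℤ) : K)

theorem sgn_mul_self : sgn n K * sgn n K = 1 := by
  unfold sgn
  rcases Int.units_eq_one_or (Equiv.Perm.sign (Fin.revPerm : Equiv.Perm (Fin n))) with h | h <;>
    rw [h] <;> simp

theorem sgn_sig (σ : K →+* K) : σ (sgn n K) = sgn n K := by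
  unfold sgn
  rw [map_intCast]

theorem flip_det (hn : Odd n) :
    (cxM (Fin.revPerm : Equiv.Perm (Fin n)) (fun _ => sgn n K)).det = 1 := by
  have hinv : (Fin.revPerm : Equiv.Perm (Fin n))⁻¹ = Fin.revPerm := by
    ext k
    rw [Equiv.Perm.inv_def, Fin.revPerm_symm]
  obtain ⟨m, hm⟩ := hn
  unfold cxM
  rw [Matrix.det_mul, det_Wm, Matrix.det_diagonal, Finset.prod_const, Finset.card_univ,
    Fintype.card_fin, hinv]
  show sgn n K * sgn n K ^ n = 1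
  rw [← pow_succ', hm, show 2 * m + 1 + 1 = 2 * (m + 1) by ring, pow_mul, sq, sgn_mul_self,
    one_pow]

/-- the flip as an element of the unitary group -/
def flipU (σ : K →+* K) (hn : Odd n) : ↥(UG n σ) :=
  ⟨⟨cxM (Fin.revPerm : Equiv.Perm (Fin n)) (fun _ => sgn n K), flip_det hn⟩,
    (mem_UG _).mpr (cxM_sharp _ _ (fun k => by rw [Fin.revPerm_apply, Fin.revPerm_apply])
      (fun _ => by rw [sgn_sig, sgn_mul_self]))⟩

theorem flip_mulVec (hn : Odd n) (z : Fin n → K) :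
    mt (flipU σ hn) *ᵥ z = sgn n K • (z ∘ Fin.rev) := by
  funext i
  show (cxM (Fin.revPerm : Equiv.Perm (Fin n)) (fun _ => sgn n K) *ᵥ z) i = _
  rw [mulVec, dotProduct, Finset.sum_eq_single (Fin.rev i)]
  · rw [cxM_apply, Fin.revPerm_apply, Fin.rev_rev, if_pos rfl, Pi.smul_apply, Function.comp_apply,
      smul_eq_mul]
  · intro b _ hb
    rw [cxM_apply, Fin.revPerm_apply, if_neg, zero_mul]
    intro h
    exact hb (by rw [h, Fin.rev_rev])
  · intro h; exact absurd (Finset.mem_univ _) h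

theorem flip_inv_mulVec (hn : Odd n) (z : Fin n → K) :
    mt (flipU σ hn)⁻¹ *ᵥ z = sgn n K • (z ∘ Fin.rev) := by
  have h : mt (flipU σ hn) *ᵥ (sgn n K • (z ∘ Fin.rev)) = z := by
    rw [flip_mulVec]
    funext i
    simp only [Pi.smul_apply, Function.comp_apply, Fin.rev_rev, smul_eq_mul]
    rw [← mul_assoc, sgn_mul_self, one_mul]
  calc mt (flipU σ hn)⁻¹ *ᵥ z
      = mt (flipU σ hn)⁻¹ *ᵥ (mt (flipU σ hn) *ᵥ (sgn n K • (z ∘ Fin.rev))) := by rw [h]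
    _ = _ := mt_inv_mulVec _ _

/-- the mirror image of an element -/
def mir (σ : K →+* K) (hn : Odd n) (g : ↥(UG n σ)) : ↥(UG n σ) :=
  flipU σ hn * g * (flipU σ hn)⁻¹

theorem mir_mulVec (hn : Odd n) (g : ↥(UG n σ)) (z : Fin n → K) :
    mt (mir σ hn g) *ᵥ z = (mt g *ᵥ (z ∘ Fin.rev)) ∘ Fin.rev := by
  unfold mir
  rw [mt_mul, mt_mul, ← mulVec_mulVec, ← mulVec_mulVec, flip_inv_mulVec, flip_mulVec,
    mulVec_smul]
  funext i
  simp only [Pi.smul_apply, Function.comp_apply, smul_eq_mul]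
  rw [← mul_assoc, sgn_mul_self, one_mul]

theorem mir_inv (hn : Odd n) (g : ↥(UG n σ)) : (mir σ hn g)⁻¹ = mir σ hn g⁻¹ := by
  unfold mir
  group

theorem ev_comp_rev (i : Fin n) : (ev i : Fin n → K) ∘ Fin.rev = ev (Fin.rev i) := by
  funext j
  rw [Function.comp_apply, ev_apply, ev_apply]
  by_cases h : j = Fin.rev i
  · rw [if_pos h, if_pos (by rw [h, Fin.rev_rev])]
  · rw [if_neg h, if_neg]
    intro h'
    exact h (by rw [← h', Fin.rev_rev])

theorem add_comp_rev (x y : Fin n → K) : (x + y) ∘ Fin.rev = x ∘ Fin.rev + y ∘ Fin.rev := rfl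

theorem smul_comp_rev (c : K) (x : Fin n → K) : (c • x) ∘ Fin.rev = c • (x ∘ Fin.rev) := rfl

theorem sub_comp_rev (x y : Fin n → K) : (x - y) ∘ Fin.rev = x ∘ Fin.rev - y ∘ Fin.rev := rfl

/-! ### a rank one lemma -/

section rankone

variable {H : Subgroup ↥(UG n σ)} (e z1 w1 : Fin n → K)

theorem uM_e_frame (hee : wv σ e ⬝ᵥ e = 0) (hez : wv σ e ⬝ᵥ z1 = 1) (hew : wv σ e ⬝ᵥ w1 = 0)
    (s x y c : K) :
    uM σ e s *ᵥ (x • z1 + y • w1 + c • e) = x • z1 + y • w1 + (c + s * x) • e := by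
  rw [uM_mulVec, dotProduct_add, dotProduct_add, dotProduct_smul, dotProduct_smul,
    dotProduct_smul, hee, hez, hew]
  simp only [smul_eq_mul, mul_zero, mul_one, add_zero]
  module

theorem uM_z_frame (hzz : wv σ z1 ⬝ᵥ z1 = 0) (hze : wv σ z1 ⬝ᵥ e = 1)
    (hzw : wv σ z1 ⬝ᵥ w1 = 0) (s x y c : K) :
    uM σ z1 s *ᵥ (x • z1 + y • w1 + c • e) = (x + s * c) • z1 + y • w1 + c • e := by
  rw [uM_mulVec, dotProduct_add, dotProduct_add, dotProduct_smul, dotProduct_smul,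
    dotProduct_smul, hzz, hze, hzw]
  simp only [smul_eq_mul, mul_zero, mul_one, add_zero, zero_add]
  module

theorem weyl_step (hee : wv σ e ⬝ᵥ e = 0) (hez : wv σ e ⬝ᵥ z1 = 1) (hew : wv σ e ⬝ᵥ w1 = 0)
    (hzz : wv σ z1 ⬝ᵥ z1 = 0) (hze : wv σ z1 ⬝ᵥ e = 1) (hzw : wv σ z1 ⬝ᵥ w1 = 0)
    (s s' : K) (hss : s * s' = -1) (hE : Mem H (uM σ e s)) (hZ : Mem H (uM σ z1 s'))
    (x y c : K) (hG : Good H (x • z1 + y • w1 + c • e)) :
    Good H ((s' * c) • z1 + y • w1 + (s * x) • e) := by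
  obtain ⟨A, hA, hAm⟩ := hE
  obtain ⟨B, hB, hBm⟩ := hZ
  have h := hG.act (H.mul_mem (H.mul_mem hA hB) hA)
  rw [mt_mul, mt_mul, ← mulVec_mulVec, ← mulVec_mulVec, hAm, hBm,
    uM_e_frame e z1 w1 hee hez hew, uM_z_frame e z1 w1 hzz hze hzw,
    uM_e_frame e z1 w1 hee hez hew] at h
  have e1 : x + s' * (c + s * x) = s' * c := by linear_combination x * hss
  have e2 : c + s * x + s * (x + s' * (c + s * x)) = s * x := by
    linear_combination (c + s * x) * hss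
  rw [e2, e1] at h
  exact h

theorem weyl_mem (hee : wv σ e ⬝ᵥ e = 0) (hez : wv σ e ⬝ᵥ z1 = 1) (hew : wv σ e ⬝ᵥ w1 = 0)
    (hzz : wv σ z1 ⬝ᵥ z1 = 0) (hze : wv σ z1 ⬝ᵥ e = 1) (hzw : wv σ z1 ⬝ᵥ w1 = 0)
    (s s' : K) (hss : s * s' = -1) (hE : Mem H (uM σ e s)) (hZ : Mem H (uM σ z1 s')) :
    ∃ N ∈ H, (∀ x y c : K, mt N *ᵥ (x • z1 + y • w1 + c • e) =
      (s' * c) • z1 + y • w1 + (s * x) • e) ∧
      ∀ v : Fin n → K, wv σ e ⬝ᵥ v = 0 → wv σ z1 ⬝ᵥ v = 0 → mt N *ᵥ v = v := by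
  obtain ⟨A, hA, hAm⟩ := hE
  obtain ⟨B, hB, hBm⟩ := hZ
  refine ⟨A * B * A, H.mul_mem (H.mul_mem hA hB) hA, fun x y c => ?_, fun v h1 h2 => ?_⟩
  · rw [mt_mul, mt_mul, ← mulVec_mulVec, ← mulVec_mulVec, hAm, hBm,
      uM_e_frame e z1 w1 hee hez hew, uM_z_frame e z1 w1 hzz hze hzw,
      uM_e_frame e z1 w1 hee hez hew]
    have e1 : x + s' * (c + s * x) = s' * c := by linear_combination x * hss
    have e2 : c + s * x + s * (x + s' * (c + s * x)) = s * x := by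
      linear_combination (c + s * x) * hss
    rw [e2, e1]
  · have e1 : uM σ e s *ᵥ v = v := by rw [uM_mulVec, h1, mul_zero, zero_smul, add_zero]
    have e2 : uM σ z1 s' *ᵥ v = v := by rw [uM_mulVec, h2, mul_zero, zero_smul, add_zero]
    rw [mt_mul, mt_mul, ← mulVec_mulVec, ← mulVec_mulVec, hAm, hBm, e1, e2, e1]

theorem rank_one (hF : FF σ) (hee : wv σ e ⬝ᵥ e = 0) (hez : wv σ e ⬝ᵥ z1 = 1)
    (hew : wv σ e ⬝ᵥ w1 = 0) (hzz : wv σ z1 ⬝ᵥ z1 = 0) (hze : wv σ z1 ⬝ᵥ e = 1)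
    (hzw : wv σ z1 ⬝ᵥ w1 = 0)
    (hE : ∀ s, s + σ s = 0 → Mem H (uM σ e s)) (hZ : ∀ s, s + σ s = 0 → Mem H (uM σ z1 s))
    (hz1 : Good H z1) (γ₀ δ₀ : K) (hγ₀ : γ₀ ≠ 0) (hδ₀ : δ₀ + σ δ₀ + γ₀ * σ γ₀ = 0)
    (h0 : Good H (z1 + γ₀ • w1 + δ₀ • e)) (γ δ : K) (hδ : δ + σ δ + γ * σ γ = 0) :
    Good H (z1 + γ • w1 + δ • e) := by
  have shift : ∀ γ δ δ' : K, Good H (z1 + γ • w1 + δ • e) →
      (δ' - δ) + σ (δ' - δ) = 0 → Good H (z1 + γ • w1 + δ' • e) := by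
    intro γ δ δ' hG hd
    obtain ⟨A, hA, hAm⟩ := hE (δ' - δ) hd
    have h := hG.act hA
    rw [hAm, ← one_smul K z1, uM_e_frame e z1 w1 hee hez hew, mul_one] at h
    rw [show δ + (δ' - δ) = δ' by ring] at h
    rw [← one_smul K z1]
    exact h
  have stepA : ∀ γ δ : K, γ ≠ 0 → δ + σ δ + γ * σ γ = 0 → Good H (z1 + γ • w1 + δ • e) →
      ∀ x : K, σ x ≠ x → ∃ δ', δ' + σ δ' + (γ / x) * σ (γ / x) = 0 ∧
        Good H (z1 + (γ / x) • w1 + δ' • e) := by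
    intro γ δ hγ hδv hG x hx
    have hσγ : σ γ ≠ 0 := fun h => hγ ((map_eq_zero σ).mp h)
    have hx0 : x ≠ 0 := by
      rintro rfl
      exact hx (map_zero σ)
    have hσx0 : σ x ≠ 0 := fun h => hx0 ((map_eq_zero σ).mp h)
    have hd : σ x - x ≠ 0 := sub_ne_zero.mpr hx
    obtain ⟨s', hs'⟩ : ∃ s' : K, s' = (σ x - x) / (γ * σ γ) := ⟨_, rfl⟩
    have hs'0 : s' ≠ 0 := by
      rw [hs']; exact div_ne_zero hd (mul_ne_zero hγ hσγ)
    have hσs' : σ s' = -s' := by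
      rw [hs', map_div₀, map_sub, map_mul, hF.inv, hF.inv]
      field_simp
      ring
    obtain ⟨s, hs⟩ : ∃ s : K, s = -1 / s' := ⟨_, rfl⟩
    have hσs : σ s = -s := by
      rw [hs, map_div₀, map_neg, map_one, hσs']
      field_simp
    have hss : s * s' = -1 := by rw [hs]; field_simp
    obtain ⟨δ1, hδ1⟩ : ∃ δ1 : K, δ1 = x / s' := ⟨_, rfl⟩
    have hδ1v : δ1 + σ δ1 + γ * σ γ = 0 := by
      rw [hδ1, map_div₀, hσs', hs']
      field_simp
      ring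
    have hG1 : Good H (z1 + γ • w1 + δ1 • e) := by
      refine shift γ δ δ1 hG ?_
      rw [map_sub]
      linear_combination hδ1v - hδv
    have hG2 := weyl_step e z1 w1 hee hez hew hzz hze hzw s s' hss
      (hE s (by rw [hσs]; ring)) (hZ s' (by rw [hσs']; ring)) 1 γ δ1
      (by rw [one_smul]; exact hG1)
    have hG3 := hG2.smul x⁻¹
    have e3 : x⁻¹ • ((s' * δ1) • z1 + γ • w1 + (s * 1) • e) =
        z1 + (γ / x) • w1 + (s / x) • e := by
      have : s' * δ1 = x := by rw [hδ1]; field_simp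
      rw [this, smul_add, smul_add, smul_smul, smul_smul, smul_smul, inv_mul_cancel₀ hx0,
        one_smul, mul_one]
      congr 2 <;> ring
    rw [e3] at hG3
    refine ⟨s / x, ?_, hG3⟩
    rw [map_div₀, map_div₀, hσs, hs, hs']
    field_simp
    ring
  by_cases hγ : γ = 0
  · subst hγ
    have hG : Good H (z1 + (0 : K) • w1 + (0 : K) • e) := by
      rw [zero_smul, zero_smul, add_zero, add_zero]; exact hz1
    refine shift 0 0 δ hG ?_
    rw [sub_zero]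
    linear_combination hδ
  · obtain ⟨x₀, hx₀⟩ := hF.ne
    have key : ∃ δ', δ' + σ δ' + γ * σ γ = 0 ∧ Good H (z1 + γ • w1 + δ' • e) := by
      by_cases hx : σ (γ₀ / γ) = γ₀ / γ
      · obtain ⟨δ1, hδ1, hG1⟩ := stepA γ₀ δ₀ hγ₀ hδ₀ h0 x₀ hx₀
        have hx00 : x₀ ≠ 0 := by
          rintro rfl
          exact hx₀ (map_zero σ)
        have hne : σ (γ₀ / γ / x₀) ≠ γ₀ / γ / x₀ := by
          rw [map_div₀, hx]
          intro h
          apply hx₀
          have h2 : γ₀ / γ ≠ 0 := div_ne_zero hγ₀ hγ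
          have hσx00 : σ x₀ ≠ 0 := fun h => hx00 ((map_eq_zero σ).mp h)
          have h5 := mul_left_cancel₀ h2 ((div_eq_div_iff hσx00 hx00).mp h)
          exact h5.symm
        obtain ⟨δ2, hδ2, hG2⟩ := stepA (γ₀ / x₀) δ1 (div_ne_zero hγ₀ hx00) hδ1 hG1 _ hne
        have e : γ₀ / x₀ / (γ₀ / γ / x₀) = γ := by field_simp
        rw [e] at hδ2 hG2
        exact ⟨δ2, hδ2, hG2⟩
      · obtain ⟨δ1, hδ1, hG1⟩ := stepA γ₀ δ₀ hγ₀ hδ₀ h0 _ hx
        have e : γ₀ / (γ₀ / γ) = γ := by field_simp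
        rw [e] at hδ1 hG1
        exact ⟨δ1, hδ1, hG1⟩
    obtain ⟨δ', hδ', hG'⟩ := key
    refine shift γ δ' δ hG' ?_
    rw [map_sub]
    linear_combination hδ - hδ'

end rankone

end Cfsg.Agent.Lib.helper45.SUReg
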