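import Mathlib
import Cfsg.Agent.Lib.helper45.SURegA

/-!
The regular unipotent element `u1 = Q(c,t) * X_{m-1} * ... * X_1` of the antidiagonal-form
special unitary group in odd dimension `n = 2m+1`, its mirror image, and their action on the
standard basis.
-/

set_option autoImplicit false

namespace Cfsg.Agent.Lib.helper45.SUReg

open Matrix Cfsg Cfsg.Agent.Lib.helper47.PSLn Cfsg.Agent.Lib.helper47.UFus
  Cfsg.Agent.Lib.helper47.UGen

variable {n : ℕ} [NeZero n] {K : Type*} [Field K] {σ : K →+* K}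

/-! ### indices -/

theorem eI_eq_iff {i j : ℕ} (hi : i < n) (hj : j < n) : eI n i = eI n j ↔ i = j := by
  constructor
  · intro h
    have := congrArg Fin.val h
    rwa [eI_val hi, eI_val hj] at this
  · intro h; rw [h]

theorem eI_eq_rev_iff {i j : ℕ} (hi : i < n) (hj : j < n) :
    eI n i = Fin.rev (eI n j) ↔ i + j + 1 = n := by
  constructor
  · intro h
    have := congrArg Fin.val h
    rw [Fin.val_rev, eI_val hi, eI_val hj] at this
    omega
  · intro h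
    apply Fin.ext
    rw [Fin.val_rev, eI_val hi, eI_val hj]
    omega

theorem inv_mulVec_of (g : ↥(UG n σ)) {x y : Fin n → K} (h : mt g *ᵥ x = y) :
    mt g⁻¹ *ᵥ y = x := by
  rw [← h, mt_inv_mulVec]

/-! ### root elements on basis vectors -/

theorem xU_ev_other (hF : FF σ) (a j : Fin n) (c : K) (ha : a ≠ Fin.rev a) (hja : j ≠ a)
    (hj : j ≠ Fin.rev j) (x : Fin n) (h1 : x ≠ j) (h2 : x ≠ Fin.rev a) :
    mt (xU hF a j c ha hja hj) *ᵥ (ev x : Fin n → K) = ev x := by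
  rw [xU_mulVec, ev_apply, ev_apply, if_neg (Ne.symm h1), if_neg (Ne.symm h2), mul_zero,
    mul_zero, zero_smul, zero_smul, add_zero, sub_zero]

theorem xU_ev_j (hF : FF σ) (a j : Fin n) (c : K) (ha : a ≠ Fin.rev a) (hja : j ≠ a)
    (hj : j ≠ Fin.rev j) (h2 : j ≠ Fin.rev a) :
    mt (xU hF a j c ha hja hj) *ᵥ (ev j : Fin n → K) = ev j + c • ev a := by
  rw [xU_mulVec, ev_apply, ev_apply, if_pos rfl, if_neg (Ne.symm h2), mul_zero, mul_one,
    zero_smul, sub_zero]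

theorem xU_ev_reva (hF : FF σ) (a j : Fin n) (c : K) (ha : a ≠ Fin.rev a) (hja : j ≠ a)
    (hj : j ≠ Fin.rev j) (h2 : j ≠ Fin.rev a) :
    mt (xU hF a j c ha hja hj) *ᵥ (ev (Fin.rev a) : Fin n → K) =
      ev (Fin.rev a) - σ c • ev (Fin.rev j) := by
  rw [xU_mulVec, ev_apply, ev_apply, if_pos rfl, if_neg h2, mul_zero, mul_one, zero_smul,
    add_zero]

/-! ### the Levi part -/

/-- the root element `e_j ↦ e_j + e_{j-1}` (trivial unless `1 ≤ j < m`) -/
def xL (hF : FF σ) (m : ℕ) (hmn : 2 * m ≤ n) (j : ℕ) : ↥(UG n σ) :=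
  if h : 1 ≤ j ∧ j < m then
    xU hF (eI n (j - 1)) (eI n j) 1 (eI_ne_rev m hmn (by omega))
      (eI_ne m hmn h.2 (by omega) (by omega)) (eI_ne_rev m hmn h.2)
  else 1

theorem xL_other (hF : FF σ) (m : ℕ) (hmn : 2 * m ≤ n) (j : ℕ) (x : Fin n)
    (h1 : x ≠ eI n j) (h2 : x ≠ Fin.rev (eI n (j - 1))) :
    mt (xL hF m hmn j) *ᵥ (ev x : Fin n → K) = ev x := by
  unfold xL
  split_ifs with h
  · exact xU_ev_other hF _ _ 1 _ _ _ x h1 h2
  · rw [mt_one, one_mulVec]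

theorem xL_e (hF : FF σ) (m : ℕ) (hmn : 2 * m ≤ n) (j : ℕ) (h1 : 1 ≤ j) (h2 : j < m) :
    mt (xL hF m hmn j) *ᵥ (ev (eI n j) : Fin n → K) = ev (eI n j) + ev (eI n (j - 1)) := by
  unfold xL
  rw [dif_pos ⟨h1, h2⟩, xU_ev_j hF _ _ 1 _ _ _ (eI_ne_rev' m hmn h2 (by omega)), one_smul]

theorem xL_f (hF : FF σ) (m : ℕ) (hmn : 2 * m ≤ n) (j : ℕ) (h1 : 1 ≤ j) (h2 : j < m) :
    mt (xL hF m hmn j) *ᵥ (ev (Fin.rev (eI n (j - 1))) : Fin n → K) =
      ev (Fin.rev (eI n (j - 1))) - ev (Fin.rev (eI n j)) := by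
  unfold xL
  rw [dif_pos ⟨h1, h2⟩, xU_ev_reva hF _ _ 1 _ _ _ (eI_ne_rev' m hmn h2 (by omega)), map_one,
    one_smul]

/-- the product `X_k * ... * X_1` -/
def LJ (hF : FF σ) (m : ℕ) (hmn : 2 * m ≤ n) : ℕ → ↥(UG n σ)
  | 0 => 1
  | k + 1 => xL hF m hmn (k + 1) * LJ hF m hmn k

theorem LJ_fix (hF : FF σ) (m : ℕ) (hmn : 2 * m ≤ n) (x : Fin n) (k : ℕ)
    (h : ∀ j, 1 ≤ j → j ≤ k → x ≠ eI n j ∧ x ≠ Fin.rev (eI n (j - 1))) :
    mt (LJ hF m hmn k) *ᵥ (ev x : Fin n → K) = ev x := by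
  induction k with
  | zero => show mt (1 : ↥(UG n σ)) *ᵥ _ = _; rw [mt_one, one_mulVec]
  | succ k ih =>
    show mt (xL hF m hmn (k + 1) * LJ hF m hmn k) *ᵥ _ = _
    rw [mt_mul, ← mulVec_mulVec, ih (fun j h1 h2 => h j h1 (by omega)),
      xL_other hF m hmn (k + 1) x (h (k + 1) (by omega) le_rfl).1
        (h (k + 1) (by omega) le_rfl).2]

theorem LJ_e (hF : FF σ) (m : ℕ) (hmn : 2 * m ≤ n) (i k : ℕ) (h1 : 1 ≤ i) (h2 : i ≤ k)
    (h3 : k < m) :
    mt (LJ hF m hmn k) *ᵥ (ev (eI n i) : Fin n → K) = ev (eI n i) + ev (eI n (i - 1)) := by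
  induction k with
  | zero => omega
  | succ k ih =>
    show mt (xL hF m hmn (k + 1) * LJ hF m hmn k) *ᵥ _ = _
    rw [mt_mul, ← mulVec_mulVec]
    by_cases hik : i ≤ k
    · rw [ih hik (by omega), mulVec_add,
        xL_other hF m hmn (k + 1) _ (eI_ne m hmn (by omega) (by omega) (by omega))
          (eI_ne_rev' m hmn (by omega) (by omega)),
        xL_other hF m hmn (k + 1) _ (eI_ne m hmn (by omega) (by omega) (by omega))
          (eI_ne_rev' m hmn (by omega) (by omega))]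
    · have hi : i = k + 1 := by omega
      subst hi
      rw [LJ_fix hF m hmn _ k (fun j hj1 hj2 =>
        ⟨eI_ne m hmn (by omega) (by omega) (by omega),
          eI_ne_rev' m hmn (by omega) (by omega)⟩), xL_e hF m hmn (k + 1) (by omega) h3]

theorem rev_eI_ne (m : ℕ) (hmn : 2 * m ≤ n) {i j : ℕ} (hi : i < m) (hj : j < m) :
    Fin.rev (eI n i) ≠ eI n j := (eI_ne_rev' m hmn hj hi).symm

theorem rev_eI_ne_rev (m : ℕ) (hmn : 2 * m ≤ n) {i j : ℕ} (hi : i < m) (hj : j < m)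
    (hij : i ≠ j) : Fin.rev (eI n i) ≠ Fin.rev (eI n j) :=
  fun h => eI_ne m hmn hi hj hij (Fin.rev_injective h)

theorem LJ_f_fix (hF : FF σ) (m : ℕ) (hmn : 2 * m ≤ n) (i k : ℕ) (h1 : k ≤ i) (h2 : i < m) :
    mt (LJ hF m hmn k) *ᵥ (ev (Fin.rev (eI n i)) : Fin n → K) = ev (Fin.rev (eI n i)) := by
  by_cases hk : k ≤ m
  · exact LJ_fix hF m hmn _ k (fun j hj1 hj2 =>
      ⟨rev_eI_ne m hmn h2 (by omega), rev_eI_ne_rev m hmn h2 (by omega) (by omega)⟩)
  · omega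

theorem LJ_f_inv (hF : FF σ) (m : ℕ) (hmn : 2 * m ≤ n) (i k : ℕ) (h1 : i + 1 ≤ k)
    (h3 : k < m) :
    mt (LJ hF m hmn k)⁻¹ *ᵥ (ev (Fin.rev (eI n i)) : Fin n → K) =
      ev (Fin.rev (eI n i)) + ev (Fin.rev (eI n (i + 1))) := by
  induction k with
  | zero => omega
  | succ k ih =>
    show mt (xL hF m hmn (k + 1) * LJ hF m hmn k)⁻¹ *ᵥ _ = _
    rw [_root_.mul_inv_rev, mt_mul, ← mulVec_mulVec]
    by_cases hik : i + 1 ≤ k
    · rw [inv_mulVec_of _ (xL_other hF m hmn (k + 1) (Fin.rev (eI n i))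
        (rev_eI_ne m hmn (by omega) (by omega))
        (rev_eI_ne_rev m hmn (by omega) (by omega) (by omega))), ih hik (by omega)]
    · have hi : i = k := by omega
      subst hi
      have e1 : mt (xL hF m hmn (i + 1)) *ᵥ ((ev (Fin.rev (eI n i)) : Fin n → K) +
          ev (Fin.rev (eI n (i + 1)))) = ev (Fin.rev (eI n i)) := by
        have := xL_f (σ := σ) (K := K) hF m hmn (i + 1) (by omega) h3
        rw [Nat.add_sub_cancel] at this
        rw [mulVec_add, this, xL_other hF m hmn (i + 1) _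
          (rev_eI_ne m hmn (by omega) (by omega))
          (by rw [Nat.add_sub_cancel]; exact rev_eI_ne_rev m hmn (by omega) (by omega) (by omega))]
        abel
      rw [inv_mulVec_of _ e1, mulVec_add,
        inv_mulVec_of _ (LJ_f_fix hF m hmn i i le_rfl (by omega)),
        inv_mulVec_of _ (LJ_f_fix hF m hmn (i + 1) i (by omega) (by omega))]

end Cfsg.Agent.Lib.helper45.SUReg
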