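import Mathlib
import Cfsg.Agent.Lib.helper45.SURegB

/-!
The regular unipotent element `u1 = Q(c,t) * X_{m-1} * ... * X_1`, its mirror image `u3`, and
the chain and bridge identities.
-/

set_option autoImplicit false

namespace Cfsg.Agent.Lib.helper45.SUReg

open Matrix Cfsg Cfsg.Agent.Lib.helper47.PSLn Cfsg.Agent.Lib.helper47.UFus
  Cfsg.Agent.Lib.helper47.UGen

variable {n : ℕ} [NeZero n] {K : Type*} [Field K] {σ : K →+* K}

theorem mid_rev (m : ℕ) (hn : n = 2 * m + 1) : eI n m = Fin.rev (eI n m) := by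
  apply Fin.ext
  rw [Fin.val_rev, eI_val (by omega)]
  omega

theorem mid_ne (m : ℕ) (hn : n = 2 * m + 1) {j : ℕ} (hj : j < m) : eI n m ≠ eI n j := by
  intro h
  have := congrArg Fin.val h
  rw [eI_val (by omega), eI_val (by omega)] at this
  omega

theorem mid_ne_rev (m : ℕ) (hn : n = 2 * m + 1) {j : ℕ} (hj : j < m) :
    eI n m ≠ Fin.rev (eI n j) := by
  intro h
  have := congrArg Fin.val h
  rw [Fin.val_rev, eI_val (by omega), eI_val (by omega)] at this
  omega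

/-- the element `Q(c,t)` -/
def Qe (hF : FF σ) (m : ℕ) (hn : n = 2 * m + 1) (hm : 1 ≤ m) (c t : K)
    (hval : t + σ t + c * σ c = 0) : ↥(UG n σ) :=
  qU hF (eI n (m - 1)) (Pi.single (eI n m) c) t (eI_ne_rev m (by omega) (by omega))
    (single_ne (mid_ne m hn (by omega)).symm c)
    (by rw [wv_single, ← mid_rev m hn, single_dotProduct, Pi.single_eq_same]; exact hval)

theorem Qe_mulVec (hF : FF σ) (m : ℕ) (hn : n = 2 * m + 1) (hm : 1 ≤ m) (c t : K)
    (hval : t + σ t + c * σ c = 0) (z : Fin n → K) :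
    mt (Qe hF m hn hm c t hval) *ᵥ z =
      z + (c * z (eI n m) + t * z (Fin.rev (eI n (m - 1)))) • (ev (eI n (m - 1)) : Fin n → K) -
        (z (Fin.rev (eI n (m - 1))) * σ c) • ev (eI n m) := by
  unfold Qe
  rw [mt_qU, qM_mulVec, wv_single, ← mid_rev m hn, single_dotProduct, single_eq_smul_ev,
    smul_smul]

theorem Qe_fix (hF : FF σ) (m : ℕ) (hn : n = 2 * m + 1) (hm : 1 ≤ m) (c t : K)
    (hval : t + σ t + c * σ c = 0) (x : Fin n) (h1 : x ≠ eI n m)
    (h2 : x ≠ Fin.rev (eI n (m - 1))) :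
    mt (Qe hF m hn hm c t hval) *ᵥ (ev x : Fin n → K) = ev x := by
  rw [Qe_mulVec, ev_apply, ev_apply, if_neg (Ne.symm h1), if_neg (Ne.symm h2)]
  simp

theorem Qe_mid (hF : FF σ) (m : ℕ) (hn : n = 2 * m + 1) (hm : 1 ≤ m) (c t : K)
    (hval : t + σ t + c * σ c = 0) :
    mt (Qe hF m hn hm c t hval) *ᵥ (ev (eI n m) : Fin n → K) =
      ev (eI n m) + c • ev (eI n (m - 1)) := by
  rw [Qe_mulVec, ev_apply, ev_apply, if_pos rfl,
    if_neg (mid_ne_rev m hn (by omega : m - 1 < m)).symm]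
  simp

theorem Qe_f (hF : FF σ) (m : ℕ) (hn : n = 2 * m + 1) (hm : 1 ≤ m) (c t : K)
    (hval : t + σ t + c * σ c = 0) :
    mt (Qe hF m hn hm c t hval) *ᵥ (ev (Fin.rev (eI n (m - 1))) : Fin n → K) =
      ev (Fin.rev (eI n (m - 1))) + t • ev (eI n (m - 1)) - σ c • ev (eI n m) := by
  rw [Qe_mulVec, ev_apply, ev_apply, if_pos rfl,
    if_neg (mid_ne_rev m hn (by omega : m - 1 < m))]
  simp

/-- the regular unipotent element -/
def u1 (hF : FF σ) (m : ℕ) (hn : n = 2 * m + 1) (hm : 1 ≤ m) (c t : K)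
    (hval : t + σ t + c * σ c = 0) : ↥(UG n σ) :=
  Qe hF m hn hm c t hval * LJ hF m (by omega) (m - 1)

section act

variable (hF : FF σ) (m : ℕ) (hn : n = 2 * m + 1) (hm : 1 ≤ m) (c t : K)
  (hval : t + σ t + c * σ c = 0)

theorem u1_e0 : mt (u1 hF m hn hm c t hval) *ᵥ (ev (eI n 0) : Fin n → K) = ev (eI n 0) := by
  unfold u1
  rw [mt_mul, ← mulVec_mulVec, LJ_fix hF m (by omega) _ (m - 1) (fun j hj1 hj2 =>
    ⟨eI_ne m (by omega) (by omega) (by omega) (by omega),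
      eI_ne_rev' m (by omega) (by omega) (by omega)⟩),
    Qe_fix hF m hn hm c t hval _ (mid_ne m hn (by omega)).symm
      (eI_ne_rev' m (by omega) (by omega) (by omega))]

theorem u1_e (i : ℕ) (h1 : 1 ≤ i) (h2 : i < m) :
    mt (u1 hF m hn hm c t hval) *ᵥ (ev (eI n i) : Fin n → K) =
      ev (eI n i) + ev (eI n (i - 1)) := by
  unfold u1
  rw [mt_mul, ← mulVec_mulVec, LJ_e hF m (by omega) i (m - 1) h1 (by omega) (by omega),
    mulVec_add,
    Qe_fix hF m hn hm c t hval _ (mid_ne m hn (by omega)).symm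
      (eI_ne_rev' m (by omega) (by omega) (by omega)),
    Qe_fix hF m hn hm c t hval _ (mid_ne m hn (by omega)).symm
      (eI_ne_rev' m (by omega) (by omega) (by omega))]

theorem u1_mid :
    mt (u1 hF m hn hm c t hval) *ᵥ (ev (eI n m) : Fin n → K) =
      ev (eI n m) + c • ev (eI n (m - 1)) := by
  unfold u1
  rw [mt_mul, ← mulVec_mulVec, LJ_fix hF m (by omega) _ (m - 1) (fun j hj1 hj2 =>
    ⟨mid_ne m hn (by omega), mid_ne_rev m hn (by omega)⟩), Qe_mid]

theorem u1_f :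
    mt (u1 hF m hn hm c t hval) *ᵥ (ev (Fin.rev (eI n (m - 1))) : Fin n → K) =
      ev (Fin.rev (eI n (m - 1))) + t • ev (eI n (m - 1)) - σ c • ev (eI n m) := by
  unfold u1
  rw [mt_mul, ← mulVec_mulVec, LJ_f_fix hF m (by omega) (m - 1) (m - 1) le_rfl (by omega), Qe_f]

theorem u1_inv_f (i : ℕ) (h : i + 1 < m) :
    mt (u1 hF m hn hm c t hval)⁻¹ *ᵥ (ev (Fin.rev (eI n i)) : Fin n → K) =
      ev (Fin.rev (eI n i)) + ev (Fin.rev (eI n (i + 1))) := by
  unfold u1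
  rw [_root_.mul_inv_rev, mt_mul, ← mulVec_mulVec,
    inv_mulVec_of _ (Qe_fix hF m hn hm c t hval (Fin.rev (eI n i))
      (mid_ne_rev m hn (by omega)).symm
      (rev_eI_ne_rev m (by omega) (by omega) (by omega) (by omega))),
    LJ_f_inv hF m (by omega) i (m - 1) (by omega) (by omega)]

theorem odd_of (m : ℕ) (hn : n = 2 * m + 1) : Odd n := ⟨m, hn⟩

/-- the mirror image of `u1` -/
def u3 : ↥(UG n σ) := mir σ (odd_of m hn) (u1 hF m hn hm c t hval)

theorem mir_ev (hodd : Odd n) (g : ↥(UG n σ)) (x : Fin n) :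
    mt (mir σ hodd g) *ᵥ (ev x : Fin n → K) = (mt g *ᵥ (ev (Fin.rev x) : Fin n → K)) ∘ Fin.rev := by
  rw [mir_mulVec, ev_comp_rev]

theorem u3_f0 :
    mt (u3 hF m hn hm c t hval) *ᵥ (ev (Fin.rev (eI n 0)) : Fin n → K) =
      ev (Fin.rev (eI n 0)) := by
  unfold u3
  rw [mir_ev, Fin.rev_rev, u1_e0, ev_comp_rev]

theorem u3_f (i : ℕ) (h1 : 1 ≤ i) (h2 : i < m) :
    mt (u3 hF m hn hm c t hval) *ᵥ (ev (Fin.rev (eI n i)) : Fin n → K) =
      ev (Fin.rev (eI n i)) + ev (Fin.rev (eI n (i - 1))) := by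
  unfold u3
  rw [mir_ev, Fin.rev_rev, u1_e hF m hn hm c t hval i h1 h2, add_comp_rev, ev_comp_rev,
    ev_comp_rev]

theorem u3_mid :
    mt (u3 hF m hn hm c t hval) *ᵥ (ev (eI n m) : Fin n → K) =
      ev (eI n m) + c • ev (Fin.rev (eI n (m - 1))) := by
  unfold u3
  rw [mir_ev, ← mid_rev m hn, u1_mid, add_comp_rev, smul_comp_rev, ev_comp_rev, ev_comp_rev,
    ← mid_rev m hn]

theorem u3_e :
    mt (u3 hF m hn hm c t hval) *ᵥ (ev (eI n (m - 1)) : Fin n → K) =
      ev (eI n (m - 1)) + t • ev (Fin.rev (eI n (m - 1))) - σ c • ev (eI n m) := by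
  unfold u3
  rw [mir_ev, u1_f, sub_comp_rev, add_comp_rev, smul_comp_rev, smul_comp_rev, ev_comp_rev,
    ev_comp_rev, ev_comp_rev, Fin.rev_rev, ← mid_rev m hn]

theorem u3_inv_e (i : ℕ) (h : i + 1 < m) :
    mt (u3 hF m hn hm c t hval)⁻¹ *ᵥ (ev (eI n i) : Fin n → K) =
      ev (eI n i) + ev (eI n (i + 1)) := by
  unfold u3
  rw [mir_inv, mir_ev, u1_inv_f hF m hn hm c t hval i h, add_comp_rev, ev_comp_rev, ev_comp_rev,
    Fin.rev_rev, Fin.rev_rev]

/-! ### chains -/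

theorem psi_e (i : ℕ) (h : i + 1 < m) :
    mt (u3 hF m hn hm c t hval * u1 hF m hn hm c t hval)⁻¹ *ᵥ (ev (eI n i) : Fin n → K) =
      ev (eI n (i + 1)) := by
  apply inv_mulVec_of
  have e := u1_e hF m hn hm c t hval (i + 1) (by omega) h
  rw [Nat.add_sub_cancel] at e
  rw [mt_mul, ← mulVec_mulVec, e, add_comm, ← u3_inv_e hF m hn hm c t hval i h, mt_mulVec_inv]

theorem phi_f (i : ℕ) (h1 : 1 ≤ i) (h2 : i < m) :
    mt (u1 hF m hn hm c t hval * u3 hF m hn hm c t hval) *ᵥ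
      (ev (Fin.rev (eI n i)) : Fin n → K) = ev (Fin.rev (eI n (i - 1))) := by
  have e := u1_inv_f hF m hn hm c t hval (i - 1) (by omega)
  rw [show i - 1 + 1 = i by omega] at e
  rw [mt_mul, ← mulVec_mulVec, u3_f hF m hn hm c t hval i h1 h2, add_comm, ← e, mt_mulVec_inv]

/-- the bridge vector (a multiple of `z_b`) -/
def yb (σ : K →+* K) (n m : ℕ) [NeZero n] (c t : K) : Fin n → K :=
  t • (ev (Fin.rev (eI n (m - 1))) : Fin n → K) - (σ c * (1 + t)) • ev (eI n m) +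
    (1 - c * σ c + t * t) • ev (eI n (m - 1))

theorem phi_e_aux (hm2 : 2 ≤ m) (j : ℕ) : ∀ i, i + j + 1 = m →
    mt (u1 hF m hn hm c t hval * u3 hF m hn hm c t hval) *ᵥ (ev (eI n i) : Fin n → K) =
      (if i = 0 then 0 else (ev (eI n (i - 1)) : Fin n → K)) + (-1 : K) ^ j • yb σ n m c t := by
  induction j with
  | zero =>
    intro i hi
    have hi' : i = m - 1 := by omega
    subst hi'
    rw [if_neg (by omega), mt_mul, ← mulVec_mulVec, u3_e, mulVec_sub, mulVec_add, mulVec_smul,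
      mulVec_smul, u1_e hF m hn hm c t hval (m - 1) (by omega) (by omega), u1_f, u1_mid, pow_zero,
      one_smul]
    unfold yb
    module
  | succ j ih =>
    intro i hi
    have h3 : mt (u3 hF m hn hm c t hval) *ᵥ (ev (eI n i) : Fin n → K) =
        ev (eI n i) - mt (u3 hF m hn hm c t hval) *ᵥ (ev (eI n (i + 1)) : Fin n → K) := by
      have e := u3_inv_e hF m hn hm c t hval i (by omega)
      have e2 : mt (u3 hF m hn hm c t hval) *ᵥ ((ev (eI n i) : Fin n → K) + ev (eI n (i + 1))) =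
          ev (eI n i) := by rw [← e, mt_mulVec_inv]
      rw [mulVec_add] at e2
      exact eq_sub_of_add_eq e2
    have ih' := ih (i + 1) (by omega)
    rw [if_neg (by omega), Nat.add_sub_cancel, mt_mul, ← mulVec_mulVec] at ih'
    rw [mt_mul, ← mulVec_mulVec, h3, mulVec_sub, ih']
    by_cases hi0 : i = 0
    · subst hi0
      rw [if_pos rfl, u1_e0, pow_succ]
      module
    · rw [if_neg hi0, u1_e hF m hn hm c t hval i (by omega) (by omega), pow_succ]
      module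

theorem phi_e0 (hm2 : 2 ≤ m) :
    mt (u1 hF m hn hm c t hval * u3 hF m hn hm c t hval) *ᵥ (ev (eI n 0) : Fin n → K) =
      (-1 : K) ^ (m - 1) • yb σ n m c t := by
  have := phi_e_aux hF m hn hm c t hval hm2 (m - 1) 0 (by omega)
  rw [if_pos rfl, zero_add] at this
  exact this

theorem phi_u1_e1 (hm2 : 2 ≤ m) :
    mt (u1 hF m hn hm c t hval * u3 hF m hn hm c t hval * u1 hF m hn hm c t hval) *ᵥ
      (ev (eI n 1) : Fin n → K) = ev (eI n 0) := by
  have e := u3_inv_e hF m hn hm c t hval 0 (by omega)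
  rw [mt_mul, mt_mul, ← mulVec_mulVec, ← mulVec_mulVec,
    u1_e hF m hn hm c t hval 1 le_rfl (by omega), add_comm, ← e, mt_mulVec_inv, u1_e0]

end act

end Cfsg.Agent.Lib.helper45.SUReg
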