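import Mathlib
import Cfsg.Agent.Lib.helper45.SURegC

/-!
Auxiliary lemmas for the generation argument: the three-dimensional frame, additivity of
transvection parameters, conjugation of root elements by `u1`.
-/

set_option autoImplicit false

namespace Cfsg.Agent.Lib.helper45.SUReg

open Matrix Cfsg Cfsg.Agent.Lib.helper47.PSLn Cfsg.Agent.Lib.helper47.UFus
  Cfsg.Agent.Lib.helper47.UGen

variable {n : ℕ} {K : Type*} [Field K] {σ : K →+* K}

theorem wv_ev_dot (a b : Fin n) :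
    wv σ (ev a : Fin n → K) ⬝ᵥ ev b = if Fin.rev a = b then 1 else 0 := by
  rw [wv_ev, ev_dot_apply, ev_apply]

/-! ### parameters of transvections -/

theorem goodAt_add (hF : FF σ) {H : Subgroup ↥(UG n σ)} (a : Fin n) (ha : a ≠ Fin.rev a)
    (s s' : K) (hs : s + σ s = 0) (hs' : s' + σ s' = 0)
    (h : GoodAt H (ev a : Fin n → K) s) (h' : GoodAt H (ev a : Fin n → K) s') :
    GoodAt H (ev a : Fin n → K) (s + s') := by
  have hss : (s + s') + σ (s + s') = 0 := by rw [map_add]; linear_combination hs + hs'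
  apply goodAt_of_zU hF a (s + s') ha hss
  rw [← zU_mul hF a s s' ha hs hs' hss]
  exact H.mul_mem (zU_mem hF a s ha hs h) (zU_mem hF a s' ha hs' h')

theorem goodAt_neg (hF : FF σ) {H : Subgroup ↥(UG n σ)} (a : Fin n) (ha : a ≠ Fin.rev a)
    (s : K) (hs : s + σ s = 0) (h : GoodAt H (ev a : Fin n → K) s) :
    GoodAt H (ev a : Fin n → K) (-s) := by
  have hs' : -s + σ (-s) = 0 := by rw [map_neg]; linear_combination -hs
  apply goodAt_of_zU hF a (-s) ha hs'
  have : zU hF a (-s) ha hs' = (zU hF a s ha hs)⁻¹ := by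
    apply mt_inj
    rw [zU_inv_mt, mt_zU']
  rw [this]
  exact H.inv_mem (zU_mem hF a s ha hs h)

theorem goodAt_zero (H : Subgroup ↥(UG n σ)) (u : Fin n → K) : GoodAt H u 0 := by
  intro A hA
  have : A = 1 := by
    apply mt_inj
    rw [hA, mt_one, uM, zero_smul, add_zero]
  rw [this]; exact H.one_mem

theorem mem_conj_uM {H : Subgroup ↥(UG n σ)} {g : ↥(UG n σ)} (hg : g ∈ H) {u : Fin n → K}
    {c : K} (h : Mem H (uM σ u c)) : Mem H (uM σ (mt g *ᵥ u) c) := by
  obtain ⟨A, hA, hAm⟩ := h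
  refine ⟨g * A * g⁻¹, H.mul_mem (H.mul_mem hg hA) (H.inv_mem hg), ?_⟩
  rw [mt_mul, mt_mul, hAm, uM_conj, Matrix.mul_assoc, mt_mul_inv, Matrix.mul_one]

theorem mem_zU (hF : FF σ) {H : Subgroup ↥(UG n σ)} (a : Fin n) (ha : a ≠ Fin.rev a) (s : K)
    (hs : s + σ s = 0) (h : GoodAt H (ev a : Fin n → K) s) : Mem H (uM σ (ev a : Fin n → K) s) :=
  ⟨zU hF a s ha hs, zU_mem hF a s ha hs h, mt_zU hF a s ha hs⟩

/-! ### the three-dimensional frame -/

/-- the vector `x f + y w + z e` -/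
def V3 (a k : Fin n) (x y z : K) : Fin n → K :=
  x • (ev (Fin.rev a) : Fin n → K) + y • ev k + z • ev a

theorem V3_smul (a k : Fin n) (l x y z : K) : l • V3 a k x y z = V3 a k (l * x) (l * y) (l * z) := by
  unfold V3
  rw [smul_add, smul_add, smul_smul, smul_smul, smul_smul]

theorem V3_add (a k : Fin n) (x y z x' y' z' : K) :
    V3 a k x y z + V3 a k x' y' z' = V3 a k (x + x') (y + y') (z + z') := by
  unfold V3
  module

theorem V3_e (a k : Fin n) : (ev a : Fin n → K) = V3 a k 0 0 1 := by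
  unfold V3
  rw [zero_smul, zero_smul, one_smul, zero_add, zero_add]

theorem frame_form (a k : Fin n) (ha : a ≠ Fin.rev a) (hk : k = Fin.rev k) (x y z x' y' z' : K) :
    wv σ (V3 a k x y z) ⬝ᵥ V3 a k x' y' z' = σ x * z' + σ y * y' + σ z * x' := by
  have h1 : k ≠ a := by
    intro h
    apply ha
    rw [← h]; exact hk
  have h2 : k ≠ Fin.rev a := by
    intro h
    apply h1
    rw [hk, h, Fin.rev_rev]
  unfold V3
  rw [wv_add, wv_add, wv_smul, wv_smul, wv_smul, wv_ev, wv_ev, wv_ev, Fin.rev_rev, ← hk]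
  simp only [add_dotProduct, dotProduct_add, smul_dotProduct, dotProduct_smul, ev_dot_apply,
    ev_apply, if_pos, if_neg ha, if_neg (Ne.symm ha), if_neg h1, if_neg (Ne.symm h1), if_neg h2,
    if_neg (Ne.symm h2), smul_eq_mul, mul_zero, mul_one, add_zero, zero_add]
  ring

theorem V3_rev (a k : Fin n) (ha : a ≠ Fin.rev a) (hk : k = Fin.rev k) (x y z : K) :
    V3 a k x y z (Fin.rev a) = x := by
  have h1 : k ≠ a := by
    intro h
    apply ha
    rw [← h]; exact hk
  have h2 : k ≠ Fin.rev a := by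
    intro h
    apply h1
    rw [hk, h, Fin.rev_rev]
  unfold V3
  simp only [Pi.add_apply, Pi.smul_apply, ev_apply, if_pos, if_neg (Ne.symm h2),
    if_neg (Ne.symm ha), smul_eq_mul, mul_zero, mul_one, add_zero]

theorem V3_mid (a k : Fin n) (ha : a ≠ Fin.rev a) (hk : k = Fin.rev k) (x y z : K) :
    V3 a k x y z k = y := by
  have h1 : k ≠ a := by
    intro h
    apply ha
    rw [← h]; exact hk
  have h2 : k ≠ Fin.rev a := by
    intro h
    apply h1
    rw [hk, h, Fin.rev_rev]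
  unfold V3
  simp only [Pi.add_apply, Pi.smul_apply, ev_apply, if_pos, if_neg h2, if_neg h1, smul_eq_mul,
    mul_zero, mul_one, add_zero, zero_add]

theorem V3_other (a k : Fin n) (x y z : K) (j : Fin n) (h1 : j ≠ a) (h2 : j ≠ k)
    (h3 : j ≠ Fin.rev a) : V3 a k x y z j = 0 := by
  unfold V3
  simp only [Pi.add_apply, Pi.smul_apply, ev_apply, if_neg h1, if_neg h2, if_neg h3, smul_eq_mul,
    mul_zero, add_zero]

theorem V3_iso (hF : FF σ) (a k : Fin n) (ha : a ≠ Fin.rev a) (hk : k = Fin.rev k) (x y z : K)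
    (h : σ x * z + σ y * y + σ z * x = 0) : V3 a k x y z ⬝ᵥ wv σ (V3 a k x y z) = 0 := by
  rw [dotProduct_comm, frame_form a k ha hk]
  exact h

/-- all isotropic vectors of the three-dimensional frame are good -/
theorem v3_all (hF : FF σ) {H : Subgroup ↥(UG n σ)} (a k : Fin n) (ha : a ≠ Fin.rev a)
    (hk : k = Fin.rev k) (μ ν : K) (hiso : ν + σ ν + μ * σ μ = 0)
    (hE : Good H (ev a : Fin n → K))
    (hZ : ∀ s, s + σ s = 0 → Mem H (uM σ (V3 a k 1 μ ν) s)) (hz : Good H (V3 a k 1 μ ν))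
    (B₀ α₀ : K) (hB₀ : B₀ ≠ μ) (h0iso : α₀ + σ α₀ + B₀ * σ B₀ = 0)
    (h0 : Good H (V3 a k 1 B₀ α₀)) (B α : K) (hα : α + σ α + B * σ B = 0) :
    Good H (V3 a k 1 B α) := by
  have hdec : ∀ B α : K, V3 a k 1 B α =
      V3 a k 1 μ ν + (B - μ) • V3 a k 0 1 (-σ μ) + (α - ν + (B - μ) * σ μ) • (ev a : Fin n → K) := by
    intro B α
    rw [V3_e a k, V3_smul, V3_smul, V3_add, V3_add]
    congr 1 <;> ring
  have hval : ∀ B α : K, α + σ α + B * σ B = 0 →
      (α - ν + (B - μ) * σ μ) + σ (α - ν + (B - μ) * σ μ) + (B - μ) * σ (B - μ) = 0 := by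
    intro B α h
    simp only [map_add, map_sub, map_mul, hF.inv]
    linear_combination h - hiso
  rw [hdec B α]
  refine rank_one (ev a) (V3 a k 1 μ ν) (V3 a k 0 1 (-σ μ)) hF ?_ ?_ ?_ ?_ ?_ ?_
    (fun s hs => mem_zU hF a ha s hs (hE s)) hZ hz (B₀ - μ) (α₀ - ν + (B₀ - μ) * σ μ)
    (sub_ne_zero.mpr hB₀) (hval B₀ α₀ h0iso) (by rw [← hdec B₀ α₀]; exact h0) _ _ (hval B α hα)
  · rw [wv_ev_dot, if_neg (Ne.symm ha)]
  · rw [V3_e a k, frame_form a k ha hk]; simp
  · rw [V3_e a k, frame_form a k ha hk]; simp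
  · rw [frame_form a k ha hk]
    simp only [map_one, one_mul, mul_one]
    linear_combination hiso
  · rw [V3_e a k, frame_form a k ha hk]; simp
  · rw [frame_form a k ha hk]; simp

end Cfsg.Agent.Lib.helper45.SUReg
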