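import Mathlib
import Cfsg.Agent.Lib.helper45.SURegD

/-!
The generation argument: a subgroup containing `u1`, its mirror image and one transvection
centred at `e_0` is the whole special unitary group.
-/

set_option autoImplicit false

namespace Cfsg.Agent.Lib.helper45.SUReg

open Matrix Cfsg Cfsg.Agent.Lib.helper47.PSLn Cfsg.Agent.Lib.helper47.UFus
  Cfsg.Agent.Lib.helper47.UGen

variable {n : ℕ} {K : Type*} [Field K] {σ : K →+* K}

theorem goodAt_of_mem {H : Subgroup ↥(UG n σ)} {u : Fin n → K} {c : K}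
    (h : Mem H (uM σ u c)) : GoodAt H u c := by
  obtain ⟨A, hA, hAm⟩ := h
  intro A' hA'
  have : A' = A := mt_inj (by rw [hA', hAm])
  rw [this]; exact hA

theorem sM_mul_param (x y : Fin n → K) (a b : K) (hxx : wv σ x ⬝ᵥ x = 0)
    (hxy : wv σ x ⬝ᵥ y = 0) (hyx : wv σ y ⬝ᵥ x = 0) (hyy : wv σ y ⬝ᵥ y = 0) :
    sM σ x y a * sM σ x y b = sM σ x y (a + b) := by
  apply mat_ext_mulVec
  intro z
  rw [← mulVec_mulVec, sM_mulVec, sM_mulVec, sM_mulVec]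
  simp only [dotProduct_add, dotProduct_sub, dotProduct_smul, hxx, hxy, hyx, hyy, smul_eq_mul,
    mul_zero, add_zero, sub_zero, map_add]
  module

theorem sM_desc {H : Subgroup ↥(UG n σ)} (U : ↥(UG n σ)) (hU : U ∈ H) (x y y' : Fin n → K)
    (a : K) (hx : mt U *ᵥ x = x) (hy : mt U *ᵥ y = y + y') (hxx : wv σ x ⬝ᵥ x = 0)
    (hxy' : wv σ x ⬝ᵥ y' = 0) (hyx : wv σ y ⬝ᵥ x = 0) (hyy' : wv σ y ⬝ᵥ y' = 0)
    (h : Mem H (sM σ x y a)) : Mem H (sM σ x y' a) := by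
  obtain ⟨A, hA, hAm⟩ := h
  refine ⟨A⁻¹ * (U * A * U⁻¹),
    H.mul_mem (H.inv_mem hA) (H.mul_mem (H.mul_mem hU hA) (H.inv_mem hU)), ?_⟩
  have e : mt (U * A * U⁻¹) = mt A * sM σ x y' a := by
    rw [mt_mul, mt_mul, hAm, sM_conj, hx, hy, Matrix.mul_assoc, mt_mul_inv, Matrix.mul_one,
      sM_add x y y' a hxx hxy' hyx hyy']
  rw [mt_mul, e, ← Matrix.mul_assoc, mt_inv_mul, Matrix.one_mul]

theorem sM_desc_self {H : Subgroup ↥(UG n σ)} (U : ↥(UG n σ)) (hU : U ∈ H) (x y : Fin n → K)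
    (a : K) (hx : mt U *ᵥ x = x) (hy : mt U *ᵥ y = y + x) (hxx : wv σ x ⬝ᵥ x = 0)
    (hyx : wv σ y ⬝ᵥ x = 0) (h : Mem H (sM σ x y a)) : Mem H (uM σ x (a - σ a)) := by
  obtain ⟨A, hA, hAm⟩ := h
  refine ⟨A⁻¹ * (U * A * U⁻¹),
    H.mul_mem (H.inv_mem hA) (H.mul_mem (H.mul_mem hU hA) (H.inv_mem hU)), ?_⟩
  have e : mt (U * A * U⁻¹) = mt A * uM σ x (a - σ a) := by
    rw [mt_mul, mt_mul, hAm, sM_conj, hx, hy, Matrix.mul_assoc, mt_mul_inv, Matrix.mul_one,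
      sM_add_self x y a hxx hyx]
  rw [mt_mul, e, ← Matrix.mul_assoc, mt_inv_mul, Matrix.one_mul]

theorem root_mem (hF : FF σ) {H : Subgroup ↥(UG n σ)} (a l : Fin n) (ha : a ≠ Fin.rev a)
    (hla : l ≠ a) (hla' : l ≠ Fin.rev a) (hl : l ≠ Fin.rev l) (s μ : K) (hs : s + σ s = 0)
    (hGa : GoodAt H (ev a : Fin n → K) s)
    (hGl : GoodAt H (ev l : Fin n → K) (s * (μ * σ μ)))
    (hP : GoodAt H ((ev a : Fin n → K) + μ • ev l) s) :
    Mem H (sM σ (ev a : Fin n → K) (ev l) (s * σ μ)) :=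
  ⟨_, root_at hF a l ha hla hla' hl s μ hs hGa hGl hP, by rw [mt_xU_sM, Fin.rev_rev]⟩

theorem point_mem (hF : FF σ) {H : Subgroup ↥(UG n σ)} (a l : Fin n) (ha : a ≠ Fin.rev a)
    (hla : l ≠ a) (hla' : l ≠ Fin.rev a) (hl : l ≠ Fin.rev l) (s μ : K) (hs : s + σ s = 0)
    (hGa : GoodAt H (ev a : Fin n → K) s)
    (hGl : GoodAt H (ev l : Fin n → K) (s * (μ * σ μ)))
    (hX : Mem H (sM σ (ev a : Fin n → K) (ev l) (s * σ μ))) :
    GoodAt H ((ev a : Fin n → K) + μ • ev l) s := by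
  obtain ⟨A, hA, hAm⟩ := hX
  refine point_at hF a l ha hla hla' hl s μ hs hGa hGl ?_
  have : A = xU hF a (Fin.rev l) (s * σ μ) ha (fun h => hla' (by rw [← h, Fin.rev_rev]))
      (by rw [Fin.rev_rev]; exact Ne.symm hl) :=
    mt_inj (by rw [hAm, mt_xU_sM, Fin.rev_rev])
  rw [← this]; exact hA

end Cfsg.Agent.Lib.helper45.SUReg
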