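import Mathlib
import Cfsg.Agent.Lib.helper45.SURegE

/-!
The generation theorem: a subgroup containing `u1`, its mirror image and one transvection
centred at `e_0` is the whole special unitary group (abstract form).
-/

set_option autoImplicit false

namespace Cfsg.Agent.Lib.helper45.SUReg

open Matrix Cfsg Cfsg.Agent.Lib.helper47.PSLn Cfsg.Agent.Lib.helper47.UFus
  Cfsg.Agent.Lib.helper47.UGen

variable {n : ℕ} [NeZero n] {K : Type*} [Field K] {σ : K →+* K}

set_option maxHeartbeats 4000000 in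
theorem gen_main [Fintype K] {q : ℕ} (hK : Fintype.card K = q ^ 2) (hσ : ∀ x, σ x = x ^ q)
    (hF : FF σ) (m : ℕ) (hn : n = 2 * m + 1) (hm2 : 2 ≤ m) (c t s₀ τ : K)
    (hval : t + σ t + c * σ c = 0) (hc : c ≠ 0) (ht : t ≠ 0) (hs₀ : s₀ + σ s₀ = 0)
    (hst : s₀ * s₀ * (t * σ t) = -1) (hτdef : τ = (-1) ^ (m - 1) * t * s₀)
    (hτ : ∀ B : Subfield K, τ ∈ B → B = ⊤) (hτσ : σ τ ≠ τ)
    (U1 U3 : ↥(UG n σ))
    (h1e0 : mt U1 *ᵥ (ev (eI n 0) : Fin n → K) = ev (eI n 0))
    (h1e : ∀ i, 1 ≤ i → i < m →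
      mt U1 *ᵥ (ev (eI n i) : Fin n → K) = ev (eI n i) + ev (eI n (i - 1)))
    (hpsi : ∀ i, i + 1 < m → mt (U3 * U1)⁻¹ *ᵥ (ev (eI n i) : Fin n → K) = ev (eI n (i + 1)))
    (hphif : ∀ i, 1 ≤ i → i < m →
      mt (U1 * U3) *ᵥ (ev (Fin.rev (eI n i)) : Fin n → K) = ev (Fin.rev (eI n (i - 1))))
    (hphie : mt (U1 * U3) *ᵥ (ev (eI n 0) : Fin n → K) = (-1 : K) ^ (m - 1) • yb σ n m c t)
    (hphiu : mt (U1 * U3 * U1) *ᵥ (ev (eI n 1) : Fin n → K) = ev (eI n 0))
    (h3e : mt U3 *ᵥ (ev (eI n (m - 1)) : Fin n → K) =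
      ev (eI n (m - 1)) + t • ev (Fin.rev (eI n (m - 1))) - σ c • ev (eI n m))
    (H : Subgroup ↥(UG n σ)) (hU1 : U1 ∈ H) (hU3 : U3 ∈ H)
    (hseed : GoodAt H (ev (eI n 0) : Fin n → K) s₀) : H = ⊤ := by
  classical
  have hmn : 2 * m ≤ n := by omega
  have hnm : n ≤ 2 * m + 1 := by omega
  obtain ⟨a, ha⟩ : ∃ a : Fin n, a = eI n (m - 1) := ⟨_, rfl⟩
  obtain ⟨k, hk⟩ : ∃ k : Fin n, k = eI n m := ⟨_, rfl⟩
  have har : a ≠ Fin.rev a := by rw [ha]; exact eI_ne_rev m hmn (by omega)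
  have hkr : k = Fin.rev k := by rw [hk]; exact mid_rev m hn
  have he0 : eI n 0 ≠ Fin.rev (eI n 0) := eI_ne_rev m hmn (by omega)
  have ha0 : a ≠ eI n 0 := by rw [ha]; exact eI_ne m hmn (by omega) (by omega) (by omega)
  have ha0' : a ≠ Fin.rev (eI n 0) := by rw [ha]; exact eI_ne_rev' m hmn (by omega) (by omega)
  have hσs₀ : σ s₀ = -s₀ := by linear_combination hs₀
  have hs₀0 : s₀ ≠ 0 := by
    rintro rfl
    simp at hst
  have hσt : σ t ≠ 0 := fun h => ht ((map_eq_zero σ).mp h)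
  have hκ : ((-1 : K) ^ (m - 1)) * σ ((-1 : K) ^ (m - 1)) = 1 := by
    rw [map_pow, map_neg, map_one, ← mul_pow]; simp
  have hτ1 : τ * σ τ = 1 := by
    rw [hτdef, map_mul, map_mul, hσs₀]
    linear_combination (-(s₀ * s₀ * (t * σ t))) * hκ - hst
  have hτ0 : τ ≠ 0 := by
    intro h
    rw [h, zero_mul] at hτ1
    exact zero_ne_one hτ1
  have h1e1 : mt U1 *ᵥ (ev (eI n 1) : Fin n → K) = ev (eI n 1) + ev (eI n 0) :=
    h1e 1 le_rfl (by omega)
  obtain ⟨μ, hμ⟩ : ∃ μ : K, μ = -(σ c * (1 + t)) / t := ⟨_, rfl⟩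
  obtain ⟨ν, hν⟩ : ∃ ν : K, ν = (1 - c * σ c + t * t) / t := ⟨_, rfl⟩
  have hyb : yb σ n m c t = t • V3 a k 1 μ ν := by
    have e1 : t * μ = -(σ c * (1 + t)) := by rw [hμ]; field_simp
    have e2 : t * ν = 1 - c * σ c + t * t := by rw [hν]; field_simp
    rw [V3_smul, ha, hk, mul_one, e1, e2]
    unfold yb V3
    module
  have hiso : ν + σ ν + μ * σ μ = 0 := by
    have key : (1 - c * σ c + t * t) * σ t + (1 - c * σ c + σ t * σ t) * t +
        σ c * (1 + t) * (c * (1 + σ t)) = 0 := by linear_combination (1 + t * σ t) * hval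
    rw [hμ, hν]
    simp only [map_div₀, map_add, map_sub, map_mul, map_neg, map_one, hF.inv]
    field_simp
    linear_combination key
  -- the chain along `e`
  have chainE : ∀ s, GoodAt H (ev (eI n 0) : Fin n → K) s → ∀ i, i < m →
      GoodAt H (ev (eI n i) : Fin n → K) s := by
    intro s hs i
    induction i with
    | zero => intro _; exact hs
    | succ i ih =>
      intro hi
      have := (ih (by omega)).act (H.inv_mem (H.mul_mem hU3 hU1))
      rwa [hpsi i hi] at this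
  -- the Weyl element
  have hGa : GoodAt H (ev a : Fin n → K) s₀ := by rw [ha]; exact chainE s₀ hseed (m - 1) (by omega)
  have hMe : Mem H (uM σ (ev a : Fin n → K) s₀) := mem_zU hF a har s₀ hs₀ hGa
  have hMz : Mem H (uM σ (V3 a k 1 μ ν) (t * σ t * s₀)) := by
    have h1 := mem_conj_uM (H.mul_mem hU1 hU3) (mem_zU hF (eI n 0) he0 s₀ hs₀ hseed)
    rw [hphie, hyb, smul_smul, uM_smul] at h1
    have e : (-1 : K) ^ (m - 1) * t * σ ((-1 : K) ^ (m - 1) * t) * s₀ = t * σ t * s₀ := by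
      rw [map_mul]; linear_combination (t * σ t * s₀) * hκ
    rw [e] at h1; exact h1
  have hee : wv σ (ev a : Fin n → K) ⬝ᵥ ev a = 0 := by rw [wv_ev_dot, if_neg (Ne.symm har)]
  have hez : wv σ (ev a : Fin n → K) ⬝ᵥ V3 a k 1 μ ν = 1 := by
    rw [V3_e a k, frame_form a k har hkr]; simp
  have hzz : wv σ (V3 a k 1 μ ν) ⬝ᵥ V3 a k 1 μ ν = 0 := by
    rw [frame_form a k har hkr]
    simp only [map_one, one_mul, mul_one]
    linear_combination hiso
  have hze : wv σ (V3 a k 1 μ ν) ⬝ᵥ (ev a : Fin n → K) = 1 := by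
    rw [V3_e a k, frame_form a k har hkr]; simp
  obtain ⟨N, hN, hNact, hNfix⟩ := weyl_mem (ev a : Fin n → K) (V3 a k 1 μ ν) 0 hee hez
    (dotProduct_zero _) hzz hze (dotProduct_zero _) s₀ (t * σ t * s₀)
    (by linear_combination hst) hMe hMz
  have hh : N * (U1 * U3 * U1) ∈ H := H.mul_mem hN (H.mul_mem (H.mul_mem hU1 hU3) hU1)
  have hh0 : mt (N * (U1 * U3 * U1)) *ᵥ (ev (eI n 0) : Fin n → K) = τ • ev a := by
    have e := hNact 1 0 0
    simp only [one_smul, zero_smul, smul_zero, add_zero, zero_add, mul_zero, mul_one] at e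
    rw [mt_mul, ← mulVec_mulVec, mt_mul, ← mulVec_mulVec, h1e0, hphie, hyb, smul_smul,
      mulVec_smul, e, smul_smul, hτdef]
  have hh1 : mt (N * (U1 * U3 * U1)) *ᵥ (ev (eI n 1) : Fin n → K) = ev (eI n 0) := by
    rw [mt_mul, ← mulVec_mulVec, hphiu]
    apply hNfix
    · rw [wv_ev_dot, if_neg]
      rw [ha]; exact rev_eI_ne m hmn (by omega) (by omega)
    · rw [dot_ev_apply, wv_apply, V3_other, map_zero]
      · rw [ha]; exact rev_eI_ne m hmn (by omega) (by omega)
      · rw [hk]; exact (mid_ne_rev m hn (by omega)).symm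
      · rw [ha]; exact rev_eI_ne_rev m hmn (by omega) (by omega) (by omega)
  -- descent of root elements
  have gram0 : ∀ i j, i < m → j < m →
      wv σ (ev (eI n i) : Fin n → K) ⬝ᵥ ev (eI n j) = 0 := by
    intro i j hi hj
    rw [wv_ev_dot, if_neg (rev_eI_ne m hmn hi hj)]
  have desc : ∀ b : K, Mem H (sM σ (ev (eI n 0) : Fin n → K) (ev a) b) → ∀ j i, i + j + 1 = m →
      1 ≤ i → Mem H (sM σ (ev (eI n 0) : Fin n → K) (ev (eI n i)) b) := by
    intro b hb j
    induction j with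
    | zero =>
      intro i hi _
      have : i = m - 1 := by omega
      subst this
      rw [← ha]; exact hb
    | succ j ih =>
      intro i hi hi1
      have h1 := ih (i + 1) (by omega) (by omega)
      have h2 := h1e (i + 1) (by omega) (by omega)
      rw [Nat.add_sub_cancel] at h2
      exact sM_desc U1 hU1 _ _ _ b h1e0 h2 (gram0 0 0 (by omega) (by omega))
        (gram0 0 i (by omega) (by omega)) (gram0 (i + 1) 0 (by omega) (by omega))
        (gram0 (i + 1) i (by omega) (by omega)) h1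
  have descT : ∀ b : K, Mem H (sM σ (ev (eI n 0) : Fin n → K) (ev (eI n 1)) b) →
      GoodAt H (ev (eI n 0) : Fin n → K) (b - σ b) := by
    intro b hb
    exact goodAt_of_mem (sM_desc_self U1 hU1 _ _ b h1e0 h1e1 (gram0 0 0 (by omega) (by omega))
      (gram0 1 0 (by omega) (by omega)) hb)
  have key4 : ∀ s, s + σ s = 0 → GoodAt H (ev (eI n 0) : Fin n → K) s →
      Mem H (sM σ (ev (eI n 0) : Fin n → K) (ev a) (s * σ τ)) := by
    intro s hs hG
    have hG1 := chainE s hG 1 (by omega)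
    have hG2 := (hG1.act hU1).act hh
    rw [h1e1, mulVec_add, hh1, hh0] at hG2
    have hGa' : GoodAt H (ev a : Fin n → K) (s * (τ * σ τ)) := by
      rw [hτ1, mul_one, ha]; exact chainE s hG (m - 1) (by omega)
    exact root_mem hF (eI n 0) a he0 ha0 ha0' har s τ hs hG hGa' hG2
  have key5 : ∀ s, s + σ s = 0 → GoodAt H (ev (eI n 0) : Fin n → K) s →
      GoodAt H (ev (eI n 0) : Fin n → K) (s * (τ + σ τ)) := by
    intro s hs hG
    have h1 := desc _ (key4 s hs hG) (m - 2) 1 (by omega) le_rfl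
    have h2 := descT _ h1
    have e : s * σ τ - σ (s * σ τ) = s * (τ + σ τ) := by
      have hσs : σ s = -s := by linear_combination hs
      rw [map_mul, hF.inv, hσs]; ring
    rwa [e] at h2
  -- all transvections centred at `e_0`
  have hskew : ∀ d, σ d = d → s₀ * d + σ (s₀ * d) = 0 := by
    intro d hd
    rw [map_mul, hσs₀, hd]; ring
  have hP0 : ∀ d, σ d = d → GoodAt H (ev (eI n 0) : Fin n → K) (s₀ * d) := by
    have hall : ∀ x : K, ∃ d1 d2 : K,
        (σ d1 = d1 ∧ GoodAt H (ev (eI n 0) : Fin n → K) (s₀ * d1)) ∧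
        (σ d2 = d2 ∧ GoodAt H (ev (eI n 0) : Fin n → K) (s₀ * d2)) ∧ x = d1 + d2 * τ := by
      intro x
      refine field_fill (fun x => ∃ d1 d2 : K,
        (σ d1 = d1 ∧ GoodAt H (ev (eI n 0) : Fin n → K) (s₀ * d1)) ∧
        (σ d2 = d2 ∧ GoodAt H (ev (eI n 0) : Fin n → K) (s₀ * d2)) ∧ x = d1 + d2 * τ)
        ?_ ?_ ?_ τ ?_ hτ 1 one_ne_zero ?_ x
      · rintro x y ⟨d1, d2, ⟨h1, g1⟩, ⟨h2, g2⟩, rfl⟩ ⟨d1', d2', ⟨h1', g1'⟩, ⟨h2', g2'⟩, rfl⟩
        refine ⟨d1 + d1', d2 + d2', ⟨by rw [map_add, h1, h1'], ?_⟩,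
          ⟨by rw [map_add, h2, h2'], ?_⟩, by ring⟩
        · rw [mul_add]
          exact goodAt_add hF _ he0 _ _ (hskew d1 h1) (hskew d1' h1') g1 g1'
        · rw [mul_add]
          exact goodAt_add hF _ he0 _ _ (hskew d2 h2) (hskew d2' h2') g2 g2'
      · rintro x ⟨d1, d2, ⟨h1, g1⟩, ⟨h2, g2⟩, rfl⟩
        refine ⟨-d1, -d2, ⟨by rw [map_neg, h1], ?_⟩, ⟨by rw [map_neg, h2], ?_⟩, by ring⟩
        · rw [mul_neg]; exact goodAt_neg hF _ he0 _ (hskew d1 h1) g1
        · rw [mul_neg]; exact goodAt_neg hF _ he0 _ (hskew d2 h2) g2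
      · exact ⟨0, 0, ⟨map_zero σ, by rw [mul_zero]; exact goodAt_zero H _⟩,
          ⟨map_zero σ, by rw [mul_zero]; exact goodAt_zero H _⟩, by ring⟩
      · rintro x ⟨d1, d2, ⟨h1, g1⟩, ⟨h2, g2⟩, rfl⟩
        refine ⟨-d2, d1 + (τ + σ τ) * d2, ⟨by rw [map_neg, h2], ?_⟩, ⟨?_, ?_⟩, ?_⟩
        · rw [mul_neg]; exact goodAt_neg hF _ he0 _ (hskew d2 h2) g2
        · rw [map_add, map_mul, map_add, hF.inv, h1, h2]; ring
        · have g3 := key5 _ (hskew d2 h2) g2
          have e : s₀ * (d1 + (τ + σ τ) * d2) = s₀ * d1 + s₀ * d2 * (τ + σ τ) := by ring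
          rw [e]
          refine goodAt_add hF _ he0 _ _ (hskew d1 h1) ?_ g1 g3
          rw [map_mul, map_mul, map_add, hF.inv, hσs₀, h2]; ring
        · linear_combination (-d2) * hτ1
      · exact ⟨1, 0, ⟨map_one σ, by rw [mul_one]; exact hseed⟩,
          ⟨map_zero σ, by rw [mul_zero]; exact goodAt_zero H _⟩, by ring⟩
    intro d hd
    obtain ⟨d1, d2, ⟨h1, g1⟩, ⟨h2, _⟩, hx⟩ := hall d
    have hd2 : d2 = 0 := by
      have e := congrArg σ hx
      rw [map_add, map_mul, hd, h1, h2] at e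
      have h3 : d2 * (τ - σ τ) = 0 := by linear_combination e - hx
      rcases mul_eq_zero.mp h3 with h4 | h4
      · exact h4
      · exact absurd (sub_eq_zero.mp h4).symm hτσ
    rw [hx, hd2, zero_mul, add_zero]; exact g1
  have hGoodE0 : Good H (ev (eI n 0) : Fin n → K) := by
    apply good_ev_of_skew hF _ he0
    intro s hs
    have hd : σ (s / s₀) = s / s₀ := by
      have hσs : σ s = -s := by linear_combination hs
      rw [map_div₀, hσs, hσs₀, neg_div_neg_eq]
    have := hP0 (s / s₀) hd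
    have e : s₀ * (s / s₀) = s := by field_simp
    rwa [e] at this
  have hGoodE : ∀ i, i < m → Good H (ev (eI n i) : Fin n → K) := by
    intro i hi
    apply good_ev_of_skew hF _ (eI_ne_rev m hmn hi)
    intro s _
    exact chainE s (hGoodE0 s) i hi
  have hGa' : Good H (ev a : Fin n → K) := by rw [ha]; exact hGoodE (m - 1) (by omega)
  -- the root elements for `e_0, e_1`
  have h10 : eI n 1 ≠ eI n 0 := eI_ne m hmn (by omega) (by omega) (by omega)
  have h10' : eI n 1 ≠ Fin.rev (eI n 0) := eI_ne_rev' m hmn (by omega) (by omega)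
  have h1r : eI n 1 ≠ Fin.rev (eI n 1) := eI_ne_rev m hmn (by omega)
  have hX1 : ∀ b : K, Mem H (sM σ (ev (eI n 0) : Fin n → K) (ev (eI n 1)) b) := by
    intro b
    have hd : σ τ - τ ≠ 0 := sub_ne_zero.mpr hτσ
    have hd' : τ - σ τ ≠ 0 := sub_ne_zero.mpr (Ne.symm hτσ)
    obtain ⟨s', hs'⟩ : ∃ s' : K, s' = (b + σ b) / (σ τ - τ) := ⟨_, rfl⟩
    have hσs' : σ s' = -s' := by
      rw [hs']
      simp only [map_div₀, map_add, map_sub, hF.inv]
      rw [show τ - σ τ = -(σ τ - τ) by ring, div_neg, add_comm]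
    have es' : s' * (σ τ - τ) = b + σ b := by
      rw [hs']; field_simp
    obtain ⟨s, hs⟩ : ∃ s : K, s = b - s' * σ τ := ⟨_, rfl⟩
    have hσs : σ s = -s := by
      rw [hs]
      simp only [map_sub, map_mul, hF.inv, hσs']
      linear_combination -es'
    have p1 : Mem H (sM σ (ev (eI n 0) : Fin n → K) (ev (eI n 1)) s) := by
      have hG1 := (hGoodE 1 (by omega) s).act hU1
      rw [h1e1, add_comm] at hG1
      have hG1' : GoodAt H ((ev (eI n 0) : Fin n → K) + (1 : K) • ev (eI n 1)) s := by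
        rw [one_smul]; exact hG1
      have hx := root_mem hF (eI n 0) (eI n 1) he0 h10 h10' h1r s 1 (by rw [hσs]; ring)
        (hGoodE0 s) (by rw [map_one, mul_one, mul_one]; exact hGoodE 1 (by omega) s) hG1'
      rw [map_one, mul_one] at hx
      exact hx
    have p2 : Mem H (sM σ (ev (eI n 0) : Fin n → K) (ev (eI n 1)) (s' * σ τ)) :=
      desc _ (key4 s' (by rw [hσs']; ring) (hGoodE0 s')) (m - 2) 1 (by omega) le_rfl
    obtain ⟨A, hA, hAm⟩ := p1
    obtain ⟨B, hB, hBm⟩ := p2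
    refine ⟨A * B, H.mul_mem hA hB, ?_⟩
    rw [mt_mul, hAm, hBm, sM_mul_param _ _ _ _ (gram0 0 0 (by omega) (by omega))
      (gram0 0 1 (by omega) (by omega)) (gram0 1 0 (by omega) (by omega))
      (gram0 1 1 (by omega) (by omega)), hs]
    congr 1
    ring
  have lineOf : ∀ i, 1 ≤ i → i < m →
      (∀ b : K, Mem H (sM σ (ev (eI n 0) : Fin n → K) (ev (eI n i)) b)) →
      Line H (eI n 0) (eI n i) := by
    intro i hi1 hi hb μ
    have hi0 : eI n i ≠ eI n 0 := eI_ne m hmn hi (by omega) (by omega)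
    have hi0' : eI n i ≠ Fin.rev (eI n 0) := eI_ne_rev' m hmn hi (by omega)
    apply good_line_of_skew hF (eI n 0) (eI n i) he0 hi0 hi0' (eI_ne_rev m hmn hi) μ
    intro s hs
    exact point_mem hF (eI n 0) (eI n i) he0 hi0 hi0' (eI_ne_rev m hmn hi) s μ hs (hGoodE0 s)
      (hGoodE i hi _) (hb _)
  have L01 : Line H (eI n 0) (eI n 1) := lineOf 1 le_rfl (by omega) hX1
  have L0a : Line H (eI n 0) a := by
    intro μ
    have hL10 : Line H (eI n 1) (eI n 0) := L01.symm (hGoodE 1 (by omega))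
    have h1 := (hL10 (μ / τ)).act hh
    rw [mulVec_add, mulVec_smul, hh1, hh0, smul_smul, div_mul_cancel₀ _ hτ0] at h1
    exact h1
  have hXa : ∀ b : K, Mem H (sM σ (ev (eI n 0) : Fin n → K) (ev a) b) := by
    intro b
    exact ⟨_, root_of_line hF (eI n 0) a he0 ha0 ha0' har hGoodE0 hGa' L0a b,
      by rw [mt_xU_sM, Fin.rev_rev]⟩
  have L0 : ∀ i, 1 ≤ i → i < m → Line H (eI n 0) (eI n i) := fun i hi1 hi =>
    lineOf i hi1 hi (fun b => desc b (hXa b) (m - 1 - i) i (by omega) hi1)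
  -- the three-dimensional frame
  have hGz : Good H (V3 a k 1 μ ν) := by
    have h1 := hGoodE0.act (H.mul_mem hU1 hU3)
    rw [hphie, hyb, smul_smul] at h1
    exact Good.of_smul (mul_ne_zero (pow_ne_zero _ (neg_ne_zero.mpr one_ne_zero)) ht) h1
  have hZall : ∀ s, s + σ s = 0 → Mem H (uM σ (V3 a k 1 μ ν) s) := by
    intro s hs
    have hσs : σ s = -s := by linear_combination hs
    have hs'' : s / (t * σ t) + σ (s / (t * σ t)) = 0 := by
      rw [map_div₀, map_mul, hF.inv, hσs]; field_simp; ring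
    have h1 := mem_conj_uM (H.mul_mem hU1 hU3)
      (mem_zU hF (eI n 0) he0 _ hs'' (hGoodE0 _))
    rw [hphie, hyb, smul_smul, uM_smul] at h1
    have e : (-1 : K) ^ (m - 1) * t * σ ((-1 : K) ^ (m - 1) * t) * (s / (t * σ t)) = s := by
      rw [map_mul]
      have e2 : (-1 : K) ^ (m - 1) * t * (σ ((-1 : K) ^ (m - 1)) * σ t) * (s / (t * σ t)) =
          ((-1 : K) ^ (m - 1) * σ ((-1 : K) ^ (m - 1))) * s := by field_simp
      rw [e2, hκ, one_mul]
    rw [e] at h1; exact h1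
  have hG3 : Good H (V3 a k 1 (-σ c / t) (1 / t)) := by
    have h1 := hGa'.act hU3
    rw [ha, h3e] at h1
    have e : (ev (eI n (m - 1)) : Fin n → K) + t • ev (Fin.rev (eI n (m - 1))) -
        σ c • ev (eI n m) = t • V3 a k 1 (-σ c / t) (1 / t) := by
      have e1 : t * (-σ c / t) = -σ c := by field_simp
      have e2 : t * (1 / t) = 1 := by field_simp
      rw [V3_smul, ha, hk, mul_one, e1, e2]
      unfold V3
      module
    rw [e] at h1
    exact Good.of_smul ht h1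
  have hV3 : ∀ B α : K, α + σ α + B * σ B = 0 → Good H (V3 a k 1 B α) := by
    intro B α hα
    refine v3_all hF a k har hkr μ ν hiso hGa' hZall hGz (-σ c / t) (1 / t) ?_ ?_ hG3 B α hα
    · rw [hμ]
      intro h
      have h2 := (div_left_inj' ht).mp h
      have h3 : σ c * t = 0 := by linear_combination h2
      rcases mul_eq_zero.mp h3 with h4 | h4
      · exact hc ((map_eq_zero σ).mp h4)
      · exact ht h4
    · rw [map_div₀, map_div₀, map_neg, map_one, hF.inv]
      field_simp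
      linear_combination hval
  have hGf : Good H (ev (Fin.rev a) : Fin n → K) := by
    have h1 := hV3 0 0 (by simp)
    have e : V3 a k (1 : K) 0 0 = ev (Fin.rev a) := by
      unfold V3
      rw [one_smul, zero_smul, zero_smul, add_zero, add_zero]
    rwa [e] at h1
  have hGoodF : ∀ j i, i + j + 1 = m → Good H (ev (Fin.rev (eI n i)) : Fin n → K) := by
    intro j
    induction j with
    | zero =>
      intro i hi
      have : i = m - 1 := by omega
      subst this
      rw [← ha]; exact hGf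
    | succ j ih =>
      intro i hi
      have h1 := (ih (i + 1) (by omega)).act (H.mul_mem hU1 hU3)
      rw [hphif (i + 1) (by omega) (by omega), Nat.add_sub_cancel] at h1
      exact h1
  have hGoodF' : ∀ i, i < m → Good H (ev (Fin.rev (eI n i)) : Fin n → K) :=
    fun i hi => hGoodF (m - 1 - i) i (by omega)
  -- assembly
  refine top_of_lines hK hσ hF (by omega) (by omega) H (eI n 0) he0 ?_ ?_ ?_
  · intro x hx
    obtain ⟨j, hj, h | h⟩ := hyp_cases m hmn hnm x hx
    · rw [h]; exact hGoodE j hj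
    · rw [h]; exact hGoodF' j hj
  · intro l hl1 hl2 hl3
    obtain ⟨j, hj, h | h⟩ := hyp_cases m hmn hnm l hl3
    · have hj0 : j ≠ 0 := by
        rintro rfl
        exact hl1 h
      have quad := Line.quad hF he0 (eI_ne m hmn hj (by omega) hj0)
        (eI_ne_rev' m hmn hj (by omega)) (eI_ne_rev m hmn hj) hGoodE0 (hGoodF' 0 (by omega))
        (hGoodE j hj) (hGoodF' j hj) (L0 j (by omega) hj)
      rw [h]; exact ⟨L0 j (by omega) hj, quad.2.1⟩
    · have hj0 : j ≠ 0 := by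
        rintro rfl
        exact hl2 h
      have quad := Line.quad hF he0 (eI_ne m hmn hj (by omega) hj0)
        (eI_ne_rev' m hmn hj (by omega)) (eI_ne_rev m hmn hj) hGoodE0 (hGoodF' 0 (by omega))
        (hGoodE j hj) (hGoodF' j hj) (L0 j (by omega) hj)
      rw [h]; exact ⟨quad.1, quad.2.2⟩
  · intro k' hk' B _
    have hkk : k' = k := mid_unique hk' hkr
    obtain ⟨α, hα⟩ := hF.tr (-(B * σ B)) (by rw [map_neg, map_mul, hF.inv]; ring)
    have quadA := Line.quad hF he0 ha0 ha0' har hGoodE0 (hGoodF' 0 (by omega)) hGa' hGf L0a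
    have he0' : Fin.rev (eI n 0) ≠ Fin.rev (Fin.rev (eI n 0)) := by
      rw [Fin.rev_rev]; exact Ne.symm he0
    have hja : Fin.rev a ≠ Fin.rev (eI n 0) := fun h => ha0 (Fin.rev_injective h)
    have hja' : Fin.rev a ≠ Fin.rev (Fin.rev (eI n 0)) := by
      rw [Fin.rev_rev]
      intro h
      exact ha0' (by rw [← h, Fin.rev_rev])
    have hjr : Fin.rev a ≠ Fin.rev (Fin.rev a) := by rw [Fin.rev_rev]; exact Ne.symm har
    have hX : xU hF (Fin.rev (eI n 0)) (Fin.rev a) 1 he0' hja hjr ∈ H :=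
      root_of_line' hF (Fin.rev (eI n 0)) (Fin.rev a) he0' hja hja' hjr (hGoodF' 0 (by omega))
        (by rw [Fin.rev_rev]; exact hGa') (by intro μ; rw [Fin.rev_rev]; exact quadA.2.1 μ) 1
    have hk0 : k ≠ Fin.rev (eI n 0) := by rw [hk]; exact mid_ne_rev m hn (by omega)
    have hk0' : k ≠ eI n 0 := by rw [hk]; exact mid_ne m hn (by omega)
    have hka : k ≠ a := by rw [hk, ha]; exact mid_ne m hn (by omega)
    refine ⟨mt (xU hF (Fin.rev (eI n 0)) (Fin.rev a) 1 he0' hja hjr) *ᵥ V3 a k 1 B α, ?_, ?_, ?_,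
      (hV3 B α (by linear_combination hα)).act hX⟩
    · rw [iso_act]
      exact V3_iso hF a k har hkr 1 B α (by rw [map_one, one_mul, mul_one]; linear_combination hα)
    · rw [xU_mulVec, Fin.rev_rev, Fin.rev_rev, V3_rev a k har hkr,
        V3_other a k 1 B α (eI n 0) (Ne.symm ha0) (Ne.symm hk0')
          (fun h => ha0' (by rw [h, Fin.rev_rev]))]
      simp only [Pi.add_apply, Pi.sub_apply, Pi.smul_apply, ev_apply, if_pos,
        V3_other a k 1 B α (Fin.rev (eI n 0)) (Ne.symm ha0') (Ne.symm hk0)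
          (fun h => ha0 (Fin.rev_injective h).symm), smul_eq_mul, mul_one, mul_zero, zero_mul,
        zero_add, sub_zero]
    · rw [hkk, xU_mulVec, Fin.rev_rev, Fin.rev_rev, V3_rev a k har hkr,
        V3_other a k 1 B α (eI n 0) (Ne.symm ha0) (Ne.symm hk0')
          (fun h => ha0' (by rw [h, Fin.rev_rev]))]
      simp only [Pi.add_apply, Pi.sub_apply, Pi.smul_apply, ev_apply, if_neg hk0, if_neg hka,
        V3_mid a k har hkr, smul_eq_mul, mul_one, mul_zero, zero_mul, add_zero, sub_zero]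

end Cfsg.Agent.Lib.helper45.SUReg
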