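import Mathlib
import Cfsg.Agent.Lib.helper45.SURegF
import Cfsg.Agent.Lib.helper45.SU3Family

/-!
The element `u1` is regular unipotent; the field parameters; three conjugate regular unipotent
generators of the antidiagonal-form special unitary group in odd dimension at least five.
-/

set_option autoImplicit false

namespace Cfsg.Agent.Lib.helper45.SUReg

open Matrix Cfsg Cfsg.Agent.Lib.helper47.PSLn Cfsg.Agent.Lib.helper47.UFus
  Cfsg.Agent.Lib.helper47.UGen

variable {n : ℕ} {K : Type*} [Field K] {σ : K →+* K}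

/-! ### upper unitriangular matrices -/

/-- upper unitriangular matrices -/
def UT (M : Matrix (Fin n) (Fin n) K) : Prop := M.BlockTriangular id ∧ ∀ i, M i i = 1

theorem UT_one : UT (1 : Matrix (Fin n) (Fin n) K) :=
  ⟨Matrix.blockTriangular_one, fun i => Matrix.one_apply_eq i⟩

theorem UT_mul {M N : Matrix (Fin n) (Fin n) K} (hM : UT M) (hN : UT N) : UT (M * N) := by
  refine ⟨hM.1.mul hN.1, fun i => ?_⟩
  rw [Matrix.mul_apply, Finset.sum_eq_single i]
  · rw [hM.2, hN.2, mul_one]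
  · intro b _ hb
    rcases lt_or_gt_of_ne hb with h | h
    · rw [hM.1 (show id b < id i from h), zero_mul]
    · rw [hN.1 (show id i < id b from h), mul_zero]
  · intro h; exact absurd (Finset.mem_univ _) h

theorem UT_nilpotent {M : Matrix (Fin n) (Fin n) K} (hM : UT M) : IsNilpotent (M - 1) := by
  refine ⟨n, ?_⟩
  have h := Matrix.aeval_self_charpoly M
  rw [Matrix.charpoly_of_isUpperTriangular M hM.1] at h
  simp only [hM.2, Finset.prod_const, Finset.card_univ, Fintype.card_fin, map_pow, map_sub,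
    Polynomial.aeval_X, map_one] at h
  exact h

theorem UT_qM (a : Fin n) (v : Fin n → K) (t : K) (ha : a < Fin.rev a)
    (hv : ∀ x, x ≤ a → v x = 0) : UT (qM σ a v t) := by
  have hne : a ≠ Fin.rev a := ne_of_lt ha
  have e : ∀ i j, qM σ a v t i j = (1 : Matrix (Fin n) (Fin n) K) i j +
      (ev a : Fin n → K) i * v j - wv σ v i * (ev (Fin.rev a) : Fin n → K) j +
      t * ((ev a : Fin n → K) i * (ev (Fin.rev a) : Fin n → K) j) := by
    intro i j
    unfold qM
    simp only [Matrix.add_apply, Matrix.sub_apply, Matrix.smul_apply, vecMulVec_apply,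
      smul_eq_mul]
  refine ⟨fun i j hij => ?_, fun i => ?_⟩
  · have hij' : j < i := hij
    rw [e, Matrix.one_apply_ne (ne_of_gt hij'), ev_apply, ev_apply, wv_apply]
    by_cases h1 : i = a
    · have hj : v j = 0 := hv j (by rw [← h1]; exact le_of_lt hij')
      have h2 : j ≠ Fin.rev a := by
        intro h
        rw [h, h1] at hij'
        exact absurd hij' (not_lt.mpr (le_of_lt ha))
      rw [hj, if_neg h2]
      simp
    · rw [if_neg h1]
      by_cases h2 : j = Fin.rev a
      · have h3 : Fin.rev i < a := by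
          rw [h2] at hij'
          have := Fin.rev_lt_rev.mpr hij'
          rwa [Fin.rev_rev] at this
        rw [hv _ (le_of_lt h3)]
        simp
      · rw [if_neg h2]
        simp
  · rw [e, Matrix.one_apply_eq, ev_apply, ev_apply, wv_apply]
    by_cases h1 : i = a
    · rw [h1, hv a le_rfl, if_neg hne]
      simp
    · rw [if_neg h1]
      by_cases h2 : i = Fin.rev a
      · rw [h2, Fin.rev_rev, hv a le_rfl]
        simp
      · rw [if_neg h2]
        simp

section reg

variable [NeZero n]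

theorem eI_lt {i j : ℕ} (hij : i < j) (hj : j < n) : eI n i < eI n j := by
  rw [Fin.lt_def, eI_val (by omega), eI_val hj]
  exact hij

theorem eI_lt_rev (m : ℕ) (hmn : 2 * m ≤ n) {i : ℕ} (hi : i < m) : eI n i < Fin.rev (eI n i) := by
  rw [Fin.lt_def, Fin.val_rev, eI_val (by omega)]
  omega

theorem UT_xL (hF : FF σ) (m : ℕ) (hmn : 2 * m ≤ n) (j : ℕ) : UT (mt (xL hF m hmn j)) := by
  unfold xL
  split_ifs with h
  · rw [mt_xU]
    apply UT_qM _ _ _ (eI_lt_rev m hmn (by omega))
    intro x hx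
    apply single_ne
    intro hxe
    rw [hxe] at hx
    exact absurd (eI_lt (by omega : j - 1 < j) (by omega)) (not_lt.mpr hx)
  · rw [mt_one]; exact UT_one

theorem UT_LJ (hF : FF σ) (m : ℕ) (hmn : 2 * m ≤ n) (k : ℕ) : UT (mt (LJ hF m hmn k)) := by
  induction k with
  | zero => show UT (mt (1 : ↥(UG n σ))); rw [mt_one]; exact UT_one
  | succ k ih =>
    show UT (mt (xL hF m hmn (k + 1) * LJ hF m hmn k))
    rw [mt_mul]
    exact UT_mul (UT_xL hF m hmn (k + 1)) ih

theorem UT_u1 (hF : FF σ) (m : ℕ) (hn : n = 2 * m + 1) (hm : 1 ≤ m) (c t : K)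
    (hval : t + σ t + c * σ c = 0) : UT (mt (u1 hF m hn hm c t hval)) := by
  unfold u1
  rw [mt_mul]
  refine UT_mul ?_ (UT_LJ hF m (by omega) (m - 1))
  unfold Qe
  rw [mt_qU]
  apply UT_qM _ _ _ (eI_lt_rev m (by omega) (by omega))
  intro x hx
  apply single_ne
  intro hxe
  rw [hxe] at hx
  exact absurd (eI_lt (by omega : m - 1 < m) (by omega)) (not_lt.mpr hx)

theorem u1_nilpotent (hF : FF σ) (m : ℕ) (hn : n = 2 * m + 1) (hm : 1 ≤ m) (c t : K)
    (hval : t + σ t + c * σ c = 0) : IsNilpotent (mt (u1 hF m hn hm c t hval) - 1) :=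
  UT_nilpotent (UT_u1 hF m hn hm c t hval)

theorem u1_regular (hF : FF σ) (m : ℕ) (hn : n = 2 * m + 1) (hm2 : 2 ≤ m) (c t : K)
    (hval : t + σ t + c * σ c = 0) (hc : c ≠ 0) :
    (mt (u1 hF m hn (by omega) c t hval) - 1) ^ (n - 1) ≠ 0 := by
  have hm : 1 ≤ m := by omega
  obtain ⟨U, hU⟩ : ∃ U, U = u1 hF m hn hm c t hval := ⟨_, rfl⟩
  rw [← hU]
  obtain ⟨A, hA⟩ : ∃ A, A = mt U := ⟨_, rfl⟩
  rw [← hA]
  have hN : ∀ z : Fin n → K, (A - 1) *ᵥ z = A *ᵥ z - z := by
    intro z
    rw [sub_mulVec, one_mulVec]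
  have hpow : ∀ (j : ℕ) (z : Fin n → K), (A - 1) ^ (j + 1) *ᵥ z = (A - 1) *ᵥ ((A - 1) ^ j *ᵥ z) := by
    intro j z
    rw [pow_succ', mulVec_mulVec]
  have hcomm : ∀ j : ℕ, Commute (A - 1) (A ^ j) :=
    fun j => (((Commute.refl A).sub_left (Commute.one_left A))).pow_right j
  -- action of `N` on the basis
  have Ne0 : (A - 1) *ᵥ (ev (eI n 0) : Fin n → K) = 0 := by
    rw [hN, hA, hU, u1_e0, sub_self]
  have Ne : ∀ i, 1 ≤ i → i < m → (A - 1) *ᵥ (ev (eI n i) : Fin n → K) = ev (eI n (i - 1)) := by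
    intro i h1 h2
    rw [hN, hA, hU, u1_e hF m hn hm c t hval i h1 h2, add_sub_cancel_left]
  have Nmid : (A - 1) *ᵥ (ev (eI n m) : Fin n → K) = c • ev (eI n (m - 1)) := by
    rw [hN, hA, hU, u1_mid, add_sub_cancel_left]
  have Nf : (A - 1) *ᵥ (ev (Fin.rev (eI n (m - 1))) : Fin n → K) =
      t • ev (eI n (m - 1)) - σ c • ev (eI n m) := by
    rw [hN, hA, hU, u1_f]
    abel
  -- `N ^ j f_0 = (-1) ^ j A ^ j f_j`
  have step1 : ∀ j, j < m → (A - 1) ^ j *ᵥ (ev (Fin.rev (eI n 0)) : Fin n → K) =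
      (-1 : K) ^ j • (A ^ j *ᵥ (ev (Fin.rev (eI n j)) : Fin n → K)) := by
    intro j
    induction j with
    | zero => intro _; simp
    | succ j ih =>
      intro hj
      have e1 : (A - 1) *ᵥ (ev (Fin.rev (eI n j)) : Fin n → K) =
          -(A *ᵥ (ev (Fin.rev (eI n (j + 1))) : Fin n → K)) := by
        have h1 := u1_inv_f hF m hn hm c t hval j hj
        have h2 : A *ᵥ ((ev (Fin.rev (eI n j)) : Fin n → K) + ev (Fin.rev (eI n (j + 1)))) =
            ev (Fin.rev (eI n j)) := by
          rw [hA, hU, ← h1, mt_mulVec_inv]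
        rw [mulVec_add] at h2
        rw [hN]
        have h3 := eq_sub_of_add_eq h2
        rw [h3]
        abel
      rw [hpow, ih (by omega), mulVec_smul, mulVec_mulVec, (hcomm j).eq, ← mulVec_mulVec, e1,
        mulVec_neg, pow_succ, pow_succ, ← mulVec_mulVec]
      module
  -- `N ^ (j + 2) f_{m-1}`
  have step2 : ∀ j i, i + j + 2 = m → (A - 1) ^ (j + 2) *ᵥ
      (ev (Fin.rev (eI n (m - 1))) : Fin n → K) =
        -(c * σ c) • (ev (eI n (i + 1)) : Fin n → K) + t • ev (eI n i) := by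
    intro j
    induction j with
    | zero =>
      intro i hi
      have e2 := Ne (m - 1) (by omega) (by omega)
      rw [show m - 1 - 1 = i by omega] at e2
      rw [hpow, hpow, pow_zero, one_mulVec, Nf, mulVec_sub, mulVec_smul, mulVec_smul, Nmid, e2,
        show m - 1 = i + 1 by omega]
      module
    | succ j ih =>
      intro i hi
      have e1 := Ne (i + 2) (by omega) (by omega)
      have e2 := Ne (i + 1) (by omega) (by omega)
      rw [show i + 2 - 1 = i + 1 by omega] at e1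
      rw [Nat.add_sub_cancel] at e2
      rw [hpow, ih (i + 1) (by omega), mulVec_add, mulVec_smul, mulVec_smul, e1, e2]
  have step3 : (A - 1) ^ (m + 1) *ᵥ (ev (Fin.rev (eI n (m - 1))) : Fin n → K) =
      -(c * σ c) • (ev (eI n 0) : Fin n → K) := by
    have h1 := step2 (m - 2) 0 (by omega)
    have e2 := Ne 1 le_rfl (by omega)
    rw [show m + 1 = (m - 2 + 2) + 1 by omega, hpow, h1, mulVec_add, mulVec_smul, mulVec_smul,
      e2, Ne0, smul_zero, add_zero]
  have hAe0 : ∀ j : ℕ, A ^ j *ᵥ (ev (eI n 0) : Fin n → K) = ev (eI n 0) := by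
    intro j
    induction j with
    | zero => rw [pow_zero, one_mulVec]
    | succ j ih => rw [pow_succ, ← mulVec_mulVec, hA, hU, u1_e0, ← hU, ← hA, ih]
  intro h0
  have h1 : (A - 1) ^ (n - 1) *ᵥ (ev (Fin.rev (eI n 0)) : Fin n → K) = 0 := by
    rw [h0, zero_mulVec]
  rw [show n - 1 = (m + 1) + (m - 1) by omega, pow_add, ← mulVec_mulVec, step1 (m - 1) (by omega),
    mulVec_smul, mulVec_mulVec, ((hcomm (m - 1)).pow_left (m + 1)).eq, ← mulVec_mulVec, step3,
    mulVec_smul, hAe0, smul_smul] at h1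
  have h2 := congrFun h1 (eI n 0)
  rw [Pi.smul_apply, ev_apply, if_pos rfl, smul_eq_mul, mul_one, Pi.zero_apply] at h2
  rcases mul_eq_zero.mp h2 with h3 | h3
  · exact absurd h3 (pow_ne_zero _ (neg_ne_zero.mpr one_ne_zero))
  · have h4 : c * σ c = 0 := neg_eq_zero.mp h3
    rcases mul_eq_zero.mp h4 with h5 | h5
    · exact hc h5
    · exact hc ((map_eq_zero σ).mp h5)

end reg

end Cfsg.Agent.Lib.helper45.SUReg
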