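import Mathlib
import Cfsg.Agent.Lib.helper45.SURegG

/-!
The field parameters, and three conjugate regular unipotent generators of the antidiagonal-form
special unitary group in odd dimension at least five.
-/

set_option autoImplicit false

namespace Cfsg.Agent.Lib.helper45.SUReg

open Matrix Cfsg Cfsg.Agent.Lib.helper47.PSLn Cfsg.Agent.Lib.helper47.UFus
  Cfsg.Agent.Lib.helper47.UGen

variable {n : ℕ} {K : Type*} [Field K] {σ : K →+* K}

theorem exists_params [Fintype K] {q : ℕ} (hK : Fintype.card K = q ^ 2) (hσ : ∀ x, σ x = x ^ q)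
    (hF : FF σ) :
    ∃ c t s₀ : K, t + σ t + c * σ c = 0 ∧ c ≠ 0 ∧ t ≠ 0 ∧ s₀ + σ s₀ = 0 ∧
      s₀ * s₀ * (t * σ t) = -1 ∧
      ∀ κ : K, (κ = 1 ∨ κ = -1) → (∀ B : Subfield K, κ * t * s₀ ∈ B → B = ⊤) ∧
        σ (κ * t * s₀) ≠ κ * t * s₀ := by
  classical
  have hq2 : 2 ≤ q := by
    have h1 : 1 < Fintype.card K := Fintype.one_lt_card
    rw [hK] at h1
    by_contra h
    have h2 : q ≤ 1 := by omega
    interval_cases q <;> simp at h1
  obtain ⟨γ, -, -, hγ⟩ := exists_gen_unit hK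
  obtain ⟨Λ, hΛ⟩ : ∃ Λ : K, Λ = (γ : K) ^ (q - 1) := ⟨_, rfl⟩
  have hΛ0 : Λ ≠ 0 := by rw [hΛ]; exact pow_ne_zero _ γ.ne_zero
  have hΛσ : Λ * σ Λ = 1 := by
    rw [hσ, hΛ, ← pow_mul, ← pow_add]
    have e : q - 1 + (q - 1) * q = q ^ 2 - 1 := by
      obtain ⟨r, rfl⟩ : ∃ r, q = r + 1 := ⟨q - 1, by omega⟩
      simp only [Nat.add_sub_cancel]
      have e' : (r + 1) ^ 2 = r + r * (r + 1) + 1 := by ring
      rw [e', Nat.add_sub_cancel]
    rw [e, ← hK]
    exact FiniteField.pow_card_sub_one_eq_one _ γ.ne_zero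
  have hΛ2 : Λ * Λ ≠ 1 := by
    rw [hΛ, ← pow_add]
    apply hγ
    · omega
    · obtain ⟨r, rfl⟩ : ∃ r, q = r + 2 := ⟨q - 2, by omega⟩
      have e' : (r + 2) ^ 2 = r * r + 4 * r + 4 := by ring
      rw [e']
      omega
  obtain ⟨ε, hε⟩ : ∃ ε : K, ε = Λ - σ Λ := ⟨_, rfl⟩
  have hσε : σ ε = -ε := by rw [hε, map_sub, hF.inv]; ring
  have hε0 : ε ≠ 0 := by
    intro h
    rw [hε, sub_eq_zero] at h
    apply hΛ2
    have e : Λ * Λ = Λ * σ Λ := by rw [← h]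
    rw [e]
    exact hΛσ
  obtain ⟨c, hc⟩ := hF.nm (ε * ε) (by rw [map_mul, hσε]; ring)
  refine ⟨c, -(ε * Λ), ε⁻¹, ?_, ?_, ?_, ?_, ?_, ?_⟩
  · rw [hc, map_neg, map_mul, hσε, hε]
    ring
  · rintro rfl
    rw [zero_mul] at hc
    exact hε0 (mul_self_eq_zero.mp hc.symm)
  · exact neg_ne_zero.mpr (mul_ne_zero hε0 hΛ0)
  · rw [map_inv₀, hσε, inv_neg, add_neg_cancel]
  · rw [map_neg, map_mul, hσε]
    have e : ε⁻¹ * ε⁻¹ * (-(ε * Λ) * -(-ε * σ Λ)) = -((ε⁻¹ * ε) * (ε⁻¹ * ε) * (Λ * σ Λ)) := by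
      ring
    rw [e, inv_mul_cancel₀ hε0, hΛσ]
    ring
  · intro κ hκ
    have hτ : κ * -(ε * Λ) * ε⁻¹ = -κ * Λ := by
      have e : κ * -(ε * Λ) * ε⁻¹ = -κ * Λ * (ε * ε⁻¹) := by ring
      rw [e, mul_inv_cancel₀ hε0, mul_one]
    rw [hτ]
    constructor
    · intro B hB
      have hΛB : Λ ∈ B := by
        rcases hκ with rfl | rfl
        · have := B.neg_mem hB
          simpa using this
        · simpa using hB
      by_contra hne
      obtain ⟨m', k', hm2, hk2, hcard, hpow⟩ :=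
        Cfsg.Agent.Lib.helper45.subfield_card_pow B hne
      have h1 := hpow Λ hΛB
      have h2 : Λ ^ (m' - 1) = 1 := by
        have h3 : Λ ^ (m' - 1) * Λ = 1 * Λ := by
          rw [← pow_succ, Nat.sub_add_cancel (by omega), h1, one_mul]
        exact mul_right_cancel₀ hΛ0 h3
      rw [hΛ, ← pow_mul] at h2
      refine hγ _ ?_ ?_ h2
      · exact Nat.mul_pos (by omega) (by omega)
      · have hmq : m' ≤ q := by
          rw [hK] at hcard
          by_contra hlt'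
          have hlt : q < m' := not_le.mp hlt'
          have h4 : q ^ 2 < m' ^ k' :=
            calc q ^ 2 < m' ^ 2 := Nat.pow_lt_pow_left hlt (by norm_num)
              _ ≤ m' ^ k' := Nat.pow_le_pow_right (by omega) hk2
          omega
        obtain ⟨r, rfl⟩ : ∃ r, q = r + 1 := ⟨q - 1, by omega⟩
        have h5 : (r + 1) ^ 2 - 1 = r * (r + 2) := by
          have e' : (r + 1) ^ 2 = r * (r + 2) + 1 := by ring
          rw [e', Nat.add_sub_cancel]
        rw [h5, Nat.add_sub_cancel]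
        exact Nat.mul_lt_mul_of_pos_left (by omega) (by omega)
    · intro h
      have hσκ : σ κ = κ := by rcases hκ with rfl | rfl <;> simp
      have hκ0 : κ ≠ 0 := by rcases hκ with rfl | rfl <;> simp
      rw [map_mul, map_neg, hσκ] at h
      apply hε0
      rw [hε]
      have h' : -κ * (σ Λ - Λ) = 0 := by linear_combination h
      rcases mul_eq_zero.mp h' with h1 | h1
      · exact absurd (neg_eq_zero.mp h1) hκ0
      · linear_combination -h1

/-- a solution of `a - σ a = s` for skew `s` -/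
theorem exists_skew_split (hF : FF σ) (s : K) (hs : s + σ s = 0) : ∃ a : K, a - σ a = s := by
  obtain ⟨ε, hε0, hε⟩ := hF.eps
  have hσε : σ ε = -ε := by linear_combination hε
  have hσs : σ s = -s := by linear_combination hs
  obtain ⟨y, hy⟩ := hF.tr (s * ε⁻¹) (by rw [map_mul, map_inv₀, hσε, hσs, inv_neg]; ring)
  refine ⟨ε * y, ?_⟩
  rw [map_mul, hσε]
  have e : ε * y - -ε * σ y = ε * (y + σ y) := by ring
  rw [e, hy, mul_comm, mul_assoc, inv_mul_cancel₀ hε0, mul_one]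

theorem exists_three_UG [NeZero n] [Fintype K] {q : ℕ} (hK : Fintype.card K = q ^ 2)
    (hσ : ∀ x, σ x = x ^ q) (hF : FF σ) (m : ℕ) (hn : n = 2 * m + 1) (hm2 : 2 ≤ m) :
    ∃ u g h : ↥(UG n σ), IsNilpotent (mt u - 1) ∧ (mt u - 1) ^ (n - 1) ≠ 0 ∧
      Subgroup.closure {u, g * u * g⁻¹, h * u * h⁻¹} = ⊤ := by
  classical
  have hm : 1 ≤ m := by omega
  have hmn : 2 * m ≤ n := by omega
  obtain ⟨c, t, s₀, hval, hc, ht, hs₀, hst, hκ⟩ := exists_params hK hσ hF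
  obtain ⟨a', ha'⟩ := exists_skew_split hF s₀ hs₀
  have he0 : eI n 0 ≠ Fin.rev (eI n 0) := eI_ne_rev m hmn (by omega)
  have h10 : Fin.rev (eI n 1) ≠ eI n 0 := rev_eI_ne m hmn (by omega) (by omega)
  have h11 : Fin.rev (eI n 1) ≠ Fin.rev (Fin.rev (eI n 1)) := by
    rw [Fin.rev_rev]
    exact (eI_ne_rev m hmn (by omega)).symm
  obtain ⟨U1, hU1⟩ : ∃ U1, U1 = u1 hF m hn hm c t hval := ⟨_, rfl⟩
  obtain ⟨X, hX⟩ : ∃ X, X = xU hF (eI n 0) (Fin.rev (eI n 1)) a' he0 h10 h11 := ⟨_, rfl⟩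
  obtain ⟨Z, hZ⟩ : ∃ Z, Z = zU hF (eI n 0) s₀ he0 hs₀ := ⟨_, rfl⟩
  have hmX : mt X = sM σ (ev (eI n 0)) (ev (eI n 1)) a' := by
    rw [hX, mt_xU_sM, Fin.rev_rev]
  have hconj : U1 * X = X * Z * U1 := by
    apply mt_inj
    rw [mt_mul, mt_mul, mt_mul, hmX, sM_conj, hU1, u1_e0,
      u1_e hF m hn hm c t hval 1 le_rfl (by omega), Nat.sub_self,
      sM_add_self _ _ _ (by rw [wv_ev_dot, if_neg (Ne.symm he0)])
        (by rw [wv_ev_dot, if_neg h10]), ha', hZ, mt_zU]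
  have hZeq : Z = X⁻¹ * U1 * X⁻¹⁻¹ * U1⁻¹ := by
    rw [inv_inv, mul_assoc X⁻¹, hconj]
    group
  refine ⟨U1, X⁻¹, flipU σ (odd_of m hn), ?_, ?_, ?_⟩
  · rw [hU1]
    exact u1_nilpotent hF m hn hm c t hval
  · rw [hU1]
    exact u1_regular hF m hn hm2 c t hval hc
  · obtain ⟨H, hH⟩ : ∃ H : Subgroup ↥(UG n σ), H = Subgroup.closure
        {U1, X⁻¹ * U1 * X⁻¹⁻¹, flipU σ (odd_of m hn) * U1 * (flipU σ (odd_of m hn))⁻¹} :=
      ⟨_, rfl⟩
    rw [← hH]
    have hm1 : U1 ∈ H := by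
      rw [hH]
      exact Subgroup.subset_closure (Set.mem_insert _ _)
    have hm2' : X⁻¹ * U1 * X⁻¹⁻¹ ∈ H := by
      rw [hH]
      exact Subgroup.subset_closure (Set.mem_insert_of_mem _ (Set.mem_insert _ _))
    have hm3 : u3 hF m hn hm c t hval ∈ H := by
      rw [hH]
      refine Subgroup.subset_closure (Set.mem_insert_of_mem _ (Set.mem_insert_of_mem _ ?_))
      rw [hU1]
      rfl
    have hZH : Z ∈ H := by
      rw [hZeq]
      exact H.mul_mem hm2' (H.inv_mem hm1)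
    have hseed : GoodAt H (ev (eI n 0) : Fin n → K) s₀ := by
      apply goodAt_of_zU hF (eI n 0) s₀ he0 hs₀
      rw [← hZ]
      exact hZH
    obtain ⟨hτB, hτσ⟩ := hκ ((-1) ^ (m - 1)) (neg_one_pow_eq_or K (m - 1))
    rw [hU1] at hm1
    exact gen_main hK hσ hF m hn hm2 c t s₀ _ hval hc ht hs₀ hst rfl hτB hτσ
      (u1 hF m hn hm c t hval) (u3 hF m hn hm c t hval)
      (u1_e0 hF m hn hm c t hval) (u1_e hF m hn hm c t hval)
      (psi_e hF m hn hm c t hval) (phi_f hF m hn hm c t hval)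
      (phi_e0 hF m hn hm c t hval hm2) (phi_u1_e1 hF m hn hm c t hval hm2)
      (u3_e hF m hn hm c t hval) H hm1 hm3 hseed

end Cfsg.Agent.Lib.helper45.SUReg
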