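import Mathlib
import Cfsg.Agent.Lib.helper45.SUSemisimple
import Cfsg.Agent.Lib.helper45.SemisimpleExist
import Cfsg.Agent.Lib.helper45.SemisimpleCount

/-! The number of semisimple classes of `SU_n(q)` is `q^(n-1)`. -/

set_option autoImplicit false

namespace Cfsg.Agent.Lib.helper45

open Polynomial Cfsg Cfsg.Agent.Lib.helper48

section fixed

variable {F : Type*} [Field F] [Fintype F] {q : ℕ}

/-- The fixed points of an additive, `σ`-semilinear involution of `F^ι`, `|F| = q²`, number `q^|ι|`. -/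
theorem card_fixed_semilinear (hF : Fintype.card F = q ^ 2) (σ : F →+* F)
    (hne : σ ≠ RingHom.id F) (hσ2 : ∀ a, σ (σ a) = a) {ι : Type*} [Fintype ι]
    (Φ : (ι → F) →+ (ι → F)) (hΦ : ∀ (t : F) (c : ι → F), Φ (t • c) = σ t • Φ c)
    (hΦ2 : ∀ c, Φ (Φ c) = c) :
    Nat.card {c : ι → F // Φ c = c} = q ^ Fintype.card ι := by
  classical
  obtain ⟨θ₀, hθ₀⟩ : ∃ θ₀ : F, σ θ₀ ≠ θ₀ := by
    by_contra hcon
    push Not at hcon
    exact hne (RingHom.ext hcon)
  obtain ⟨θ, hθdef⟩ : ∃ θ, θ = θ₀ - σ θ₀ := ⟨_, rfl⟩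
  have hθ0 : θ ≠ 0 := by rw [hθdef]; exact sub_ne_zero.mpr (Ne.symm hθ₀)
  have hθ : σ θ = -θ := by rw [hθdef, map_sub, hσ2]; ring
  obtain ⟨t, ht⟩ := Cfsg.Agent.Lib.helper17.trace_surj σ hne hσ2 1 (map_one σ)
  let N : (ι → F) →+ (ι → F) := AddMonoidHom.id _ + Φ
  have hN : ∀ c, N c = c + Φ c := fun c => rfl
  have hrange : Nat.card N.range = Nat.card {c : ι → F // Φ c = c} := by
    apply Nat.card_congr
    refine Equiv.subtypeEquivRight ?_
    intro c
    constructor
    · rintro ⟨d, rfl⟩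
      rw [hN, map_add, hΦ2, add_comm]
    · intro hc
      refine ⟨t • c, ?_⟩
      rw [hN, hΦ, hc, ← add_smul, ht, one_smul]
  have hker : Nat.card N.ker = Nat.card {c : ι → F // Φ c = c} := by
    apply Nat.card_congr
    refine (Equiv.subtypeEquivRight (p := fun c => c ∈ N.ker) (q := fun c => Φ c = -c) ?_).trans ?_
    · intro c
      rw [AddMonoidHom.mem_ker, hN]
      constructor
      · intro h; exact eq_neg_of_add_eq_zero_right h
      · intro h; rw [h, add_neg_cancel]
    · refine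
        { toFun := fun c => ⟨θ • c.1, by rw [hΦ, c.2, hθ, neg_smul, smul_neg, neg_neg]⟩
          invFun := fun c => ⟨θ⁻¹ • c.1, by
            rw [hΦ, c.2, map_inv₀, hθ, inv_neg, neg_smul]⟩
          left_inv := fun c => Subtype.ext (by
            show θ⁻¹ • θ • c.1 = c.1
            rw [smul_smul, inv_mul_cancel₀ hθ0, one_smul])
          right_inv := fun c => Subtype.ext (by
            show θ • θ⁻¹ • c.1 = c.1
            rw [smul_smul, mul_inv_cancel₀ hθ0, one_smul]) }
  have h1 := AddSubgroup.card_mul_index N.ker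
  rw [AddSubgroup.index_ker, hrange, hker] at h1
  have h2 : Nat.card (ι → F) = (q ^ Fintype.card ι) ^ 2 := by
    rw [Nat.card_eq_fintype_card, Fintype.card_fun, hF, ← pow_mul, ← pow_mul, mul_comm]
  rw [h2, ← pow_two] at h1
  exact Nat.pow_left_injective (by norm_num : (2 : ℕ) ≠ 0) h1

end fixed

section coeff

variable {F : Type*} [Field F]

/-- coefficient symmetry of the characteristic polynomial of a unitary matrix of determinant one -/
theorem su_charpoly_coeff {n : ℕ} (σ : F →+* F) (a : Matrix (Fin n) (Fin n) F)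
    (hau : cstar σ a * a = 1) (hdet : a.det = 1) (i : ℕ) (hi : i ≤ n) :
    σ (a.charpoly.coeff i) = (-1) ^ n * a.charpoly.coeff (n - i) := by
  have hunit : IsUnit a := (Matrix.isUnit_iff_isUnit_det a).mpr (by rw [hdet]; exact isUnit_one)
  have h1 : a⁻¹ = cstar σ a := Matrix.inv_eq_left_inv hau
  have h2 : (cstar σ a).charpoly = a.charpoly.map σ := by
    unfold cstar
    rw [Matrix.charpoly_transpose, Matrix.charpoly_map]
  have h3 : a⁻¹.charpoly = (-1) ^ n * a.charpoly.reverse := by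
    rw [Matrix.charpoly_inv a hunit, hdet, Ring.inverse_one, C_1, mul_one, Fintype.card_fin,
      Matrix.reverse_charpoly]
  have h4 : a.charpoly.map σ = (-1) ^ n * a.charpoly.reverse := by rw [← h2, ← h1, h3]
  have h5 := congrArg (fun f : F[X] => f.coeff i) h4
  simp only [coeff_map] at h5
  rw [h5]
  have h6 : ((-1 : F[X]) ^ n) = C ((-1 : F) ^ n) := by simp
  rw [h6, coeff_C_mul, coeff_reverse, Matrix.charpoly_natDegree_eq_dim, Fintype.card_fin,
    revAt_le hi]

end coeff

section exist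

variable {F : Type*} [Field F] [Fintype F] {q : ℕ}

/-- Every monic polynomial of degree `n` with the unitary coefficient symmetry is the characteristic
polynomial of an element of `SU_n(q)` of order prime to `p`. -/
theorem exists_su_charpoly_eq (p : ℕ) [Fact p.Prime] [CharP F p] (n : ℕ) (σ : F →+* F)
    (hσ : ∀ x, σ x = x ^ q) (hne : σ ≠ RingHom.id F) (hσ2 : ∀ a, σ (σ a) = a)
    (χ : F[X]) (hm : χ.Monic) (hd : χ.natDegree = n)
    (hs : ∀ i, i ≤ n → σ (χ.coeff i) = (-1) ^ n * χ.coeff (n - i)) :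
    ∃ g : ↥(Cfsg.SU n F q), (orderOf g).Coprime p ∧
      ((g : Matrix.SpecialLinearGroup (Fin n) F) : Matrix (Fin n) (Fin n) F).charpoly = χ := by
  classical
  have hp : p.Prime := Fact.out
  obtain ⟨θ₀, hθ₀⟩ : ∃ θ₀ : F, σ θ₀ ≠ θ₀ := by
    by_contra hcon
    push Not at hcon
    exact hne (RingHom.ext hcon)
  have hεε : ((-1 : F) ^ n) * ((-1 : F) ^ n) = 1 := by
    rw [← mul_pow, neg_mul_neg, one_mul, one_pow]
  have hlead : χ.coeff n = 1 := by rw [← hd]; exact hm.coeff_natDegree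
  have h0 : χ.coeff 0 = (-1) ^ n := by
    have h1 := hs n le_rfl
    rw [hlead, map_one, Nat.sub_self] at h1
    calc χ.coeff 0 = ((-1 : F) ^ n * (-1 : F) ^ n) * χ.coeff 0 := by rw [hεε, one_mul]
      _ = (-1) ^ n * ((-1) ^ n * χ.coeff 0) := by ring
      _ = (-1) ^ n := by rw [← h1, mul_one]
  have h0ne : χ.coeff 0 ≠ 0 := by
    rw [h0]; exact pow_ne_zero _ (neg_ne_zero.mpr one_ne_zero)
  obtain ⟨A, m, hm', hAm, hAχ⟩ := exists_matrix_charpoly_eq p n χ hd hm h0ne
  have hm0 : m ≠ 0 := by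
    rintro rfl
    rw [Nat.coprime_zero_left] at hm'
    exact hp.one_lt.ne' hm'
  have hmp : ¬ p ∣ m := (Nat.Prime.coprime_iff_not_dvd hp).mp hm'.symm
  have hdetA : A.det = 1 := by
    rw [Matrix.det_eq_sign_charpoly_coeff, hAχ, h0, Fintype.card_fin, hεε]
  have hAu : IsUnit A := (Matrix.isUnit_iff_isUnit_det A).mpr (by rw [hdetA]; exact isUnit_one)
  -- the inverse of the adjoint
  obtain ⟨B, hBdef⟩ : ∃ B, B = cstar σ A := ⟨_, rfl⟩
  obtain ⟨Bi, hBidef⟩ : ∃ Bi, Bi = cstar σ (A ^ (m - 1)) := ⟨_, rfl⟩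
  have hAA : A ^ (m - 1) * A = 1 := by
    rw [← pow_succ, Nat.sub_add_cancel (Nat.one_le_iff_ne_zero.mpr hm0), hAm]
  have hBBi : B * Bi = 1 := by
    rw [hBdef, hBidef, ← cstar_mul, hAA, cstar_one]
  have hBim : Bi ^ m = 1 := by
    have h1 : ∀ j : ℕ, (cstar σ (A ^ (m - 1))) ^ j = cstar σ ((A ^ (m - 1)) ^ j) := by
      intro j
      induction j with
      | zero => rw [pow_zero, pow_zero, cstar_one]
      | succ j ih => rw [pow_succ', ih, ← cstar_mul, ← pow_succ]
    rw [hBidef, h1, ← pow_mul, mul_comm, pow_mul, hAm, one_pow, cstar_one]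
  have hBiχ : Bi.charpoly = χ := by
    have hBu : IsUnit B := IsUnit.of_mul_eq_one _ hBBi
    have hBinv : B⁻¹ = Bi := Matrix.inv_eq_right_inv hBBi
    have hBχ : B.charpoly = χ.map σ := by
      rw [hBdef]
      unfold cstar
      rw [Matrix.charpoly_transpose, Matrix.charpoly_map, hAχ]
    have hBdet : B.det = 1 := by rw [hBdef, det_cstar, hdetA, map_one]
    rw [← hBinv, Matrix.charpoly_inv B hBu, hBdet, Ring.inverse_one, C_1, mul_one, Fintype.card_fin,
      ← Matrix.reverse_charpoly, hBχ]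
    have hdeg : (χ.map σ).natDegree = n := by
      rw [natDegree_map_eq_of_injective σ.injective, hd]
    ext j
    have h6 : ((-1 : F[X]) ^ n) = C ((-1 : F) ^ n) := by simp
    rw [h6, coeff_C_mul, coeff_reverse, hdeg]
    by_cases hj : j ≤ n
    · rw [revAt_le hj, coeff_map, hs (n - j) (Nat.sub_le n j), Nat.sub_sub_self hj, ← mul_assoc, hεε,
        one_mul]
    · rw [revAt_eq_self_of_lt (Nat.not_le.mp hj), coeff_map,
        coeff_eq_zero_of_natDegree_lt (by rw [hd]; omega), map_zero, mul_zero]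
  have hsA := isSemisimple_toLin'_of_pow_eq_one p A m hmp hAm
  have hsBi := isSemisimple_toLin'_of_pow_eq_one p Bi m hmp hBim
  obtain ⟨P, hPA⟩ := exists_GL_conj_of_charpoly_eq A Bi hsA hsBi (by rw [hAχ, hBiχ])
  have hform : cstar σ A * (P : Matrix (Fin n) (Fin n) F) * A = (P : Matrix (Fin n) (Fin n) F) := by
    rw [Matrix.mul_assoc, hPA, ← Matrix.mul_assoc, ← hBdef, hBBi, Matrix.one_mul]
  obtain ⟨X, hXu, hXs, hXa⟩ := unitary_form_core σ hσ2 θ₀ hθ₀ A _ hAu P.isUnit hform
  obtain ⟨S, hSu, hS⟩ := exists_cstar_mul_self σ hne hσ2 X hXs hXu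
  obtain ⟨Si, hSi⟩ := hSu.exists_right_inv
  have hSi' : Si * S = 1 := mul_eq_one_comm.mp hSi
  have hWW : cstar σ (S * A * Si) * (S * A * Si) = 1 := by
    calc cstar σ (S * A * Si) * (S * A * Si)
        = cstar σ Si * (cstar σ A * (cstar σ S * S) * A) * Si := by
          rw [cstar_mul, cstar_mul]; simp only [Matrix.mul_assoc]
      _ = cstar σ Si * (cstar σ S * S) * Si := by rw [hS, hXa]
      _ = cstar σ (S * Si) * (S * Si) := by rw [cstar_mul]; simp only [Matrix.mul_assoc]
      _ = 1 := by rw [hSi, cstar_one, Matrix.one_mul]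
  have hWdet : (S * A * Si).det = 1 := by
    have h2 : S.det * Si.det = 1 := by rw [← Matrix.det_mul, hSi, Matrix.det_one]
    rw [Matrix.det_mul, Matrix.det_mul, hdetA, mul_one, h2]
  have hWχ : (S * A * Si).charpoly = χ := by
    rw [Matrix.charpoly_mul_comm, ← Matrix.mul_assoc, hSi', Matrix.one_mul, hAχ]
  have hWm : (S * A * Si) ^ m = 1 := by
    have h1 : ∀ j : ℕ, (S * A * Si) ^ j = S * A ^ j * Si := by
      intro j
      induction j with
      | zero => rw [pow_zero, pow_zero, Matrix.mul_one, hSi]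
      | succ j ih =>
        rw [pow_succ, ih, pow_succ]
        calc S * A ^ j * Si * (S * A * Si) = S * A ^ j * (Si * S) * A * Si := by
              simp only [Matrix.mul_assoc]
          _ = S * (A ^ j * A) * Si := by rw [hSi', Matrix.mul_one]; simp only [Matrix.mul_assoc]
    rw [h1, hAm, Matrix.mul_one, hSi]
  have hWmem : (⟨S * A * Si, hWdet⟩ : Matrix.SpecialLinearGroup (Fin n) F) ∈ Cfsg.SU n F q :=
    (mem_SU_iff_cstar σ hσ ⟨S * A * Si, hWdet⟩).mpr hWW
  refine ⟨⟨⟨S * A * Si, hWdet⟩, hWmem⟩, ?_, hWχ⟩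
  apply Nat.Coprime.coprime_dvd_left _ hm'
  apply orderOf_dvd_of_pow_eq_one
  apply Subtype.ext
  apply Subtype.ext
  show (S * A * Si) ^ m = 1
  exact hWm

end exist

section count

variable {F : Type*} [Field F] [DecidableEq F]

/-- the semilinear involution on coefficient vectors whose fixed points are the coefficient vectors of
characteristic polynomials of elements of `SU_{k+1}` -/
def suPhi (k : ℕ) (σ : F →+* F) : (Fin k → F) →+ (Fin k → F) :=
  AddMonoidHom.mk' (fun c i => (-1) ^ (k + 1) * σ (c (Fin.rev i))) (by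
    intro c d
    funext i
    simp only [Pi.add_apply, map_add, mul_add])

theorem suPhi_apply (k : ℕ) (σ : F →+* F) (c : Fin k → F) (i : Fin k) :
    suPhi k σ c i = (-1) ^ (k + 1) * σ (c (Fin.rev i)) := rfl

/-- the polynomial with prescribed middle coefficients -/
noncomputable def suPoly (k : ℕ) (c : Fin k → F) : F[X] :=
  X ^ (k + 1) + ofFn (k + 1) (Fin.cons ((-1) ^ (k + 1)) c : Fin (k + 1) → F)

theorem suPoly_monic (k : ℕ) (c : Fin k → F) : (suPoly k c).Monic :=
  monic_X_pow_add (ofFn_degree_lt _)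

theorem suPoly_natDegree (k : ℕ) (c : Fin k → F) : (suPoly k c).natDegree = k + 1 := by
  apply natDegree_eq_of_degree_eq_some
  unfold suPoly
  rw [degree_add_eq_left_of_degree_lt (by rw [degree_X_pow]; exact ofFn_degree_lt _), degree_X_pow]

theorem suPoly_coeff_zero (k : ℕ) (c : Fin k → F) : (suPoly k c).coeff 0 = (-1) ^ (k + 1) := by
  unfold suPoly
  rw [coeff_add, coeff_X_pow, if_neg (by omega), zero_add,
    ofFn_coeff_eq_val_of_lt _ (Nat.succ_pos k)]
  rfl

theorem suPoly_coeff_succ (k : ℕ) (c : Fin k → F) (i : Fin k) :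
    (suPoly k c).coeff ((i : ℕ) + 1) = c i := by
  unfold suPoly
  rw [coeff_add, coeff_X_pow, if_neg (by omega), zero_add,
    ofFn_coeff_eq_val_of_lt _ (Nat.succ_lt_succ i.2)]
  exact Fin.cons_succ _ _ i

theorem suPoly_coeff_top (k : ℕ) (c : Fin k → F) : (suPoly k c).coeff (k + 1) = 1 := by
  rw [← suPoly_natDegree k c]
  exact (suPoly_monic k c).coeff_natDegree

end count

/-- The number of conjugacy classes of elements of order prime to `p` in `SU_{k+1}(q)` is `q^k`. -/
theorem card_su_classes_coprime {F : Type*} [Field F] [Fintype F] {q : ℕ}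
    (hF : Fintype.card F = q ^ 2) (p : ℕ) [Fact p.Prime] [CharP F p] (k : ℕ) :
    Nat.card {c : ConjClasses ↥(Cfsg.SU (k + 1) F q) //
      ∃ g : ↥(Cfsg.SU (k + 1) F q), ConjClasses.mk g = c ∧ (orderOf g).Coprime p} = q ^ k := by
  classical
  obtain ⟨σ, hσ, hne, hσ2⟩ := Cfsg.Agent.Lib.helper17.exists_frob' hF
  have hεε : ((-1 : F) ^ (k + 1)) * ((-1 : F) ^ (k + 1)) = 1 := by
    rw [← mul_pow, neg_mul_neg, one_mul, one_pow]
  have hσε : σ ((-1 : F) ^ (k + 1)) = (-1) ^ (k + 1) := by rw [map_pow, map_neg, map_one]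
  have hΦsemi : ∀ (t : F) (c : Fin k → F), suPhi k σ (t • c) = σ t • suPhi k σ c := by
    intro t c
    funext i
    simp only [suPhi_apply, Pi.smul_apply, smul_eq_mul, map_mul]
    ring
  have hΦ2 : ∀ c, suPhi k σ (suPhi k σ c) = c := by
    intro c
    funext i
    simp only [suPhi_apply, map_mul, hσε, hσ2, Fin.rev_rev]
    rw [← mul_assoc, hεε, one_mul]
  have hcard := card_fixed_semilinear hF σ hne hσ2 (suPhi k σ) hΦsemi hΦ2
  rw [Fintype.card_fin] at hcard
  have hmem : ∀ g : ↥(Cfsg.SU (k + 1) F q),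
      cstar σ ((g : Matrix.SpecialLinearGroup (Fin (k + 1)) F) : Matrix (Fin (k + 1)) (Fin (k + 1)) F)
        * ((g : Matrix.SpecialLinearGroup (Fin (k + 1)) F) : Matrix (Fin (k + 1)) (Fin (k + 1)) F) = 1 :=
    fun g => (mem_SU_iff_cstar σ hσ g.1).mp g.2
  have hsym : ∀ g : ↥(Cfsg.SU (k + 1) F q), ∀ i, i ≤ k + 1 →
      σ (((g : Matrix.SpecialLinearGroup (Fin (k + 1)) F) :
        Matrix (Fin (k + 1)) (Fin (k + 1)) F).charpoly.coeff i)
      = (-1) ^ (k + 1) * ((g : Matrix.SpecialLinearGroup (Fin (k + 1)) F) :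
        Matrix (Fin (k + 1)) (Fin (k + 1)) F).charpoly.coeff (k + 1 - i) :=
    fun g i hi => su_charpoly_coeff σ _ (hmem g) g.1.2 i hi
  have hdeg : ∀ g : ↥(Cfsg.SU (k + 1) F q),
      ((g : Matrix.SpecialLinearGroup (Fin (k + 1)) F) :
        Matrix (Fin (k + 1)) (Fin (k + 1)) F).charpoly.natDegree = k + 1 := by
    intro g
    rw [Matrix.charpoly_natDegree_eq_dim, Fintype.card_fin]
  have htop : ∀ g : ↥(Cfsg.SU (k + 1) F q),
      ((g : Matrix.SpecialLinearGroup (Fin (k + 1)) F) :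
        Matrix (Fin (k + 1)) (Fin (k + 1)) F).charpoly.coeff (k + 1) = 1 := by
    intro g
    have := (Matrix.charpoly_monic ((g : Matrix.SpecialLinearGroup (Fin (k + 1)) F) :
        Matrix (Fin (k + 1)) (Fin (k + 1)) F)).coeff_natDegree
    rwa [hdeg g] at this
  have hzero : ∀ g : ↥(Cfsg.SU (k + 1) F q),
      ((g : Matrix.SpecialLinearGroup (Fin (k + 1)) F) :
        Matrix (Fin (k + 1)) (Fin (k + 1)) F).charpoly.coeff 0 = (-1) ^ (k + 1) := by
    intro g
    have h1 := hsym g (k + 1) le_rfl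
    rw [htop g, map_one, Nat.sub_self] at h1
    calc ((g : Matrix.SpecialLinearGroup (Fin (k + 1)) F) :
          Matrix (Fin (k + 1)) (Fin (k + 1)) F).charpoly.coeff 0
        = ((-1 : F) ^ (k + 1) * (-1 : F) ^ (k + 1)) * ((g : Matrix.SpecialLinearGroup (Fin (k + 1)) F) :
          Matrix (Fin (k + 1)) (Fin (k + 1)) F).charpoly.coeff 0 := by rw [hεε, one_mul]
      _ = (-1) ^ (k + 1) * ((-1) ^ (k + 1) * ((g : Matrix.SpecialLinearGroup (Fin (k + 1)) F) :
          Matrix (Fin (k + 1)) (Fin (k + 1)) F).charpoly.coeff 0) := by ring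
      _ = (-1) ^ (k + 1) := by rw [← h1, mul_one]
  have hfix : ∀ g : ↥(Cfsg.SU (k + 1) F q),
      suPhi k σ (fun i : Fin k => ((g : Matrix.SpecialLinearGroup (Fin (k + 1)) F) :
        Matrix (Fin (k + 1)) (Fin (k + 1)) F).charpoly.coeff ((i : ℕ) + 1))
      = (fun i : Fin k => ((g : Matrix.SpecialLinearGroup (Fin (k + 1)) F) :
        Matrix (Fin (k + 1)) (Fin (k + 1)) F).charpoly.coeff ((i : ℕ) + 1)) := by
    intro g
    funext i
    rw [suPhi_apply]
    have e1 : ((Fin.rev i : Fin k) : ℕ) + 1 = k - i := by rw [Fin.val_rev]; omega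
    have e2 : k + 1 - (k - (i : ℕ)) = (i : ℕ) + 1 := by omega
    rw [e1, hsym g (k - i) (by omega), e2, ← mul_assoc, hεε, one_mul]
  apply le_antisymm
  · let Θ : {c : ConjClasses ↥(Cfsg.SU (k + 1) F q) //
        ∃ g : ↥(Cfsg.SU (k + 1) F q), ConjClasses.mk g = c ∧ (orderOf g).Coprime p}
        → {c : Fin k → F // suPhi k σ c = c} := fun c =>
      ⟨fun i : Fin k => (((Classical.choose c.2 : ↥(Cfsg.SU (k + 1) F q)) :
        Matrix.SpecialLinearGroup (Fin (k + 1)) F) :
        Matrix (Fin (k + 1)) (Fin (k + 1)) F).charpoly.coeff ((i : ℕ) + 1), hfix _⟩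
    have hΘ : Function.Injective Θ := by
      intro c c' hcc
      obtain ⟨h1, h2⟩ := Classical.choose_spec c.2
      obtain ⟨h1', h2'⟩ := Classical.choose_spec c'.2
      have hcc' := congrArg Subtype.val hcc
      have h3 : (((Classical.choose c.2 : ↥(Cfsg.SU (k + 1) F q)) :
          Matrix.SpecialLinearGroup (Fin (k + 1)) F) :
          Matrix (Fin (k + 1)) (Fin (k + 1)) F).charpoly
          = (((Classical.choose c'.2 : ↥(Cfsg.SU (k + 1) F q)) :
          Matrix.SpecialLinearGroup (Fin (k + 1)) F) :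
          Matrix (Fin (k + 1)) (Fin (k + 1)) F).charpoly := by
        ext j
        rcases Nat.eq_zero_or_pos j with rfl | hpos
        · rw [hzero, hzero]
        · by_cases hj : j ≤ k
          · obtain ⟨i, rfl⟩ : ∃ i, j = i + 1 := ⟨j - 1, by omega⟩
            exact congrFun hcc' ⟨i, by omega⟩
          · by_cases hj2 : j = k + 1
            · rw [hj2, htop, htop]
            · rw [coeff_eq_zero_of_natDegree_lt (by rw [hdeg]; omega),
                coeff_eq_zero_of_natDegree_lt (by rw [hdeg]; omega)]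
      have h4 := su_isConj_of_charpoly_eq hF p (k + 1) _ _ h2 h2' h3
      apply Subtype.ext
      rw [← h1, ← h1']
      exact ConjClasses.mk_eq_mk_iff_isConj.mpr h4
    calc Nat.card {c : ConjClasses ↥(Cfsg.SU (k + 1) F q) //
          ∃ g : ↥(Cfsg.SU (k + 1) F q), ConjClasses.mk g = c ∧ (orderOf g).Coprime p}
        ≤ Nat.card {c : Fin k → F // suPhi k σ c = c} := Nat.card_le_card_of_injective Θ hΘ
      _ = q ^ k := hcard
  · have hex : ∀ c : {c : Fin k → F // suPhi k σ c = c},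
        ∃ g : ↥(Cfsg.SU (k + 1) F q), (orderOf g).Coprime p ∧
          ((g : Matrix.SpecialLinearGroup (Fin (k + 1)) F) :
            Matrix (Fin (k + 1)) (Fin (k + 1)) F).charpoly = suPoly k c.1 := by
      intro c
      apply exists_su_charpoly_eq p (k + 1) σ hσ hne hσ2 _ (suPoly_monic k c.1) (suPoly_natDegree k c.1)
      intro j hj
      rcases Nat.eq_zero_or_pos j with rfl | hpos
      · rw [suPoly_coeff_zero, Nat.sub_zero, suPoly_coeff_top, hσε, mul_one]
      · by_cases hjk : j ≤ k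
        · obtain ⟨i, rfl⟩ : ∃ i, j = i + 1 := ⟨j - 1, by omega⟩
          have hi : i < k := by omega
          have e1 : k + 1 - (i + 1) = ((Fin.rev (⟨i, hi⟩ : Fin k) : Fin k) : ℕ) + 1 := by
            rw [Fin.val_rev]; simp only []; omega
          rw [e1, suPoly_coeff_succ k c.1 (Fin.rev ⟨i, hi⟩)]
          have e2 := suPoly_coeff_succ k c.1 ⟨i, hi⟩
          simp only [] at e2
          rw [e2]
          have h5 := congrFun c.2 (Fin.rev ⟨i, hi⟩)
          rw [suPhi_apply, Fin.rev_rev] at h5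
          rw [← h5, ← mul_assoc, hεε, one_mul]
        · have hj2 : j = k + 1 := by omega
          rw [hj2, suPoly_coeff_top, map_one, Nat.sub_self, suPoly_coeff_zero, hεε]
    let Ψ : {c : Fin k → F // suPhi k σ c = c} →
        {c : ConjClasses ↥(Cfsg.SU (k + 1) F q) //
        ∃ g : ↥(Cfsg.SU (k + 1) F q), ConjClasses.mk g = c ∧ (orderOf g).Coprime p} :=
      fun c => ⟨ConjClasses.mk (Classical.choose (hex c)), Classical.choose (hex c), rfl,
        (Classical.choose_spec (hex c)).1⟩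
    have hΨ : Function.Injective Ψ := by
      intro c c' hcc
      have h1 : ConjClasses.mk (Classical.choose (hex c)) = ConjClasses.mk (Classical.choose (hex c')) :=
        congrArg Subtype.val hcc
      obtain ⟨d, hd⟩ := isConj_iff.mp (ConjClasses.mk_eq_mk_iff_isConj.mp h1)
      have h2 : IsConj ((Classical.choose (hex c) : ↥(Cfsg.SU (k + 1) F q)) :
          Matrix.SpecialLinearGroup (Fin (k + 1)) F)
          ((Classical.choose (hex c') : ↥(Cfsg.SU (k + 1) F q)) :
          Matrix.SpecialLinearGroup (Fin (k + 1)) F) :=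
        isConj_iff.mpr ⟨d.1, congrArg Subtype.val hd⟩
      have h3 := sl_charpoly_eq_of_isConj _ _ h2
      rw [(Classical.choose_spec (hex c)).2, (Classical.choose_spec (hex c')).2] at h3
      apply Subtype.ext
      funext i
      rw [← suPoly_coeff_succ k c.1 i, ← suPoly_coeff_succ k c'.1 i, h3]
    calc q ^ k = Nat.card {c : Fin k → F // suPhi k σ c = c} := hcard.symm
      _ ≤ _ := Nat.card_le_card_of_injective Ψ hΨ

end Cfsg.Agent.Lib.helper45
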