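import Mathlib
import Cfsg.Agent.Lib.helper45.SVDefs
import Cfsg.Agent.Lib.helper73.SV_W
import Cfsg.Agent.Lib.helper7.SV_INT
import Cfsg.Agent.Lib.helper22.SV_CHP
import Cfsg.Agent.Lib.helper22.SV_IRR
import Cfsg.Agent.Lib.helper4.SV_CNT
import Cfsg.Agent.Lib.helper69.SV_HOM
import Cfsg.Agent.Lib.helper17.SV_ARITH
import Cfsg.Agent.Lib.helper32.SV_ATOM

set_option autoImplicit false
set_option linter.style.haveILetI false

/-! S2425, piece ASMC: the Moebius number of the lattice of invariant subspaces of a semisimple
endomorphism (induction on the dimension through Weisner's theorem). -/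

namespace Cfsg.Agent.Lib.helper45.SV

open UniqueFactorizationMonoid in
/-- ASMC (racer copy by helper45). -/
theorem h45_mob_eq_gval {F : Type*} [Field F] [Fintype F] [DecidableEq F] {V : Type*} [AddCommGroup V]
    [Module F V] [Finite V] (T : Module.End F V) (hT : T.IsSemisimple) :
    mobInv T = gval (Fintype.card F) T.charpoly := by
  induction' hd : Module.finrank F V using Nat.strong_induction_on with d ih generalizing V
  rcases subsingleton_or_nontrivial V with hV | hV
  · have h1 : T.charpoly = 1 := by
      apply Polynomial.eq_one_of_monic_natDegree_zero (LinearMap.charpoly_monic T)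
      rw [LinearMap.charpoly_natDegree]
      exact Module.finrank_zero_of_subsingleton
    have h2 : mobInv T = 1 := by
      classical
      letI : Fintype T.invtSubmodule := Fintype.ofFinite _
      letI : LocallyFiniteOrder T.invtSubmodule := Fintype.toLocallyFiniteOrder
      have h3 : (⊤ : T.invtSubmodule) = ⊥ := Subtype.ext (Subsingleton.elim _ _)
      show IncidenceAlgebra.mu ℤ (⊥ : T.invtSubmodule) ⊤ = 1
      rw [h3]
      exact IncidenceAlgebra.mu_self _
    rw [h1, h2]
    simp [gval]
  · classical
    obtain ⟨A, hA, hAne, hAmin⟩ := exists_atom T hV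
    have hA' : A ∈ T.invtSubmodule := fun v hv => hA v hv
    obtain ⟨X0, hX0', hc0⟩ := (Module.End.isSemisimple_iff.1 hT) A hA'
    have hX0 : ∀ v ∈ X0, T v ∈ X0 := fun v hv => hX0' hv
    have hfm : (T.restrict hA).charpoly.Monic := LinearMap.charpoly_monic _
    have hntA : Nontrivial A := by
      rw [Submodule.nontrivial_iff_ne_bot]
      exact hAne
    have hsimple : ∀ U : Submodule F A, (∀ v ∈ U, (T.restrict hA) v ∈ U) → U = ⊥ ∨ U = ⊤ := by
      intro U hU
      have hinv : ∀ v ∈ U.map A.subtype, T v ∈ U.map A.subtype := by
        rintro v ⟨u, hu, rfl⟩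
        exact ⟨(T.restrict hA) u, hU u hu, rfl⟩
      rcases hAmin (U.map A.subtype) hinv (Submodule.map_subtype_le A U) with h | h
      · left
        rw [eq_bot_iff]
        intro u hu
        have hu2 : (u : V) ∈ U.map A.subtype := ⟨u, hu, rfl⟩
        rw [h] at hu2
        exact (Submodule.mem_bot F).2 (Subtype.ext ((Submodule.mem_bot F).1 hu2))
      · right
        rw [eq_top_iff]
        intro u _
        have hu : (u : V) ∈ U.map A.subtype := by
          rw [h]
          exact u.2
        obtain ⟨u', hu', hu''⟩ := hu
        have : u' = u := Subtype.ext hu''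
        rw [← this]
        exact hu'
    have hfirr : Irreducible (T.restrict hA).charpoly :=
      charpoly_irreducible_of_simple (T.restrict hA) hntA hsimple
    have hcp : T.charpoly = (T.restrict hA).charpoly * (T.restrict hX0).charpoly :=
      charpoly_of_isCompl T A X0 hA hX0 hc0
    have hfdeg : (T.restrict hA).charpoly.natDegree = Module.finrank F A :=
      LinearMap.charpoly_natDegree _
    have hcount : Nat.card {X : Submodule F V // (∀ v ∈ X, T v ∈ X) ∧ IsCompl A X} =
        Fintype.card F ^ ((T.restrict hA).charpoly.natDegree *
          (normalizedFactors (T.restrict hX0).charpoly).count (T.restrict hA).charpoly) := by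
      rw [card_invt_compl T A X0 hA hX0 hc0, hfdeg]
      exact card_hom_simple (T.restrict hX0) (Module.End.IsSemisimple.restrict hX0' hT)
        (T.restrict hA) hntA hsimple
    have hcompl : ∀ (X : Submodule F V) (hX : ∀ v ∈ X, T v ∈ X), IsCompl A X →
        mobInv (T.restrict hX) = gval (Fintype.card F) (T.restrict hX0).charpoly := by
      intro X hX hc
      have hlt : Module.finrank F X < Module.finrank F V := by
        apply Submodule.finrank_lt
        intro h
        apply hAne
        have h2 := hc.disjoint
        rw [h] at h2
        exact disjoint_top.1 h2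
      have hX' : X ∈ T.invtSubmodule := fun v hv => hX v hv
      have h3 := ih _ (hd ▸ hlt) (T.restrict hX) (Module.End.IsSemisimple.restrict hX' hT) rfl
      rw [h3]
      have h1 : T.charpoly = (T.restrict hA).charpoly * (T.restrict hX).charpoly :=
        charpoly_of_isCompl T A X hA hX hc
      have h4 : (T.restrict hX).charpoly = (T.restrict hX0).charpoly :=
        mul_left_cancel₀ hfm.ne_zero (h1.symm.trans hcp)
      rw [h4]
    letI : Fintype T.invtSubmodule := Fintype.ofFinite _
    letI : LocallyFiniteOrder T.invtSubmodule := Fintype.toLocallyFiniteOrder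
    have hmob : mobInv T = IncidenceAlgebra.mu ℤ (⊥ : T.invtSubmodule) ⊤ := by
      unfold mobInv
      rfl
    let a : T.invtSubmodule := ⟨A, hA'⟩
    have ha : a ≠ ⊥ := by
      intro h
      apply hAne
      exact congrArg Subtype.val h
    have hw := weisner a ha
    have htop : (⊤ : T.invtSubmodule) ∈ Finset.univ.filter (fun x : T.invtSubmodule => x ⊔ a = ⊤) := by
      simp
    rw [← Finset.add_sum_erase _ _ htop] at hw
    have hmemc : ∀ x : T.invtSubmodule,
        x ∈ (Finset.univ.filter (fun x : T.invtSubmodule => x ⊔ a = ⊤)).erase ⊤ ↔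
          IsCompl A (x : Submodule F V) := by
      intro x
      rw [Finset.mem_erase, Finset.mem_filter]
      constructor
      · rintro ⟨hxne, -, hxa⟩
        have hxa' : (x : Submodule F V) ⊔ A = ⊤ := congrArg Subtype.val hxa
        refine ⟨?_, ?_⟩
        · rw [disjoint_iff]
          have hinv : ∀ v ∈ A ⊓ (x : Submodule F V), T v ∈ A ⊓ (x : Submodule F V) := by
            intro v hv
            exact ⟨hA v hv.1, x.2 hv.2⟩
          rcases hAmin _ hinv inf_le_left with h | h
          · exact h
          · exfalso
            apply hxne
            apply Subtype.ext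
            have hle : A ≤ (x : Submodule F V) := by
              rw [← h]
              exact inf_le_right
            show (x : Submodule F V) = ⊤
            rw [← hxa']
            exact (sup_eq_left.2 hle).symm
        · rw [codisjoint_iff, sup_comm]
          exact hxa'
      · intro hc
        refine ⟨?_, Finset.mem_univ _, ?_⟩
        · intro h
          apply hAne
          have h2 := hc.disjoint
          have h3 : (x : Submodule F V) = ⊤ := congrArg Subtype.val h
          rw [h3] at h2
          exact disjoint_top.1 h2
        · apply Subtype.ext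
          have := hc.codisjoint.eq_top
          rw [sup_comm] at this
          exact this
    have hterm : ∀ x ∈ (Finset.univ.filter (fun x : T.invtSubmodule => x ⊔ a = ⊤)).erase ⊤,
        IncidenceAlgebra.mu ℤ ⊥ x = gval (Fintype.card F) (T.restrict hX0).charpoly := by
      intro x hx
      have hc := (hmemc x).1 hx
      have hxinv : ∀ v ∈ (x : Submodule F V), T v ∈ (x : Submodule F V) := fun v hv => x.2 hv
      have h5 := mu_bot_eq_mobInv_restrict T (x : Submodule F V) hxinv x.2
      rw [h5]
      exact hcompl _ hxinv hc
    have hcard : ((Finset.univ.filter (fun x : T.invtSubmodule => x ⊔ a = ⊤)).erase ⊤).card =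
        Nat.card {X : Submodule F V // (∀ v ∈ X, T v ∈ X) ∧ IsCompl A X} := by
      rw [← Nat.card_eq_finsetCard]
      apply Nat.card_congr
      refine ⟨fun x => ⟨(x.1 : Submodule F V), fun v hv => x.1.2 hv, (hmemc x.1).1 x.2⟩,
        fun X => ⟨⟨X.1, fun v hv => X.2.1 v hv⟩, (hmemc _).2 X.2.2⟩, ?_, ?_⟩
      · intro x
        rfl
      · intro X
        rfl
    rw [Finset.sum_congr rfl hterm, Finset.sum_const, hcard, hcount, nsmul_eq_mul] at hw
    rw [hmob, hcp, gval_mul_irreducible _ _ _ hfirr hfm (LinearMap.charpoly_monic _).ne_zero]
    push_cast at hw ⊢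
    linarith

end Cfsg.Agent.Lib.helper45.SV
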