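import Mathlib
import Cfsg.Prelude.Def_LinearParabolics
import Cfsg.Agent.Lib.helper45.SVDefs
import Cfsg.Agent.Lib.helper45.SV_ASMC
import Cfsg.Agent.Lib.helper10.SV_COMB
import Cfsg.Agent.Lib.helper32.SV_N0
import Cfsg.Agent.Lib.helper53.SV_SUMN
import Cfsg.Agent.Lib.helper71.SV_FIX
import Cfsg.Agent.Lib.helper90.SV_FLC
import Cfsg.Agent.Lib.helper54.SV_SUMD
import Cfsg.Agent.Lib.helper73.SV_HALL
import Cfsg.Agent.Lib.helper7.SV_SS
import Cfsg.Agent.Lib.helper7.SV_SIGN

set_option autoImplicit false
set_option linter.style.haveILetI false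
open scoped MatrixGroups

/-! S2425: final assembly (Steinberg character of `GL_n(q)` at elements of order prime to `p`). -/

namespace Cfsg.Agent.Lib.helper45.SV

/-- FINAL. -/
theorem steinberg_value {F : Type*} [Field F] [Fintype F] [DecidableEq F] {q : ℕ} (hq : Fintype.card F = q)
    (p : ℕ) [Fact p.Prime] [CharP F p] {n : ℕ} (x : GL (Fin n) F) (hx : (orderOf x).Coprime p) :
    Cfsg.unipotentCharacterGL n F (fun _ => 1) x =
      ∏ f ∈ (UniqueFactorizationMonoid.normalizedFactors (x : Matrix (Fin n) (Fin n) F).charpoly).toFinset,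
        (-1 : ℂ) ^ ((f.natDegree - 1) * (UniqueFactorizationMonoid.normalizedFactors (x : Matrix (Fin n) (Fin n) F).charpoly).count f) *
          (q : ℂ) ^ (f.natDegree * (UniqueFactorizationMonoid.normalizedFactors (x : Matrix (Fin n) (Fin n) F).charpoly).count f *
            ((UniqueFactorizationMonoid.normalizedFactors (x : Matrix (Fin n) (Fin n) F).charpoly).count f - 1) / 2) := by
  rcases Nat.eq_zero_or_pos n with rfl | hn
  · rw [unip_zero]
    have h1 : (x : Matrix (Fin 0) (Fin 0) F).charpoly = 1 := by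
      simp [Matrix.charpoly]
    rw [h1]
    simp
  · have h1 : Cfsg.unipotentCharacterGL n F (fun _ => 1) x =
        ∑ D ∈ endSets n, (-1 : ℂ) ^ (n - D.card) *
          Cfsg.fixedPointCharacter (Cfsg.parabolicGL n F (compOf D)) x := by
      unfold Cfsg.unipotentCharacterGL
      exact h10_comb_perm (fun μ => Cfsg.fixedPointCharacter (Cfsg.parabolicGL n F μ) x)
    have h2 : (∑ D ∈ endSets n, (-1 : ℂ) ^ (n - D.card) *
          Cfsg.fixedPointCharacter (Cfsg.parabolicGL n F (compOf D)) x) =
        ∑ D ∈ endSets n, (-1 : ℂ) ^ (n - D.card) * (Nat.card (dimChains x D) : ℂ) := by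
      apply Finset.sum_congr rfl
      intro D hD
      rw [fix_eq_flags _ (helper53_sum_compOf D hD), flags_eq_chains x D hD]
    have hnt : (⊥ : Module.End.invtSubmodule (Matrix.toLin' (x : Matrix (Fin n) (Fin n) F))) ≠ ⊤ := by
      intro h
      have h' := congrArg (fun U : Module.End.invtSubmodule (Matrix.toLin' (x : Matrix (Fin n) (Fin n) F)) =>
        (U : Submodule F (Fin n → F))) h
      have h'' : (⊥ : Submodule F (Fin n → F)) = ⊤ := h'
      have : Nonempty (Fin n) := ⟨⟨0, hn⟩⟩
      exact bot_ne_top h''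
    have hall' : mobInv (Matrix.toLin' (x : Matrix (Fin n) (Fin n) F)) =
        ∑ᶠ c ∈ chainsOO (Module.End.invtSubmodule (Matrix.toLin' (x : Matrix (Fin n) (Fin n) F))),
          (-1 : ℤ) ^ (c.card + 1) := by
      classical
      unfold mobInv
      letI : Fintype (Module.End.invtSubmodule (Matrix.toLin' (x : Matrix (Fin n) (Fin n) F))) :=
        Fintype.ofFinite _
      letI : LocallyFiniteOrder (Module.End.invtSubmodule (Matrix.toLin' (x : Matrix (Fin n) (Fin n) F))) :=
        Fintype.toLocallyFiniteOrder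
      exact hall hnt
    have h3 : (∑ D ∈ endSets n, (-1 : ℂ) ^ (n - D.card) * (Nat.card (dimChains x D) : ℂ)) =
        (((-1 : ℤ) ^ n * mobInv (Matrix.toLin' (x : Matrix (Fin n) (Fin n) F)) : ℤ) : ℂ) := by
      rw [hall', ← sum_chains_by_dims hn x]
      push_cast
      rfl
    have h4 : mobInv (Matrix.toLin' (x : Matrix (Fin n) (Fin n) F)) =
        gval (Fintype.card F) (Matrix.toLin' (x : Matrix (Fin n) (Fin n) F)).charpoly :=
      h45_mob_eq_gval _ (toLin_semisimple p x hx)
    have h5 : (Matrix.toLin' (x : Matrix (Fin n) (Fin n) F)).charpoly =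
        (x : Matrix (Fin n) (Fin n) F).charpoly := by
      simp
    have hdeg : (x : Matrix (Fin n) (Fin n) F).charpoly.natDegree = n := by
      simp [Matrix.charpoly_natDegree_eq_dim]
    have h6 := sign_arith (F := F) q (x : Matrix (Fin n) (Fin n) F).charpoly
      (Matrix.charpoly_monic (x : Matrix (Fin n) (Fin n) F))
    rw [hdeg] at h6
    rw [h1, h2, h3, h4, h5, hq]
    exact h6

end Cfsg.Agent.Lib.helper45.SV
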