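import Mathlib

/-!
# S5977 / S5978 block [A], KUNIQ helper: squares in `F(√δ)` are detected by the norm

For a finite field `F` of odd order and a nonsquare `δ`: if `a² - δ b²` is a square of `F` then
`a + b√δ` is a square, i.e. `a = s² + δ t²`, `b = 2 s t` for some `s t : F`.
-/

set_option autoImplicit false

namespace Cfsg.Agent.Lib.helper45.NormSq

/-- a product of two non-zero elements of a finite field is a square iff both or neither are -/
theorem h45_isSquare_mul_iff {F : Type*} [Field F] [Fintype F] {a b : F} (ha : a ≠ 0)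
    (hb : b ≠ 0) : IsSquare (a * b) ↔ (IsSquare a ↔ IsSquare b) := by
  classical
  rw [← quadraticChar_one_iff_isSquare (mul_ne_zero ha hb), ← quadraticChar_one_iff_isSquare ha,
    ← quadraticChar_one_iff_isSquare hb, map_mul]
  rcases quadraticChar_dichotomy ha with h | h <;> rcases quadraticChar_dichotomy hb with h' | h' <;>
    rw [h, h'] <;> decide

theorem h45_not_isSquare_of_fact {F : Type*} [Field F] (δ : F)
    (hδ : ∀ r : F, r ^ 2 ≠ δ + 0 * r) : ¬ IsSquare δ := by
  rintro ⟨r, hr⟩
  exact hδ r (by rw [hr]; ring)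

/-- if the norm `a² - δ b²` is a square then `a + b√δ` is a square -/
theorem h45_sq_of_norm_sq {F : Type*} [Field F] [Fintype F] (h2 : (2 : F) ≠ 0) (δ : F)
    (hδ : ¬ IsSquare δ) (a b : F) (hn : IsSquare (a ^ 2 - δ * b ^ 2)) :
    ∃ s t : F, s ^ 2 + δ * t ^ 2 = a ∧ 2 * s * t = b := by
  have hδ0 : δ ≠ 0 := fun h => hδ (h ▸ ⟨0, by simp⟩)
  obtain ⟨n, hn⟩ := hn
  have key : ∀ X Y : F, IsSquare X → IsSquare Y → X + δ * Y = a → 4 * X * Y = b ^ 2 →
      ∃ s t : F, s ^ 2 + δ * t ^ 2 = a ∧ 2 * s * t = b := by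
    rintro X Y ⟨s, rfl⟩ ⟨t, rfl⟩ h1 h3
    have h4 : (2 * s * t - b) * (2 * s * t + b) = 0 := by linear_combination h3
    rcases mul_eq_zero.mp h4 with h5 | h5
    · exact ⟨s, t, by linear_combination h1, by linear_combination h5⟩
    · exact ⟨s, -t, by linear_combination h1, by linear_combination -h5⟩
  have e1 : (a + n) / 2 + δ * ((a - n) / (2 * δ)) = a := by field_simp; ring
  have e2 : 4 * ((a + n) / 2) * ((a - n) / (2 * δ)) = b ^ 2 := by
    field_simp; linear_combination 4 * hn
  have e1' : δ * ((a - n) / (2 * δ)) + δ * ((a + n) / 2 / δ) = a := by field_simp; ring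
  have e2' : 4 * (δ * ((a - n) / (2 * δ))) * ((a + n) / 2 / δ) = b ^ 2 := by
    rw [← e2]; field_simp
  generalize (a + n) / 2 = A at e1 e2 e1' e2'
  generalize (a - n) / (2 * δ) = B at e1 e2 e1' e2'
  by_cases hsA : IsSquare A
  · by_cases hsB : IsSquare B
    · exact key A B hsA hsB e1 e2
    · have hB0 : B ≠ 0 := fun h => hsB (h ▸ ⟨0, by simp⟩)
      have hA0 : A = 0 := by
        by_contra hA0
        apply hsB
        obtain ⟨s, hs⟩ := hsA
        have hs0 : s ≠ 0 := by
          rintro rfl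
          exact hA0 (by rw [hs]; ring)
        refine ⟨b / (2 * s), ?_⟩
        rw [hs] at e2
        field_simp
        linear_combination e2
      refine key (δ * B) (A / δ) ?_ ?_ e1' e2'
      · exact (h45_isSquare_mul_iff hδ0 hB0).mpr (iff_of_false hδ hsB)
      · rw [hA0, zero_div]; exact ⟨0, by simp⟩
  · have hA0 : A ≠ 0 := fun h => hsA (h ▸ ⟨0, by simp⟩)
    have hsq : IsSquare (A / δ) := by
      rw [div_eq_mul_inv]
      refine (h45_isSquare_mul_iff hA0 (inv_ne_zero hδ0)).mpr (iff_of_false hsA ?_)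
      rw [isSquare_inv]
      exact hδ
    refine key (δ * B) (A / δ) ?_ hsq e1' e2'
    obtain ⟨w, hw⟩ := hsq
    have hw0 : w ≠ 0 := by
      rintro rfl
      rw [mul_zero, div_eq_zero_iff] at hw
      rcases hw with hw | hw
      · exact hA0 hw
      · exact hδ0 hw
    refine ⟨b / (2 * w), ?_⟩
    rw [hw] at e2'
    field_simp
    linear_combination e2'

/-- the same for Mathlib's `QuadraticAlgebra F δ 0`: an element whose norm is a square is a square -/
theorem h45_qa_isSquare_of_norm {F : Type*} [Field F] [Fintype F] (h2 : (2 : F) ≠ 0) (δ : F)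
    (hδ : ¬ IsSquare δ) (z : QuadraticAlgebra F δ 0) (hz : IsSquare (QuadraticAlgebra.norm z)) :
    IsSquare z := by
  obtain ⟨s, t, h1, h3⟩ := h45_sq_of_norm_sq h2 δ hδ z.re z.im (by
    rw [QuadraticAlgebra.norm_def] at hz
    convert hz using 1
    ring)
  refine ⟨⟨s, t⟩, ?_⟩
  ext
  · rw [QuadraticAlgebra.re_mul]
    show z.re = s * s + δ * t * t
    linear_combination -h1
  · rw [QuadraticAlgebra.im_mul]
    show z.im = s * t + t * s + 0 * t * t
    linear_combination -h3

/-- conversely the norm of a square is a square -/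
theorem h45_qa_norm_isSquare {F : Type*} [Field F] (δ : F) (z : QuadraticAlgebra F δ 0)
    (hz : IsSquare z) : IsSquare (QuadraticAlgebra.norm z) := by
  obtain ⟨w, rfl⟩ := hz
  exact ⟨QuadraticAlgebra.norm w, map_mul _ _ _⟩

end Cfsg.Agent.Lib.helper45.NormSq
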