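/-
S5977A piece ROTJ (racing copy of helper45; architect helper59): for an isometry `x` with `x * x = -1`
a rotation of the plane `<e, x e>` with determinant `1` and spinor sign `-1` commuting with `x`.
-/
import Mathlib
import Cfsg.Prelude.Def_Classical
import Cfsg.Prelude.Def_GeometricClasses
import Cfsg.Agent.Lib.helper49.WittIso
import Cfsg.Agent.Lib.helper53.SfoBINREP

set_option autoImplicit false

namespace Cfsg.Agent.Lib.helper59.Sfk

open Matrix Cfsg.Geo
open Cfsg.Agent.Lib.helper49 (detHom spinorSign)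

/-- the two products of reflections `r_f r_(s f - t e)` and `r_e r_(s e + t f)` agree when
`e ⊥ f` and `Q e = Q f` -/
theorem h45_rot_identity {F : Type*} [Field F] {ι : Type} [Fintype ι] [DecidableEq ι]
    (Q : QuadraticForm F (ι → F)) (e f y : ι → F) (a s t : F) (ha : a ≠ 0)
    (hN : s ^ 2 + t ^ 2 ≠ 0) (hQe : Q e = a) (hQf : Q f = a)
    (hef : QuadraticMap.polar (⇑Q) e f = 0) :
    Cfsg.reflectionMatrix ⇑Q f *ᵥ (Cfsg.reflectionMatrix ⇑Q (s • f - t • e) *ᵥ y) =
      Cfsg.reflectionMatrix ⇑Q e *ᵥ (Cfsg.reflectionMatrix ⇑Q (s • e + t • f) *ᵥ y) := by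
  have hfe : QuadraticMap.polar (⇑Q) f e = 0 := by rw [QuadraticMap.polar_comm]; exact hef
  have hQv : Q (s • e + t • f) = (s ^ 2 + t ^ 2) * a := by
    rw [QuadraticMap.map_add Q (s • e) (t • f), QuadraticMap.map_smul, QuadraticMap.map_smul,
      QuadraticMap.polar_smul_left, QuadraticMap.polar_smul_right, hef, hQe, hQf]
    simp only [smul_eq_mul, mul_zero, add_zero]
    ring
  have hQv' : Q (s • f - t • e) = (s ^ 2 + t ^ 2) * a := by
    rw [sub_eq_add_neg, ← neg_smul, QuadraticMap.map_add Q (s • f) ((-t) • e),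
      QuadraticMap.map_smul, QuadraticMap.map_smul,
      QuadraticMap.polar_smul_left, QuadraticMap.polar_smul_right, hfe, hQe, hQf]
    simp only [smul_eq_mul, mul_zero, add_zero]
    ring
  have h1 : QuadraticMap.polar (⇑Q) (s • f - t • e) y =
      s * QuadraticMap.polar (⇑Q) f y - t * QuadraticMap.polar (⇑Q) e y := by
    rw [QuadraticMap.polar_sub_left, QuadraticMap.polar_smul_left, QuadraticMap.polar_smul_left]
    simp only [smul_eq_mul]
  have h2 : QuadraticMap.polar (⇑Q) (s • e + t • f) y =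
      s * QuadraticMap.polar (⇑Q) e y + t * QuadraticMap.polar (⇑Q) f y := by
    rw [QuadraticMap.polar_add_left, QuadraticMap.polar_smul_left, QuadraticMap.polar_smul_left]
    simp only [smul_eq_mul]
  have h3 : ∀ c : F, QuadraticMap.polar (⇑Q) f (y - c • (s • f - t • e)) =
      QuadraticMap.polar (⇑Q) f y - c * (s * (2 * a)) := by
    intro c
    rw [QuadraticMap.polar_sub_right, QuadraticMap.polar_smul_right,
      QuadraticMap.polar_sub_right, QuadraticMap.polar_smul_right,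
      QuadraticMap.polar_smul_right, QuadraticMap.polar_self, hfe, hQf]
    simp only [smul_eq_mul, nsmul_eq_mul, Nat.cast_ofNat, mul_zero, sub_zero]
  have h4 : ∀ c : F, QuadraticMap.polar (⇑Q) e (y - c • (s • e + t • f)) =
      QuadraticMap.polar (⇑Q) e y - c * (s * (2 * a)) := by
    intro c
    rw [QuadraticMap.polar_sub_right, QuadraticMap.polar_smul_right,
      QuadraticMap.polar_add_right, QuadraticMap.polar_smul_right,
      QuadraticMap.polar_smul_right, QuadraticMap.polar_self, hef, hQe]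
    simp only [smul_eq_mul, nsmul_eq_mul, Nat.cast_ofNat, mul_zero, add_zero]
  rw [Cfsg.Agent.Lib.helper49.refl_mulVec Q (s • f - t • e) y,
    Cfsg.Agent.Lib.helper49.refl_mulVec Q (s • e + t • f) y,
    Cfsg.Agent.Lib.helper49.refl_mulVec Q f, Cfsg.Agent.Lib.helper49.refl_mulVec Q e,
    h3, h4, h1, h2, hQv, hQv', hQe, hQf]
  generalize QuadraticMap.polar (⇑Q) e y = p
  generalize QuadraticMap.polar (⇑Q) f y = q
  have hα : (((s ^ 2 + t ^ 2) * a)⁻¹ * (s * q - t * p)) * t =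
      -((((s ^ 2 + t ^ 2) * a)⁻¹ * (s * p + t * q)) * s) -
        a⁻¹ * (p - (((s ^ 2 + t ^ 2) * a)⁻¹ * (s * p + t * q)) * (s * (2 * a))) := by
    field_simp
    ring
  have hβ : -((((s ^ 2 + t ^ 2) * a)⁻¹ * (s * q - t * p)) * s) -
        a⁻¹ * (q - (((s ^ 2 + t ^ 2) * a)⁻¹ * (s * q - t * p)) * (s * (2 * a))) =
      -((((s ^ 2 + t ^ 2) * a)⁻¹ * (s * p + t * q)) * t) := by
    field_simp
    ring
  generalize ((s ^ 2 + t ^ 2) * a)⁻¹ * (s * q - t * p) = c₁ at hα hβ ⊢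
  generalize ((s ^ 2 + t ^ 2) * a)⁻¹ * (s * p + t * q) = c₃ at hα hβ ⊢
  have L : y - c₁ • (s • f - t • e) - (a⁻¹ * (q - c₁ * (s * (2 * a)))) • f =
      y + (c₁ * t) • e + (-(c₁ * s) - a⁻¹ * (q - c₁ * (s * (2 * a)))) • f := by module
  have R : y - c₃ • (s • e + t • f) - (a⁻¹ * (p - c₃ * (s * (2 * a)))) • e =
      y + (-(c₃ * s) - a⁻¹ * (p - c₃ * (s * (2 * a)))) • e + (-(c₃ * t)) • f := by module
  rw [L, R, hα, hβ]

/-- ROTJ -/
theorem h45_sfk_rot_neg {F : Type*} [Field F] [Fintype F] {ι : Type} [Fintype ι] [DecidableEq ι]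
    (h2 : (2 : F) ≠ 0) (Q : QuadraticForm F (ι → F))
    (hQ : (QuadraticMap.polarBilin Q).Nondegenerate)
    (x : GL ι F) (hx : x ∈ Cfsg.isometryGroup F (⇑Q))
    (hxx : (x : Matrix ι ι F) * (x : Matrix ι ι F) = -1) (e : ι → F) (he : Q e ≠ 0) :
    ∃ r : ↥(Cfsg.isometryGroup F (⇑Q)),
      ((r : GL ι F) : Matrix ι ι F) * (x : Matrix ι ι F) =
        (x : Matrix ι ι F) * ((r : GL ι F) : Matrix ι ι F) ∧
      detHom (⇑Q) r = 1 ∧ spinorSign (⇑Q) r = -1 := by
  classical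
  have hchar : ringChar F ≠ 2 := by
    intro h
    apply h2
    have := CharP.cast_eq_zero F (ringChar F)
    rw [h] at this
    exact_mod_cast this
  obtain ⟨ν, hν⟩ := FiniteField.exists_nonsquare hchar
  have hν0 : ν ≠ 0 := by
    rintro rfl
    exact hν IsSquare.zero
  obtain ⟨s, t, hst⟩ :=
    Cfsg.Agent.Lib.helper24.sfo_bin_rep h2 1 1 ν one_ne_zero one_ne_zero
  have hst' : s ^ 2 + t ^ 2 = ν := by rw [← hst]; ring
  have hiso : ∀ y : ι → F, Q ((x : Matrix ι ι F) *ᵥ y) = Q y :=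
    (Cfsg.Agent.Lib.helper49.mem_isometryGroup_iff (⇑Q) x).1 hx
  have hpol : ∀ y z : ι → F, QuadraticMap.polar (⇑Q) ((x : Matrix ι ι F) *ᵥ y)
      ((x : Matrix ι ι F) *ᵥ z) = QuadraticMap.polar (⇑Q) y z := by
    intro y z
    simp only [QuadraticMap.polar]
    rw [← Matrix.mulVec_add, hiso, hiso, hiso]
  obtain ⟨f, hf⟩ : ∃ f : ι → F, f = (x : Matrix ι ι F) *ᵥ e := ⟨_, rfl⟩
  have hQf : Q f = Q e := by rw [hf]; exact hiso e
  have hxf : (x : Matrix ι ι F) *ᵥ f = -e := by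
    rw [hf, Matrix.mulVec_mulVec, hxx, Matrix.neg_mulVec, Matrix.one_mulVec]
  have hef : QuadraticMap.polar (⇑Q) e f = 0 := by
    have h1 := hpol e f
    rw [hxf, ← hf, QuadraticMap.polar_neg_right, QuadraticMap.polar_comm] at h1
    have h3 : (2 : F) * QuadraticMap.polar (⇑Q) e f = 0 := by linear_combination -h1
    exact (mul_eq_zero.mp h3).resolve_left h2
  have hQv : Q (s • e + t • f) = ν * Q e := by
    rw [QuadraticMap.map_add Q (s • e) (t • f), QuadraticMap.map_smul, QuadraticMap.map_smul,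
      QuadraticMap.polar_smul_left, QuadraticMap.polar_smul_right, hef, hQf]
    simp only [smul_eq_mul, mul_zero, add_zero]
    rw [← hst']
    ring
  have hQv0 : Q (s • e + t • f) ≠ 0 := by
    rw [hQv]
    exact mul_ne_zero hν0 he
  have hxv : (x : Matrix ι ι F) *ᵥ (s • e + t • f) = s • f - t • e := by
    rw [Matrix.mulVec_add, Matrix.mulVec_smul, Matrix.mulVec_smul, hxf, ← hf, smul_neg,
      sub_eq_add_neg]
  have hQxe : Q ((x : Matrix ι ι F) *ᵥ e) ≠ 0 := by rw [hiso]; exact he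
  have hQxv : Q ((x : Matrix ι ι F) *ᵥ (s • e + t • f)) ≠ 0 := by rw [hiso]; exact hQv0
  have hc1 := Cfsg.Agent.Lib.helper49.refl_conj Q ⟨x, hx⟩ e he hQxe
  have hc2 := Cfsg.Agent.Lib.helper49.refl_conj Q ⟨x, hx⟩ (s • e + t • f) hQv0 hQxv
  have key : Cfsg.Agent.Lib.helper49.reflG Q ((x : Matrix ι ι F) *ᵥ e) hQxe *
      Cfsg.Agent.Lib.helper49.reflG Q ((x : Matrix ι ι F) *ᵥ (s • e + t • f)) hQxv =
      Cfsg.Agent.Lib.helper49.reflG Q e he *
        Cfsg.Agent.Lib.helper49.reflG Q (s • e + t • f) hQv0 := by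
    apply Subtype.ext
    apply Units.ext
    simp only [Subgroup.coe_mul, Units.val_mul, Cfsg.Agent.Lib.helper49.reflG_val]
    apply Matrix.toLin'.injective
    apply LinearMap.ext
    intro y
    rw [Matrix.toLin'_apply, Matrix.toLin'_apply, ← Matrix.mulVec_mulVec, ← Matrix.mulVec_mulVec,
      hxv, ← hf]
    exact h45_rot_identity Q e f y (Q e) s t he (by rw [hst']; exact hν0) rfl hQf hef
  refine ⟨Cfsg.Agent.Lib.helper49.reflG Q e he *
    Cfsg.Agent.Lib.helper49.reflG Q (s • e + t • f) hQv0, ?_, ?_, ?_⟩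
  · have hcomm : Cfsg.Agent.Lib.helper49.reflG Q e he *
        Cfsg.Agent.Lib.helper49.reflG Q (s • e + t • f) hQv0 *
          (⟨x, hx⟩ : ↥(Cfsg.isometryGroup F (⇑Q)))
        = (⟨x, hx⟩ : ↥(Cfsg.isometryGroup F (⇑Q))) * (Cfsg.Agent.Lib.helper49.reflG Q e he *
        Cfsg.Agent.Lib.helper49.reflG Q (s • e + t • f) hQv0) := by
      have h5 : (⟨x, hx⟩ : ↥(Cfsg.isometryGroup F (⇑Q))) *
          (Cfsg.Agent.Lib.helper49.reflG Q e he *
            Cfsg.Agent.Lib.helper49.reflG Q (s • e + t • f) hQv0) *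
          (⟨x, hx⟩ : ↥(Cfsg.isometryGroup F (⇑Q)))⁻¹ =
          Cfsg.Agent.Lib.helper49.reflG Q e he *
            Cfsg.Agent.Lib.helper49.reflG Q (s • e + t • f) hQv0 := by
        have h6 : (⟨x, hx⟩ : ↥(Cfsg.isometryGroup F (⇑Q))) *
            (Cfsg.Agent.Lib.helper49.reflG Q e he *
              Cfsg.Agent.Lib.helper49.reflG Q (s • e + t • f) hQv0) *
            (⟨x, hx⟩ : ↥(Cfsg.isometryGroup F (⇑Q)))⁻¹ =
            ((⟨x, hx⟩ : ↥(Cfsg.isometryGroup F (⇑Q))) * Cfsg.Agent.Lib.helper49.reflG Q e he *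
              (⟨x, hx⟩ : ↥(Cfsg.isometryGroup F (⇑Q)))⁻¹) *
            ((⟨x, hx⟩ : ↥(Cfsg.isometryGroup F (⇑Q))) *
              Cfsg.Agent.Lib.helper49.reflG Q (s • e + t • f) hQv0 *
              (⟨x, hx⟩ : ↥(Cfsg.isometryGroup F (⇑Q)))⁻¹) := by group
        rw [h6, hc1, hc2]
        exact key
      rw [mul_inv_eq_iff_eq_mul] at h5
      exact h5.symm
    have h3 := congrArg (fun r : ↥(Cfsg.isometryGroup F (⇑Q)) => ((r : GL ι F) : Matrix ι ι F)) hcomm
    simpa only [Subgroup.coe_mul, Units.val_mul] using h3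
  · rw [map_mul, Cfsg.Agent.Lib.helper49.detHom_reflG, Cfsg.Agent.Lib.helper49.detHom_reflG]
    simp
  · rw [map_mul]
    have hsu := Cfsg.Agent.Lib.helper49.spinorSign_refl h2 Q e he
    have hsv := Cfsg.Agent.Lib.helper49.spinorSign_refl h2 Q (s • e + t • f) hQv0
    have hiff := Cfsg.Agent.Lib.helper49.isSquare_mul_iff h2 hν0 he
    by_cases hsq : IsSquare (Q e)
    · have hnv : ¬ IsSquare (Q (s • e + t • f)) := by
        rw [hQv]
        intro h
        exact hν ((hiff.1 h).2 hsq)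
      rw [hsu.1 hsq, hsv.2 hnv]
      simp
    · have hv' : IsSquare (Q (s • e + t • f)) := by
        rw [hQv]
        exact hiff.2 ⟨fun h => absurd h hν, fun h => absurd h hsq⟩
      rw [hsu.2 hsq, hsv.1 hv']
      simp

end Cfsg.Agent.Lib.helper59.Sfk
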