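import Mathlib
import Cfsg.Agent.Lib.helper47.SpGenC
import Cfsg.Agent.Lib.helper44.JordanGen

/-!
# A regular unipotent element of `Sp_{2n}(F)` and the cycle of basis vectors

`u1 l = lvS (jS) * spT (eb l) 1` (with `l` the last index) is a regular unipotent element of the
symplectic group; `u2 l` is its conjugate under the Weyl element `om`.  We compute their action on
the standard basis and show that any predicate on vectors that is invariant under `u1`, `u2` and
negation, and holds at `eb 0` or at `eb l`, holds at all standard basis vectors.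
-/

set_option autoImplicit false

namespace Cfsg.Agent.Lib.helper45.SpReg

open Matrix Cfsg Cfsg.Agent.Lib.helper85 Cfsg.Agent.Lib.helper48.PSp
  Cfsg.Agent.Lib.helper47.SpGen Cfsg.Agent.Lib.helper44

local notation "Tv" => Matrix.SpecialLinearGroup.transvection
local notation "lvS" => Cfsg.Agent.Lib.helper47.SpFus.lvS

variable {n : ℕ} {F : Type*} [Field F]

/-- The Jordan block in `SL_n`. -/
def jS (F : Type*) [Field F] (n : ℕ) : SpecialLinearGroup (Fin n) F := ⟨jm F n, det_jm⟩

theorem jS_coe : (jS F n).1 = jm F n := rfl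

/-- the regular unipotent element -/
def u1 (l : Fin n) : SpG n F := lvS (jS F n) * spT (eb l) 1

/-- the Weyl element -/
def om : SpG n F := ⟨J (Fin n) F, SymplecticGroup.J_mem (Fin n) F⟩

/-- the opposite regular unipotent element -/
def u2 (l : Fin n) : SpG n F := om * u1 l * om⁻¹

/-! ### vectors -/

theorem vE_add (a b : Fin n → F) : vE (a + b) = vE a + vE b := by
  funext x; rcases x with k | k <;> simp [vE]

theorem vF_add (a b : Fin n → F) : vF (a + b) = vF a + vF b := by
  funext x; rcases x with k | k <;> simp [vF]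

theorem vE_smul (c : F) (a : Fin n → F) : vE (c • a) = c • vE a := by
  funext x; rcases x with k | k <;> simp [vE]

theorem vF_smul (c : F) (a : Fin n → F) : vF (c • a) = c • vF a := by
  funext x; rcases x with k | k <;> simp [vF]

theorem vE_neg (a : Fin n → F) : vE (-a) = -vE a := by
  funext x; rcases x with k | k <;> simp [vE]

theorem vF_neg (a : Fin n → F) : vF (-a) = -vF a := by
  funext x; rcases x with k | k <;> simp [vF]

theorem eb_eq (k : Fin n) : (eb k : VS n F) = vE (Pi.single k 1) := by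
  rw [vE_single, one_smul]

theorem fb_eq (k : Fin n) : (fb k : VS n F) = vF (Pi.single k 1) := by
  rw [vF_single, one_smul]

theorem act_neg (g : SpG n F) (v : VS n F) : act g (-v) = -act g v := by
  have := act_smul g (-1 : F) v
  simpa using this

/-! ### the action of the Levi factor, of `om`, of `u1` and of `u2` -/

theorem act_lvS_vE (A : SpecialLinearGroup (Fin n) F) (a : Fin n → F) :
    act (lvS A) (vE a) = vE (A.1 *ᵥ a) := by
  rw [act_lvS]
  unfold vE
  rw [Sum.elim_comp_inl, Sum.elim_comp_inr, mulVec_zero]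

theorem act_lvS_vF (A : SpecialLinearGroup (Fin n) F) (y : Fin n → F) :
    act (lvS A) (vF (A.1ᵀ *ᵥ y)) = vF y := by
  rw [act_lvS]
  unfold vF
  rw [Sum.elim_comp_inl, Sum.elim_comp_inr, mulVec_zero, mulVec_mulVec, ← transpose_mul]
  have : A.1 * (A⁻¹).1 = 1 := by
    rw [← Matrix.SpecialLinearGroup.coe_mul, mul_inv_cancel, Matrix.SpecialLinearGroup.coe_one]
  rw [this, transpose_one, one_mulVec]

theorem act_om_vE (a : Fin n → F) : act (om : SpG n F) (vE a) = vF a := by
  show J (Fin n) F *ᵥ vE a = vF a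
  rw [J_mulVec_eq]
  unfold vE vF
  rw [Sum.elim_comp_inl, Sum.elim_comp_inr, neg_zero]

theorem act_om_vF (b : Fin n → F) : act (om : SpG n F) (vF b) = -vE b := by
  show J (Fin n) F *ᵥ vF b = -vE b
  rw [J_mulVec_eq, ← vE_neg]
  unfold vE vF
  rw [Sum.elim_comp_inl, Sum.elim_comp_inr]

theorem sf_vE_eb (a : Fin n → F) (l : Fin n) : sf (vE a) (eb l) = 0 := by
  rw [sf_eb]; rfl

theorem sf_vF_eb (b : Fin n → F) (l : Fin n) : sf (vF b) (eb l) = b l := by
  rw [sf_eb]; rfl

theorem act_u1_vE (l : Fin n) (a : Fin n → F) :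
    act (u1 l) (vE a) = vE (jm F n *ᵥ a) := by
  unfold u1
  rw [act_mul, act_spT, sf_vE_eb, mul_zero, zero_smul, add_zero, act_lvS_vE, jS_coe]

theorem act_u1_vF (l : Fin n) (y : Fin n → F) :
    act (u1 l) (vF ((jm F n)ᵀ *ᵥ y)) =
      vF y + (((jm F n)ᵀ *ᵥ y) l) • vE (jm F n *ᵥ Pi.single l 1) := by
  unfold u1
  rw [act_mul, act_spT, sf_vF_eb, one_mul, act_add, act_smul, eb_eq, act_lvS_vE, jS_coe,
    ← jS_coe, act_lvS_vF, jS_coe]

theorem act_u2 (l : Fin n) {x y : VS n F} (h : act (u1 l) x = y) :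
    act (u2 l) (act om x) = act om y := by
  unfold u2
  rw [act_mul, act_mul, act_inv_act, h]

theorem act_u2_vF (l : Fin n) (b : Fin n → F) :
    act (u2 l) (vF b) = vF (jm F n *ᵥ b) := by
  rw [← act_om_vE, act_u2 l (act_u1_vE l b), act_om_vE]


theorem act_om_eb (k : Fin n) : act (om : SpG n F) (eb k) = fb k := by
  rw [eb_eq, act_om_vE, ← fb_eq]

theorem act_om_fb (k : Fin n) : act (om : SpG n F) (fb k) = -eb k := by
  rw [fb_eq, act_om_vF, ← eb_eq]

/-! ### the action on the standard basis -/

theorem act_u1_eb (l k k' : Fin n) (h : k'.val + 1 = k.val) :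
    act (u1 l) (eb k : VS n F) = eb k + eb k' := by
  rw [eb_eq k, eb_eq k', act_u1_vE, jm_mulVec_single k k' h, vE_add]

theorem act_u1_eb_zero (l z : Fin n) (hz : z.val = 0) :
    act (u1 l) (eb z : VS n F) = eb z := by
  rw [eb_eq z, act_u1_vE, jm_mulVec_single_zero z hz]

theorem act_u1_fb_add (l k k' : Fin n) (h : k.val + 1 = k'.val) (hk : k ≠ l) (hk' : k' ≠ l) :
    act (u1 l) (fb k + fb k' : VS n F) = fb k := by
  have e : (jm F n)ᵀ *ᵥ Pi.single k 1 = Pi.single k 1 + Pi.single k' 1 := by
    rw [mulVec_transpose, single_vecMul_jm k k' h]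
  have key := act_u1_vF l (Pi.single k (1 : F))
  rw [e] at key
  rw [fb_eq k, fb_eq k', ← vF_add, key, Pi.add_apply, Pi.single_apply, Pi.single_apply,
    if_neg (Ne.symm hk), if_neg (Ne.symm hk'), add_zero, zero_smul, add_zero]

theorem act_u1_fb_add_last (l l' : Fin n) (h : l'.val + 1 = l.val) :
    act (u1 l) (fb l' + fb l : VS n F) = fb l' + (eb l + eb l') := by
  have e : (jm F n)ᵀ *ᵥ Pi.single l' 1 = Pi.single l' 1 + Pi.single l 1 := by
    rw [mulVec_transpose, single_vecMul_jm l' l h]
  have hne : l ≠ l' := by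
    intro e'; rw [e'] at h; omega
  have key := act_u1_vF l (Pi.single l' (1 : F))
  rw [e] at key
  rw [fb_eq l', fb_eq l, ← vF_add, key, Pi.add_apply, Pi.single_apply, Pi.single_apply,
    if_neg hne, if_pos rfl, zero_add, one_smul, jm_mulVec_single l l' h, vE_add, ← eb_eq,
    ← eb_eq]

theorem act_u1_fb_last (l l' : Fin n) (h : l'.val + 1 = l.val) (hl : l.val + 1 = n) :
    act (u1 l) (fb l : VS n F) = fb l + (eb l + eb l') := by
  have e : (jm F n)ᵀ *ᵥ Pi.single l 1 = Pi.single l 1 := by
    rw [mulVec_transpose, single_vecMul_jm_last l hl]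
  have key := act_u1_vF l (Pi.single l (1 : F))
  rw [e] at key
  rw [fb_eq l, key, Pi.single_apply, if_pos rfl, one_smul, jm_mulVec_single l l' h, vE_add,
    ← eb_eq, ← eb_eq]

theorem act_u1_fb_zero (l z : Fin n) (hz : z.val = 0) (hzl : z ≠ l) :
    act (u1 l) (fb z : VS n F) = vF (altVec F n) := by
  have e : (jm F n)ᵀ *ᵥ altVec F n = Pi.single z 1 := by
    rw [mulVec_transpose, alt_vecMul_jm z hz]
  have key := act_u1_vF l (altVec F n)
  rw [e] at key
  rw [fb_eq z, key, Pi.single_apply, if_neg (Ne.symm hzl), zero_smul, add_zero]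

theorem act_u1_altE (l : Fin n) (hl : l.val + 1 = n) :
    act (u1 l) (vE (altVec F n)) = ((-1 : F) ^ (n - 1)) • (eb l : VS n F) := by
  rw [act_u1_vE, jm_mulVec_alt l hl, vE_smul, ← eb_eq]

theorem act_u2_fb (l k k' : Fin n) (h : k'.val + 1 = k.val) :
    act (u2 l) (fb k : VS n F) = fb k + fb k' := by
  rw [fb_eq k, fb_eq k', act_u2_vF, jm_mulVec_single k k' h, vF_add]

theorem act_u2_altF (l : Fin n) (hl : l.val + 1 = n) :
    act (u2 l) (vF (altVec F n)) = ((-1 : F) ^ (n - 1)) • (fb l : VS n F) := by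
  rw [act_u2_vF, jm_mulVec_alt l hl, vF_smul, ← fb_eq]

theorem act_u2_eb_add (l k k' : Fin n) (h : k.val + 1 = k'.val) (hk : k ≠ l) (hk' : k' ≠ l) :
    act (u2 l) (eb k + eb k' : VS n F) = eb k := by
  have key := act_u2 l (act_u1_fb_add (F := F) l k k' h hk hk')
  have e1 : act (om : SpG n F) (fb k + fb k') = -(eb k + eb k') := by
    rw [act_add, act_om_fb, act_om_fb]; abel
  rw [e1, act_om_fb, act_neg, neg_inj] at key
  exact key

theorem act_u2_eb_add_last (l l' : Fin n) (h : l'.val + 1 = l.val) :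
    act (u2 l) (eb l' + eb l : VS n F) = eb l' - (fb l + fb l') := by
  have key := act_u2 l (act_u1_fb_add_last (F := F) l l' h)
  have e1 : act (om : SpG n F) (fb l' + fb l) = -(eb l' + eb l) := by
    rw [act_add, act_om_fb, act_om_fb]; abel
  have e2 : act (om : SpG n F) (fb l' + (eb l + eb l')) = -eb l' + (fb l + fb l') := by
    rw [act_add, act_add, act_om_fb, act_om_eb, act_om_eb]
  rw [e1, e2, act_neg, neg_eq_iff_eq_neg] at key
  rw [key]; abel

theorem act_u2_eb_last (l l' : Fin n) (h : l'.val + 1 = l.val) (hl : l.val + 1 = n) :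
    act (u2 l) (eb l : VS n F) = eb l - (fb l + fb l') := by
  have key := act_u2 l (act_u1_fb_last (F := F) l l' h hl)
  have e2 : act (om : SpG n F) (fb l + (eb l + eb l')) = -eb l + (fb l + fb l') := by
    rw [act_add, act_add, act_om_fb, act_om_eb, act_om_eb]
  rw [e2, act_om_fb, act_neg, neg_eq_iff_eq_neg] at key
  rw [key]; abel

theorem act_u2_eb_zero (l z : Fin n) (hz : z.val = 0) (hzl : z ≠ l) :
    act (u2 l) (eb z : VS n F) = vE (altVec F n) := by
  have key := act_u2 l (act_u1_fb_zero (F := F) l z hz hzl)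
  rw [act_om_fb, act_neg, act_om_vF, neg_inj] at key
  exact key

/-! ### the cycle -/

/-- A predicate on vectors invariant under `u1`, `u2` and negation which holds at the first or
at the last vector `e` holds at all standard basis vectors. -/
theorem chain (hn : 2 ≤ n) (l z : Fin n) (hl : l.val + 1 = n) (hz : z.val = 0)
    (P : VS n F → Prop) (h1 : ∀ x, P (act (u1 l) x) ↔ P x) (h2 : ∀ x, P (act (u2 l) x) ↔ P x)
    (hneg : ∀ x, P (-x) ↔ P x) (h0 : P (eb z) ∨ P (eb l)) :
    ∀ k : Fin n, P (eb k) ∧ P (fb k) := by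
  have hzl : z ≠ l := by
    intro e; rw [e] at hz; omega
  obtain ⟨l', hl'⟩ : ∃ l' : Fin n, l'.val + 1 = l.val := ⟨⟨n - 2, by omega⟩, by simp only; omega⟩
  have hl'l : l' ≠ l := by
    intro e; rw [e] at hl'; omega
  have hε : ∀ x : VS n F, P (((-1 : F) ^ (n - 1)) • x) ↔ P x := by
    intro x
    rcases neg_one_pow_eq_or F (n - 1) with h | h
    · rw [h, one_smul]
    · rw [h, neg_one_smul]; exact hneg x
  -- from the last `e` to the first
  have hz' : P (eb z) := by
    rcases h0 with h | h
    · exact h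
    · have a1 : P (vE (altVec F n)) := by
        rw [← h1, act_u1_altE l hl, hε]; exact h
      rw [← h2, act_u2_eb_zero l z hz hzl]; exact a1
  -- up the `e`
  have hE : ∀ m : ℕ, ∀ k : Fin n, k.val = m → k ≠ l → P (eb k) := by
    intro m
    induction m with
    | zero =>
      intro k hk _
      have : k = z := Fin.ext (by omega)
      rw [this]; exact hz'
    | succ m ih =>
      intro k hk hkl
      have hkn := k.2
      obtain ⟨k0, hk0⟩ : ∃ k0 : Fin n, k0.val = m := ⟨⟨m, by omega⟩, rfl⟩
      have hk0l : k0 ≠ l := by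
        intro e
        have hkl' : k.val ≠ l.val := fun e' => hkl (Fin.ext e')
        rw [e] at hk0; omega
      have a0 := ih k0 hk0 hk0l
      have a1 : P (eb k0 + eb k) := by
        rw [← h2, act_u2_eb_add l k0 k (by omega) hk0l hkl]; exact a0
      rw [← h1, act_u1_eb l k k0 (by omega)]
      rw [add_comm]; exact a1
  have hEl' : P (eb l') := hE l'.val l' rfl hl'l
  -- across
  have hFl : P (fb l) := by
    have a1 : P (eb l' + eb l + fb l) := by
      rw [← h2, act_add, act_u2_eb_add_last l l' hl', act_u2_fb l l l' hl']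
      have : eb l' - (fb l + fb l') + (fb l + fb l') = (eb l' : VS n F) := by abel
      rw [this]; exact hEl'
    rw [← h1, act_u1_fb_last l l' hl' hl]
    have : fb l + (eb l + eb l') = (eb l' + eb l + fb l : VS n F) := by abel
    rw [this]; exact a1
  have hFz : P (fb z) := by
    have a1 : P (vF (altVec F n)) := by
      rw [← h2, act_u2_altF l hl, hε]; exact hFl
    rw [← h1, act_u1_fb_zero l z hz hzl]; exact a1
  -- up the `f`
  have hF : ∀ m : ℕ, ∀ k : Fin n, k.val = m → k ≠ l → P (fb k) := by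
    intro m
    induction m with
    | zero =>
      intro k hk _
      have : k = z := Fin.ext (by omega)
      rw [this]; exact hFz
    | succ m ih =>
      intro k hk hkl
      have hkn := k.2
      obtain ⟨k0, hk0⟩ : ∃ k0 : Fin n, k0.val = m := ⟨⟨m, by omega⟩, rfl⟩
      have hk0l : k0 ≠ l := by
        intro e
        have hkl' : k.val ≠ l.val := fun e' => hkl (Fin.ext e')
        rw [e] at hk0; omega
      have a0 := ih k0 hk0 hk0l
      have a1 : P (fb k0 + fb k) := by
        rw [← h1, act_u1_fb_add l k0 k (by omega) hk0l hkl]; exact a0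
      rw [← h2, act_u2_fb l k k0 (by omega)]
      rw [add_comm]; exact a1
  have hFl' : P (fb l') := hF l'.val l' rfl hl'l
  -- back
  have hEl : P (eb l) := by
    have a1 : P (fb l' + fb l - eb l) := by
      rw [← h1, act_sub, act_u1_fb_add_last l l' hl', act_u1_eb l l l' hl']
      have : fb l' + (eb l + eb l') - (eb l + eb l') = (fb l' : VS n F) := by abel
      rw [this]; exact hFl'
    rw [← h2, act_u2_eb_last l l' hl' hl]
    have : eb l - (fb l + fb l') = -(fb l' + fb l - eb l : VS n F) := by abel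
    rw [this, hneg]; exact a1
  intro k
  by_cases hk : k = l
  · rw [hk]; exact ⟨hEl, hFl⟩
  · exact ⟨hE k.val k rfl hk, hF k.val k rfl hk⟩

end Cfsg.Agent.Lib.helper45.SpReg
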