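import Mathlib
import Cfsg.Agent.Lib.helper45.SpRegA

/-!
# The Siegel radical of `Sp_{2n}(F)`, without dependent proofs

`rs S` is the element `[[1,S],[0,1]]` for symmetric `S` (and `1` otherwise).  Transvections with
centre in the span of the `e_i` are of this form, and conjugation by an element `h` that acts on
this span by a matrix `A` transforms `rs S` into `rs (A * S * Aᵀ)`.
-/

set_option autoImplicit false

namespace Cfsg.Agent.Lib.helper45.SpReg

open Matrix Cfsg Cfsg.Agent.Lib.helper85 Cfsg.Agent.Lib.helper48.PSp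
  Cfsg.Agent.Lib.helper47.SpGen Cfsg.Agent.Lib.helper44

local notation "Tv" => Matrix.SpecialLinearGroup.transvection
local notation "lvS" => Cfsg.Agent.Lib.helper47.SpFus.lvS

variable {n : ℕ} {F : Type*} [Field F]

open Classical in
/-- the Siegel element `[[1,S],[0,1]]` -/
noncomputable def rs (S : Matrix (Fin n) (Fin n) F) : SpG n F :=
  if h : Sᵀ = S then Cfsg.Agent.Lib.helper47.SpFus.rS S h else 1

theorem rs_eq {S : Matrix (Fin n) (Fin n) F} (hS : Sᵀ = S) :
    rs S = Cfsg.Agent.Lib.helper47.SpFus.rS S hS := dif_pos hS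

theorem act_rs {S : Matrix (Fin n) (Fin n) F} (hS : Sᵀ = S) (v : VS n F) :
    act (rs S) v = v + vE (S *ᵥ (v ∘ Sum.inr)) := by
  rw [rs_eq hS]
  show (Cfsg.Agent.Lib.helper47.SpFus.rS S hS).1 *ᵥ v = _
  rw [Cfsg.Agent.Lib.helper47.SpFus.rS_coe]
  conv_lhs => rw [← Sum.elim_comp_inl_inr v]
  rw [fromBlocks_mulVec]
  funext x
  rcases x with k | k <;> simp [vE]

theorem vE_comp_inr (a : Fin n → F) : (vE a : VS n F) ∘ Sum.inr = 0 := by
  funext k; simp [vE]

theorem add_vE_comp_inr (v : VS n F) (a : Fin n → F) : (v + vE a) ∘ Sum.inr = v ∘ Sum.inr := by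
  funext k; simp [vE]

theorem rs_mul {S S' : Matrix (Fin n) (Fin n) F} (hS : Sᵀ = S) (hS' : S'ᵀ = S') :
    rs S * rs S' = rs (S + S') := by
  have h2 : (S + S')ᵀ = S + S' := by rw [transpose_add, hS, hS']
  apply sp_ext'
  intro v
  rw [act_mul, act_rs hS', act_rs hS, act_rs h2, add_vE_comp_inr, add_mulVec, vE_add]
  abel

theorem rs_zero : rs (0 : Matrix (Fin n) (Fin n) F) = 1 := by
  apply sp_ext'
  intro v
  rw [act_rs transpose_zero, act_one, zero_mulVec]
  funext x
  rcases x with k | k <;> simp [vE]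

theorem rs_inv {S : Matrix (Fin n) (Fin n) F} (hS : Sᵀ = S) : (rs S)⁻¹ = rs (-S) := by
  apply inv_eq_of_mul_eq_one_right
  rw [rs_mul hS (by rw [transpose_neg, hS]), add_neg_cancel, rs_zero]

theorem sf_vE_right (v : VS n F) (a : Fin n → F) : sf v (vE a) = (v ∘ Sum.inr) ⬝ᵥ a := by
  unfold sf
  have : J (Fin n) F *ᵥ vE a = vF a := act_om_vE a
  rw [this]
  unfold vF
  simp [dotProduct, Fintype.sum_sum_type]

theorem vecMulVec_mulVec' (a b w : Fin n → F) : vecMulVec a b *ᵥ w = (b ⬝ᵥ w) • a := by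
  funext i
  simp only [mulVec, dotProduct, vecMulVec_apply, Pi.smul_apply, smul_eq_mul, Finset.sum_mul]
  apply Finset.sum_congr rfl
  intro j _
  ring

theorem vmv_symm (a : Fin n → F) (c : F) : (c • vecMulVec a a)ᵀ = c • vecMulVec a a := by
  rw [transpose_smul, transpose_vecMulVec]

theorem vmv2_symm (a b : Fin n → F) (c : F) :
    (c • (vecMulVec a b + vecMulVec b a))ᵀ = c • (vecMulVec a b + vecMulVec b a) := by
  rw [transpose_smul, transpose_add, transpose_vecMulVec, transpose_vecMulVec, add_comm]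

/-- transvections with centre in the span of the `e_i` -/
theorem spT_vE (a : Fin n → F) (c : F) : spT (vE a) c = rs (c • vecMulVec a a) := by
  apply sp_ext'
  intro v
  rw [act_spT, act_rs (vmv_symm a c), sf_vE_right, smul_mulVec, vecMulVec_mulVec', ← vE_smul,
    smul_smul, dotProduct_comm]

/-- the Siegel element of a pair of vectors -/
theorem spT_vE_add (a b : Fin n → F) (c : F) :
    spT (vE (a + b)) c * spT (vE a) (-c) * spT (vE b) (-c) =
      rs (c • (vecMulVec a b + vecMulVec b a)) := by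
  rw [spT_vE, spT_vE, spT_vE, rs_mul (vmv_symm _ _) (vmv_symm _ _),
    rs_mul (by rw [transpose_add, vmv_symm, vmv_symm]) (vmv_symm _ _)]
  congr 1
  rw [add_vecMulVec, vecMulVec_add, vecMulVec_add]
  module

theorem act_rs_fb {S : Matrix (Fin n) (Fin n) F} (hS : Sᵀ = S) (j : Fin n) :
    act (rs S) (fb j) = fb j + vE (S *ᵥ Pi.single j 1) := by
  have e : (fb j : VS n F) ∘ Sum.inr = Pi.single j 1 := by
    funext k
    rw [Function.comp_apply, fb_inr, Pi.single_apply]
  rw [act_rs hS, e]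

/-- conjugation of the Siegel radical by an element acting on the span of the `e_i` by `A` -/
theorem conj_rs (h : SpG n F) (A : Matrix (Fin n) (Fin n) F)
    (hA : ∀ a : Fin n → F, act h (vE a) = vE (A *ᵥ a))
    {S : Matrix (Fin n) (Fin n) F} (hS : Sᵀ = S) :
    h * rs S * h⁻¹ = rs (A * S * Aᵀ) := by
  have hS2 : (A * S * Aᵀ)ᵀ = A * S * Aᵀ := by
    rw [transpose_mul, transpose_mul, transpose_transpose, hS, Matrix.mul_assoc]
  suffices hh : h * rs S = rs (A * S * Aᵀ) * h by rw [hh]; group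
  apply sp_ext'
  intro v
  rw [act_mul, act_mul, act_rs hS, act_rs hS2, act_add, hA]
  congr 2
  have key : Aᵀ *ᵥ ((act h v) ∘ Sum.inr) = v ∘ Sum.inr := by
    funext i
    have h1 := sf_act h v (vE (Pi.single i 1))
    rw [hA, sf_vE_right, sf_vE_right, dotProduct_mulVec, ← mulVec_transpose] at h1
    simpa using h1
  rw [← mulVec_mulVec, ← mulVec_mulVec, key]

theorem conj_u1_rs (l : Fin n) {S : Matrix (Fin n) (Fin n) F} (hS : Sᵀ = S) :
    u1 l * rs S * (u1 l)⁻¹ = rs (jm F n * S * (jm F n)ᵀ) :=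
  conj_rs (u1 l) (jm F n) (act_u1_vE l) hS

end Cfsg.Agent.Lib.helper45.SpReg
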