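import Mathlib
import Cfsg.Agent.Lib.helper45.SpRegB

/-!
# Elements of the Levi factor modulo the Siegel radical

For a subgroup `H` of `Sp_{2n}(F)` containing `u1`, `u2` and the transvections `spT (eb k) s`,
`spT (fb k) s`, we produce elements of `H` acting on the span of the `e_i` by elementary matrices
with parameter `-s²`, and, for `n ≥ 3`, deduce that all transvections with centre `e_0` lie in `H`.
-/

set_option autoImplicit false

namespace Cfsg.Agent.Lib.helper45.SpReg

open Matrix Cfsg Cfsg.Agent.Lib.helper85 Cfsg.Agent.Lib.helper48.PSp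
  Cfsg.Agent.Lib.helper47.SpGen Cfsg.Agent.Lib.helper44

local notation "Tv" => Matrix.SpecialLinearGroup.transvection
local notation "lvS" => Cfsg.Agent.Lib.helper47.SpFus.lvS

variable {n : ℕ} {F : Type*} [Field F]

/-! ### squares span a finite field -/

theorem all_of_sq_closed [Fintype F] (E : F → Prop) (c₀ : F)
    (hadd : ∀ a b, E a → E b → E (a + b)) (hneg : ∀ a, E a → E (-a))
    (hsq : ∀ μ : F, E (μ ^ 2 * c₀)) : ∀ x : F, E (x * c₀) := by
  intro x
  by_cases h2 : (2 : F) = 0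
  · have hchar : ringChar F = 2 := by
      have hp : (2 : ℕ).Prime := Nat.prime_two
      have : Fact (2 : ℕ).Prime := ⟨hp⟩
      exact CharP.ringChar_of_prime_eq_zero hp (by exact_mod_cast h2)
    obtain ⟨y, hy⟩ := FiniteField.isSquare_of_char_two hchar x
    rw [hy, ← pow_two]
    exact hsq y
  · have e : x * c₀ = ((x + 1) / 2) ^ 2 * c₀ + -(((x - 1) / 2) ^ 2 * c₀) := by
      field_simp
      ring
    rw [e]
    exact hadd _ _ (hsq _) (hneg _ (hsq _))

theorem sq_of_gen (s : F) (hs : ∀ a : F, a ≠ 0 → ∃ m : ℕ, 0 < m ∧ s ^ m = a)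
    (R : F → Prop) (h0 : R 0) (hmul : ∀ a b, R a → R b → R (a * b)) (hss : R (s * s)) :
    ∀ μ : F, R (μ ^ 2) := by
  intro μ
  by_cases hμ : μ = 0
  · rw [hμ]; simpa using h0
  · obtain ⟨m, hm, rfl⟩ := hs μ hμ
    have key : ∀ k : ℕ, R ((s * s) ^ (k + 1)) := by
      intro k
      induction k with
      | zero => rw [zero_add, pow_one]; exact hss
      | succ k ih => rw [pow_succ]; exact hmul _ _ ih hss
    obtain ⟨k, rfl⟩ : ∃ k, m = k + 1 := ⟨m - 1, by omega⟩
    have e : (s ^ (k + 1)) ^ 2 = (s * s) ^ (k + 1) := by ring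
    rw [e]; exact key k

/-! ### symmetric elementary matrices -/

/-- the symmetric matrix `c (E_ij + E_ji)` -/
def symM (i j : Fin n) (c : F) : Matrix (Fin n) (Fin n) F :=
  c • (vecMulVec (Pi.single i 1) (Pi.single j 1) + vecMulVec (Pi.single j 1) (Pi.single i 1))

theorem symM_symm (i j : Fin n) (c : F) : (symM i j c)ᵀ = symM i j c := vmv2_symm _ _ _

theorem symM_comm (i j : Fin n) (c : F) : symM i j c = symM j i c := by
  unfold symM; rw [add_comm]

theorem symM_mulVec {i j : Fin n} (hij : i ≠ j) (c : F) :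
    symM i j c *ᵥ Pi.single j 1 = c • (Pi.single i 1 : Fin n → F) := by
  unfold symM
  rw [smul_mulVec, add_mulVec, vecMulVec_mulVec', vecMulVec_mulVec', single_dotProduct,
    single_dotProduct, Pi.single_apply, Pi.single_apply, if_pos rfl, if_neg hij]
  simp

theorem congr_sym (A : Matrix (Fin n) (Fin n) F) (a b : Fin n → F) (c : F) :
    A * (c • (vecMulVec a b + vecMulVec b a)) * Aᵀ =
      c • (vecMulVec (A *ᵥ a) (A *ᵥ b) + vecMulVec (A *ᵥ b) (A *ᵥ a)) := by
  rw [Matrix.mul_smul, Matrix.smul_mul, Matrix.mul_add, Matrix.add_mul, mul_vecMulVec,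
    mul_vecMulVec, vecMulVec_mul, vecMulVec_mul, vecMul_transpose, vecMul_transpose]

/-! ### the basic situation -/

/-- the data: a subgroup containing `u1`, `u2` and the transvections with parameter `s` at the
standard basis vectors -/
structure Base (H : Subgroup (SpG n F)) (l : Fin n) (s : F) : Prop where
  hu1 : u1 l ∈ H
  hu2 : u2 l ∈ H
  he : ∀ k : Fin n, spT (eb k) s ∈ H
  hf : ∀ k : Fin n, spT (fb k) s ∈ H

variable {H : Subgroup (SpG n F)} {l : Fin n} {s : F}

theorem Base.sym_of_add (hB : Base H l s) (i j : Fin n)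
    (h : spT (eb i + eb j : VS n F) s ∈ H) : rs (symM i j s) ∈ H := by
  unfold symM
  rw [← spT_vE_add, vE_add, ← eb_eq, ← eb_eq, ← spT_inv, ← spT_inv]
  exact H.mul_mem (H.mul_mem h (H.inv_mem (hB.he i))) (H.inv_mem (hB.he j))

theorem Base.adj (hB : Base H l s) (k k' : Fin n) (h : k'.val + 1 = k.val) :
    rs (symM k k' s) ∈ H := by
  apply hB.sym_of_add
  rw [← act_u1_eb l k k' h, ← spT_conj]
  exact H.mul_mem (H.mul_mem hB.hu1 (hB.he k)) (H.inv_mem hB.hu1)

theorem Base.tri02 (hB : Base H l s) (i0 i1 i2 : Fin n) (h0 : i0.val = 0) (h1 : i1.val = 1)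
    (h2 : i2.val = 2) : rs (symM i2 i0 s) ∈ H := by
  have a21 := hB.adj i2 i1 (by omega)
  have a10 := hB.adj i1 i0 (by omega)
  have a11 : rs ((2 * s) • vecMulVec (Pi.single i1 (1 : F)) (Pi.single i1 1)) ∈ H := by
    rw [← spT_vE, ← eb_eq, two_mul, ← spT_add]
    exact H.mul_mem (hB.he i1) (hB.he i1)
  have c1 : u1 l * rs (symM i2 i1 s) * (u1 l)⁻¹ ∈ H :=
    H.mul_mem (H.mul_mem hB.hu1 a21) (H.inv_mem hB.hu1)
  rw [conj_u1_rs l (symM_symm _ _ _)] at c1
  have e : jm F n * symM i2 i1 s * (jm F n)ᵀ =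
      symM i2 i1 s + symM i2 i0 s + (2 * s) • vecMulVec (Pi.single i1 (1 : F)) (Pi.single i1 1)
        + symM i1 i0 s := by
    unfold symM
    rw [congr_sym, jm_mulVec_single i2 i1 (by omega), jm_mulVec_single i1 i0 (by omega)]
    simp only [add_vecMulVec, vecMulVec_add]
    module
  rw [e] at c1
  have s1 := symM_symm i2 i1 s
  have s2 := symM_symm i2 i0 s
  have s3 := vmv_symm (Pi.single i1 (1 : F)) (2 * s)
  have s4 := symM_symm i1 i0 s
  rw [← rs_mul (by rw [transpose_add, transpose_add, s1, s2, s3]) s4,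
    ← rs_mul (by rw [transpose_add, s1, s2]) s3, ← rs_mul s1 s2] at c1
  have : rs (symM i2 i0 s) = (rs (symM i2 i1 s))⁻¹ *
      (rs (symM i2 i1 s) * rs (symM i2 i0 s) *
        rs ((2 * s) • vecMulVec (Pi.single i1 (1 : F)) (Pi.single i1 1)) * rs (symM i1 i0 s)) *
      (rs (symM i1 i0 s))⁻¹ *
      (rs ((2 * s) • vecMulVec (Pi.single i1 (1 : F)) (Pi.single i1 1)))⁻¹ := by group
  rw [this]
  exact H.mul_mem (H.mul_mem (H.mul_mem (H.inv_mem a21) c1) (H.inv_mem a10)) (H.inv_mem a11)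

/-- all symmetric elementary matrices on the first three indices -/
theorem Base.tri (hB : Base H l s) (i j : Fin n) (hij : i ≠ j) (hi : i.val < 3) (hj : j.val < 3) :
    rs (symM i j s) ∈ H := by
  have hne : i.val ≠ j.val := fun e => hij (Fin.ext e)
  have hn := i.2
  have hn' := j.2
  by_cases c1 : j.val + 1 = i.val
  · exact hB.adj i j c1
  by_cases c2 : i.val + 1 = j.val
  · rw [symM_comm]; exact hB.adj j i c2
  by_cases c3 : i.val = 2
  · exact hB.tri02 j ⟨1, by omega⟩ i (by omega) rfl c3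
  · rw [symM_comm]
    exact hB.tri02 i ⟨1, by omega⟩ j (by omega) rfl (by omega)

/-! ### elements acting on the `e_i` by elementary matrices -/

theorem act_y {i j : Fin n} (hij : i ≠ j) (c₁ c₂ : F) (a : Fin n → F) :
    act (spT (fb j + c₁ • eb i) c₂ * spT (fb j) (-c₂)) (vE a) =
      vE ((Tv hij (-(c₁ * c₂))).1 *ᵥ a) := by
  rw [act_mul, act_spT, act_spT, Matrix.SpecialLinearGroup.transvection_coe, add_mulVec,
    one_mulVec, Cfsg.Agent.Lib.helper47.SpFus.single_mulVec', vE_add, vE_smul, ← eb_eq]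
  simp only [sf_add_left, sf_add_right, sf_smul_left, sf_smul_right, sf_fb, sf_eb]
  have e1 : (vE a : VS n F) (Sum.inl j) = a j := rfl
  have e2 : (vE a : VS n F) (Sum.inr i) = 0 := rfl
  have e3 : (fb j : VS n F) (Sum.inl j) = 0 := fb_inl j j
  have e4 : (fb j : VS n F) (Sum.inr i) = 0 := by rw [fb_inr, if_neg hij]
  rw [e1, e2, e3, e4]
  module

/-- the subgroup of `SL_n` of matrices realised on the span of the `e_i` by elements of `H` -/
def Gam (H : Subgroup (SpG n F)) : Subgroup (SpecialLinearGroup (Fin n) F) where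
  carrier := {A | ∃ h ∈ H, ∀ a : Fin n → F, act h (vE a) = vE (A.1 *ᵥ a)}
  one_mem' := ⟨1, H.one_mem, fun a => by
    rw [act_one, Matrix.SpecialLinearGroup.coe_one, one_mulVec]⟩
  mul_mem' := by
    rintro A B ⟨h, hh, ha⟩ ⟨k, hk, hb⟩
    exact ⟨h * k, H.mul_mem hh hk, fun a => by
      rw [act_mul, hb, ha, Matrix.SpecialLinearGroup.coe_mul, mulVec_mulVec]⟩
  inv_mem' := by
    rintro A ⟨h, hh, ha⟩
    refine ⟨h⁻¹, H.inv_mem hh, fun a => ?_⟩
    have := ha ((A⁻¹).1 *ᵥ a)
    rw [mulVec_mulVec, ← Matrix.SpecialLinearGroup.coe_mul, mul_inv_cancel,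
      Matrix.SpecialLinearGroup.coe_one, one_mulVec] at this
    rw [← this, act_inv_act]

theorem mem_Gam {A : SpecialLinearGroup (Fin n) F} :
    A ∈ Gam H ↔ ∃ h ∈ H, ∀ a : Fin n → F, act h (vE a) = vE (A.1 *ᵥ a) := Iff.rfl

theorem Base.Tv_mem (hB : Base H l s) {i j : Fin n} (hij : i ≠ j)
    (h : rs (symM i j s) ∈ H) : Tv hij (-(s * s)) ∈ Gam H := by
  refine ⟨spT (fb j + s • eb i) s * spT (fb j) (-s), ?_, act_y hij s s⟩
  refine H.mul_mem ?_ ?_
  · have e : act (rs (symM i j s)) (fb j) = (fb j + s • eb i : VS n F) := by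
      rw [act_rs_fb (symM_symm i j s), symM_mulVec hij, vE_smul, ← eb_eq]
    rw [← e, ← spT_conj]
    exact H.mul_mem (H.mul_mem h (hB.hf j)) (H.inv_mem h)
  · rw [← spT_inv]; exact H.inv_mem (hB.hf j)


/-! ### the ring of parameters (`n ≥ 3`) -/

/-- elementary matrices on the first three indices realised in `H` -/
def TA (H : Subgroup (SpG n F)) (c : F) : Prop :=
  ∀ (i j : Fin n) (hij : i ≠ j), i.val < 3 → j.val < 3 → Tv hij c ∈ Gam H

theorem TA_zero : TA H 0 := fun i j hij _ _ => by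
  rw [Matrix.SpecialLinearGroup.transvection_coeff_zero]; exact (Gam H).one_mem

theorem TA_add {a b : F} (ha : TA H a) (hb : TA H b) : TA H (a + b) := fun i j hij hi hj => by
  rw [Matrix.SpecialLinearGroup.transvection_add]
  exact (Gam H).mul_mem (ha i j hij hi hj) (hb i j hij hi hj)

theorem TA_neg {a : F} (ha : TA H a) : TA H (-a) := fun i j hij hi hj => by
  rw [← Matrix.SpecialLinearGroup.transvection_inv]
  exact (Gam H).inv_mem (ha i j hij hi hj)

theorem TA_mul (hn : 3 ≤ n) {a b : F} (ha : TA H a) (hb : TA H b) : TA H (a * b) := by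
  intro i j hij hi hj
  have hne : i.val ≠ j.val := fun e => hij (Fin.ext e)
  obtain ⟨k, hk⟩ : ∃ k : Fin n, k.val = 3 - i.val - j.val := ⟨⟨3 - i.val - j.val, by omega⟩, rfl⟩
  have hik : i ≠ k := by
    intro e
    have := congrArg Fin.val e
    omega
  have hkj : k ≠ j := by
    intro e
    have := congrArg Fin.val e
    omega
  rw [← transvection_comm hik hkj hij a b]
  exact (Gam H).mul_mem ((Gam H).mul_mem ((Gam H).mul_mem (ha i k hik hi (by omega))
    (hb k j hkj (by omega) hj)) ((Gam H).inv_mem (ha i k hik hi (by omega))))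
    ((Gam H).inv_mem (hb k j hkj (by omega) hj))

theorem Base.TA_all [Fintype F] (hB : Base H l s) (hn : 3 ≤ n)
    (hs : ∀ a : F, a ≠ 0 → ∃ m : ℕ, 0 < m ∧ s ^ m = a) : ∀ x : F, TA H x := by
  have h1 : TA H (-(s * s)) := fun i j hij hi hj => hB.Tv_mem hij (hB.tri i j hij hi hj)
  have h2 : TA H (s * s) := by
    have := TA_neg h1
    rwa [neg_neg] at this
  have h3 := sq_of_gen s hs (TA H) TA_zero (fun a b ha hb => TA_mul hn ha hb) h2
  intro x
  have := all_of_sq_closed (TA H) 1 (fun a b ha hb => TA_add ha hb) (fun a ha => TA_neg ha)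
    (fun μ => by rw [mul_one]; exact h3 μ) x
  rwa [mul_one] at this

theorem Tv_mulVec {i j : Fin n} (hij : i ≠ j) (c : F) (v : Fin n → F) :
    (Tv hij c).1 *ᵥ v = v + (c * v j) • Pi.single i 1 := by
  rw [Matrix.SpecialLinearGroup.transvection_coe, add_mulVec, one_mulVec,
    Cfsg.Agent.Lib.helper47.SpFus.single_mulVec']

/-- scaling elements -/
theorem exists_scale (hTA : ∀ x : F, TA H x) (hn : 3 ≤ n) (z : Fin n)
    (hz : z.val = 0) (lam : F) (hlam : lam ≠ 0) :
    ∃ h ∈ H, act h (eb z : VS n F) = lam • eb z := by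
  obtain ⟨o, ho⟩ : ∃ o : Fin n, o.val = 1 := ⟨⟨1, by omega⟩, rfl⟩
  have hzo : z ≠ o := by
    intro e; rw [e] at hz; omega
  have hoz : o ≠ z := Ne.symm hzo
  have hD : Tv hoz (lam⁻¹ - 1) * Tv hzo 1 * Tv hoz (lam - 1) ∈ Gam H :=
    (Gam H).mul_mem ((Gam H).mul_mem (hTA _ o z hoz (by omega) (by omega))
      (hTA _ z o hzo (by omega) (by omega))) (hTA _ o z hoz (by omega) (by omega))
  obtain ⟨h, hh, hact⟩ := hD
  refine ⟨h, hh, ?_⟩
  rw [eb_eq, hact, ← vE_smul]
  congr 1
  rw [Matrix.SpecialLinearGroup.coe_mul, Matrix.SpecialLinearGroup.coe_mul, ← mulVec_mulVec,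
    ← mulVec_mulVec, Tv_mulVec, Tv_mulVec, Tv_mulVec]
  funext k
  simp only [Pi.add_apply, Pi.smul_apply, smul_eq_mul, Pi.single_apply]
  by_cases hkz : k = z
  · subst hkz
    simp [hzo, hoz]
  · by_cases hko : k = o
    · subst hko
      simp [hzo, hoz]
      field_simp
      ring
    · simp [hkz, hko]

theorem good_of_scale [Fintype F] (v : VS n F) (s : F) (hs0 : s ≠ 0) (h1 : spT v s ∈ H)
    (hsc : ∀ lam : F, lam ≠ 0 → ∃ h ∈ H, act h v = lam • v) : Good H v := by
  have key := all_of_sq_closed (fun a => spT v a ∈ H) s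
    (fun a b ha hb => by
      show spT v (a + b) ∈ H
      rw [← spT_add]; exact H.mul_mem ha hb)
    (fun a ha => by
      show spT v (-a) ∈ H
      rw [← spT_inv]; exact H.inv_mem ha)
    (fun μ => by
      show spT v (μ ^ 2 * s) ∈ H
      by_cases hμ : μ = 0
      · rw [hμ, zero_pow (by norm_num), zero_mul, spT_zero]; exact H.one_mem
      · obtain ⟨h, hh, e⟩ := hsc μ hμ
        rw [← spT_smul, ← e, ← spT_conj]
        exact H.mul_mem (H.mul_mem hh h1) (H.inv_mem hh))
  intro c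
  have := key (c / s)
  rwa [div_mul_cancel₀ c hs0] at this

theorem gen_ne_zero {s : F} (hs : ∀ a : F, a ≠ 0 → ∃ m : ℕ, 0 < m ∧ s ^ m = a) : s ≠ 0 := by
  intro h
  obtain ⟨m, hm, e⟩ := hs 1 one_ne_zero
  rw [h, zero_pow (by omega)] at e
  exact zero_ne_one e

/-- for `n ≥ 3` all transvections with centre `e_0` lie in `H` -/
theorem Base.good_three [Fintype F] (hB : Base H l s) (hn : 3 ≤ n)
    (hs : ∀ a : F, a ≠ 0 → ∃ m : ℕ, 0 < m ∧ s ^ m = a) (z : Fin n) (hz : z.val = 0) :
    Good H (eb z) :=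
  good_of_scale (eb z) s (gen_ne_zero hs) (hB.he z)
    (fun lam hlam => exists_scale (hB.TA_all hn hs) hn z hz lam hlam)

end Cfsg.Agent.Lib.helper45.SpReg
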