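import Mathlib
import Cfsg.Agent.Lib.helper45.SpRegC

/-!
# The case `n = 2`: the Siegel radical of `Sp_4(F)`

A purely algebraic lemma on additive subgroups of the space of symmetric `2 × 2` matrices that are
invariant under three congruences, and its application to the subgroup `H`.
-/

set_option autoImplicit false

namespace Cfsg.Agent.Lib.helper45.SpReg

open Matrix Cfsg Cfsg.Agent.Lib.helper85 Cfsg.Agent.Lib.helper48.PSp
  Cfsg.Agent.Lib.helper47.SpGen Cfsg.Agent.Lib.helper44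

local notation "Tv" => Matrix.SpecialLinearGroup.transvection
local notation "lvS" => Cfsg.Agent.Lib.helper47.SpFus.lvS

variable {F : Type*} [Field F]

/-- the algebraic core of the case `n = 2` -/
theorem mod2 [Fintype F] (Sm : F → F → F → Prop) (σ s : F)
    (hadd : ∀ x y z x' y' z', Sm x y z → Sm x' y' z' → Sm (x + x') (y + y') (z + z'))
    (hneg : ∀ x y z, Sm x y z → Sm (-x) (-y) (-z))
    (h0 : Sm 0 0 0)
    (hJ : ∀ x y z, Sm x y z → Sm (x + 2 * z + y) y (z + y))
    (hg : ∀ x y z, Sm x y z → Sm x (y + 2 * σ * z + σ ^ 2 * x) (z + σ * x))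
    (hg' : ∀ x y z, Sm x y z → Sm (x + 2 * σ * z + σ ^ 2 * y) y (z + σ * y))
    (h1 : Sm s 0 0) (h2 : Sm 0 s 0)
    (hσ : σ = -(s * s)) (hs : ∀ a : F, a ≠ 0 → ∃ m : ℕ, 0 < m ∧ s ^ m = a) (hs1 : s ≠ 1) :
    ∀ b : F, Sm b 0 0 := by
  have hs0 : s ≠ 0 := gen_ne_zero hs
  have hsub : ∀ x y z x' y' z', Sm x y z → Sm x' y' z' → Sm (x - x') (y - y') (z - z') := by
    intro x y z x' y' z' h h'
    have := hadd _ _ _ _ _ _ h (hneg _ _ _ h')
    simpa [sub_eq_add_neg] using this
  by_cases c2 : (2 : F) = 0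
  · -- characteristic two
    have hE : ∀ b : F, (∃ z, Sm b 0 z) ∧ (∃ z', Sm 0 b z') →
        (∃ z, Sm (σ ^ 2 * b) 0 z) ∧ (∃ z', Sm 0 (σ ^ 2 * b) z') := by
      rintro b ⟨⟨z, hz⟩, ⟨z', hz'⟩⟩
      constructor
      · refine ⟨σ * b, ?_⟩
        have := hsub _ _ _ _ _ _ (hg' _ _ _ hz') hz'
        have e1 : (0 : F) + 2 * σ * z' + σ ^ 2 * b - 0 = σ ^ 2 * b := by rw [c2]; ring
        have e2 : b - b = (0 : F) := sub_self b
        have e3 : z' + σ * b - z' = σ * b := by ring
        rwa [e1, e2, e3] at this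
      · refine ⟨σ * b, ?_⟩
        have := hsub _ _ _ _ _ _ (hg _ _ _ hz) hz
        have e1 : (0 : F) + 2 * σ * z + σ ^ 2 * b - 0 = σ ^ 2 * b := by rw [c2]; ring
        have e2 : b - b = (0 : F) := sub_self b
        have e3 : z + σ * b - z = σ * b := by ring
        rwa [e1, e2, e3] at this
    have hEpow : ∀ m : ℕ, (∃ z, Sm ((σ ^ 2) ^ m * s) 0 z) ∧ (∃ z', Sm 0 ((σ ^ 2) ^ m * s) z') := by
      intro m
      induction m with
      | zero => rw [pow_zero, one_mul]; exact ⟨⟨0, h1⟩, ⟨0, h2⟩⟩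
      | succ m ih =>
        have := hE _ ih
        rwa [← mul_assoc, ← pow_succ'] at this
    have hchar : ringChar F = 2 := by
      have hp : (2 : ℕ).Prime := Nat.prime_two
      have : Fact (2 : ℕ).Prime := ⟨hp⟩
      exact CharP.ringChar_of_prime_eq_zero hp (by exact_mod_cast c2)
    have hneg' : ∀ x : F, -x = x := by
      intro x
      have : x + x = 0 := by rw [← two_mul, c2, zero_mul]
      exact neg_eq_of_add_eq_zero_left this
    have hall : ∀ b : F, ∃ z', Sm 0 b z' := by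
      intro b
      by_cases hb : b = 0
      · rw [hb]; exact ⟨0, h0⟩
      · obtain ⟨y, hy⟩ := FiniteField.isSquare_of_char_two hchar (b / s)
        obtain ⟨w, hw⟩ := FiniteField.isSquare_of_char_two hchar y
        have hw0 : w ≠ 0 := by
          intro e
          rw [e, mul_zero] at hw
          rw [hw, mul_zero] at hy
          exact (div_ne_zero hb hs0) hy
        obtain ⟨m, _, hm⟩ := hs w hw0
        have e : b = (σ ^ 2) ^ m * s := by
          have : b = b / s * s := (div_mul_cancel₀ b hs0).symm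
          rw [this, hy, hw, ← hm, hσ]
          ring
        rw [e]; exact (hEpow m).2
    have hst1 : ∀ b : F, Sm b 0 b := by
      intro b
      obtain ⟨z', hz'⟩ := hall b
      have := hsub _ _ _ _ _ _ (hJ _ _ _ hz') hz'
      have e1 : (0 : F) + 2 * z' + b - 0 = b := by rw [c2]; ring
      have e2 : b - b = (0 : F) := sub_self b
      have e3 : z' + b - z' = b := by ring
      rwa [e1, e2, e3] at this
    have hst2 : ∀ b : F, Sm (σ ^ 2 * b) 0 (σ * b) := by
      intro b
      obtain ⟨z', hz'⟩ := hall b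
      have := hsub _ _ _ _ _ _ (hg' _ _ _ hz') hz'
      have e1 : (0 : F) + 2 * σ * z' + σ ^ 2 * b - 0 = σ ^ 2 * b := by rw [c2]; ring
      have e2 : b - b = (0 : F) := sub_self b
      have e3 : z' + σ * b - z' = σ * b := by ring
      rwa [e1, e2, e3] at this
    have hσ0 : σ ≠ 0 := by
      rw [hσ]; exact neg_ne_zero.mpr (mul_ne_zero hs0 hs0)
    have hσ1 : σ ≠ 1 := by
      intro e
      rw [hσ, hneg'] at e
      have : (s - 1) * (s - 1) = 0 := by
        have : (s - 1) * (s - 1) = s * s - 2 * s + 1 := by ring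
        rw [this, c2, e, zero_mul, sub_zero, ← two_mul, c2, zero_mul]
      rcases mul_self_eq_zero.mp this with h
      exact hs1 (sub_eq_zero.mp h)
    have hz : ∀ z : F, Sm 0 0 z := by
      intro z
      have hd : σ - σ ^ 2 ≠ 0 := by
        have : σ - σ ^ 2 = σ * (1 - σ) := by ring
        rw [this]
        exact mul_ne_zero hσ0 (sub_ne_zero.mpr (Ne.symm hσ1))
      have := hsub _ _ _ _ _ _ (hst2 (z / (σ - σ ^ 2))) (hst1 (σ ^ 2 * (z / (σ - σ ^ 2))))
      have e1 : σ ^ 2 * (z / (σ - σ ^ 2)) - σ ^ 2 * (z / (σ - σ ^ 2)) = 0 := sub_self _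
      have e2 : (0 : F) - 0 = 0 := sub_self _
      have e3 : σ * (z / (σ - σ ^ 2)) - σ ^ 2 * (z / (σ - σ ^ 2)) = z := by
        field_simp
      rwa [e1, e2, e3] at this
    intro b
    have := hsub _ _ _ _ _ _ (hst1 b) (hz b)
    rwa [sub_zero, sub_zero, sub_self] at this
  · -- odd characteristic
    have hEadd : ∀ a b : F, (Sm a 0 0 ∧ Sm 0 a 0) → (Sm b 0 0 ∧ Sm 0 b 0) →
        (Sm (a + b) 0 0 ∧ Sm 0 (a + b) 0) := by
      rintro a b ⟨ha1, ha2⟩ ⟨hb1, hb2⟩
      constructor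
      · have := hadd _ _ _ _ _ _ ha1 hb1
        rwa [add_zero] at this
      · have := hadd _ _ _ _ _ _ ha2 hb2
        rwa [add_zero] at this
    have hEneg : ∀ a : F, (Sm a 0 0 ∧ Sm 0 a 0) → (Sm (-a) 0 0 ∧ Sm 0 (-a) 0) := by
      rintro a ⟨ha1, ha2⟩
      constructor
      · have := hneg _ _ _ ha1
        rwa [neg_zero] at this
      · have := hneg _ _ _ ha2
        rwa [neg_zero] at this
    have hE0 : Sm 0 0 0 ∧ Sm 0 0 0 := ⟨h0, h0⟩
    have hEz : ∀ b : F, (Sm b 0 0 ∧ Sm 0 b 0) → Sm 0 0 b := by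
      rintro b ⟨hb1, hb2⟩
      have := hsub _ _ _ _ _ _ (hsub _ _ _ _ _ _ (hJ _ _ _ hb2) hb1) hb2
      have e1 : (0 : F) + 2 * 0 + b - b - 0 = 0 := by ring
      have e2 : b - 0 - b = (0 : F) := by ring
      have e3 : (0 : F) + b - 0 - 0 = b := by ring
      rwa [e1, e2, e3] at this
    have hEσ : ∀ b : F, (Sm b 0 0 ∧ Sm 0 b 0) →
        (Sm (2 * σ * b) 0 0 ∧ Sm 0 (2 * σ * b) 0) := by
      intro b hb
      have hzb := hEz b hb
      constructor
      · have := hsub _ _ _ _ _ _ (hg' _ _ _ hzb) hzb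
        have e1 : (0 : F) + 2 * σ * b + σ ^ 2 * 0 - 0 = 2 * σ * b := by ring
        have e2 : (0 : F) - 0 = 0 := sub_self _
        have e3 : b + σ * 0 - b = 0 := by ring
        rwa [e1, e2, e3] at this
      · have := hsub _ _ _ _ _ _ (hg _ _ _ hzb) hzb
        have e1 : (0 : F) + 2 * σ * b + σ ^ 2 * 0 - 0 = 2 * σ * b := by ring
        have e2 : (0 : F) - 0 = 0 := sub_self _
        have e3 : b + σ * 0 - b = 0 := by ring
        rwa [e1, e2, e3] at this
    -- the ring of multipliers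
    let R : F → Prop := fun r => ∀ b : F, (Sm b 0 0 ∧ Sm 0 b 0) → (Sm (r * b) 0 0 ∧ Sm 0 (r * b) 0)
    have hR0 : R 0 := fun b _ => by rw [zero_mul]; exact hE0
    have hR1 : R 1 := fun b hb => by rw [one_mul]; exact hb
    have hRmul : ∀ a b, R a → R b → R (a * b) := fun a b ha hb c hc => by
      rw [mul_assoc]; exact ha _ (hb _ hc)
    have hRadd : ∀ a b, R a → R b → R (a + b) := fun a b ha hb c hc => by
      rw [add_mul]; exact hEadd _ _ (ha _ hc) (hb _ hc)
    have hRneg : ∀ a, R a → R (-a) := fun a ha c hc => by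
      rw [neg_mul]; exact hEneg _ (ha _ hc)
    have hRσ : R (2 * σ) := fun b hb => hEσ b hb
    have hRpow : ∀ (a : F) (k : ℕ), R a → R (a ^ k) := by
      intro a k ha
      induction k with
      | zero => rw [pow_zero]; exact hR1
      | succ k ih => rw [pow_succ]; exact hRmul _ _ ih ha
    have hR2 : R 2 := by
      have := hRadd _ _ hR1 hR1
      rwa [one_add_one_eq_two] at this
    have hcard : 2 ≤ Fintype.card F := Fintype.one_lt_card
    have hRhalf : R ((2 : F) ^ (Fintype.card F - 2)) := hRpow 2 _ hR2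
    have hhalf : (2 : F) * 2 ^ (Fintype.card F - 2) = 1 := by
      rw [← pow_succ']
      have : Fintype.card F - 2 + 1 = Fintype.card F - 1 := by omega
      rw [this]
      exact FiniteField.pow_card_sub_one_eq_one 2 c2
    have hRss : R (s * s) := by
      have := hRmul _ _ (hRneg _ hRσ) hRhalf
      have e : -(2 * σ) * 2 ^ (Fintype.card F - 2) = s * s := by
        rw [hσ]
        have : -(2 * -(s * s)) * (2 : F) ^ (Fintype.card F - 2) =
            (s * s) * (2 * 2 ^ (Fintype.card F - 2)) := by ring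
        rw [this, hhalf, mul_one]
      rwa [e] at this
    have hsq := sq_of_gen s hs R hR0 hRmul hRss
    have key := all_of_sq_closed (fun a => Sm a 0 0 ∧ Sm 0 a 0) s hEadd hEneg
      (fun μ => hsq μ s ⟨h1, h2⟩)
    intro b
    have := (key (b / s)).1
    rwa [div_mul_cancel₀ b hs0] at this


/-! ### symmetric `2 × 2` matrices -/

/-- the symmetric `2 × 2` matrix with diagonal `x, y` and off-diagonal `z` -/
def m2 (x y z : F) : Matrix (Fin 2) (Fin 2) F := !![x, z; z, y]

theorem m2_symm (x y z : F) : (m2 x y z)ᵀ = m2 x y z := by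
  ext i j; fin_cases i <;> fin_cases j <;> rfl

theorem m2_add (x y z x' y' z' : F) :
    m2 x y z + m2 x' y' z' = m2 (x + x') (y + y') (z + z') := by
  ext i j; fin_cases i <;> fin_cases j <;> simp [m2]

theorem m2_neg (x y z : F) : -m2 x y z = m2 (-x) (-y) (-z) := by
  ext i j; fin_cases i <;> fin_cases j <;> simp [m2]

theorem m2_zero : m2 (0 : F) 0 0 = 0 := by
  ext i j; fin_cases i <;> fin_cases j <;> simp [m2]

theorem jm_two : jm F 2 = !![1, 1; 0, 1] := by
  ext i j; fin_cases i <;> fin_cases j <;> simp [jm, shiftMat_apply]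

theorem jm_congr (x y z : F) :
    jm F 2 * m2 x y z * (jm F 2)ᵀ = m2 (x + 2 * z + y) y (z + y) := by
  rw [jm_two]
  ext i j
  fin_cases i <;> fin_cases j <;> simp [m2, Matrix.mul_apply, Fin.sum_univ_two] <;> ring

theorem Tv01_coe (h : (0 : Fin 2) ≠ 1) (σ : F) : (Tv h σ).1 = !![1, σ; 0, 1] := by
  rw [Matrix.SpecialLinearGroup.transvection_coe]
  ext i j
  fin_cases i <;> fin_cases j <;> simp [Matrix.single_apply]

theorem Tv10_coe (h : (1 : Fin 2) ≠ 0) (σ : F) : (Tv h σ).1 = !![1, 0; σ, 1] := by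
  rw [Matrix.SpecialLinearGroup.transvection_coe]
  ext i j
  fin_cases i <;> fin_cases j <;> simp [Matrix.single_apply]

theorem Tv01_congr (h : (0 : Fin 2) ≠ 1) (σ x y z : F) :
    (Tv h σ).1 * m2 x y z * ((Tv h σ).1)ᵀ = m2 (x + 2 * σ * z + σ ^ 2 * y) y (z + σ * y) := by
  rw [Tv01_coe]
  ext i j
  fin_cases i <;> fin_cases j <;> simp [m2, Matrix.mul_apply, Fin.sum_univ_two] <;> ring

theorem Tv10_congr (h : (1 : Fin 2) ≠ 0) (σ x y z : F) :
    (Tv h σ).1 * m2 x y z * ((Tv h σ).1)ᵀ = m2 x (y + 2 * σ * z + σ ^ 2 * x) (z + σ * x) := by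
  rw [Tv10_coe]
  ext i j
  fin_cases i <;> fin_cases j <;> simp [m2, Matrix.mul_apply, Fin.sum_univ_two] <;> ring

theorem vmv_zero_two (b : F) :
    b • vecMulVec (Pi.single (0 : Fin 2) (1 : F)) (Pi.single (0 : Fin 2) 1) = m2 b 0 0 := by
  ext i j
  fin_cases i <;> fin_cases j <;> simp [m2, vecMulVec_apply]

theorem vmv_one_two (b : F) :
    b • vecMulVec (Pi.single (1 : Fin 2) (1 : F)) (Pi.single (1 : Fin 2) 1) = m2 0 b 0 := by
  ext i j
  fin_cases i <;> fin_cases j <;> simp [m2, vecMulVec_apply]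

/-- for `n = 2` all transvections with centre `e_0` lie in `H` -/
theorem Base.good_two [Fintype F] {H : Subgroup (SpG 2 F)} {s : F}
    (hB : Base H (1 : Fin 2) s)
    (hs : ∀ a : F, a ≠ 0 → ∃ m : ℕ, 0 < m ∧ s ^ m = a) (hs1 : s ≠ 1) :
    Good H (eb (0 : Fin 2)) := by
  have h01 : (0 : Fin 2) ≠ 1 := by decide
  have h10 : (1 : Fin 2) ≠ 0 := by decide
  have hadj : rs (symM (1 : Fin 2) 0 s) ∈ H := hB.adj 1 0 rfl
  have hadj' : rs (symM (0 : Fin 2) 1 s) ∈ H := by rw [symM_comm]; exact hadj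
  obtain ⟨g, hg, hgact⟩ := hB.Tv_mem h10 hadj
  obtain ⟨g', hg', hgact'⟩ := hB.Tv_mem h01 hadj'
  have key := mod2 (fun x y z => rs (m2 x y z) ∈ H) (-(s * s)) s
    (fun x y z x' y' z' h h' => by
      show rs (m2 (x + x') (y + y') (z + z')) ∈ H
      rw [← m2_add, ← rs_mul (m2_symm _ _ _) (m2_symm _ _ _)]
      exact H.mul_mem h h')
    (fun x y z h => by
      show rs (m2 (-x) (-y) (-z)) ∈ H
      rw [← m2_neg, ← rs_inv (m2_symm _ _ _)]
      exact H.inv_mem h)
    (by
      show rs (m2 (0 : F) 0 0) ∈ H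
      rw [m2_zero, rs_zero]; exact H.one_mem)
    (fun x y z h => by
      show rs (m2 (x + 2 * z + y) y (z + y)) ∈ H
      rw [← jm_congr, ← conj_u1_rs (1 : Fin 2) (m2_symm x y z)]
      exact H.mul_mem (H.mul_mem hB.hu1 h) (H.inv_mem hB.hu1))
    (fun x y z h => by
      show rs (m2 x (y + 2 * (-(s * s)) * z + (-(s * s)) ^ 2 * x) (z + (-(s * s)) * x)) ∈ H
      rw [← Tv10_congr h10, ← conj_rs g _ hgact (m2_symm x y z)]
      exact H.mul_mem (H.mul_mem hg h) (H.inv_mem hg))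
    (fun x y z h => by
      show rs (m2 (x + 2 * (-(s * s)) * z + (-(s * s)) ^ 2 * y) y (z + (-(s * s)) * y)) ∈ H
      rw [← Tv01_congr h01, ← conj_rs g' _ hgact' (m2_symm x y z)]
      exact H.mul_mem (H.mul_mem hg' h) (H.inv_mem hg'))
    (by
      show rs (m2 s 0 0) ∈ H
      rw [← vmv_zero_two, ← spT_vE, ← eb_eq]; exact hB.he 0)
    (by
      show rs (m2 0 s 0) ∈ H
      rw [← vmv_one_two, ← spT_vE, ← eb_eq]; exact hB.he 1)
    rfl hs hs1
  intro b
  rw [eb_eq, spT_vE, vmv_zero_two]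
  exact key b

end Cfsg.Agent.Lib.helper45.SpReg
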