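import Mathlib
import Cfsg.Agent.Lib.helper45.SpRegD

/-!
# Generation of `Sp_{2n}(F)` by `u1`, `u2` and one transvection

A subgroup of `Sp_{2n}(F)` (`n ≥ 2`, `F` finite) containing the regular unipotent element `u1`,
its opposite `u2` and a transvection `spT (eb 0) s` or `spT (eb l) s` whose parameter generates
`Fˣ` is the whole group (for `n = 2` we need `s ≠ 1`, i.e. `|F| > 2`).
-/

set_option autoImplicit false

namespace Cfsg.Agent.Lib.helper45.SpReg

open Matrix Cfsg Cfsg.Agent.Lib.helper85 Cfsg.Agent.Lib.helper48.PSp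
  Cfsg.Agent.Lib.helper47.SpGen Cfsg.Agent.Lib.helper44

local notation "Tv" => Matrix.SpecialLinearGroup.transvection
local notation "lvS" => Cfsg.Agent.Lib.helper47.SpFus.lvS

variable {n : ℕ} {F : Type*} [Field F]

variable {H : Subgroup (SpG n F)} {l : Fin n} {s : F}

theorem spT_act_iff {g : SpG n F} (hg : g ∈ H) (x : VS n F) (c : F) :
    spT (act g x) c ∈ H ↔ spT x c ∈ H := by
  have := mem_of_act hg (ε := (1 : F)) (v := x) (v' := act g x) (by ring) (by rw [one_smul]) c
  exact this.symm

theorem spT_neg_vec (x : VS n F) (c : F) : spT (-x) c = spT x c := by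
  have := spT_smul (-1 : F) x c
  rw [neg_one_smul] at this
  rw [this]
  congr 1
  ring

theorem good_act_iff {g : SpG n F} (hg : g ∈ H) (x : VS n F) :
    Good H (act g x) ↔ Good H x := by
  constructor
  · intro h
    have := h.act (H.inv_mem hg)
    rwa [act_inv_act] at this
  · intro h
    exact h.act hg

theorem good_neg_iff (x : VS n F) : Good H (-x) ↔ Good H x := by
  constructor
  · intro h c
    have := h c
    rwa [spT_neg_vec] at this
  · intro h c
    rw [spT_neg_vec]; exact h c

/-- the Levi root elements from a symmetric elementary matrix -/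
theorem lev_of_sym [NeZero n] {i j : Fin n} (hij : i ≠ j) (hs0 : s ≠ 0)
    (hsym : rs (symM i j s) ∈ H) (hE : Good H (eb i)) (hF : Good H (fb j)) (c : F) :
    lvS (Tv hij c) ∈ H := by
  have e : act (rs (symM i j s)) (fb j) = (fb j + s • eb i : VS n F) := by
    rw [act_rs_fb (symM_symm i j s), symM_mulVec hij, vE_smul, ← eb_eq]
  have g1 : Good H (fb j + s • eb i) := by
    rw [← e]; exact hF.act hsym
  have g2 : Good H (eb i + s⁻¹ • fb j) := by
    have := g1.smul s⁻¹
    have e2 : s⁻¹ • (fb j + s • eb i : VS n F) = eb i + s⁻¹ • fb j := by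
      rw [smul_add, smul_smul, inv_mul_cancel₀ hs0, one_smul, add_comm]
    rwa [e2] at this
  rw [lvS_Tv_eq hij s⁻¹ (inv_ne_zero hs0) c]
  exact H.mul_mem (H.mul_mem (g2 _) (hE _)) (hF _)

/-- from adjacent Levi root elements to all of them -/
theorem lev_all
    (hadj : ∀ (k k' : Fin n) (hkk : k ≠ k'), k'.val + 1 = k.val →
      (∀ c : F, lvS (Tv hkk c) ∈ H) ∧ (∀ c : F, lvS (Tv hkk.symm c) ∈ H)) :
    ∀ (i j : Fin n) (hij : i ≠ j) (c : F), lvS (Tv hij c) ∈ H := by
  have key : ∀ d : ℕ, ∀ (i j : Fin n) (hij : i ≠ j), i.val + d + 1 = j.val →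
      (∀ c : F, lvS (Tv hij c) ∈ H) ∧ (∀ c : F, lvS (Tv hij.symm c) ∈ H) := by
    intro d
    induction d with
    | zero =>
      intro i j hij h
      have := hadj j i hij.symm (by omega)
      exact ⟨this.2, this.1⟩
    | succ d ih =>
      intro i j hij h
      have hjn := j.2
      obtain ⟨m, hm⟩ : ∃ m : Fin n, m.val = i.val + d + 1 := ⟨⟨i.val + d + 1, by omega⟩, rfl⟩
      have him : i ≠ m := by
        intro e
        have := congrArg Fin.val e
        omega
      have hmj : m ≠ j := by
        intro e
        have := congrArg Fin.val e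
        omega
      have a1 := ih i m him (by omega)
      have a2 := hadj j m hmj.symm (by omega)
      constructor
      · intro c
        have e := transvection_comm him hmj hij c (1 : F)
        rw [mul_one] at e
        rw [← e, map_mul, map_mul, map_mul, map_inv, map_inv]
        exact H.mul_mem (H.mul_mem (H.mul_mem (a1.1 c) (a2.2 1)) (H.inv_mem (a1.1 c)))
          (H.inv_mem (a2.2 1))
      · intro c
        have e := transvection_comm hmj.symm him.symm hij.symm c (1 : F)
        rw [mul_one] at e
        rw [← e, map_mul, map_mul, map_mul, map_inv, map_inv]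
        exact H.mul_mem (H.mul_mem (H.mul_mem (a2.1 c) (a1.2 1)) (H.inv_mem (a2.1 c)))
          (H.inv_mem (a1.2 1))
  intro i j hij c
  rcases lt_or_gt_of_ne (fun e => hij (Fin.ext e) : i.val ≠ j.val) with h | h
  · exact (key (j.val - i.val - 1) i j hij (by omega)).1 c
  · exact (key (i.val - j.val - 1) j i hij.symm (by omega)).2 c

/-- the generation criterion -/
theorem gen_top [Fintype F] (hn : 2 ≤ n) (l z : Fin n) (hl : l.val + 1 = n) (hz : z.val = 0)
    (s : F) (hs : ∀ a : F, a ≠ 0 → ∃ m : ℕ, 0 < m ∧ s ^ m = a) (hs1 : n = 2 → s ≠ 1)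
    (H : Subgroup (SpG n F)) (h1 : u1 l ∈ H) (h2 : u2 l ∈ H)
    (ht : spT (eb z) s ∈ H ∨ spT (eb l) s ∈ H) : H = ⊤ := by
  haveI : NeZero n := ⟨by omega⟩
  have hs0 : s ≠ 0 := gen_ne_zero hs
  -- transvections with parameter `s` at all basis vectors
  have hc := chain hn l z hl hz (fun x => spT x s ∈ H)
    (fun x => spT_act_iff h1 x s) (fun x => spT_act_iff h2 x s)
    (fun x => by rw [spT_neg_vec]) ht
  have hB : Base H l s := ⟨h1, h2, fun k => (hc k).1, fun k => (hc k).2⟩
  -- all transvections at `e_0`
  have hgz : Good H (eb z) := by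
    by_cases h3 : 3 ≤ n
    · exact hB.good_three h3 hs z hz
    · have hn2 : n = 2 := by omega
      subst hn2
      have hl1 : l = 1 := Fin.ext (by simp only [Fin.val_one]; omega)
      have hz0 : z = 0 := Fin.ext (by simp only [Fin.val_zero]; omega)
      subst hl1 hz0
      exact hB.good_two hs (hs1 rfl)
  -- all transvections at all basis vectors
  have hg := chain hn l z hl hz (fun x => Good H x)
    (fun x => good_act_iff h1 x) (fun x => good_act_iff h2 x)
    (fun x => good_neg_iff x) (Or.inl hgz)
  -- the Levi factor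
  apply top_of_levi
  · apply lev_all
    intro k k' hkk h
    constructor
    · intro c
      exact lev_of_sym hkk hs0 (hB.adj k k' h) (hg k).1 (hg k').2 c
    · intro c
      refine lev_of_sym hkk.symm hs0 ?_ (hg k').1 (hg k).2 c
      rw [symM_comm]; exact hB.adj k k' h
  · exact fun i => (hg i).1
  · exact fun i => (hg i).2

end Cfsg.Agent.Lib.helper45.SpReg
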