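import Mathlib
import Cfsg.Agent.Lib.helper45.SpRegB

/-!
# `u1` is a regular unipotent element of `Sp_{2n}(F)`

`u1 l - 1` is nilpotent and its `(2n-1)`-st power does not vanish.
-/

set_option autoImplicit false

namespace Cfsg.Agent.Lib.helper45.SpReg

open Matrix Cfsg Cfsg.Agent.Lib.helper85 Cfsg.Agent.Lib.helper48.PSp
  Cfsg.Agent.Lib.helper47.SpGen Cfsg.Agent.Lib.helper44

local notation "Tv" => Matrix.SpecialLinearGroup.transvection
local notation "lvS" => Cfsg.Agent.Lib.helper47.SpFus.lvS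

variable {n : ℕ} {F : Type*} [Field F]

/-- powers of a block upper triangular matrix -/
theorem fromBlocks_upper_pow (A B D : Matrix (Fin n) (Fin n) F) (k : ℕ) :
    (fromBlocks A B 0 D) ^ k =
      fromBlocks (A ^ k) (∑ i ∈ Finset.range k, A ^ i * B * D ^ (k - 1 - i)) 0 (D ^ k) := by
  induction k with
  | zero => simp [fromBlocks_one]
  | succ k ih =>
    rw [pow_succ, ih, fromBlocks_multiply]
    congr 1
    · simp [pow_succ]
    · rw [Finset.sum_range_succ, Finset.sum_mul]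
      have e1 : k + 1 - 1 - k = 0 := by omega
      rw [e1, pow_zero, Matrix.mul_one, add_comm]
      congr 1
      apply Finset.sum_congr rfl
      intro i hi
      have hi' := Finset.mem_range.mp hi
      have e2 : k + 1 - 1 - i = (k - 1 - i) + 1 := by omega
      rw [e2, pow_succ]
      simp only [Matrix.mul_assoc]
    · simp
    · simp [pow_succ]

/-- the matrix of `u1` in block form -/
theorem u1_coe (l : Fin n) :
    (u1 l : SpG n F).1 = fromBlocks (jm F n)
      (jm F n * vecMulVec (Pi.single l 1) (Pi.single l 1)) 0 (((jS F n)⁻¹).1)ᵀ := by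
  have h1 : (lvS (jS F n)).1 = fromBlocks (jS F n).1 0 0 (((jS F n)⁻¹).1)ᵀ := rfl
  have h2 : (spT (eb l) (1 : F)).1 =
      fromBlocks 1 (vecMulVec (Pi.single l (1 : F)) (Pi.single l 1)) 0 1 := by
    rw [eb_eq, spT_vE, rs_eq (vmv_symm _ _), Cfsg.Agent.Lib.helper47.SpFus.rS_coe, one_smul]
  show (lvS (jS F n)).1 * (spT (eb l) (1 : F)).1 = _
  rw [h1, h2, fromBlocks_multiply, jS_coe]
  simp

theorem jm_sub_one : jm F n - 1 = shiftMat F n := by
  unfold jm; abel

theorem ji_facts :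
    shiftMat F n * ((jS F n)⁻¹).1 = 1 - ((jS F n)⁻¹).1 ∧
    ((jS F n)⁻¹).1 * shiftMat F n = 1 - ((jS F n)⁻¹).1 := by
  have h1 : (jS F n).1 * ((jS F n)⁻¹).1 = 1 := by
    rw [← Matrix.SpecialLinearGroup.coe_mul, mul_inv_cancel, Matrix.SpecialLinearGroup.coe_one]
  have h2 : ((jS F n)⁻¹).1 * (jS F n).1 = 1 := by
    rw [← Matrix.SpecialLinearGroup.coe_mul, inv_mul_cancel, Matrix.SpecialLinearGroup.coe_one]
  rw [jS_coe, jm, Matrix.add_mul, Matrix.one_mul] at h1
  rw [jS_coe, jm, Matrix.mul_add, Matrix.mul_one] at h2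
  exact ⟨eq_sub_of_add_eq' h1, eq_sub_of_add_eq' h2⟩

theorem ji_sub_one_pow (k : ℕ) :
    (((jS F n)⁻¹).1 - 1) ^ k = (-1 : F) ^ k • (shiftMat F n ^ k * ((jS F n)⁻¹).1 ^ k) := by
  obtain ⟨h1, h2⟩ := ji_facts (F := F) (n := n)
  have hc : Commute (shiftMat F n) (((jS F n)⁻¹).1) := by
    show _ * _ = _ * _
    rw [h1, h2]
  have e : ((jS F n)⁻¹).1 - 1 = (-1 : F) • (shiftMat F n * ((jS F n)⁻¹).1) := by
    rw [h1]; simp
  rw [e, smul_pow, hc.mul_pow]

theorem shift_top_mul_ji (hn : 1 ≤ n) (k : ℕ) :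
    shiftMat F n ^ (n - 1) * ((jS F n)⁻¹).1 ^ k = shiftMat F n ^ (n - 1) := by
  obtain ⟨h1, h2⟩ := ji_facts (F := F) (n := n)
  have h3 : shiftMat F n ^ (n - 1) * ((jS F n)⁻¹).1 = shiftMat F n ^ (n - 1) := by
    have e : ((jS F n)⁻¹).1 = 1 - shiftMat F n * ((jS F n)⁻¹).1 := by rw [h1]; abel
    have e2 : shiftMat F n ^ (n - 1) * (shiftMat F n * ((jS F n)⁻¹).1) = 0 := by
      rw [← Matrix.mul_assoc, ← pow_succ]
      have : n - 1 + 1 = n := by omega
      rw [this, shiftMat_pow_self, Matrix.zero_mul]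
    rw [e, Matrix.mul_sub, Matrix.mul_one, e2, sub_zero]
  induction k with
  | zero => rw [pow_zero, Matrix.mul_one]
  | succ k ih => rw [pow_succ, ← Matrix.mul_assoc, ih, h3]

theorem shift_top_mulVec (hn : 1 ≤ n) (l z : Fin n) (hl : l.val + 1 = n) (hz : z.val = 0) :
    shiftMat F n ^ (n - 1) *ᵥ Pi.single l 1 = Pi.single z 1 := by
  funext i
  rw [mulVec_single_one, col_apply, shiftMat_pow_apply, Pi.single_apply]
  by_cases hi : i = z
  · rw [if_pos hi, if_pos (by rw [hi, hz]; omega)]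
  · rw [if_neg hi, if_neg]
    intro e
    apply hi
    apply Fin.ext
    omega

/-- `u1` is unipotent -/
theorem u1_nilpotent (l : Fin n) : IsNilpotent ((u1 l : SpG n F).1 - 1) := by
  refine ⟨2 * n, ?_⟩
  have e : (u1 l : SpG n F).1 - 1 = fromBlocks (shiftMat F n)
      (jm F n * vecMulVec (Pi.single l 1) (Pi.single l 1)) 0 ((((jS F n)⁻¹).1 - 1)ᵀ) := by
    rw [u1_coe, ← jm_sub_one]
    ext (i | i) (j | j) <;> simp [Matrix.one_apply]
  rw [e, fromBlocks_upper_pow, ← fromBlocks_zero]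
  have hN : ∀ k, n ≤ k → shiftMat F n ^ k = 0 := fun k hk =>
    pow_eq_zero_of_le hk (shiftMat_pow_self F n)
  have hM : ∀ k, n ≤ k → ((((jS F n)⁻¹).1 - 1)ᵀ) ^ k = 0 := by
    intro k hk
    rw [← transpose_pow, ji_sub_one_pow, hN k hk, Matrix.zero_mul, smul_zero, transpose_zero]
  congr 1
  · exact hN _ (by omega)
  · apply Finset.sum_eq_zero
    intro i hi
    have hi' := Finset.mem_range.mp hi
    by_cases hin : n ≤ i
    · rw [hN i hin, Matrix.zero_mul, Matrix.zero_mul]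
    · rw [hM _ (by omega), Matrix.mul_zero]
  · exact hM _ (by omega)

/-- `u1` is regular -/
theorem u1_regular (hn : 1 ≤ n) (l : Fin n) (hl : l.val + 1 = n) :
    ((u1 l : SpG n F).1 - 1) ^ (2 * n - 1) ≠ 0 := by
  obtain ⟨z, hz⟩ : ∃ z : Fin n, z.val = 0 := ⟨⟨0, by omega⟩, rfl⟩
  have e : (u1 l : SpG n F).1 - 1 = fromBlocks (shiftMat F n)
      (jm F n * vecMulVec (Pi.single l 1) (Pi.single l 1)) 0 ((((jS F n)⁻¹).1 - 1)ᵀ) := by
    rw [u1_coe, ← jm_sub_one]
    ext (i | i) (j | j) <;> simp [Matrix.one_apply]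
  rw [e, fromBlocks_upper_pow]
  have hN : ∀ k, n ≤ k → shiftMat F n ^ k = 0 := fun k hk =>
    pow_eq_zero_of_le hk (shiftMat_pow_self F n)
  have hMk : ∀ k, ((((jS F n)⁻¹).1 - 1)ᵀ) ^ k =
      ((-1 : F) ^ k • (shiftMat F n ^ k * ((jS F n)⁻¹).1 ^ k))ᵀ := by
    intro k
    rw [← transpose_pow, ji_sub_one_pow]
  have hM : ∀ k, n ≤ k → ((((jS F n)⁻¹).1 - 1)ᵀ) ^ k = 0 := by
    intro k hk
    rw [hMk, hN k hk, Matrix.zero_mul, smul_zero, transpose_zero]
  intro h0
  have hT := congrArg Matrix.toBlocks₁₂ h0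
  rw [toBlocks_fromBlocks₁₂] at hT
  have hzero : (0 : Matrix (Fin n ⊕ Fin n) (Fin n ⊕ Fin n) F).toBlocks₁₂ = 0 := by
    ext i j; rfl
  rw [hzero, Finset.sum_eq_single (n - 1)] at hT
  · have e1 : 2 * n - 1 - 1 - (n - 1) = n - 1 := by omega
    rw [e1, hMk, shift_top_mul_ji hn, ← Matrix.mul_assoc] at hT
    have e2 : shiftMat F n ^ (n - 1) * jm F n = shiftMat F n ^ (n - 1) := by
      rw [jm, Matrix.mul_add, Matrix.mul_one, ← pow_succ]
      have : n - 1 + 1 = n := by omega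
      rw [this, shiftMat_pow_self, add_zero]
    rw [e2, transpose_smul, Matrix.mul_smul, mul_vecMulVec, vecMulVec_mul, vecMul_transpose,
      shift_top_mulVec hn l z hl hz] at hT
    have h1 := congrFun (congrFun hT z) z
    rw [Matrix.smul_apply, vecMulVec_apply, Pi.single_eq_same, Matrix.zero_apply, smul_eq_mul,
      mul_one, mul_one] at h1
    exact (pow_ne_zero _ (neg_ne_zero.mpr one_ne_zero)) h1
  · intro i hi hne
    have hi' := Finset.mem_range.mp hi
    by_cases hin : n ≤ i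
    · rw [hN i hin, Matrix.zero_mul, Matrix.zero_mul]
    · rw [hM _ (by omega), Matrix.mul_zero]
  · intro h
    exfalso
    apply h
    rw [Finset.mem_range]; omega

end Cfsg.Agent.Lib.helper45.SpReg
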