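import Mathlib
import Cfsg.Agent.Lib.helper45.SpRegE
import Cfsg.Agent.Lib.helper45.SpRegF

/-!
# `Sp_{2n}(F)` is generated by three conjugate regular unipotent elements

For `n ≥ 2` and `F` finite (excluding `Sp_4(2)`), the regular unipotent element `u1`, its conjugate
`u2` under the Weyl element and a third conjugate (by a Siegel element or a scalar of the Levi
factor) generate the symplectic group.
-/

set_option autoImplicit false

namespace Cfsg.Agent.Lib.helper45.SpReg

open Matrix Cfsg Cfsg.Agent.Lib.helper85 Cfsg.Agent.Lib.helper48.PSp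
  Cfsg.Agent.Lib.helper47.SpGen Cfsg.Agent.Lib.helper44

local notation "Tv" => Matrix.SpecialLinearGroup.transvection
local notation "lvS" => Cfsg.Agent.Lib.helper47.SpFus.lvS
local notation "lvG" => Cfsg.Agent.Lib.helper47.SpFus.lv

variable {n : ℕ} {F : Type*} [Field F]

/-- conjugating `u1` by a Siegel element -/
theorem conj_by_rs (l z : Fin n) {S : Matrix (Fin n) (Fin n) F} (hS : Sᵀ = S) (c : F)
    (hJ : jm F n * S * (jm F n)ᵀ =
      S - c • vecMulVec (Pi.single z (1 : F)) (Pi.single z 1)) :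
    rs S * u1 l * (rs S)⁻¹ = spT (eb z) c * u1 l := by
  have h1 : rs S * u1 l * (rs S)⁻¹ = rs S * (u1 l * (rs S)⁻¹ * (u1 l)⁻¹) * u1 l := by group
  have hS' : (-S)ᵀ = -S := by rw [transpose_neg, hS]
  have hS2 : (-(S - c • vecMulVec (Pi.single z (1 : F)) (Pi.single z 1)))ᵀ =
      -(S - c • vecMulVec (Pi.single z (1 : F)) (Pi.single z 1)) := by
    rw [transpose_neg, transpose_sub, hS, vmv_symm]
  rw [h1, rs_inv hS, conj_u1_rs l hS', Matrix.mul_neg, Matrix.neg_mul, hJ, rs_mul hS hS2, eb_eq,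
    spT_vE]
  congr 2
  abel

/-- the first Siegel conjugator (`n ≥ 3`) -/
theorem siegel_one (i0 i1 i2 : Fin n) (h0 : i0.val = 0) (h1 : i1.val = 1) (h2 : i2.val = 2)
    (s : F) :
    jm F n * (symM i0 i2 s + (-s) • vecMulVec (Pi.single i1 (1 : F)) (Pi.single i1 1)) *
        (jm F n)ᵀ =
      (symM i0 i2 s + (-s) • vecMulVec (Pi.single i1 (1 : F)) (Pi.single i1 1)) -
        s • vecMulVec (Pi.single i0 (1 : F)) (Pi.single i0 1) := by
  unfold symM
  rw [Matrix.mul_add, Matrix.add_mul, congr_sym, Matrix.mul_smul, Matrix.smul_mul,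
    mul_vecMulVec, vecMulVec_mul, vecMul_transpose, jm_mulVec_single i2 i1 (by omega),
    jm_mulVec_single i1 i0 (by omega), jm_mulVec_single_zero i0 h0]
  simp only [add_vecMulVec, vecMulVec_add]
  module

/-- the second Siegel conjugator (odd characteristic) -/
theorem siegel_two (i0 i1 : Fin n) (h0 : i0.val = 0) (h1 : i1.val = 1) (β s : F)
    (hβ : 2 * β = -s) :
    jm F n * symM i0 i1 β * (jm F n)ᵀ =
      symM i0 i1 β - s • vecMulVec (Pi.single i0 (1 : F)) (Pi.single i0 1) := by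
  have e : s = -(2 * β) := by rw [hβ, neg_neg]
  rw [e]
  unfold symM
  rw [congr_sym, jm_mulVec_single i1 i0 (by omega), jm_mulVec_single_zero i0 h0]
  simp only [add_vecMulVec, vecMulVec_add]
  module

theorem act_lvG_vE (g : GL (Fin n) F) (a : Fin n → F) :
    act (lvG g) (vE a) = vE ((g : Matrix (Fin n) (Fin n) F) *ᵥ a) := by
  show (lvG g).1 *ᵥ vE a = _
  rw [Cfsg.Agent.Lib.helper47.SpFus.lv_coe]
  unfold vE
  rw [fromBlocks_mulVec]
  simp

/-- conjugating `u1` by a scalar of the Levi factor -/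
theorem conj_by_scalar (l : Fin n) (lam : Fˣ) :
    (u1 l)⁻¹ * (lvG (Matrix.GeneralLinearGroup.scalar (Fin n) lam) * u1 l *
      (lvG (Matrix.GeneralLinearGroup.scalar (Fin n) lam))⁻¹) =
      spT (eb l) ((lam : F) ^ 2 - 1) := by
  set a := lvG (Matrix.GeneralLinearGroup.scalar (Fin n) lam) with ha
  have h1 : a * lvS (jS F n) * a⁻¹ = lvS (jS F n) := by
    have : lvS (jS F n) = lvG (Matrix.SpecialLinearGroup.toGL (jS F n)) := rfl
    rw [this, ha, ← map_mul, Matrix.GeneralLinearGroup.scalar_commute, map_mul]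
    group
  have h2 : a * spT (eb l) (1 : F) * a⁻¹ = spT (eb l) ((lam : F) ^ 2) := by
    have e : act a (eb l : VS n F) = (lam : F) • eb l := by
      rw [eb_eq, ha, act_lvG_vE, ← vE_smul]
      congr 1
      funext i
      simp [Matrix.GeneralLinearGroup.coe_scalar, Matrix.scalar_apply, Matrix.mulVec_diagonal]
    rw [spT_conj, e, spT_smul, mul_one]
  have h3 : a * u1 l * a⁻¹ = (a * lvS (jS F n) * a⁻¹) * (a * spT (eb l) (1 : F) * a⁻¹) := by
    unfold u1; group
  rw [h3, h1, h2]
  unfold u1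
  rw [_root_.mul_inv_rev, mul_assoc, inv_mul_cancel_left, spT_inv, spT_add]
  congr 1
  ring


theorem gen_ne_one_of_card [Fintype F] {s : F}
    (hs : ∀ a : F, a ≠ 0 → ∃ m : ℕ, 0 < m ∧ s ^ m = a) (hc : Fintype.card F ≠ 2) : s ≠ 1 := by
  intro h
  apply hc
  have h1 : ∀ a : F, a ≠ 0 → a = 1 := by
    intro a ha
    obtain ⟨m, _, e⟩ := hs a ha
    rw [h, one_pow] at e
    exact e.symm
  classical
  have hle : Fintype.card F ≤ 2 := by
    have hsub : (Finset.univ : Finset F) ⊆ {0, 1} := by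
      intro a _
      by_cases ha : a = 0
      · simp [ha]
      · simp [h1 a ha]
    have := Finset.card_le_card hsub
    rw [Finset.card_univ] at this
    exact le_trans this Finset.card_le_two
  have hge : 1 < Fintype.card F := Fintype.one_lt_card
  omega

/-- `Sp_{2n}(F)`, `n ≥ 2`, `F` finite, not `Sp_4(2)`, is generated by three conjugate regular
unipotent elements. -/
theorem exists_three_gen [Fintype F] (n : ℕ) (hn : 2 ≤ n)
    (h22 : ¬ (n = 2 ∧ Fintype.card F = 2)) :
    ∃ u g h : SpG n F, IsNilpotent (u.1 - 1) ∧ (u.1 - 1) ^ (2 * n - 1) ≠ 0 ∧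
      Subgroup.closure ({u, g * u * g⁻¹, h * u * h⁻¹} : Set (SpG n F)) = ⊤ := by
  obtain ⟨s, hs⟩ := exists_pow_generator (F := F)
  obtain ⟨l, hl⟩ : ∃ l : Fin n, l.val + 1 = n := ⟨⟨n - 1, by omega⟩, by simp only; omega⟩
  obtain ⟨z, hz⟩ : ∃ z : Fin n, z.val = 0 := ⟨⟨0, by omega⟩, rfl⟩
  obtain ⟨o, ho⟩ : ∃ o : Fin n, o.val = 1 := ⟨⟨1, by omega⟩, rfl⟩
  have hs0 := gen_ne_zero hs
  have hs1 : n = 2 → s ≠ 1 := fun h2 => gen_ne_one_of_card hs (fun hc => h22 ⟨h2, hc⟩)
  -- the third conjugator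
  have key : ∃ a : SpG n F, ∀ H : Subgroup (SpG n F), u1 l ∈ H → a * u1 l * a⁻¹ ∈ H →
      (spT (eb z) s ∈ H ∨ spT (eb l) s ∈ H) := by
    by_cases c2 : (2 : F) = 0
    · by_cases h3 : 3 ≤ n
      · obtain ⟨t, ht⟩ : ∃ t : Fin n, t.val = 2 := ⟨⟨2, by omega⟩, rfl⟩
        refine ⟨rs (symM z t s + (-s) • vecMulVec (Pi.single o (1 : F)) (Pi.single o 1)), ?_⟩
        intro H hu ha
        left
        have hS : (symM z t s + (-s) • vecMulVec (Pi.single o (1 : F)) (Pi.single o 1))ᵀ =
            symM z t s + (-s) • vecMulVec (Pi.single o (1 : F)) (Pi.single o 1) := by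
          rw [transpose_add, symM_symm, vmv_symm]
        rw [conj_by_rs l z hS s (siegel_one z o t hz ho ht s)] at ha
        have : spT (eb z) s = spT (eb z) s * u1 l * (u1 l)⁻¹ := by group
        rw [this]; exact H.mul_mem ha (H.inv_mem hu)
      · have hn2 : n = 2 := by omega
        have hs1' := hs1 hn2
        have hchar : ringChar F = 2 := by
          have hp : (2 : ℕ).Prime := Nat.prime_two
          have : Fact (2 : ℕ).Prime := ⟨hp⟩
          exact CharP.ringChar_of_prime_eq_zero hp (by exact_mod_cast c2)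
        obtain ⟨r, hr⟩ := FiniteField.isSquare_of_char_two hchar s
        have hlam : 1 + r ≠ 0 := by
          intro e
          have h11 : (1 : F) + 1 = 0 := by rw [one_add_one_eq_two]; exact c2
          have hr1 : r = 1 := by
            have e1 : r = -1 := eq_neg_of_add_eq_zero_right e
            have e2 : (-1 : F) = 1 := neg_eq_of_add_eq_zero_left h11
            rw [e1, e2]
          rw [hr1, mul_one] at hr
          exact hs1' hr
        refine ⟨lvG (Matrix.GeneralLinearGroup.scalar (Fin n) (Units.mk0 (1 + r) hlam)), ?_⟩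
        intro H hu ha
        right
        have e := conj_by_scalar l (Units.mk0 (1 + r) hlam)
        have e2 : ((Units.mk0 (1 + r) hlam : Fˣ) : F) ^ 2 - 1 = s := by
          rw [Units.val_mk0, hr]
          have : (1 + r) ^ 2 - 1 = r * r + 2 * r := by ring
          rw [this, c2, zero_mul, add_zero]
        rw [e2] at e
        rw [← e]; exact H.mul_mem (H.inv_mem hu) ha
    · refine ⟨rs (symM z o (-s * 2⁻¹)), ?_⟩
      intro H hu ha
      left
      have hβ : 2 * (-s * 2⁻¹) = -s := by field_simp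
      rw [conj_by_rs l z (symM_symm _ _ _) s (siegel_two z o hz ho _ s hβ)] at ha
      have : spT (eb z) s = spT (eb z) s * u1 l * (u1 l)⁻¹ := by group
      rw [this]; exact H.mul_mem ha (H.inv_mem hu)
  obtain ⟨a, ha⟩ := key
  refine ⟨u1 l, om, a, u1_nilpotent l, u1_regular (by omega) l hl, ?_⟩
  have hu1 : u1 l ∈ Subgroup.closure
      ({u1 l, om * u1 l * om⁻¹, a * u1 l * a⁻¹} : Set (SpG n F)) :=
    Subgroup.subset_closure (by simp)
  have hu2 : u2 l ∈ Subgroup.closure
      ({u1 l, om * u1 l * om⁻¹, a * u1 l * a⁻¹} : Set (SpG n F)) :=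
    Subgroup.subset_closure (by simp [u2])
  have hu3 : a * u1 l * a⁻¹ ∈ Subgroup.closure
      ({u1 l, om * u1 l * om⁻¹, a * u1 l * a⁻¹} : Set (SpG n F)) :=
    Subgroup.subset_closure (by simp)
  exact gen_top hn l z hl hz s hs hs1 _ hu1 hu2 (ha _ hu1 hu3)

end Cfsg.Agent.Lib.helper45.SpReg
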