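import Mathlib
import Cfsg.Agent.Lib.helper45.SylowTorus

set_option autoImplicit false

namespace Cfsg.Agent.Lib.helper45

open scoped MatrixGroups

section sylowSL

variable {F : Type*} [Field F] [Fintype F]

/-- `|GL_n(F)| = |SL_n(F)| * k` with `k ∣ q - 1`, and `k = q - 1` for `n ≥ 1`. -/
theorem card_GL_eq_card_SL_mul (n : ℕ) :
    ∃ k : ℕ, k ∣ Fintype.card F - 1 ∧ (0 < n → k = Fintype.card F - 1) ∧
      Nat.card (GL (Fin n) F) = Nat.card (Matrix.SpecialLinearGroup (Fin n) F) * k := by
  classical
  let det' : GL (Fin n) F →* Fˣ := Matrix.GeneralLinearGroup.det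
  have hker : det'.ker = (Matrix.SpecialLinearGroup.toGL : Matrix.SpecialLinearGroup (Fin n) F →* GL (Fin n) F).range := by
    ext g
    rw [MonoidHom.mem_ker, MonoidHom.mem_range]
    constructor
    · intro h
      have h1 : (g : Matrix (Fin n) (Fin n) F).det = 1 := by
        have := congrArg Units.val h
        simpa [det'] using this
      exact ⟨⟨(g : Matrix (Fin n) (Fin n) F), h1⟩, Units.ext rfl⟩
    · rintro ⟨s, rfl⟩
      apply Units.ext
      simp [det']
  have hcardker : Nat.card det'.ker = Nat.card (Matrix.SpecialLinearGroup (Fin n) F) := by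
    rw [hker]
    exact Nat.card_congr (MonoidHom.ofInjective Matrix.SpecialLinearGroup.toGL_injective).toEquiv.symm
  refine ⟨Nat.card det'.range, ?_, ?_, ?_⟩
  · have := Subgroup.card_subgroup_dvd_card det'.range
    rw [Nat.card_units, Nat.card_eq_fintype_card (α := F)] at this
    exact this
  · intro hn
    have : Nonempty (Fin n) := ⟨⟨0, hn⟩⟩
    have hsurj : Function.Surjective det' := Matrix.GeneralLinearGroup.det_surjective
    rw [MonoidHom.range_eq_top.mpr hsurj, Subgroup.card_top, Nat.card_units, Nat.card_eq_fintype_card]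
  · rw [← hcardker, ← Subgroup.index_ker, Subgroup.card_mul_index]

/-- The diagonal torus of `SL_{k+1}`. -/
noncomputable def diagSL (k : ℕ) : (Fin k → Fˣ) →* Matrix.SpecialLinearGroup (Fin (k + 1)) F where
  toFun c := ⟨Matrix.diagonal (fun i => ((Fin.snoc c (∏ j, c j)⁻¹ : Fin (k + 1) → Fˣ) i : F)), by
    rw [Matrix.det_diagonal, ← Units.coe_prod, Fin.prod_univ_castSucc]
    simp⟩
  map_one' := by
    apply Subtype.ext
    ext i j
    refine Fin.lastCases ?_ (fun i => ?_) i <;> simp [Matrix.diagonal_apply, Matrix.one_apply]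
  map_mul' := by
    intro c1 c2
    apply Subtype.ext
    show Matrix.diagonal (fun i => ((Fin.snoc (c1 * c2) (∏ j, (c1 * c2) j)⁻¹ : Fin (k + 1) → Fˣ) i : F)) =
      Matrix.diagonal (fun i => ((Fin.snoc c1 (∏ j, c1 j)⁻¹ : Fin (k + 1) → Fˣ) i : F)) *
        Matrix.diagonal (fun i => ((Fin.snoc c2 (∏ j, c2 j)⁻¹ : Fin (k + 1) → Fˣ) i : F))
    rw [Matrix.diagonal_mul_diagonal]
    congr 1
    ext i
    refine Fin.lastCases ?_ (fun i => ?_) i
    · simp [Finset.prod_mul_distrib, mul_comm]
    · simp

theorem diagSL_coe (k : ℕ) (c : Fin k → Fˣ) :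
    ((diagSL (F := F) k c : Matrix.SpecialLinearGroup (Fin (k + 1)) F) :
      Matrix (Fin (k + 1)) (Fin (k + 1)) F) =
      Matrix.diagonal (fun i => ((Fin.snoc c (∏ j, c j)⁻¹ : Fin (k + 1) → Fˣ) i : F)) := rfl

theorem diagSL_injective (k : ℕ) : Function.Injective (diagSL (F := F) k) := by
  rw [injective_iff_map_eq_one]
  intro c hc
  ext j
  have h1 := congrArg (fun s : Matrix.SpecialLinearGroup (Fin (k + 1)) F =>
    (s : Matrix (Fin (k + 1)) (Fin (k + 1)) F) (Fin.castSucc j) (Fin.castSucc j)) hc
  simp only [diagSL_coe, Matrix.diagonal_apply_eq, Fin.snoc_castSucc,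
    Matrix.SpecialLinearGroup.coe_one, Matrix.one_apply_eq] at h1
  simpa using h1

/-- Sylow `r`-subgroups of `SL_n(q)` for `r > n`, `r ∤ q`, are homocyclic. -/
theorem sylow_SL_homocyclic {q : ℕ} (hq : Fintype.card F = q) (n : ℕ)
    (r : ℕ) [Fact r.Prime] (hrn : n < r) (hrq : ¬ r ∣ q) (P : Sylow r (Matrix.SpecialLinearGroup (Fin n) F)) :
    Nonempty (↥(P : Subgroup (Matrix.SpecialLinearGroup (Fin n) F)) ≃*
      (Fin ((Finset.Icc 2 n).filter (fun i => orderOf (q : ZMod r) ∣ i)).card →
        Multiplicative (ZMod (r ^ padicValNat r ((Polynomial.cyclotomic (orderOf (q : ZMod r)) ℤ).eval (q : ℤ)).natAbs)))) := by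
  classical
  have hr : r.Prime := Fact.out
  have hq2 : 2 ≤ q := by rw [← hq]; exact Fintype.one_lt_card
  have hdpos : 0 < orderOf (q : ZMod r) := orderOf_pos_of_not_dvd hrq
  obtain ⟨k, hk1, hk2, hk3⟩ := card_GL_eq_card_SL_mul (F := F) n
  rw [hq] at hk1 hk2
  have hSpos : Nat.card (Matrix.SpecialLinearGroup (Fin n) F) ≠ 0 := Nat.card_pos.ne'
  have hkpos : k ≠ 0 := by
    intro h
    rw [h, mul_zero] at hk3
    exact (Nat.card_pos (α := GL (Fin n) F)).ne' hk3
  have hfac : (Nat.card (GL (Fin n) F)).factorization r =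
      (Nat.card (Matrix.SpecialLinearGroup (Fin n) F)).factorization r + k.factorization r := by
    rw [hk3, Nat.factorization_mul hSpos hkpos, Finsupp.add_apply]
  have hGL : (Nat.card (GL (Fin n) F)).factorization r =
      (n / orderOf (q : ZMod r)) * (q ^ orderOf (q : ZMod r) - 1).factorization r := by
    rw [Matrix.card_GL_field, hq, factorization_card_GL hrq hq2 n hrn]
  by_cases hd1 : orderOf (q : ZMod r) = 1
  · -- `r ∣ q - 1`
    rcases Nat.eq_zero_or_pos n with hn0 | hnpos
    · subst hn0
      have : Subsingleton (Matrix.SpecialLinearGroup (Fin 0) F) := inferInstance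
      have hc : ((Finset.Icc 2 0).filter (fun i => orderOf (q : ZMod r) ∣ i)).card = 0 := by simp
      rw [hc]
      have : Unique ↥(P : Subgroup (Matrix.SpecialLinearGroup (Fin 0) F)) := uniqueOfSubsingleton 1
      exact ⟨MulEquiv.ofUnique⟩
    · obtain ⟨k', rfl⟩ : ∃ k', n = k' + 1 := ⟨n - 1, by omega⟩
      have hcount : ((Finset.Icc 2 (k' + 1)).filter (fun i => orderOf (q : ZMod r) ∣ i)).card = k' := by
        rw [hd1]
        simp
      rw [hcount, factorization_cyclotomic hrq hq2, hd1, pow_one]
      have hkq : k = q - 1 := hk2 (by omega)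
      rw [hkq, hGL, hd1, pow_one, Nat.div_one] at hfac
      have hS : (Nat.card (Matrix.SpecialLinearGroup (Fin (k' + 1)) F)).factorization r =
          k' * (q - 1).factorization r := by
        have : (k' + 1) * (q - 1).factorization r = k' * (q - 1).factorization r + (q - 1).factorization r := by
          ring
        omega
      have hm : r ^ (q - 1).factorization r ∣ Nat.card Fˣ := by
        rw [Nat.card_units, Nat.card_eq_fintype_card, hq]
        exact Nat.ordProj_dvd _ _
      obtain ⟨ψ, hψ⟩ := exists_injective_zmod_hom (C := Fˣ) (r ^ (q - 1).factorization r) hm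
      let ψ' : (Fin k' → Multiplicative (ZMod (r ^ (q - 1).factorization r))) →* (Fin k' → Fˣ) :=
        { toFun := fun t i => ψ (t i)
          map_one' := by ext i; simp
          map_mul' := by intro s t; ext i; simp }
      have hψ' : Function.Injective ψ' := by
        intro s t hst
        ext i
        have := congrFun hst i
        exact congrArg _ (hψ this)
      have : NeZero (r ^ (q - 1).factorization r) := ⟨pow_ne_zero _ hr.ne_zero⟩
      refine sylow_equiv_of_injective_hom ((diagSL k').comp ψ') ((diagSL_injective k').comp hψ') ?_ P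
      rw [card_torus, hS, ← pow_mul, mul_comm]
  · -- `r ∤ q - 1`
    have hrk : ¬ r ∣ k := by
      intro h
      have h1 : r ∣ q ^ 1 - 1 := by rw [pow_one]; exact dvd_trans h hk1
      rw [dvd_pow_sub_one_iff (by omega)] at h1
      exact hd1 (Nat.dvd_one.mp h1)
    rw [Nat.factorization_eq_zero_of_not_dvd hrk, add_zero] at hfac
    have hcount : ((Finset.Icc 2 n).filter (fun i => orderOf (q : ZMod r) ∣ i)).card =
        n / orderOf (q : ZMod r) := by
      rw [← Nat.Ioc_filter_dvd_card_eq_div]
      congr 1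
      ext i
      simp only [Finset.mem_filter, Finset.mem_Icc, Finset.mem_Ioc]
      constructor
      · rintro ⟨⟨h1, h2⟩, h3⟩
        exact ⟨⟨by omega, h2⟩, h3⟩
      · rintro ⟨⟨h1, h2⟩, h3⟩
        refine ⟨⟨?_, h2⟩, h3⟩
        have := Nat.le_of_dvd h1 h3
        omega
    rw [hcount]
    -- transfer `P` to a Sylow subgroup of `GL`
    have hPcard : Nat.card ↥(P : Subgroup (Matrix.SpecialLinearGroup (Fin n) F)) =
        r ^ (Nat.card (GL (Fin n) F)).factorization r := by
      rw [hfac]
      exact P.card_eq_multiplicity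
    have hinj : Function.Injective
        ((Matrix.SpecialLinearGroup.toGL : Matrix.SpecialLinearGroup (Fin n) F →* GL (Fin n) F).comp
          (P : Subgroup (Matrix.SpecialLinearGroup (Fin n) F)).subtype) :=
      Matrix.SpecialLinearGroup.toGL_injective.comp (Subgroup.subtype_injective _)
    obtain ⟨Q⟩ : Nonempty (Sylow r (GL (Fin n) F)) := inferInstance
    obtain ⟨e1⟩ := sylow_equiv_of_injective_hom _ hinj hPcard Q
    obtain ⟨e2⟩ := sylow_GL_homocyclic hq n r hrn hrq Q
    exact ⟨e1.symm.trans e2⟩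

end sylowSL

end Cfsg.Agent.Lib.helper45
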