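import Mathlib
import Cfsg.Agent.Lib.helper45.SylowSL
import Cfsg.Agent.Lib.helper45.SylowNormalTransport
import Cfsg.Agent.Lib.helper45.SpInvBound
import Cfsg.Agent.S0245

set_option autoImplicit false

namespace Cfsg.Agent.Lib.helper45

open Matrix

section SpWreath

variable {F : Type*} [Field F] {n : ℕ}

/-- permutation matrix sending `e_j` to `e_{σ j}` -/
def spPm (F : Type*) [Field F] {n : ℕ} (σ : Equiv.Perm (Fin n)) : Matrix (Fin n) (Fin n) F :=
  Matrix.of fun i j => if σ j = i then 1 else 0

theorem spPm_mul (σ τ : Equiv.Perm (Fin n)) : spPm F (σ * τ) = spPm F σ * spPm F τ := by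
  ext i j
  rw [Matrix.mul_apply, Finset.sum_eq_single (τ j)]
  · simp only [spPm, Matrix.of_apply, if_true, mul_one]
    rfl
  · intro b _ hb
    simp [spPm, Ne.symm hb]
  · simp

theorem spPm_one : spPm F (1 : Equiv.Perm (Fin n)) = 1 := by
  ext i j
  simp [spPm, Matrix.one_apply, eq_comm]

theorem spPm_transpose_mul (σ : Equiv.Perm (Fin n)) : (spPm F σ)ᵀ * spPm F σ = 1 := by
  ext i j
  simp [spPm, Matrix.mul_apply, Matrix.one_apply]

theorem spPm_mul_diagonal (σ : Equiv.Perm (Fin n)) (d : Fin n → F) :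
    spPm F σ * diagonal d = diagonal (d ∘ σ.symm) * spPm F σ := by
  ext i j
  rw [Matrix.mul_diagonal, Matrix.diagonal_mul]
  by_cases h : σ j = i
  · subst h
    simp [spPm, mul_comm]
  · simp [spPm, h]

/-- The permutation part of the wreath product in the symplectic group. -/
def spPermHom (F : Type*) [Field F] (n : ℕ) :
    Equiv.Perm (Fin n) →* ↥(Matrix.symplecticGroup (Fin n) F) where
  toFun σ := ⟨fromBlocks (spPm F σ) 0 0 (spPm F σ), by
    rw [SymplecticGroup.fromBlocks_mem_iff]
    refine ⟨by simp, by simp, ?_⟩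
    simp [spPm_transpose_mul]⟩
  map_one' := by
    apply Subtype.ext
    simp [spPm_one, fromBlocks_one]
  map_mul' σ τ := by
    apply Subtype.ext
    simp [spPm_mul, fromBlocks_multiply]

/-- The base part: `n` copies of `SL_2`. -/
def spBaseMat (A : Fin n → Matrix.SpecialLinearGroup (Fin 2) F) :
    Matrix (Fin n ⊕ Fin n) (Fin n ⊕ Fin n) F :=
  fromBlocks (diagonal fun i => (A i : Matrix (Fin 2) (Fin 2) F) 0 0)
    (diagonal fun i => (A i : Matrix (Fin 2) (Fin 2) F) 0 1)
    (diagonal fun i => (A i : Matrix (Fin 2) (Fin 2) F) 1 0)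
    (diagonal fun i => (A i : Matrix (Fin 2) (Fin 2) F) 1 1)

theorem spBaseMat_mem (A : Fin n → Matrix.SpecialLinearGroup (Fin 2) F) :
    spBaseMat A ∈ Matrix.symplecticGroup (Fin n) F := by
  rw [spBaseMat, SymplecticGroup.fromBlocks_mem_iff]
  refine ⟨?_, ?_, ?_⟩
  · simp only [diagonal_transpose, diagonal_mul_diagonal]
    congr 1; ext i; ring
  · simp only [diagonal_transpose, diagonal_mul_diagonal]
    congr 1; ext i; ring
  · simp only [diagonal_transpose, diagonal_mul_diagonal]
    rw [diagonal_sub, ← diagonal_one]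
    congr 1
    ext i
    have h := (A i).det_coe
    rw [Matrix.det_fin_two] at h
    linear_combination h

theorem spBaseMat_mul (A B : Fin n → Matrix.SpecialLinearGroup (Fin 2) F) :
    spBaseMat (A * B) = spBaseMat A * spBaseMat B := by
  simp only [spBaseMat, fromBlocks_multiply, diagonal_mul_diagonal, diagonal_add, Pi.mul_apply,
    Matrix.SpecialLinearGroup.coe_mul, Matrix.mul_apply, Fin.sum_univ_two]

theorem spBaseMat_one : spBaseMat (1 : Fin n → Matrix.SpecialLinearGroup (Fin 2) F) = 1 := by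
  simp [spBaseMat, fromBlocks_one]

def spBaseHom (F : Type*) [Field F] (n : ℕ) :
    (Fin n → Matrix.SpecialLinearGroup (Fin 2) F) →* ↥(Matrix.symplecticGroup (Fin n) F) where
  toFun A := ⟨spBaseMat A, spBaseMat_mem A⟩
  map_one' := Subtype.ext spBaseMat_one
  map_mul' A B := Subtype.ext (spBaseMat_mul A B)

theorem spBase_perm_comm (A : Fin n → Matrix.SpecialLinearGroup (Fin 2) F)
    (σ : Equiv.Perm (Fin n)) :
    spBaseHom F n (mulAutArrow (M := Matrix.SpecialLinearGroup (Fin 2) F) σ A) * spPermHom F n σ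
      = spPermHom F n σ * spBaseHom F n A := by
  apply Subtype.ext
  show spBaseMat (fun i => A (σ⁻¹ • i)) * fromBlocks (spPm F σ) 0 0 (spPm F σ)
    = fromBlocks (spPm F σ) 0 0 (spPm F σ) * spBaseMat A
  simp only [spBaseMat, fromBlocks_multiply, Matrix.mul_zero, Matrix.zero_mul, add_zero, zero_add,
    spPm_mul_diagonal]
  rfl

/-- The wreath product `SL_2(F) ≀ S_n`. -/
abbrev SpW (F : Type*) [Field F] (n : ℕ) :=
  (Fin n → Matrix.SpecialLinearGroup (Fin 2) F) ⋊[mulAutArrow (G := Equiv.Perm (Fin n))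
    (A := Fin n) (M := Matrix.SpecialLinearGroup (Fin 2) F)] Equiv.Perm (Fin n)

/-- The embedding of the wreath product `SL_2(F) ≀ S_n` into `Sp_{2n}(F)`. -/
def spWHom (F : Type*) [Field F] (n : ℕ) : SpW F n →* ↥(Matrix.symplecticGroup (Fin n) F) :=
  SemidirectProduct.lift (spBaseHom F n) (spPermHom F n) (fun σ => by
    apply MonoidHom.ext
    intro A
    simp only [MonoidHom.comp_apply, MulEquiv.coe_toMonoidHom, MulAut.conj_apply]
    rw [eq_mul_inv_iff_mul_eq]
    exact spBase_perm_comm A σ)

theorem spWHom_apply (w : SpW F n) :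
    spWHom F n w = spBaseHom F n w.left * spPermHom F n w.right := rfl

theorem spWHom_injective : Function.Injective (spWHom F n) := by
  rw [injective_iff_map_eq_one]
  intro w hw
  rw [spWHom_apply] at hw
  have hm : spBaseMat w.left * fromBlocks (spPm F w.right) 0 0 (spPm F w.right) = 1 :=
    congrArg Subtype.val hw
  rw [spBaseMat, fromBlocks_multiply, ← fromBlocks_one] at hm
  simp only [Matrix.mul_zero, add_zero, zero_add] at hm
  obtain ⟨h11, h12, h21, h22⟩ := Matrix.fromBlocks_inj.1 hm
  have hσ : ∀ j, w.right j = j := by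
    intro j
    by_contra hne
    have e11 := congrFun (congrFun h11 (w.right j)) j
    have e12 := congrFun (congrFun h12 (w.right j)) j
    have e21 := congrFun (congrFun h21 (w.right j)) j
    have e22 := congrFun (congrFun h22 (w.right j)) j
    rw [Matrix.diagonal_mul] at e11 e12 e21 e22
    simp only [spPm, Matrix.of_apply, if_true, mul_one, Matrix.one_apply, if_neg hne,
      Matrix.zero_apply] at e11 e12 e21 e22
    have hdet := (w.left (w.right j)).det_coe
    rw [Matrix.det_fin_two, e11, e12, e21, e22] at hdet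
    simp at hdet
  have hA : w.left = 1 := by
    funext j
    have e11 := congrFun (congrFun h11 j) j
    have e12 := congrFun (congrFun h12 j) j
    have e21 := congrFun (congrFun h21 j) j
    have e22 := congrFun (congrFun h22 j) j
    rw [Matrix.diagonal_mul] at e11 e12 e21 e22
    simp only [spPm, Matrix.of_apply, hσ j, if_true, mul_one, Matrix.one_apply,
      Matrix.zero_apply] at e11 e12 e21 e22
    apply Matrix.SpecialLinearGroup.ext
    intro a b
    fin_cases a <;> fin_cases b
    · simpa using e11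
    · simpa using e12
    · simpa using e21
    · simpa using e22
  exact SemidirectProduct.ext hA (Equiv.ext hσ)

theorem card_SL2 [Fintype F] : Nat.card (Matrix.SpecialLinearGroup (Fin 2) F)
    = Fintype.card F * (Fintype.card F ^ 2 - 1) := by
  obtain ⟨k, -, hk, hcard⟩ := card_GL_eq_card_SL_mul (F := F) 2
  have hk' := hk (by norm_num)
  rw [Matrix.card_GL_field, Fin.prod_univ_two, hk'] at hcard
  simp only [Fin.val_zero, Fin.val_one, pow_zero, pow_one] at hcard
  have hq : 1 < Fintype.card F := Fintype.one_lt_card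
  have h1 : Fintype.card F ^ 2 - Fintype.card F = Fintype.card F * (Fintype.card F - 1) := by
    rw [Nat.mul_sub, mul_one, pow_two]
  rw [h1] at hcard
  have h2 : 0 < Fintype.card F - 1 := by omega
  apply Nat.eq_of_mul_eq_mul_right h2
  rw [← hcard]; ring

theorem card_SpW [Fintype F] : Nat.card (SpW F n)
    = (Fintype.card F * (Fintype.card F ^ 2 - 1)) ^ n * n.factorial := by
  rw [SemidirectProduct.card, Nat.card_fun, Nat.card_perm, Nat.card_fin, card_SL2]

/-- The diagonal sign matrices. -/
def spSignMat (ε : Fin n → ℤˣ) : Matrix (Fin n ⊕ Fin n) (Fin n ⊕ Fin n) F :=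
  fromBlocks (diagonal fun i => ((ε i : ℤ) : F)) 0 0 (diagonal fun i => ((ε i : ℤ) : F))

theorem spSignMat_mem (ε : Fin n → ℤˣ) :
    spSignMat (F := F) ε ∈ Matrix.symplecticGroup (Fin n) F := by
  rw [spSignMat, SymplecticGroup.fromBlocks_mem_iff]
  refine ⟨by simp, by simp, ?_⟩
  simp only [diagonal_transpose, diagonal_mul_diagonal, Matrix.transpose_zero, Matrix.zero_mul,
    sub_zero]
  rw [← diagonal_one]
  congr 1
  ext i
  rw [← Int.cast_mul, ← Units.val_mul, Int.units_mul_self]
  simp

def spSignHom (F : Type*) [Field F] (n : ℕ) :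
    (Fin n → ℤˣ) →* ↥(Matrix.symplecticGroup (Fin n) F) where
  toFun ε := ⟨spSignMat ε, spSignMat_mem ε⟩
  map_one' := by
    apply Subtype.ext
    simp [spSignMat, fromBlocks_one]
  map_mul' ε δ := by
    apply Subtype.ext
    simp [spSignMat, fromBlocks_multiply, diagonal_mul_diagonal]

theorem spSignHom_injective (h2 : (2 : F) ≠ 0) : Function.Injective (spSignHom F n) := by
  intro ε δ h
  have hm : spSignMat (F := F) ε = spSignMat δ := congrArg Subtype.val h
  rw [spSignMat, spSignMat] at hm
  obtain ⟨h11, -, -, -⟩ := Matrix.fromBlocks_inj.1 hm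
  funext i
  have hi := congrFun (Matrix.diagonal_injective h11) i
  have h1 : (1 : F) ≠ -1 := by
    intro h
    apply h2
    have : (2 : F) = 1 + 1 := by norm_num
    rw [this]
    nth_rewrite 1 [h]
    simp
  rcases Int.units_eq_one_or (ε i) with h | h <;> rcases Int.units_eq_one_or (δ i) with h' | h'
  · rw [h, h']
  · rw [h, h'] at hi
    simp at hi
    exact absurd hi h1
  · rw [h, h'] at hi
    simp at hi
    exact absurd hi.symm h1
  · rw [h, h']

theorem spBase_sign_comm (A : Fin n → Matrix.SpecialLinearGroup (Fin 2) F) (ε : Fin n → ℤˣ) :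
    spBaseHom F n A * spSignHom F n ε = spSignHom F n ε * spBaseHom F n A := by
  apply Subtype.ext
  show spBaseMat A * spSignMat ε = spSignMat ε * spBaseMat A
  simp only [spBaseMat, spSignMat, fromBlocks_multiply, Matrix.mul_zero, Matrix.zero_mul, add_zero,
    zero_add, diagonal_mul_diagonal, mul_comm]

theorem spPerm_sign (σ : Equiv.Perm (Fin n)) (ε : Fin n → ℤˣ) :
    spPermHom F n σ * spSignHom F n ε = spSignHom F n (ε ∘ σ.symm) * spPermHom F n σ := by
  apply Subtype.ext
  show fromBlocks (spPm F σ) 0 0 (spPm F σ) * spSignMat ε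
    = spSignMat (ε ∘ σ.symm) * fromBlocks (spPm F σ) 0 0 (spPm F σ)
  simp only [spSignMat, fromBlocks_multiply, Matrix.mul_zero, Matrix.zero_mul, add_zero, zero_add,
    spPm_mul_diagonal]
  rfl

theorem spW_range_le_normalizer :
    (spWHom F n).range ≤ Subgroup.normalizer ((spSignHom F n).range : Set _) := by
  apply le_normalizer_of_conj_mem
  rintro _ ⟨w, rfl⟩ _ ⟨ε, rfl⟩
  refine ⟨ε ∘ w.right.symm, ?_⟩
  rw [eq_mul_inv_iff_mul_eq, spWHom_apply, mul_assoc, spPerm_sign, ← mul_assoc, ← mul_assoc,
    spBase_sign_comm]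

theorem two_val_sp (q : ℕ) (hq : Odd q) (hq1 : 1 < q) (n : ℕ) :
    padicValNat 2 (q ^ (n ^ 2) * ∏ i ∈ Finset.range n, (q ^ (2 * (i + 1)) - 1))
      = padicValNat 2 ((q * (q ^ 2 - 1)) ^ n * n.factorial) := by
  have hq2 : ¬ 2 ∣ q := by
    rw [Nat.two_dvd_ne_zero]; exact Nat.odd_iff.1 hq
  have hq0 : q ≠ 0 := by omega
  have hv0 : padicValNat 2 q = 0 := padicValNat.eq_zero_of_not_dvd hq2
  have hpos : ∀ k, k ≠ 0 → q ^ k - 1 ≠ 0 := by
    intro k hk
    have : 1 < q ^ k := Nat.one_lt_pow hk hq1
    omega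
  have key : ∀ i, padicValNat 2 (q ^ (2 * (i + 1)) - 1)
      = padicValNat 2 (q ^ 2 - 1) + padicValNat 2 (i + 1) := by
    intro i
    have h1 := padicValNat.pow_two_sub_one hq1 hq2 (n := 2 * (i + 1)) (by omega) (even_two_mul _)
    have h2 := padicValNat.pow_two_sub_one hq1 hq2 (n := 2) (by norm_num) even_two
    rw [padicValNat.mul (by norm_num) (by omega), padicValNat_self] at h1
    rw [padicValNat_self] at h2
    omega
  have hprodne : ∀ n, ∏ i ∈ Finset.range n, (q ^ (2 * (i + 1)) - 1) ≠ 0 := by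
    intro n
    rw [Finset.prod_ne_zero_iff]
    intro i _
    exact hpos _ (by omega)
  have hprod : ∀ n, padicValNat 2 (∏ i ∈ Finset.range n, (q ^ (2 * (i + 1)) - 1))
      = n * padicValNat 2 (q ^ 2 - 1) + padicValNat 2 n.factorial := by
    intro n
    induction n with
    | zero => simp
    | succ m ih =>
      rw [Finset.prod_range_succ, padicValNat.mul (hprodne m) (hpos _ (by omega)), ih, key,
        Nat.factorial_succ, padicValNat.mul (by omega) (Nat.factorial_ne_zero m)]
      ring
  rw [padicValNat.mul (pow_ne_zero _ hq0) (hprodne n), padicValNat.pow, hv0, hprod,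
    padicValNat.mul (pow_ne_zero _ (mul_ne_zero hq0 (hpos 2 (by norm_num))))
      (Nat.factorial_ne_zero n),
    padicValNat.pow,
    padicValNat.mul hq0 (hpos 2 (by norm_num)), hv0]
  ring

/-- Existence: every Sylow 2-subgroup of `Sp_{2n}(F)`, `F` of odd order, has a normal
elementary abelian subgroup of order at least `2 ^ n`. -/
theorem sp_exists_normal_elemAb [Fintype F] (hF : Odd (Fintype.card F)) (n : ℕ)
    (S : Sylow 2 ↥(Matrix.symplecticGroup (Fin n) F)) :
    ∃ E : Subgroup ↥(S : Subgroup ↥(Matrix.symplecticGroup (Fin n) F)), E.Normal ∧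
      (IsMulCommutative E ∧ ∀ a ∈ E, a ^ 2 = 1) ∧ 2 ^ n ≤ Nat.card ↥E := by
  classical
  have h2 := two_ne_zero_of_odd_card hF
  apply exists_normal_elemAb_in_sylow (spSignHom F n).range (2 ^ n)
  · rintro _ ⟨ε, rfl⟩ _ ⟨δ, rfl⟩
    rw [← map_mul, ← map_mul, mul_comm]
  · rintro _ ⟨ε, rfl⟩
    rw [← map_pow]
    have : ε ^ 2 = 1 := by
      funext i
      simp [Int.units_sq]
    rw [this, map_one]
  · rw [Nat.card_congr (MonoidHom.ofInjective (spSignHom_injective h2)).toEquiv.symm,
      Nat.card_fun, Nat.card_fin]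
    simp
  · have hq1 : 1 < Fintype.card F := Fintype.one_lt_card
    have hG := Cfsg.Agent.S0245.result (F := F) rfl n
    have hW := card_SpW (F := F) (n := n)
    have hdvd : Nat.card (SpW F n)
        ∣ Nat.card (Subgroup.normalizer
          ((spSignHom F n).range : Set ↥(Matrix.symplecticGroup (Fin n) F))) := by
      rw [Nat.card_congr (MonoidHom.ofInjective spWHom_injective).toEquiv]
      exact Subgroup.card_dvd_of_le spW_range_le_normalizer
    have hW0 : Nat.card (SpW F n) ≠ 0 := by
      rw [hW]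
      have : 1 < Fintype.card F ^ 2 := Nat.one_lt_pow (by norm_num) hq1
      have h5 : Fintype.card F * (Fintype.card F ^ 2 - 1) ≠ 0 :=
        mul_ne_zero (by omega) (by omega)
      exact mul_ne_zero (pow_ne_zero _ h5) (Nat.factorial_ne_zero n)
    have h3 := (Nat.factorization_le_iff_dvd hW0 Nat.card_pos.ne').2 hdvd 2
    refine le_trans (le_of_eq ?_) h3
    rw [hG, hW, Nat.factorization_def _ Nat.prime_two, Nat.factorization_def _ Nat.prime_two]
    exact two_val_sp _ hF hq1 n

end SpWreath

end Cfsg.Agent.Lib.helper45
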