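import Mathlib
import Cfsg.Prelude.Def_SteinbergCover
import Cfsg.Prelude.Def_LieTypes
import Cfsg.Prelude.Def_ChevB2

set_option autoImplicit false

namespace Cfsg.Agent.Lib.helper45

open Cfsg Cfsg.Lie

section

variable {K : Type*} [Field K] (D : ChevalleyDatum)

/-- The image of the generator `x̄_γ(v)` in the abelianization of the group presented by (R1), (R2). -/
noncomputable def abGen (γ : ℕ) (v : K) : Abelianization (D.SteinbergCover K) :=
  Abelianization.of (D.scGen K γ v)

theorem scGen_add (γ : ℕ) (a b : K) : D.scGen K γ (a + b) = D.scGen K γ a * D.scGen K γ b := by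
  by_cases h : γ < D.nroots
  · have hmem : D.stX γ a * D.stX γ b * (D.stX γ (a + b))⁻¹ ∈ D.steinbergRelsAB K :=
      Or.inl ⟨γ, a, b, h, rfl⟩
    have h1 : PresentedGroup.mk (D.steinbergRelsAB K) (D.stX γ a * D.stX γ b * (D.stX γ (a + b))⁻¹) = 1 :=
      (QuotientGroup.eq_one_iff _).mpr (Subgroup.subset_normalClosure hmem)
    rw [map_mul, map_mul, map_inv, mul_inv_eq_one] at h1
    exact h1.symm
  · unfold ChevalleyDatum.scGen ChevalleyDatum.stX
    simp [h]

theorem abGen_add (γ : ℕ) (a b : K) : abGen D γ (a + b) = abGen D γ a * abGen D γ b := by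
  unfold abGen
  rw [scGen_add, map_mul]

theorem abGen_zero (γ : ℕ) : abGen D γ (0 : K) = 1 := by
  have h := abGen_add D γ (0 : K) 0
  rw [add_zero] at h
  exact (mul_eq_left).mp h.symm

theorem abGen_sub (γ : ℕ) (a b : K) : abGen D γ (a - b) = abGen D γ a * (abGen D γ b)⁻¹ := by
  have h := abGen_add D γ (a - b) b
  rw [sub_add_cancel] at h
  rw [h, mul_inv_cancel_right]

theorem abGen_rel (r s : ℕ) (t u : K) (hr : r < D.nroots) (hs : s < D.nroots) (h1 : s ≠ r)
    (h2 : s ≠ D.neg r) :
    ((D.commWord K r s t u).map fun p => abGen D p.1 p.2).prod = 1 := by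
  have hmem : (D.stX s u)⁻¹ * (D.stX r t)⁻¹ * D.stX s u * D.stX r t *
      (D.stWord (D.commWord K r s t u))⁻¹ ∈ D.steinbergRelsAB K :=
    Or.inr ⟨r, s, t, u, hr, hs, h1, h2, rfl⟩
  have h3 : PresentedGroup.mk (D.steinbergRelsAB K) ((D.stX s u)⁻¹ * (D.stX r t)⁻¹ * D.stX s u * D.stX r t *
      (D.stWord (D.commWord K r s t u))⁻¹) = 1 :=
    (QuotientGroup.eq_one_iff _).mpr (Subgroup.subset_normalClosure hmem)
  have h4 := congrArg (Abelianization.of (G := D.SteinbergCover K)) h3
  simp only [map_mul, map_inv, map_one] at h4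
  have h5 : Abelianization.of (PresentedGroup.mk (D.steinbergRelsAB K) (D.stWord (D.commWord K r s t u))) = 1 := by
    have h6 : (Abelianization.of (PresentedGroup.mk (D.steinbergRelsAB K) (D.stX s u)))⁻¹ *
        (Abelianization.of (PresentedGroup.mk (D.steinbergRelsAB K) (D.stX r t)))⁻¹ *
        Abelianization.of (PresentedGroup.mk (D.steinbergRelsAB K) (D.stX s u)) *
        Abelianization.of (PresentedGroup.mk (D.steinbergRelsAB K) (D.stX r t)) = 1 := by
      rw [mul_comm ((Abelianization.of (PresentedGroup.mk (D.steinbergRelsAB K) (D.stX s u)))⁻¹), mul_assoc,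
        mul_assoc, inv_mul_cancel_left, inv_mul_cancel]
    rw [h6, one_mul, inv_eq_one] at h4
    exact h4
  rw [← h5]
  unfold ChevalleyDatum.stWord
  rw [map_list_prod, map_list_prod, List.map_map, List.map_map]
  rfl

/-- A root which is the sum of two roots with a one-term commutator formula with coefficient `±1`. -/
theorem abGen_single (γ r s : ℕ) (c : ℤ) (hr : r < D.nroots) (hs : s < D.nroots) (h1 : s ≠ r)
    (h2 : s ≠ D.neg r) (hc : c = 1 ∨ c = -1) (h : D.commTerms r s = [(γ, c, 1, 1)]) (v : K) :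
    abGen D γ v = 1 := by
  have h3 := abGen_rel D r s (-(c : K) * v) 1 hr hs h1 h2
  unfold ChevalleyDatum.commWord at h3
  rw [h] at h3
  simp only [List.map_cons, List.map_nil, List.prod_cons, List.prod_nil, mul_one, pow_one, neg_mul, neg_neg]
    at h3
  have h4 : (c : K) * ((c : K) * v) = v := by
    rcases hc with rfl | rfl
    · simp
    · simp
  rwa [h4] at h3

/-- Two roots occurring in a commutator formula with terms `(1,1)` and `(2,1)`, coefficients `±1`, all other terms
being known to be trivial: the field trick. -/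
theorem abGen_pair (x : K) (hx0 : x ≠ 0) (hx1 : x ≠ 1) (γ₁ γ₂ r s : ℕ) (c₁ c₂ : ℤ)
    (rest : List (ℕ × ℤ × ℕ × ℕ)) (hr : r < D.nroots) (hs : s < D.nroots) (h1 : s ≠ r)
    (h2 : s ≠ D.neg r) (hc₁ : c₁ = 1 ∨ c₁ = -1) (hc₂ : c₂ = 1 ∨ c₂ = -1)
    (h : D.commTerms r s = (γ₁, c₁, 1, 1) :: (γ₂, c₂, 2, 1) :: rest)
    (hrest : ∀ e ∈ rest, ∀ v : K, abGen D e.1 v = 1) :
    (∀ v : K, abGen D γ₁ v = 1) ∧ (∀ v : K, abGen D γ₂ v = 1) := by
  have key : ∀ t u : K, abGen D γ₁ ((c₁ : K) * (-t) * u) * abGen D γ₂ ((c₂ : K) * (-t) ^ 2 * u) = 1 := by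
    intro t u
    have h3 := abGen_rel D r s t u hr hs h1 h2
    unfold ChevalleyDatum.commWord at h3
    rw [h] at h3
    simp only [List.map_cons, List.prod_cons, pow_one] at h3
    have h4 : (List.map (fun p : ℕ × K => abGen D p.1 p.2)
        (List.map (fun c : ℕ × ℤ × ℕ × ℕ => (c.1, (c.2.1 : K) * (-t) ^ c.2.2.1 * u ^ c.2.2.2)) rest)).prod = 1 := by
      apply List.prod_eq_one
      intro z hz
      rw [List.map_map, List.mem_map] at hz
      obtain ⟨e, he, rfl⟩ := hz
      exact hrest e he _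
    rw [h4, mul_one] at h3
    exact h3
  have hb : ∀ v : K, abGen D γ₂ v = 1 := by
    intro v
    have hxm : x - 1 ≠ 0 := sub_ne_zero.mpr hx1
    set w : K := (c₂ : K) * v / (x - 1) with hw
    have k1 := key (-1) w
    have k2 := key (-x) (w / x)
    have e1 : (c₁ : K) * (-(-x)) * (w / x) = (c₁ : K) * (-(-1)) * w := by
      field_simp
    rw [e1] at k2
    have k3 : abGen D γ₂ ((c₂ : K) * (-(-x)) ^ 2 * (w / x)) = abGen D γ₂ ((c₂ : K) * (-(-1)) ^ 2 * w) := by
      have := k2.trans k1.symm
      exact mul_left_cancel this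
    have e2 : v = (c₂ : K) * (-(-x)) ^ 2 * (w / x) - (c₂ : K) * (-(-1)) ^ 2 * w := by
      have hcc : (c₂ : K) * (c₂ : K) = 1 := by
        rcases hc₂ with rfl | rfl
        · simp
        · simp
      have hw2 : w * (x - 1) = (c₂ : K) * v := by
        rw [hw]
        field_simp
      have hxw : x * (w / x) = w := by
        field_simp
      linear_combination (-v) * hcc - (c₂ : K) * hw2 - (c₂ : K) * x * hxw
    rw [e2, abGen_sub, k3, mul_inv_cancel]
  refine ⟨?_, hb⟩
  intro v
  have k1 := key (-1) ((c₁ : K) * v)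
  rw [hb, mul_one] at k1
  have e : (c₁ : K) * (-(-1)) * ((c₁ : K) * v) = v := by
    rcases hc₁ with rfl | rfl
    · simp
    · simp
  rwa [e] at k1

/-- If all generators are trivial in the abelianization, the presented group is perfect. -/
theorem commutator_eq_top_of_abGen (h : ∀ γ < D.nroots, ∀ v : K, abGen D γ v = 1) :
    commutator (D.SteinbergCover K) = ⊤ := by
  rw [← Abelianization.ker_of, MonoidHom.ker_eq_top_iff]
  apply PresentedGroup.ext
  intro p
  obtain ⟨⟨r, hr⟩, t⟩ := p
  have h3 := h r hr t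
  unfold abGen ChevalleyDatum.scGen ChevalleyDatum.stX at h3
  rw [dif_pos hr] at h3
  rw [MonoidHom.one_apply]
  exact h3

/-- The check that `γ = r + s` with a one-term commutator formula with coefficient `±1`. -/
def chkSingle (γ : ℕ) (p : ℕ × ℕ) : Bool :=
  decide (p.1 < D.nroots ∧ p.2 < D.nroots ∧ p.2 ≠ p.1 ∧ p.2 ≠ D.neg p.1 ∧
    (D.commTerms p.1 p.2 = [(γ, 1, 1, 1)] ∨ D.commTerms p.1 p.2 = [(γ, -1, 1, 1)]))

theorem abGen_of_chkSingle (γ : ℕ) (p : ℕ × ℕ) (h : chkSingle D γ p = true) (v : K) :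
    abGen D γ v = 1 := by
  unfold chkSingle at h
  rw [decide_eq_true_eq] at h
  obtain ⟨hr, hs, h1, h2, h3⟩ := h
  rcases h3 with h3 | h3
  · exact abGen_single D γ p.1 p.2 1 hr hs h1 h2 (Or.inl rfl) h3 v
  · exact abGen_single D γ p.1 p.2 (-1) hr hs h1 h2 (Or.inr rfl) h3 v

theorem commutator_eq_top_of_cert (cert : List (ℕ × ℕ))
    (h : ((List.range D.nroots).all fun γ => chkSingle D γ (cert.getD γ (0, 0))) = true) :
    commutator (D.SteinbergCover K) = ⊤ := by
  apply commutator_eq_top_of_abGen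
  intro γ hγ v
  rw [List.all_eq_true] at h
  exact abGen_of_chkSingle D γ _ (h γ (List.mem_range.mpr hγ)) v

end

/-- A certificate for type D4: for each root index a pair of roots adding up to it. -/
def certD4 : List (ℕ × ℕ) :=
  [(1, 9), (0, 14), (0, 15), (0, 16), (0, 17), (1, 17), (0, 19), (0, 20), (0, 21), (0, 22), (1, 20), (1, 21),
   (2, 22), (3, 22), (1, 23), (2, 23), (3, 23), (4, 23), (6, 22), (6, 23), (7, 23), (8, 23), (9, 23),
   (14, 22)]

/-- A certificate for type F4: for each root index a pair of roots adding up to it. -/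
def certF4 : List (ℕ × ℕ) :=
  [(1, 23), (0, 24), (0, 26), (7, 14), (0, 31), (0, 32), (1, 32), (3, 33), (3, 34), (3, 35), (3, 36),
   (3, 37), (3, 38), (3, 39), (3, 40), (0, 42), (0, 43), (1, 43), (7, 37), (7, 38), (7, 39), (0, 45),
   (1, 45), (0, 46), (1, 47), (2, 46), (2, 47), (8, 40), (9, 40), (10, 40), (4, 46), (4, 47), (5, 47),
   (7, 44), (8, 44), (9, 44), (10, 44), (11, 44), (12, 44), (13, 44), (14, 44), (15, 46), (15, 47), (16, 47),
   (33, 40), (21, 47), (23, 47), (24, 46)]

/-- A certificate for type E6: for each root index a pair of roots adding up to it. -/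
def certE6 : List (ℕ × ℕ) :=
  [(1, 25), (0, 46), (0, 47), (0, 48), (0, 49), (0, 50), (0, 51), (0, 52), (0, 53), (0, 54), (0, 55),
   (1, 53), (1, 54), (1, 55), (2, 55), (5, 55), (0, 61), (0, 62), (0, 63), (0, 64), (0, 65), (0, 66),
   (0, 67), (0, 68), (0, 69), (0, 70), (1, 64), (1, 65), (1, 66), (2, 66), (1, 67), (1, 68), (1, 69),
   (2, 67), (2, 68), (3, 67), (4, 68), (3, 69), (4, 69), (2, 70), (3, 70), (4, 70), (5, 69), (5, 70),
   (6, 70), (7, 70), (1, 71), (2, 71), (3, 71), (4, 71), (5, 71), (6, 71), (7, 71), (8, 71), (9, 71),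
   (10, 71), (16, 66), (16, 69), (16, 70), (17, 70), (18, 70), (16, 71), (17, 71), (18, 71), (19, 71),
   (20, 71), (21, 71), (22, 71), (23, 71), (24, 71), (25, 71), (46, 70)]

/-- A certificate for type E7: for each root index a pair of roots adding up to it. -/
def certE7 : List (ℕ × ℕ) :=
  [(1, 32), (0, 93), (0, 94), (0, 95), (0, 96), (0, 97), (0, 98), (0, 99), (0, 100), (0, 101), (0, 102),
   (0, 103), (0, 104), (0, 105), (0, 106), (0, 107), (0, 108), (0, 109), (0, 110), (0, 111), (0, 112),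
   (0, 113), (0, 114), (0, 115), (0, 116), (0, 117), (0, 118), (0, 119), (0, 120), (0, 121), (0, 122),
   (0, 123), (0, 124), (1, 109), (1, 110), (1, 111), (1, 112), (1, 113), (1, 114), (1, 115), (1, 116),
   (1, 117), (1, 118), (2, 115), (2, 116), (2, 117), (2, 118), (3, 118), (1, 119), (1, 120), (1, 121),
   (1, 122), (1, 123), (2, 119), (2, 120), (2, 121), (2, 122), (3, 119), (3, 120), (3, 121), (4, 119),
   (4, 120), (5, 119), (6, 120), (5, 121), (6, 121), (4, 122), (5, 122), (6, 122), (3, 123), (4, 123),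
   (5, 123), (6, 123), (2, 124), (3, 124), (4, 124), (5, 124), (6, 124), (7, 122), (7, 123), (8, 123),
   (9, 123), (10, 123), (7, 124), (8, 124), (9, 124), (10, 124), (11, 124), (12, 124), (13, 124), (14, 124),
   (15, 124), (16, 124), (1, 125), (2, 125), (3, 125), (4, 125), (5, 125), (6, 125), (7, 125), (8, 125),
   (9, 125), (10, 125), (11, 125), (12, 125), (13, 125), (14, 125), (15, 125), (16, 125), (17, 125),
   (18, 125), (19, 125), (20, 125), (21, 125), (22, 125), (23, 125), (24, 125), (25, 125), (26, 125),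
   (27, 125), (28, 125), (29, 125), (30, 125), (31, 125), (32, 125), (93, 124)]

/-- A certificate for type E8: for each root index a pair of roots adding up to it. -/
def certE8 : List (ℕ × ℕ) :=
  [(1, 119), (0, 120), (0, 122), (0, 125), (0, 129), (0, 134), (0, 140), (0, 146), (0, 151), (0, 155),
   (0, 158), (0, 160), (0, 161), (1, 161), (0, 168), (0, 173), (0, 177), (0, 180), (0, 182), (0, 183),
   (1, 183), (0, 187), (0, 190), (0, 192), (0, 193), (1, 193), (0, 196), (0, 198), (0, 199), (1, 199),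
   (0, 201), (0, 202), (1, 202), (0, 203), (1, 203), (2, 203), (0, 206), (0, 208), (0, 209), (1, 209),
   (0, 211), (0, 212), (1, 212), (0, 213), (1, 213), (2, 213), (0, 215), (0, 216), (1, 216), (0, 217),
   (1, 217), (2, 217), (0, 218), (1, 218), (2, 218), (3, 218), (0, 220), (0, 221), (1, 221), (0, 222),
   (1, 222), (2, 222), (0, 223), (1, 223), (2, 223), (3, 223), (0, 224), (1, 224), (2, 224), (3, 224),
   (4, 224), (0, 225), (1, 225), (2, 225), (3, 225), (4, 225), (5, 225), (6, 225), (0, 227), (0, 228),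
   (1, 228), (0, 229), (1, 229), (2, 229), (0, 230), (1, 230), (2, 230), (3, 230), (0, 231), (1, 231),
   (2, 231), (3, 231), (4, 231), (0, 232), (1, 232), (2, 232), (3, 232), (4, 232), (5, 232), (0, 233),
   (1, 233), (2, 233), (3, 233), (4, 233), (5, 233), (0, 234), (1, 234), (2, 234), (3, 234), (4, 234),
   (0, 235), (1, 235), (2, 235), (3, 235), (0, 236), (1, 236), (2, 236), (0, 237), (1, 237), (0, 238),
   (1, 239), (2, 238), (2, 239), (3, 237), (3, 238), (3, 239), (4, 236), (4, 237), (4, 238), (4, 239),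
   (5, 235), (5, 236), (5, 237), (5, 238), (5, 239), (6, 234), (6, 235), (6, 236), (6, 237), (6, 238),
   (6, 239), (7, 234), (7, 235), (7, 236), (7, 237), (7, 238), (7, 239), (8, 235), (8, 236), (8, 237),
   (8, 238), (8, 239), (9, 236), (9, 237), (9, 238), (9, 239), (10, 237), (10, 238), (10, 239), (11, 238),
   (11, 239), (12, 239), (14, 233), (14, 234), (14, 235), (14, 236), (14, 237), (14, 238), (14, 239),
   (15, 235), (15, 236), (15, 237), (15, 238), (15, 239), (16, 236), (16, 237), (16, 238), (16, 239),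
   (17, 237), (17, 238), (17, 239), (18, 238), (18, 239), (19, 239), (21, 236), (21, 237), (21, 238),
   (21, 239), (22, 237), (22, 238), (22, 239), (23, 238), (23, 239), (24, 239), (26, 237), (26, 238),
   (26, 239), (27, 238), (27, 239), (28, 239), (30, 238), (30, 239), (31, 239), (33, 239), (36, 237),
   (36, 238), (36, 239), (37, 238), (37, 239), (38, 239), (40, 238), (40, 239), (41, 239), (43, 239),
   (46, 238), (46, 239), (47, 239), (49, 239), (52, 239), (56, 238), (56, 239), (57, 239), (59, 239),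
   (62, 239), (66, 239), (71, 239), (78, 238), (78, 239), (79, 239), (81, 239), (84, 239), (88, 239),
   (93, 239), (99, 239), (105, 239), (110, 239), (114, 239), (117, 239), (119, 239), (120, 238)]

end Cfsg.Agent.Lib.helper45
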